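import Cfsg.Agent.Chars.Construct

/-!
# Counting with irreducible characters: the regular character, second orthogonality, integrality
-/

namespace Cfsg.Lib.Chars

open scoped ComplexConjugate
open Module

universe u v w

variable {G : Type u} [Group G]

/-! ## Class sizes -/

theorem card_isConj (g : G) :
    Nat.card {x : G // IsConj g x} = (Subgroup.centralizer ({g} : Set G)).index := by
  have h1 : MulAction.orbit (ConjAct G) g = {x : G | IsConj g x} := by
    ext x
    rw [ConjAct.mem_orbit_conjAct]
    exact isConj_comm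
  have h2 := MulAction.index_stabilizer (ConjAct G) g
  rw [h1, ← Nat.card_coe_set_eq] at h2
  rw [Subgroup.centralizer_eq_comap_stabilizer]
  refine h2.symm.trans ?_
  exact (Subgroup.index_comap_of_surjective (G := ConjAct G) (G' := G)
    (MulAction.stabilizer (ConjAct G) g) (f := ConjAct.toConjAct.toMonoidHom)
    ConjAct.toConjAct.surjective).symm

theorem card_isConj_mul [Finite G] (g : G) :
    Nat.card {x : G // IsConj g x} * Nat.card (Subgroup.centralizer ({g} : Set G)) = Nat.card G := by
  rw [card_isConj, mul_comm]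
  exact Subgroup.card_mul_index _

theorem card_isConj_pos [Finite G] (g : G) : 0 < Nat.card {x : G // IsConj g x} :=
  haveI : Nonempty {x : G // IsConj g x} := ⟨⟨g, IsConj.refl g⟩⟩
  Nat.card_pos

/-- The sum of a class function over a conjugacy class. -/
theorem sum_isConj [Fintype G] {f : G → ℂ} (hf : Cfsg.IsClassFunction G f) (g : G)
    [DecidablePred fun x => IsConj g x] :
    ∑ x ∈ Finset.univ.filter (fun x => IsConj g x), f x =
      (Nat.card {x : G // IsConj g x} : ℂ) * f g := by
  rw [Finset.sum_congr rfl fun x hx =>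
    (classFunction_eq_of_isConj hf (Finset.mem_filter.mp hx).2).symm]
  rw [Finset.sum_const, nsmul_eq_mul, Nat.card_eq_fintype_card, Fintype.card_subtype]

/-! ## The regular character -/

theorem character_leftRegular [Fintype G] [DecidableEq G] (g : G) :
    (Representation.leftRegular ℂ G).character g = if g = 1 then (Nat.card G : ℂ) else 0 := by
  rw [Representation.character, LinearMap.trace_eq_matrix_trace ℂ (MonoidAlgebra.basis G ℂ)]
  have hdiag : ∀ i : G, (LinearMap.toMatrix (MonoidAlgebra.basis G ℂ) (MonoidAlgebra.basis G ℂ)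
      (Representation.leftRegular ℂ G g)) i i = if g = 1 then 1 else 0 := by
    intro i
    rw [LinearMap.toMatrix_apply, MonoidAlgebra.basis_apply, Representation.ofMulAction_single]
    rw [show (MonoidAlgebra.basis G ℂ).repr (MonoidAlgebra.single (g • i) (1 : ℂ)) =
      (MonoidAlgebra.single (g • i) (1 : ℂ)).coeff from rfl]
    simp [Finsupp.single_apply]
  simp [Matrix.trace, hdiag]

theorem deg_mult_regular [Fintype G] (χ : Cfsg.IrrCharacter G) :
    Cfsg.classInner (Representation.leftRegular ℂ G).character χ = (χ : G → ℂ) 1 := by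
  classical
  have hne : (Nat.card G : ℂ) ≠ 0 := by exact_mod_cast Nat.card_pos.ne'
  rw [classInner_def, Finset.sum_eq_single (1 : G) (fun g _ hg => by
    rw [character_leftRegular, if_neg hg, zero_mul]) (by simp), character_leftRegular,
    if_pos rfl, irr_apply_one_eq_deg χ]
  simp [hne]

theorem regular_decomp [Fintype G] :
    (Representation.leftRegular ℂ G).character =
      ∑ χ : Cfsg.IrrCharacter G, (χ : G → ℂ) 1 • (χ : G → ℂ) := by
  conv_lhs => rw [classFunction_expand (isClassFunction_character (Representation.leftRegular ℂ G))]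
  exact Finset.sum_congr rfl fun χ _ => by rw [deg_mult_regular]

theorem sum_deg_mul [Finite G] [DecidableEq G] (g : G) :
    ∑ χ : Cfsg.IrrCharacter G, (χ : G → ℂ) 1 * (χ : G → ℂ) g =
      if g = 1 then (Nat.card G : ℂ) else 0 := by
  have := Fintype.ofFinite G
  rw [← character_leftRegular, regular_decomp]
  simp [Finset.sum_apply]

theorem sum_deg_sq [Finite G] :
    ∑ χ : Cfsg.IrrCharacter G, (χ : G → ℂ) 1 ^ 2 = (Nat.card G : ℂ) := by
  classical
  simpa [sq] using sum_deg_mul (1 : G)

theorem sum_deg_sq_nat [Finite G] :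
    ∑ χ : Cfsg.IrrCharacter G, deg (χ : G → ℂ) ^ 2 = Nat.card G := by
  apply Nat.cast_injective (R := ℂ)
  rw [← sum_deg_sq]
  simp [irr_apply_one_eq_deg]

theorem deg_sq_le [Finite G] (χ : Cfsg.IrrCharacter G) : deg (χ : G → ℂ) ^ 2 ≤ Nat.card G := by
  rw [← sum_deg_sq_nat]
  exact Finset.single_le_sum (f := fun χ : Cfsg.IrrCharacter G => deg (χ : G → ℂ) ^ 2)
    (fun _ _ => Nat.zero_le _) (Finset.mem_univ χ)

/-! ## The second orthogonality relation -/

open scoped Classical in
theorem second_orthogonality [Finite G] (g h : G) :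
    ∑ χ : Cfsg.IrrCharacter G, (χ : G → ℂ) g * conj ((χ : G → ℂ) h) =
      if IsConj g h then (Nat.card (Subgroup.centralizer ({g} : Set G)) : ℂ) else 0 := by
  have := Fintype.ofFinite G
  let f : G → ℂ := fun x => if IsConj h x then 1 else 0
  have hf : Cfsg.IsClassFunction G f := by
    intro a b
    have : IsConj h (b * a * b⁻¹) ↔ IsConj h a :=
      ⟨fun H => H.trans (isConj_iff.mpr ⟨b⁻¹, by group⟩),
        fun H => H.trans (isConj_iff.mpr ⟨b, rfl⟩)⟩
    simp only [f, this]
  have hcoef : ∀ χ : Cfsg.IrrCharacter G, Cfsg.classInner f χ =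
      (Nat.card G : ℂ)⁻¹ * ((Nat.card {x : G // IsConj h x} : ℂ) * conj ((χ : G → ℂ) h)) := by
    intro χ
    rw [classInner_def, ← sum_isConj (f := fun x => conj ((χ : G → ℂ) x))
      (fun a b => by simp [isClassFunction_irr χ a b]) h, Finset.sum_filter]
    congr 1
    exact Finset.sum_congr rfl fun x _ => by simp only [f]; split_ifs <;> simp
  have key := classFunction_expand_apply hf g
  simp only [hcoef, mul_assoc, ← Finset.mul_sum] at key
  have hG : (Nat.card G : ℂ) ≠ 0 := by exact_mod_cast Nat.card_pos.ne'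
  have hC : (Nat.card {x : G // IsConj h x} : ℂ) ≠ 0 := by exact_mod_cast (card_isConj_pos h).ne'
  have hmul : (Nat.card {x : G // IsConj h x} : ℂ) *
      (Nat.card (Subgroup.centralizer ({h} : Set G)) : ℂ) = (Nat.card G : ℂ) := by
    exact_mod_cast card_isConj_mul h
  rw [show ∑ χ : Cfsg.IrrCharacter G, (χ : G → ℂ) g * conj ((χ : G → ℂ) h) =
    ∑ χ : Cfsg.IrrCharacter G, conj ((χ : G → ℂ) h) * (χ : G → ℂ) g from
    Finset.sum_congr rfl fun χ _ => mul_comm _ _]
  by_cases hgh : IsConj g h
  · have hcent : Nat.card (Subgroup.centralizer ({h} : Set G)) =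
        Nat.card (Subgroup.centralizer ({g} : Set G)) := by
      apply Nat.eq_of_mul_eq_mul_left (card_isConj_pos h)
      rw [card_isConj_mul h]
      have heq : Nat.card {x : G // IsConj h x} = Nat.card {x : G // IsConj g x} :=
        Nat.card_congr (Equiv.subtypeEquivRight fun x => ⟨fun H => hgh.trans H, fun H => hgh.symm.trans H⟩)
      rw [heq, card_isConj_mul g]
    simp only [f, if_pos hgh.symm] at key
    rw [if_pos hgh, ← hcent]
    apply mul_left_cancel₀ hC
    rw [hmul]
    field_simp at key
    linear_combination -key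
  · have hgh' : ¬ IsConj h g := fun H => hgh H.symm
    simp only [f, if_neg hgh'] at key
    rw [if_neg hgh]
    field_simp at key
    rw [zero_mul] at key
    exact (mul_eq_zero.mp key.symm).resolve_left hC

theorem isConj_iff_forall_irr [Finite G] (g h : G) :
    IsConj g h ↔ ∀ χ : Cfsg.IrrCharacter G, (χ : G → ℂ) g = (χ : G → ℂ) h := by
  classical
  refine ⟨fun hgh χ => classFunction_eq_of_isConj (isClassFunction_irr χ) hgh, fun H => ?_⟩
  by_contra hgh
  have h1 := second_orthogonality g h
  rw [if_neg hgh] at h1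
  have h2 := second_orthogonality g g
  rw [if_pos (IsConj.refl g)] at h2
  simp only [← H] at h1
  rw [h1] at h2
  exact Nat.card_pos.ne' (Nat.cast_eq_zero.mp h2.symm)

theorem sum_norm_sq_irr [Finite G] (g : G) :
    ∑ χ : Cfsg.IrrCharacter G, ‖(χ : G → ℂ) g‖ ^ 2 =
      (Nat.card (Subgroup.centralizer ({g} : Set G)) : ℝ) := by
  classical
  have h := second_orthogonality g g
  rw [if_pos (IsConj.refl g)] at h
  apply Complex.ofReal_injective
  push_cast
  rw [← h]
  exact Finset.sum_congr rfl fun χ _ => by rw [Complex.mul_conj, Complex.normSq_eq_norm_sq]; push_cast; ring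

/-! ## The number of irreducible characters -/

/-- The subspace of class functions. -/
def classFuns (G : Type u) [Group G] : Submodule ℂ (G → ℂ) where
  carrier := {f | Cfsg.IsClassFunction G f}
  add_mem' := fun {a b} ha hb g h => by simp [ha g h, hb g h]
  zero_mem' := fun g h => rfl
  smul_mem' := fun c a ha g h => by simp [ha g h]

/-- Class functions are the functions on the conjugacy classes. -/
noncomputable def classFunsEquiv (G : Type u) [Group G] :
    classFuns G ≃ₗ[ℂ] (ConjClasses G → ℂ) where
  toFun f := fun C => Quotient.liftOn C (f : G → ℂ) (fun a b hab => classFunction_eq_of_isConj f.2 hab)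
  map_add' f f' := by funext C; induction C using Quotient.inductionOn; rfl
  map_smul' c f := by funext C; induction C using Quotient.inductionOn; rfl
  invFun F := ⟨fun g => F (ConjClasses.mk g), fun g h => by
    show F (ConjClasses.mk (h * g * h⁻¹)) = F (ConjClasses.mk g)
    congr 1
    exact ConjClasses.mk_eq_mk_iff_isConj.mpr (isConj_iff.mpr ⟨h⁻¹, by group⟩)⟩
  left_inv f := rfl
  right_inv F := by funext C; induction C using Quotient.inductionOn; rfl

/-- The irreducible characters form a basis of the class functions. -/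
noncomputable def irrBasis (G : Type u) [Group G] [Finite G] :
    Basis (Cfsg.IrrCharacter G) ℂ (classFuns G) :=
  Basis.mk (v := fun χ => (⟨(χ : G → ℂ), isClassFunction_irr χ⟩ : classFuns G))
    (LinearIndependent.of_comp (classFuns G).subtype linearIndependent_irr)
    (by
      intro f _
      have := Fintype.ofFinite G
      have hf := classFunction_expand f.2
      have : f = ∑ χ : Cfsg.IrrCharacter G,
          Cfsg.classInner (f : G → ℂ) χ • (⟨(χ : G → ℂ), isClassFunction_irr χ⟩ : classFuns G) := by
        apply Subtype.ext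
        simpa using hf
      rw [this]
      exact Submodule.sum_mem _ fun χ _ => Submodule.smul_mem _ _ (Submodule.subset_span ⟨χ, rfl⟩))

theorem card_irrCharacter [Finite G] :
    Nat.card (Cfsg.IrrCharacter G) = Nat.card (ConjClasses G) := by
  have := Fintype.ofFinite (ConjClasses G)
  rw [← finrank_eq_nat_card_basis (irrBasis G), (classFunsEquiv G).finrank_eq,
    Module.finrank_fintype_fun_eq_card, Nat.card_eq_fintype_card]

/-! ## Integrality -/

theorem isIntegral_centralChar [Finite G]
    {V : Type v} [AddCommGroup V] [Module ℂ V] [FiniteDimensional ℂ V]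
    (ρ : Representation ℂ G V) [ρ.IsIrreducible] (g : G) :
    IsIntegral ℤ (((Subgroup.centralizer ({g} : Set G)).index : ℂ) * ρ.character g /
      (finrank ℂ V : ℂ)) := by
  classical
  have := Fintype.ofFinite G
  have := nontrivial_of_irreducible ρ
  set s := Finset.univ.filter (fun x => IsConj g x) with hs
  set T := ∑ x ∈ s, ρ x with hT
  have hcomm : ∀ (a : G) v, T (ρ a v) = ρ a (T v) := by
    intro a v
    simp only [hT, LinearMap.sum_apply, map_sum]
    refine Finset.sum_equiv (MulAut.conj a⁻¹).toEquiv (fun x => ?_) (fun x _ => ?_)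
    · simp only [hs, Finset.mem_filter, Finset.mem_univ, true_and, MulEquiv.toEquiv_eq_coe,
        MulEquiv.coe_toEquiv, MulAut.conj_apply]
      exact ⟨fun H => H.trans (isConj_iff.mpr ⟨a⁻¹, rfl⟩),
        fun H => H.trans (isConj_iff.mpr ⟨a, by group⟩)⟩
    · simp only [MulEquiv.toEquiv_eq_coe, MulEquiv.coe_toEquiv, MulAut.conj_apply, inv_inv]
      rw [← Module.End.mul_apply, ← Module.End.mul_apply, ← map_mul ρ, ← map_mul ρ]
      congr 2
      group
  obtain ⟨c, hc⟩ := schur_scalar ρ T hcomm
  have htr : LinearMap.trace ℂ V T = (Nat.card {x : G // IsConj g x} : ℂ) * ρ.character g := by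
    rw [hT, map_sum, ← sum_isConj (isClassFunction_character ρ) g]
    rfl
  rw [hc, map_smul, LinearMap.trace_id, smul_eq_mul, card_isConj] at htr
  have hn : (finrank ℂ V : ℂ) ≠ 0 := by
    exact_mod_cast (finrank_pos_of_irreducible ρ).ne'
  rw [← htr, mul_div_assoc, div_self hn, mul_one]
  have hz : IsIntegral ℤ (∑ x ∈ s, MonoidAlgebra.single x (1 : ℤ)) := Algebra.IsIntegral.isIntegral _
  have hmap := hz.map (MonoidAlgebra.lift ℤ (Module.End ℂ V) G ρ)
  have heq : MonoidAlgebra.lift ℤ (Module.End ℂ V) G ρ (∑ x ∈ s, MonoidAlgebra.single x (1 : ℤ)) =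
      algebraMap ℂ (Module.End ℂ V) c := by
    rw [map_sum]
    simp only [MonoidAlgebra.lift_single, one_smul]
    rw [show (∑ x ∈ s, ρ x) = T from rfl, hc]
    rfl
  rw [heq] at hmap
  exact (isIntegral_algebraMap_iff (FaithfulSMul.algebraMap_injective ℂ (Module.End ℂ V))).mp hmap

/-- The value of the central character of `χ` at the class of `g` is an algebraic integer. -/
theorem isIntegral_centralChar_irr [Finite G] {χ : G → ℂ} (hχ : Cfsg.IsIrrCharacter G χ) (g : G) :
    IsIntegral ℤ ((Nat.card {x : G // IsConj g x} : ℂ) * χ g / χ 1) := by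
  obtain ⟨n, ρ, hρ, rfl⟩ := hχ
  rw [card_isConj, ρ.char_one]
  exact isIntegral_centralChar ρ g

theorem int_of_isIntegral_rat {q : ℚ} (h : IsIntegral ℤ (q : ℂ)) : ∃ z : ℤ, (q : ℚ) = z := by
  have h' : IsIntegral ℤ q := by
    have : (algebraMap ℚ ℂ) q = (q : ℂ) := rfl
    rw [← this] at h
    exact (isIntegral_algebraMap_iff (algebraMap ℚ ℂ).injective).mp h
  obtain ⟨z, hz⟩ := IsIntegrallyClosed.isIntegral_iff.mp h'
  exact ⟨z, by simpa using hz.symm⟩

theorem dvd_of_isIntegral_div {a b : ℕ} (hb : b ≠ 0) (h : IsIntegral ℤ ((a : ℂ) / (b : ℂ))) :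
    b ∣ a := by
  obtain ⟨z, hz⟩ := int_of_isIntegral_rat (q := (a : ℚ) / b) (by push_cast; exact h)
  have hb' : (b : ℚ) ≠ 0 := by exact_mod_cast hb
  rw [div_eq_iff hb'] at hz
  have h2 : (a : ℤ) = z * b := by exact_mod_cast hz
  exact Int.natCast_dvd_natCast.mp ⟨z, by rw [h2]; ring⟩

end Cfsg.Lib.Chars
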