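import Cfsg.Agent.Chars.Frob

/-!
# Induction from the normaliser of a trivial intersection set
-/

namespace Cfsg.Lib.Chars

open scoped ComplexConjugate

universe u

variable {G : Type u} [Group G] [Fintype G]

theorem indFun_TI_apply' (N : Subgroup G) (T : Set G)
    (hTI : ∀ g : G, g ∉ N → ∀ t ∈ T, g * t * g⁻¹ ∈ T → t = 1)
    {ψ : N → ℂ} (hψ : Cfsg.IsClassFunction N ψ)
    (hψT : ∀ x : N, (x : G) ∉ T → ψ x = 0) (t : N)
    (htT : (t : G) ∈ T) (ht1 : t ≠ 1) : Cfsg.indFun N ψ t = ψ t := by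
  classical
  have h : ∀ x : G, Cfsg.extendByZero N ψ (x⁻¹ * t * x) = if x ∈ N then ψ t else 0 := by
    intro x
    split_ifs with hx
    · have hm : x⁻¹ * t * x ∈ N := N.mul_mem (N.mul_mem (N.inv_mem hx) t.2) hx
      rw [extendByZero_mem _ hm]
      have h0 := hψ t (⟨x, hx⟩⁻¹ : N)
      rwa [inv_inv] at h0
    · by_cases hm : x⁻¹ * t * x ∈ N
      · rw [extendByZero_mem _ hm]
        refine hψT _ fun hT => ht1 (Subtype.ext (hTI x⁻¹ (fun hx' => hx (by simpa using N.inv_mem hx')) _ htT ?_))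
        simpa using hT
      · rw [extendByZero_not_mem _ hm]
  rw [indFun_apply, Finset.sum_congr rfl fun x _ => h x, ← Finset.sum_filter, Finset.sum_const,
    nsmul_eq_mul, ← mul_assoc, ← Fintype.card_subtype, ← Nat.card_eq_fintype_card]
  have hN : (Nat.card N : ℂ) ≠ 0 := by exact_mod_cast Nat.card_pos.ne'
  rw [inv_mul_cancel₀ hN, one_mul]

theorem indFun_TI_apply (T : Set G) (hTI : ∀ g : G, g ∉ Subgroup.normalizer T → ∀ t ∈ T, g * t * g⁻¹ ∈ T → t = 1)
    {ψ : Subgroup.normalizer T → ℂ} (hψ : Cfsg.IsClassFunction (Subgroup.normalizer T) ψ)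
    (hψT : ∀ x : Subgroup.normalizer T, (x : G) ∉ T → ψ x = 0) (t : Subgroup.normalizer T)
    (htT : (t : G) ∈ T) (ht1 : t ≠ 1) : Cfsg.indFun (Subgroup.normalizer T) ψ t = ψ t :=
  indFun_TI_apply' _ T hTI hψ hψT t htT ht1

theorem classInner_indFun_TI (T : Set G) (hTI : ∀ g : G, g ∉ Subgroup.normalizer T → ∀ t ∈ T, g * t * g⁻¹ ∈ T → t = 1)
    [Fintype (Subgroup.normalizer T)]
    {ψ θ : Subgroup.normalizer T → ℂ} (hψT : ∀ x : Subgroup.normalizer T, (x : G) ∉ T → ψ x = 0)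
    (hψ1 : ψ 1 = 0) (hθ : Cfsg.IsClassFunction (Subgroup.normalizer T) θ)
    (hθT : ∀ x : Subgroup.normalizer T, (x : G) ∉ T → θ x = 0) :
    Cfsg.classInner (Cfsg.indFun (Subgroup.normalizer T) ψ) (Cfsg.indFun (Subgroup.normalizer T) θ) =
      Cfsg.classInner ψ θ := by
  rw [frobenius_reciprocity _ _ (isClassFunction_indFun _ θ), classInner_def, classInner_def]
  refine congrArg _ (Finset.sum_congr rfl fun x _ => ?_)
  by_cases hx : (x : G) ∈ T
  · by_cases h1 : x = 1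
    · rw [h1, hψ1, zero_mul, zero_mul]
    · rw [indFun_TI_apply T hTI hθ hθT x hx h1]
  · rw [hψT x hx, zero_mul, zero_mul]

end Cfsg.Lib.Chars
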