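import Cfsg.Agent.Chars.Count

/-!
# Values of characters: roots of unity, integrality, kernels, degrees
-/

namespace Cfsg.Lib.Chars

open scoped ComplexConjugate
open Module Polynomial

universe u v w

variable {G : Type u} [Group G]
variable {V : Type v} [AddCommGroup V] [Module ℂ V] [FiniteDimensional ℂ V]

/-- The eigenvalues of `ρ g`, with multiplicity. -/
noncomputable def eigs (ρ : Representation ℂ G V) (g : G) : Multiset ℂ :=
  (LinearMap.charpoly (ρ g)).roots

theorem card_eigs (ρ : Representation ℂ G V) (g : G) :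
    Multiset.card (eigs ρ g) = finrank ℂ V := by
  rw [eigs, ← (IsAlgClosed.splits _).natDegree_eq_card_roots, LinearMap.charpoly_natDegree]

theorem character_eq_sum_eigs (ρ : Representation ℂ G V) (g : G) :
    ρ.character g = (eigs ρ g).sum :=
  Module.End.trace_eq_sum_roots_charpoly_of_splits (IsAlgClosed.splits _)

theorem pow_eq_one_of_mem_eigs (ρ : Representation ℂ G V) {g : G} {m : ℕ} (hm : g ^ m = 1)
    {z : ℂ} (hz : z ∈ eigs ρ g) : z ^ m = 1 := by
  have hr : (LinearMap.charpoly (ρ g)).IsRoot z := (Polynomial.mem_roots'.mp hz).2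
  rw [← Module.End.hasEigenvalue_iff_isRoot_charpoly] at hr
  obtain ⟨v, hv⟩ := hr.exists_hasEigenvector
  have h1 : ∀ k : ℕ, (ρ g ^ k) v = z ^ k • v := fun k => hv.pow_apply k
  have h2 := h1 m
  rw [← map_pow ρ, hm, map_one, Module.End.one_apply] at h2
  have h3 : (z ^ m - 1) • v = 0 := by rw [sub_smul, one_smul, ← h2, sub_self]
  rcases smul_eq_zero.mp h3 with h | h
  · exact sub_eq_zero.mp h
  · exact absurd h hv.2

theorem isIntegral_of_pow_eq_one {z : ℂ} {m : ℕ} (hm : 0 < m) (h : z ^ m = 1) :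
    IsIntegral ℤ z :=
  IsIntegral.of_pow hm (h ▸ isIntegral_one)

theorem isIntegral_character [Finite G] (ρ : Representation ℂ G V) (g : G) :
    IsIntegral ℤ (ρ.character g) := by
  rw [character_eq_sum_eigs]
  refine multiset_sum_mem (S := integralClosure ℤ ℂ) _ fun z hz => ?_
  exact isIntegral_of_pow_eq_one (orderOf_pos g)
    (pow_eq_one_of_mem_eigs ρ (pow_orderOf_eq_one g) hz)

theorem norm_character_le [Finite G] (ρ : Representation ℂ G V) (g : G) :
    ‖ρ.character g‖ ≤ (finrank ℂ V : ℝ) := by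
  rw [character_eq_sum_eigs, ← card_eigs ρ g]
  refine (norm_multiset_sum_le _).trans ?_
  have : (Multiset.map (fun z : ℂ => ‖z‖) (eigs ρ g)).sum =
      ((Multiset.map (fun _ => (1 : ℝ)) (eigs ρ g))).sum := by
    congr 1
    refine Multiset.map_congr rfl fun z hz => ?_
    exact Complex.norm_eq_one_of_pow_eq_one
      (pow_eq_one_of_mem_eigs ρ (pow_orderOf_eq_one g) hz) (orderOf_pos g).ne'
  rw [this]
  simp

/-- Unit complex numbers whose sum has maximal modulus are all equal. -/
theorem all_eq_of_norm_sum_eq {s : Multiset ℂ} (hs : ∀ z ∈ s, ‖z‖ = 1)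
    (h : ‖s.sum‖ = (Multiset.card s : ℝ)) :
    ∀ z ∈ s, (Multiset.card s : ℂ) * z = s.sum := by
  intro z hz
  have hn : 0 < Multiset.card s := Multiset.card_pos_iff_exists_mem.mpr ⟨z, hz⟩
  have hn' : (Multiset.card s : ℝ) ≠ 0 := by exact_mod_cast hn.ne'
  have hn'' : (Multiset.card s : ℂ) ≠ 0 := by exact_mod_cast hn.ne'
  set ω : ℂ := s.sum / (Multiset.card s : ℂ) with hω
  have hω1 : ω.re * ω.re + ω.im * ω.im = 1 := by
    have : ‖ω‖ = 1 := by rw [hω, norm_div, h, Complex.norm_natCast, div_self hn']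
    have h2 := Complex.normSq_eq_norm_sq ω
    rw [this, Complex.normSq_apply] at h2
    linarith
  have hz1 : ∀ w ∈ s, w.re * w.re + w.im * w.im = 1 := by
    intro w hw
    have h2 := Complex.normSq_eq_norm_sq w
    rw [hs w hw, Complex.normSq_apply] at h2
    linarith
  have hsum : (s.map fun w => 2 - 2 * (w.re * ω.re + w.im * ω.im)).sum = 0 := by
    have h1 : s.sum = (Multiset.card s : ℂ) * ω := by rw [hω, mul_div_cancel₀ _ hn'']
    have hre : (s.map fun w => w.re).sum = (Multiset.card s : ℝ) * ω.re := by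
      have := (map_multiset_sum Complex.reAddGroupHom s).symm
      rw [h1] at this
      simpa using this
    have him : (s.map fun w => w.im).sum = (Multiset.card s : ℝ) * ω.im := by
      have := (map_multiset_sum Complex.imAddGroupHom s).symm
      rw [h1] at this
      simpa using this
    rw [Multiset.sum_map_sub, Multiset.sum_map_mul_left, Multiset.sum_map_add,
      Multiset.sum_map_mul_right, Multiset.sum_map_mul_right, hre, him]
    simp only [Multiset.map_const', Multiset.sum_replicate, nsmul_eq_mul]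
    linear_combination (-2 * (Multiset.card s : ℝ)) * hω1
  have hnonneg : ∀ w ∈ s, 0 ≤ 2 - 2 * (w.re * ω.re + w.im * ω.im) := by
    intro w hw
    nlinarith [hz1 w hw, hω1, sq_nonneg (w.re - ω.re), sq_nonneg (w.im - ω.im)]
  have hzero : 2 - 2 * (z.re * ω.re + z.im * ω.im) = 0 := by
    refine Multiset.all_zero_of_le_zero_le_of_sum_eq_zero ?_ hsum _ (Multiset.mem_map_of_mem _ hz)
    intro x hx
    obtain ⟨w, hw, rfl⟩ := Multiset.mem_map.mp hx
    exact hnonneg w hw
  have h1 : z.re = ω.re := by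
    nlinarith [hz1 z hz, hω1, hzero, sq_nonneg (z.re - ω.re), sq_nonneg (z.im - ω.im)]
  have h2 : z.im = ω.im := by
    nlinarith [hz1 z hz, hω1, hzero, sq_nonneg (z.re - ω.re), sq_nonneg (z.im - ω.im)]
  have : z = ω := Complex.ext h1 h2
  rw [this, hω, mul_div_cancel₀ _ hn'']

theorem scalar_of_norm_character_eq [Finite G] (ρ : Representation ℂ G V) (g : G)
    (h : ‖ρ.character g‖ = (finrank ℂ V : ℝ)) :
    ∃ ω : ℂ, ρ g = ω • (LinearMap.id : V →ₗ[ℂ] V) ∧ ‖ω‖ = 1 := by
  rcases Nat.eq_zero_or_pos (finrank ℂ V) with h0 | hpos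
  · have : Subsingleton V := Module.finrank_zero_iff.mp h0
    exact ⟨1, LinearMap.ext fun x => Subsingleton.elim _ _, norm_one⟩
  have hm := orderOf_pos g
  have hroot : ∀ z ∈ eigs ρ g, z ^ orderOf g = 1 := fun z hz =>
    pow_eq_one_of_mem_eigs ρ (pow_orderOf_eq_one g) hz
  rw [character_eq_sum_eigs, ← card_eigs ρ g] at h
  have hnorm : ∀ z ∈ eigs ρ g, ‖z‖ = 1 := fun z hz =>
    Complex.norm_eq_one_of_pow_eq_one (hroot z hz) hm.ne'
  have hall := all_eq_of_norm_sum_eq hnorm h
  obtain ⟨ω, hω⟩ := Multiset.card_pos_iff_exists_mem.mp ((card_eigs ρ g).symm ▸ hpos)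
  refine ⟨ω, ?_, hnorm ω hω⟩
  have hrep : eigs ρ g = Multiset.replicate (finrank ℂ V) ω := by
    refine Multiset.eq_replicate.mpr ⟨card_eigs ρ g, fun z hz => ?_⟩
    have hcne : (Multiset.card (eigs ρ g) : ℂ) ≠ 0 := by
      rw [card_eigs]; exact_mod_cast hpos.ne'
    exact mul_left_cancel₀ hcne ((hall z hz).trans (hall ω hω).symm)
  have hcp : LinearMap.charpoly (ρ g) = (X - C ω) ^ finrank ℂ V := by
    have h2 := (IsAlgClosed.splits (LinearMap.charpoly (ρ g))).eq_prod_roots_of_monic
      (LinearMap.charpoly_monic _)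
    rw [show (LinearMap.charpoly (ρ g)).roots = Multiset.replicate (finrank ℂ V) ω from hrep] at h2
    simpa using h2
  have hdvd1 : minpoly ℂ (ρ g) ∣ (X - C ω) ^ finrank ℂ V := hcp ▸ LinearMap.minpoly_dvd_charpoly _
  have hdvd2 : minpoly ℂ (ρ g) ∣ X ^ orderOf g - C 1 := by
    apply minpoly.dvd
    simp [← map_pow ρ, pow_orderOf_eq_one]
  have hsq : Squarefree (minpoly ℂ (ρ g)) :=
    Squarefree.squarefree_of_dvd hdvd2
      (Polynomial.separable_X_pow_sub_C 1 (by exact_mod_cast hm.ne') one_ne_zero).squarefree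
  have hdvd : minpoly ℂ (ρ g) ∣ X - C ω :=
    hsq.isRadical _ _ hdvd1
  obtain ⟨q, hq⟩ := hdvd
  have h3 := congrArg (Polynomial.aeval (ρ g)) hq
  rw [map_mul, minpoly.aeval, zero_mul, map_sub, aeval_X, aeval_C, sub_eq_zero] at h3
  rw [h3]
  rfl

theorem eq_id_of_character_eq_finrank [Finite G] (ρ : Representation ℂ G V) (g : G) :
    ρ.character g = (finrank ℂ V : ℂ) ↔ ρ g = LinearMap.id := by
  constructor
  · intro h
    obtain ⟨ω, hω, -⟩ := scalar_of_norm_character_eq ρ g (by rw [h, Complex.norm_natCast])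
    rcases Nat.eq_zero_or_pos (finrank ℂ V) with h0 | hpos
    · have : Subsingleton V := Module.finrank_zero_iff.mp h0
      exact LinearMap.ext fun x => Subsingleton.elim _ _
    rw [Representation.character, hω, map_smul, LinearMap.trace_id, smul_eq_mul] at h
    have : ω = 1 := by
      have hne : (finrank ℂ V : ℂ) ≠ 0 := by exact_mod_cast hpos.ne'
      exact mul_right_cancel₀ hne (h.trans (one_mul _).symm)
    rw [hω, this, one_smul]
  · intro h
    simp [Representation.character, h, LinearMap.trace_id]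

theorem IsCharacter.isIntegral [Finite G] {χ : G → ℂ} (h : Cfsg.IsCharacter G χ) (g : G) :
    IsIntegral ℤ (χ g) := by
  obtain ⟨n, ρ, rfl⟩ := h; exact isIntegral_character ρ g

theorem IsGeneralizedCharacter.isIntegral [Finite G] {χ : G → ℂ}
    (h : Cfsg.IsGeneralizedCharacter G χ) (g : G) : IsIntegral ℤ (χ g) := by
  obtain ⟨a, b, ha, hb, rfl⟩ := h
  exact (IsCharacter.isIntegral ha g).sub (IsCharacter.isIntegral hb g)

theorem IsCharacter.norm_le [Finite G] {χ : G → ℂ} (h : Cfsg.IsCharacter G χ) (g : G) :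
    ‖χ g‖ ≤ (χ 1).re := by
  obtain ⟨n, ρ, rfl⟩ := h
  simpa [ρ.char_one] using norm_character_le ρ g

theorem IsCharacter.one_re_nonneg {χ : G → ℂ} (h : Cfsg.IsCharacter G χ) : 0 ≤ (χ 1).re := by
  obtain ⟨n, hn⟩ := IsCharacter.apply_one h
  simp [hn]

/-! ## Kernels -/

/-- The kernel of a character. -/
def charKer (χ : G → ℂ) : Set G := {g | χ g = χ 1}

theorem IsCharacter.ker_mul [Finite G] {χ : G → ℂ} (h : Cfsg.IsCharacter G χ) {a b : G}
    (ha : χ a = χ 1) : χ (a * b) = χ b := by
  obtain ⟨n, ρ, rfl⟩ := h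
  have h1 : ρ a = LinearMap.id :=
    (eq_id_of_character_eq_finrank ρ a).mp (by rw [ha, ρ.char_one])
  have h2 : ρ (a * b) = ρ b := by
    rw [map_mul ρ, h1]
    rfl
  simp [Representation.character, h2]

theorem IsCharacter.ker_inv [Finite G] {χ : G → ℂ} (h : Cfsg.IsCharacter G χ) {a : G}
    (ha : χ a = χ 1) : χ a⁻¹ = χ 1 := by
  have := IsCharacter.ker_mul h (b := a⁻¹) ha
  rw [mul_inv_cancel] at this
  exact this.symm

/-- The kernel of a character as a normal subgroup. -/
def kerSubgroup [Finite G] (χ : G → ℂ) (h : Cfsg.IsCharacter G χ) : Subgroup G where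
  carrier := charKer χ
  mul_mem' := fun {a b} ha hb => (IsCharacter.ker_mul h ha).trans hb
  one_mem' := rfl
  inv_mem' := fun {a} ha => IsCharacter.ker_inv h ha

theorem mem_kerSubgroup [Finite G] {χ : G → ℂ} (h : Cfsg.IsCharacter G χ) (g : G) :
    g ∈ kerSubgroup χ h ↔ χ g = χ 1 := Iff.rfl

theorem kerSubgroup_normal [Finite G] {χ : G → ℂ} (h : Cfsg.IsCharacter G χ) :
    (kerSubgroup χ h).Normal :=
  ⟨fun a ha g => (isClassFunction_isChar h a g).trans ha⟩

/-! ## The degree divides the group order -/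

theorem finrank_dvd_card [Finite G] (ρ : Representation ℂ G V) [ρ.IsIrreducible] :
    finrank ℂ V ∣ Nat.card G := by
  classical
  have := Fintype.ofFinite G
  have hpos := finrank_pos_of_irreducible ρ
  apply dvd_of_isIntegral_div hpos.ne'
  have hone := classInner_self_irr (isIrrCharacter_character ρ)
  rw [classInner_def, inv_mul_eq_one₀ (by exact_mod_cast Nat.card_pos.ne'),
    ← Finset.sum_fiberwise Finset.univ ConjClasses.mk] at hone
  rw [hone, Finset.sum_div]
  refine IsIntegral.sum _ fun C _ => ?_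
  obtain ⟨g, rfl⟩ := ConjClasses.exists_rep C
  have hfil : Finset.univ.filter (fun x => ConjClasses.mk x = ConjClasses.mk g) =
      Finset.univ.filter (fun x => IsConj g x) := by
    ext x
    simp only [Finset.mem_filter, Finset.mem_univ, true_and, ConjClasses.mk_eq_mk_iff_isConj]
    exact isConj_comm
  rw [hfil, sum_isConj (f := fun x => ρ.character x * conj (ρ.character x))
    (fun a b => by simp [isClassFunction_character ρ a b]) g, card_isConj, ← mul_assoc,
    mul_div_right_comm]
  refine (isIntegral_centralChar ρ g).mul ?_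
  rw [← character_inv]
  exact isIntegral_character ρ _

theorem IsIrrCharacter.deg_dvd [Finite G] {χ : G → ℂ} (h : Cfsg.IsIrrCharacter G χ) :
    deg χ ∣ Nat.card G := by
  obtain ⟨n, ρ, hρ, rfl⟩ := h
  rw [deg_character]
  exact finrank_dvd_card ρ

end Cfsg.Lib.Chars
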