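import Cfsg.Agent.Chars.Construct

/-!
# Induced functions and Frobenius reciprocity
-/

namespace Cfsg.Lib.Chars

open scoped ComplexConjugate

universe u

variable {G : Type u} [Group G]

theorem extendByZero_apply (H : Subgroup G) (θ : H → ℂ) (x : H) :
    Cfsg.extendByZero H θ x = θ x :=
  Subtype.val_injective.extend_apply θ 0 x

theorem extendByZero_mem {H : Subgroup G} (θ : H → ℂ) {g : G} (hg : g ∈ H) :
    Cfsg.extendByZero H θ g = θ ⟨g, hg⟩ :=
  extendByZero_apply H θ ⟨g, hg⟩

theorem extendByZero_not_mem {H : Subgroup G} (θ : H → ℂ) {g : G} (hg : g ∉ H) :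
    Cfsg.extendByZero H θ g = 0 := by
  rw [Cfsg.extendByZero, Function.extend_apply']
  · rfl
  · rintro ⟨x, rfl⟩; exact hg x.2

theorem extendByZero_add (H : Subgroup G) (θ θ' : H → ℂ) :
    Cfsg.extendByZero H (θ + θ') = Cfsg.extendByZero H θ + Cfsg.extendByZero H θ' := by
  funext g
  by_cases hg : g ∈ H <;> simp [extendByZero_mem, extendByZero_not_mem, hg]

theorem extendByZero_smul (H : Subgroup G) (c : ℂ) (θ : H → ℂ) :
    Cfsg.extendByZero H (c • θ) = c • Cfsg.extendByZero H θ := by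
  funext g
  by_cases hg : g ∈ H <;> simp [extendByZero_mem, extendByZero_not_mem, hg]

variable [Fintype G]

theorem indFun_apply (H : Subgroup G) (θ : H → ℂ) (g : G) :
    Cfsg.indFun H θ g = (Nat.card H : ℂ)⁻¹ * ∑ x : G, Cfsg.extendByZero H θ (x⁻¹ * g * x) := rfl

theorem indFun_add (H : Subgroup G) (θ θ' : H → ℂ) :
    Cfsg.indFun H (θ + θ') = Cfsg.indFun H θ + Cfsg.indFun H θ' := by
  funext g
  simp [indFun_apply, extendByZero_add, Finset.sum_add_distrib, mul_add]

theorem indFun_smul (H : Subgroup G) (c : ℂ) (θ : H → ℂ) :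
    Cfsg.indFun H (c • θ) = c • Cfsg.indFun H θ := by
  funext g
  simp [indFun_apply, extendByZero_smul, Finset.mul_sum, mul_left_comm]

theorem indFun_zero (H : Subgroup G) : Cfsg.indFun H 0 = 0 := by
  have := indFun_smul H 0 0
  simpa using this

theorem indFun_neg (H : Subgroup G) (θ : H → ℂ) : Cfsg.indFun H (-θ) = -Cfsg.indFun H θ := by
  have := indFun_smul H (-1) θ
  simpa using this

theorem indFun_sub (H : Subgroup G) (θ θ' : H → ℂ) :
    Cfsg.indFun H (θ - θ') = Cfsg.indFun H θ - Cfsg.indFun H θ' := by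
  rw [sub_eq_add_neg, indFun_add, indFun_neg, ← sub_eq_add_neg]

theorem indFun_sum (H : Subgroup G) {ι : Type*} (s : Finset ι) (f : ι → H → ℂ) :
    Cfsg.indFun H (∑ i ∈ s, f i) = ∑ i ∈ s, Cfsg.indFun H (f i) := by
  classical
  induction s using Finset.induction with
  | empty => simp [indFun_zero]
  | insert a s has ih => simp [Finset.sum_insert has, indFun_add, ih]

theorem isClassFunction_indFun (H : Subgroup G) (θ : H → ℂ) :
    Cfsg.IsClassFunction G (Cfsg.indFun H θ) := by
  intro g h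
  simp only [indFun_apply]
  congr 1
  refine Fintype.sum_equiv (Equiv.mulLeft h⁻¹) _ _ fun x => ?_
  simp only [Equiv.coe_mulLeft]
  congr 1
  group

/-- The value of an induced function at the identity. -/
theorem indFun_one (H : Subgroup G) (θ : H → ℂ) :
    Cfsg.indFun H θ 1 = (H.index : ℂ) * θ 1 := by
  simp only [indFun_apply, mul_one, inv_mul_cancel, extendByZero_mem θ H.one_mem]
  rw [show (⟨1, H.one_mem⟩ : H) = 1 from rfl, Finset.sum_const, Finset.card_univ, nsmul_eq_mul,
    ← Nat.card_eq_fintype_card, ← H.card_mul_index, Nat.cast_mul]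
  have : (Nat.card H : ℂ) ≠ 0 := by exact_mod_cast Nat.card_pos.ne'
  field_simp

theorem indFun_eq_zero_of_forall (H : Subgroup G) (θ : H → ℂ) (g : G)
    (h : ∀ x : G, x⁻¹ * g * x ∉ H) : Cfsg.indFun H θ g = 0 := by
  simp [indFun_apply, extendByZero_not_mem _ (h _)]

theorem sum_extendByZero {H : Subgroup G} [Fintype H] (θ : H → ℂ) (f : G → ℂ) :
    ∑ g : G, Cfsg.extendByZero H θ g * f g = ∑ h : H, θ h * f h := by
  classical
  rw [← Finset.sum_filter_add_sum_filter_not Finset.univ (fun g => g ∈ H),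
    Finset.sum_eq_zero (s := Finset.univ.filter (fun g => ¬ g ∈ H)) (fun g hg => by
      rw [extendByZero_not_mem _ (Finset.mem_filter.mp hg).2, zero_mul]), add_zero,
    ← Finset.sum_subtype (p := (· ∈ H)) (Finset.univ.filter (fun g => g ∈ H)) (fun g => by simp)
      (fun g => Cfsg.extendByZero H θ g * f g) |>.symm]
  exact Finset.sum_congr rfl fun h _ => by rw [extendByZero_apply]

/-- Frobenius reciprocity. -/
theorem frobenius_reciprocity (H : Subgroup G) [Fintype H] (θ : H → ℂ) {χ : G → ℂ}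
    (hχ : Cfsg.IsClassFunction G χ) :
    Cfsg.classInner (Cfsg.indFun H θ) χ = Cfsg.classInner θ (fun h : H => χ h) := by
  simp only [classInner_def, indFun_apply, mul_assoc, Finset.sum_mul, ← Finset.mul_sum]
  rw [← sum_extendByZero θ (fun g => conj (χ g)), Finset.sum_comm]
  have h1 : ∀ x : G, ∑ g : G, Cfsg.extendByZero H θ (x⁻¹ * (g * x)) * conj (χ g) =
      ∑ g : G, Cfsg.extendByZero H θ g * conj (χ g) := by
    intro x
    refine Fintype.sum_equiv (MulAut.conj x⁻¹).toEquiv _ _ fun g => ?_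
    simp only [MulEquiv.toEquiv_eq_coe, MulEquiv.coe_toEquiv, MulAut.conj_apply, inv_inv]
    rw [classFunction_conj' hχ, mul_assoc]
  rw [Finset.sum_congr rfl fun x _ => h1 x, Finset.sum_const, Finset.card_univ, nsmul_eq_mul,
    ← Nat.card_eq_fintype_card]
  have : (Nat.card G : ℂ) ≠ 0 := by exact_mod_cast Nat.card_pos.ne'
  field_simp

theorem frobenius_reciprocity' (H : Subgroup G) [Fintype H] (θ : H → ℂ) {χ : G → ℂ}
    (hχ : Cfsg.IsClassFunction G χ) :
    Cfsg.classInner χ (Cfsg.indFun H θ) = Cfsg.classInner (fun h : H => χ h) θ := by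
  rw [← classInner_conj_symm, frobenius_reciprocity H θ hχ, classInner_conj_symm]

theorem IsCharacter.indFun {H : Subgroup G} {θ : H → ℂ} (h : Cfsg.IsCharacter H θ) :
    Cfsg.IsCharacter G (Cfsg.indFun H θ) := by
  classical
  refine isCharacter_of_coeff (isClassFunction_indFun H θ) fun χ => ?_
  rw [frobenius_reciprocity H θ (isClassFunction_irr χ)]
  obtain ⟨m, hm⟩ := IsCharacter.exists_decomp (IsCharacter.restrict (isCharacter_of_irr χ.2) H)
  choose k hk using fun ψ : Cfsg.IrrCharacter H => IsCharacter.exists_mult h ψ.2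
  refine ⟨∑ ψ, m ψ * k ψ, ?_⟩
  rw [hm, classInner_sum_right]
  push_cast
  exact Finset.sum_congr rfl fun ψ _ => by rw [classInner_nsmul_right, hk]

theorem IsGeneralizedCharacter.indFun {H : Subgroup G} {θ : H → ℂ}
    (h : Cfsg.IsGeneralizedCharacter H θ) :
    Cfsg.IsGeneralizedCharacter G (Cfsg.indFun H θ) := by
  obtain ⟨a, b, ha, hb, rfl⟩ := h
  exact ⟨_, _, IsCharacter.indFun ha, IsCharacter.indFun hb, indFun_sub H a b⟩

/-- Transitivity of induction. -/
theorem indFun_trans (H K : Subgroup G) [Fintype K] (hHK : H ≤ K) (θ : H → ℂ) :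
    Cfsg.indFun K (Cfsg.indFun (H.subgroupOf K)
      (fun x => θ ⟨(x : K), Subgroup.mem_subgroupOf.mp x.2⟩)) = Cfsg.indFun H θ := by
  classical
  set θ' : H.subgroupOf K → ℂ := fun x => θ ⟨(x : K), Subgroup.mem_subgroupOf.mp x.2⟩
  have hcard : Nat.card (H.subgroupOf K) = Nat.card H :=
    Nat.card_congr (Subgroup.subgroupOfEquivOfLe hHK).toEquiv
  have hext : ∀ z : K, Cfsg.extendByZero (H.subgroupOf K) θ' z = Cfsg.extendByZero H θ z := by
    intro z
    by_cases hz : (z : G) ∈ H
    · rw [extendByZero_mem θ' (Subgroup.mem_subgroupOf.mpr hz), extendByZero_mem θ hz]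
    · rw [extendByZero_not_mem θ' (fun h => hz (Subgroup.mem_subgroupOf.mp h)),
        extendByZero_not_mem θ hz]
  have hK : ∀ z : G, Cfsg.extendByZero K (Cfsg.indFun (H.subgroupOf K) θ') z =
      (Nat.card H : ℂ)⁻¹ * ∑ y : K, Cfsg.extendByZero H θ ((y : G)⁻¹ * z * y) := by
    intro z
    by_cases hz : z ∈ K
    · rw [extendByZero_mem _ hz, indFun_apply, hcard]
      simp [hext]
    · rw [extendByZero_not_mem _ hz, Finset.sum_eq_zero, mul_zero]
      intro y _
      apply extendByZero_not_mem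
      intro hmem
      apply hz
      have := K.mul_mem (K.mul_mem y.2 (hHK hmem)) (K.inv_mem y.2)
      simpa [mul_assoc] using this
  funext g
  rw [indFun_apply K, Finset.sum_congr rfl fun x _ => hK _, ← Finset.mul_sum, Finset.sum_comm,
    indFun_apply H]
  have h1 : ∀ y : K, ∑ x : G, Cfsg.extendByZero H θ ((y : G)⁻¹ * (x⁻¹ * g * x) * y) =
      ∑ x : G, Cfsg.extendByZero H θ (x⁻¹ * g * x) := fun y =>
    Fintype.sum_equiv (Equiv.mulRight (y : G)) _ _ fun x => by simp [mul_assoc]
  rw [Finset.sum_congr rfl fun y _ => h1 y, Finset.sum_const, Finset.card_univ, nsmul_eq_mul,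
    ← Nat.card_eq_fintype_card]
  have : (Nat.card K : ℂ) ≠ 0 := by exact_mod_cast Nat.card_pos.ne'
  field_simp

theorem indFun_top (θ : (⊤ : Subgroup G) → ℂ) (hθ : Cfsg.IsClassFunction (⊤ : Subgroup G) θ) :
    Cfsg.indFun ⊤ θ = fun g => θ ⟨g, Subgroup.mem_top g⟩ := by
  funext g
  rw [indFun_apply, Finset.sum_congr rfl (g := fun _ => θ ⟨g, Subgroup.mem_top g⟩) fun x _ => by
    rw [extendByZero_mem θ (Subgroup.mem_top _)]
    have := hθ ⟨g, Subgroup.mem_top g⟩ ⟨x⁻¹, Subgroup.mem_top _⟩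
    rw [← this]; congr 1; ext; simp, Finset.sum_const, Finset.card_univ, nsmul_eq_mul]
  have : (Fintype.card G : ℂ) ≠ 0 := by exact_mod_cast Fintype.card_ne_zero
  rw [Subgroup.card_top, Nat.card_eq_fintype_card]
  field_simp

/-- A function induced from a normal subgroup vanishes outside it. -/
theorem indFun_normal_not_mem (N : Subgroup G) [hN : N.Normal] (θ : N → ℂ) {g : G} (hg : g ∉ N) :
    Cfsg.indFun N θ g = 0 :=
  indFun_eq_zero_of_forall N θ g fun x hx => hg (by simpa [mul_assoc] using hN.conj_mem _ hx x)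

/-- On a normal subgroup the induced function is the average of the conjugates. -/
theorem indFun_normal_mem (N : Subgroup G) [hN : N.Normal] (θ : N → ℂ) (n : N) :
    Cfsg.indFun N θ n = (Nat.card N : ℂ)⁻¹ *
      ∑ g : G, θ ⟨g * n * g⁻¹, hN.conj_mem n n.2 g⟩ := by
  rw [indFun_apply]
  congr 1
  refine Fintype.sum_equiv (Equiv.inv G) _ _ fun x => ?_
  have hx : x⁻¹ * (n : G) * x ∈ N := by simpa using hN.conj_mem n n.2 x⁻¹
  rw [extendByZero_mem θ hx]
  congr 2
  simp

end Cfsg.Lib.Chars
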