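import Cfsg.Agent.Chars.Values
import Cfsg.Agent.Chars.Induced

/-!
# Brauer's permutation lemma and permutation characters
-/

namespace Cfsg.Lib.Chars

open scoped ComplexConjugate

universe u v

variable {G : Type u} [Group G]

/-- Summing `|C_G(g)|` over a set of classes. -/
theorem sum_centralizer_over_classes [Fintype G] (P : ConjClasses G → Prop) [DecidablePred P] :
    ∑ g ∈ Finset.univ.filter (fun g : G => P (ConjClasses.mk g)),
        (Nat.card (Subgroup.centralizer ({g} : Set G)) : ℂ) =
      (Nat.card G : ℂ) * (Nat.card {C : ConjClasses G // P C} : ℂ) := by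
  classical
  have := Fintype.ofFinite (ConjClasses G)
  rw [← Finset.sum_fiberwise_of_maps_to (g := ConjClasses.mk)
    (t := Finset.univ.filter P) (fun g hg => by simpa using hg)]
  rw [Finset.sum_congr rfl (g := fun _ => (Nat.card G : ℂ)) ?_, Finset.sum_const, nsmul_eq_mul,
    mul_comm, Nat.card_eq_fintype_card (α := {C // P C}), Fintype.card_subtype]
  intro C hC
  obtain ⟨g, rfl⟩ := ConjClasses.exists_rep C
  have hP : P (ConjClasses.mk g) := (Finset.mem_filter.mp hC).2
  have hfil : (Finset.univ.filter (fun x : G => P (ConjClasses.mk x))).filter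
      (fun x => ConjClasses.mk x = ConjClasses.mk g) =
      Finset.univ.filter (fun x => IsConj g x) := by
    ext x
    simp only [Finset.mem_filter, Finset.mem_univ, true_and]
    constructor
    · rintro ⟨-, h⟩; exact (ConjClasses.mk_eq_mk_iff_isConj.mp h).symm
    · intro h
      have := ConjClasses.mk_eq_mk_iff_isConj.mpr h.symm
      exact ⟨this ▸ hP, this⟩
  rw [hfil, sum_isConj (f := fun x => (Nat.card (Subgroup.centralizer ({x} : Set G)) : ℂ))
    (fun a b => ?_) g]
  · exact_mod_cast card_isConj_mul g
  · have h1 := card_isConj_mul a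
    have h2 := card_isConj_mul (b * a * b⁻¹)
    have hc : Nat.card {x : G // IsConj (b * a * b⁻¹) x} = Nat.card {x : G // IsConj a x} :=
      Nat.card_congr (Equiv.subtypeEquivRight fun x =>
        ⟨fun H => (isConj_iff.mpr ⟨b, rfl⟩).trans H, fun H => (isConj_iff.mpr ⟨b, rfl⟩).symm.trans H⟩)
    rw [hc] at h2
    exact congrArg Nat.cast (Nat.eq_of_mul_eq_mul_left (card_isConj_pos a) (h2.trans h1.symm))

/-- Brauer's permutation lemma. -/
theorem brauer_permutation [Finite G] (f : Cfsg.IrrCharacter G → Cfsg.IrrCharacter G)
    (π : ConjClasses G ≃ ConjClasses G)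
    (h : ∀ (χ : Cfsg.IrrCharacter G) (g g' : G), ConjClasses.mk g' = π (ConjClasses.mk g) →
      (f χ : G → ℂ) g' = (χ : G → ℂ) g) :
    Nat.card {χ : Cfsg.IrrCharacter G // f χ = χ} = Nat.card {C : ConjClasses G // π C = C} := by
  classical
  have := Fintype.ofFinite G
  have := Fintype.ofFinite (ConjClasses G)
  apply Nat.cast_injective (R := ℂ)
  have h1 : (Nat.card {χ : Cfsg.IrrCharacter G // f χ = χ} : ℂ) =
      ∑ χ : Cfsg.IrrCharacter G, Cfsg.classInner (f χ : G → ℂ) χ := by
    simp only [classInner_irrCharacter, Finset.sum_boole]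
    rw [Nat.card_eq_fintype_card, Fintype.card_subtype]
  let pre : G → G := fun g => Quotient.out (π.symm (ConjClasses.mk g))
  have hpre : ∀ g, ConjClasses.mk (pre g) = π.symm (ConjClasses.mk g) := fun g => Quotient.out_eq _
  have h2 : ∀ g, (∑ χ : Cfsg.IrrCharacter G, (f χ : G → ℂ) g * conj ((χ : G → ℂ) g)) =
      if π (ConjClasses.mk g) = ConjClasses.mk g then
        (Nat.card (Subgroup.centralizer ({g} : Set G)) : ℂ) else 0 := by
    intro g
    rw [Finset.sum_congr rfl fun χ _ => by rw [h χ (pre g) g (by rw [hpre, Equiv.apply_symm_apply])]]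
    by_cases hfix : π (ConjClasses.mk g) = ConjClasses.mk g
    · have hc : IsConj (pre g) g := by
        rw [← ConjClasses.mk_eq_mk_iff_isConj, hpre, Equiv.symm_apply_eq, hfix]
      rw [if_pos hfix, Finset.sum_congr rfl (fun χ _ => by
        rw [classFunction_eq_of_isConj (isClassFunction_irr χ) hc]), second_orthogonality,
        if_pos (IsConj.refl g)]
    · rw [if_neg hfix, second_orthogonality, if_neg]
      rw [← ConjClasses.mk_eq_mk_iff_isConj, hpre, Equiv.symm_apply_eq]
      exact fun h => hfix h.symm
  rw [h1]
  simp only [classInner_def, ← Finset.mul_sum]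
  rw [Finset.sum_comm, Finset.sum_congr rfl fun g _ => h2 g, ← Finset.sum_filter,
    sum_centralizer_over_classes (fun C => π C = C)]
  have hG : (Nat.card G : ℂ) ≠ 0 := by exact_mod_cast Nat.card_pos.ne'
  field_simp

/-! ## Permutation characters -/

/-- The permutation character of an action. -/
noncomputable def permChar (G : Type u) [Group G] (X : Type v) [MulAction G X] : G → ℂ :=
  fun g => (Nat.card (MulAction.fixedBy X g) : ℂ)

theorem isCharacter_permChar (X : Type v) [MulAction G X] [Finite X] :
    Cfsg.IsCharacter G (permChar G X) := by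
  classical
  have := Fintype.ofFinite X
  let ρ : Representation ℂ G (X → ℂ) :=
    { toFun := fun g =>
        { toFun := fun f x => f (g⁻¹ • x), map_add' := fun _ _ => rfl, map_smul' := fun _ _ => rfl }
      map_one' := by ext f x; simp
      map_mul' := fun g h => by ext f x; simp [mul_smul] }
  have : permChar G X = ρ.character := by
    funext g
    rw [permChar, Representation.character, LinearMap.trace_eq_matrix_trace ℂ (Pi.basisFun ℂ X)]
    simp only [Matrix.trace, Matrix.diag_apply, LinearMap.toMatrix_apply, Pi.basisFun_apply,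
      Pi.basisFun_repr]
    rw [Finset.sum_congr rfl (g := fun x => if g⁻¹ • x = x then (1 : ℂ) else 0) (fun x _ => by
      simp [ρ, Pi.single_apply, eq_comm]), Finset.sum_boole, Nat.card_eq_fintype_card]
    rw [← Set.toFinset_card]
    congr 2
    ext x
    simp only [Set.mem_toFinset, MulAction.mem_fixedBy, Finset.mem_filter, Finset.mem_univ, true_and]
    rw [inv_smul_eq_iff, eq_comm]
  rw [this]
  exact isCharacter_character ρ

/-- Burnside's orbit lemma as an inner product. -/
theorem classInner_permChar_one [Fintype G] (X : Type v) [MulAction G X] [Finite X] :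
    Cfsg.classInner (permChar G X) (fun _ => 1) =
      (Nat.card (MulAction.orbitRel.Quotient G X) : ℂ) := by
  classical
  have := Fintype.ofFinite X
  have h := MulAction.sum_card_fixedBy_eq_card_orbits_mul_card_group G X
  have hG : (Fintype.card G : ℂ) ≠ 0 := by exact_mod_cast Fintype.card_ne_zero
  rw [classInner_def]
  simp only [permChar, map_one, mul_one, Nat.card_eq_fintype_card]
  rw [← Nat.cast_sum, h, Nat.cast_mul]
  field_simp

end Cfsg.Lib.Chars
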