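import Cfsg.Agent.Chars.Inertia
import Cfsg.Agent.Chars.Perm

/-!
# Coprime conjugation and Frobenius kernels
-/

namespace Cfsg.Lib.Chars

open scoped ComplexConjugate

universe u

variable {G : Type u} [Group G] [Finite G]

theorem eq_of_pow_coprime_part {n m : ℕ} (hcop : Nat.Coprime n m) {g c c' y : G}
    (hg : g ^ n = 1) (hc : c ^ m = 1) (hc' : c' ^ m = 1) (hcg : Commute c g) (hc'g : Commute c' g)
    (h : y * (c * g) * y⁻¹ = c' * g) : y * g * y⁻¹ = g ∧ y * c * y⁻¹ = c' := by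
  obtain ⟨e, he1, he2⟩ := Nat.chineseRemainder hcop 1 0
  have hg1 : g ^ e = g := by
    conv_rhs => rw [← pow_one g]
    rw [pow_eq_pow_iff_modEq]
    exact he1.of_dvd (orderOf_dvd_of_pow_eq_one hg)
  have hc0 : ∀ d : G, d ^ m = 1 → d ^ e = 1 := fun d hd => by
    obtain ⟨j, rfl⟩ := Nat.modEq_zero_iff_dvd.mp he2
    rw [pow_mul, hd, one_pow]
  have h2 : y * g * y⁻¹ = g := by
    have h1 := congrArg (· ^ e) h
    simp only [conj_pow, hcg.mul_pow, hc'g.mul_pow, hc0 c hc, hc0 c' hc', hg1, one_mul] at h1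
    exact h1
  refine ⟨h2, mul_right_cancel (b := g) ?_⟩
  rw [← h]
  nth_rw 1 [← h2]
  group

/-- Coprime coset lemma: every element of `H g` is `H`-conjugate into `C_H(g) g`. -/
theorem exists_conj_centralizer_mul (H : Subgroup G) {g : G} {n : ℕ} (hn : g ^ n = 1)
    (hg : g ∈ Subgroup.normalizer (H : Set G))
    (hcop : Nat.Coprime n (Nat.card H)) {h : G} (hh : h ∈ H) :
    ∃ x ∈ H, ∃ c ∈ H, c * g = g * c ∧ x * (h * g) * x⁻¹ = c * g := by
  classical
  have := Fintype.ofFinite G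
  let C : Subgroup H := (Subgroup.centralizer ({g} : Set G)).subgroupOf H
  have hC : ∀ c : C, ((c : H) : G) * g = g * ((c : H) : G) := fun c =>
    Subgroup.mem_centralizer_singleton_iff.mp c.2
  have hpow : ∀ d : H, (d : G) ^ Nat.card H = 1 := fun d => by
    rw [← SubmonoidClass.coe_pow, pow_card_eq_one', OneMemClass.coe_one]
  have hmem : ∀ (y : H) (c : H), (y : G) * ((c : G) * g) * (y : G)⁻¹ * g⁻¹ ∈ H := by
    intro y c
    have h1 : g * (y : G)⁻¹ * g⁻¹ ∈ H := (Subgroup.mem_normalizer_iff.mp hg _).mp (H.inv_mem y.2)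
    rw [show (y : G) * ((c : G) * g) * (y : G)⁻¹ * g⁻¹ = (y : G) * c * (g * (y : G)⁻¹ * g⁻¹) by group]
    exact H.mul_mem (H.mul_mem y.2 c.2) h1
  let Ψ : (H ⧸ C) × C → H := fun p =>
    ⟨(p.1.out : G) * (((p.2 : H) : G) * g) * (p.1.out : G)⁻¹ * g⁻¹, hmem p.1.out (p.2 : H)⟩
  have hinj : Function.Injective Ψ := by
    rintro ⟨q, c⟩ ⟨q', c'⟩ hq
    have h1 : (q.out : G) * (((c : H) : G) * g) * (q.out : G)⁻¹ =
        (q'.out : G) * (((c' : H) : G) * g) * (q'.out : G)⁻¹ :=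
      mul_right_cancel (congrArg Subtype.val hq)
    have h2 : ((q'.out : G)⁻¹ * q.out) * (((c : H) : G) * g) * ((q'.out : G)⁻¹ * q.out)⁻¹ =
        ((c' : H) : G) * g := by
      calc _ = (q'.out : G)⁻¹ * ((q.out : G) * (((c : H) : G) * g) * (q.out : G)⁻¹) * q'.out := by group
        _ = _ := by rw [h1]; group
    obtain ⟨h3, h4⟩ := eq_of_pow_coprime_part hcop hn
      (hpow (c : H)) (hpow (c' : H)) (hC c) (hC c') h2
    have hy : q'.out⁻¹ * q.out ∈ C := by
      show ((q'.out⁻¹ * q.out : H) : G) ∈ Subgroup.centralizer ({g} : Set G)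
      rw [Subgroup.mem_centralizer_singleton_iff]
      exact mul_inv_eq_iff_eq_mul.mp h3
    have hqq : q = q' := by
      rw [← QuotientGroup.out_eq' q, ← QuotientGroup.out_eq' q']
      exact (QuotientGroup.eq.mpr hy).symm
    subst hqq
    rw [inv_mul_cancel, one_mul, inv_one, mul_one] at h4
    rw [show c = c' from Subtype.ext (Subtype.ext h4)]
  have hcard : Nat.card ((H ⧸ C) × C) = Nat.card H := by
    rw [Nat.card_prod]
    exact (Subgroup.card_eq_card_quotient_mul_card_subgroup C).symm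
  obtain ⟨⟨q, c⟩, hqc⟩ := ((Nat.bijective_iff_injective_and_card _).mpr ⟨hinj, hcard⟩).2 ⟨h, hh⟩
  refine ⟨(q.out : G)⁻¹, H.inv_mem q.out.2, ((c : H) : G), (c : H).2, hC c, ?_⟩
  have h1 : (q.out : G) * (((c : H) : G) * g) * (q.out : G)⁻¹ * g⁻¹ = h := congrArg Subtype.val hqc
  rw [← h1]; group

/-- A class fixed by a coprime automorphism contains a fixed point. -/
theorem exists_fixed_conj (H : Subgroup G) {x : G} (hx : x ∈ Subgroup.normalizer (H : Set G))
    (hcop : Nat.Coprime (orderOf x) (Nat.card H)) {h c : G} (hh : h ∈ H) (hc : c ∈ H)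
    (heq : x * h * x⁻¹ = c * h * c⁻¹) : ∃ d ∈ H, x * (d * h * d⁻¹) = d * h * d⁻¹ * x := by
  obtain ⟨d, hd, e, he, hex, hde⟩ :=
    exists_conj_centralizer_mul H (pow_orderOf_eq_one x) hx hcop (H.inv_mem hc)
  refine ⟨d, hd, ?_⟩
  have h1 : (d * h * d⁻¹) * (e * x) * (d * h * d⁻¹)⁻¹ = e * x := by
    have h0 : c⁻¹ * x * h * (c⁻¹ * x)⁻¹ = h := by
      calc c⁻¹ * x * h * (c⁻¹ * x)⁻¹ = c⁻¹ * (x * h * x⁻¹) * c := by group
        _ = h := by rw [heq]; group
    rw [← hde]
    calc d * h * d⁻¹ * (d * (c⁻¹ * x) * d⁻¹) * (d * h * d⁻¹)⁻¹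
        = d * (h * (c⁻¹ * x) * h⁻¹) * d⁻¹ := by group
      _ = d * (c⁻¹ * x) * d⁻¹ := by
          congr 2
          nth_rw 1 [← h0]
          group
  have hpe : e ^ Nat.card H = 1 := by
    calc e ^ Nat.card H = (((⟨e, he⟩ : H) ^ Nat.card H : H) : G) := rfl
      _ = 1 := by rw [pow_card_eq_one', OneMemClass.coe_one]
  obtain ⟨h2, -⟩ := eq_of_pow_coprime_part hcop (pow_orderOf_eq_one x) hpe hpe hex hex h1
  exact (mul_inv_eq_iff_eq_mul.mp h2).symm

/-- The Brauer correspondence for conjugation on a normal subgroup. -/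
theorem card_fixed_irr_conjN (N : Subgroup G) [N.Normal] (x : G) :
    Nat.card {θ : Cfsg.IrrCharacter N // conjN N x (θ : N → ℂ) = θ} =
      Nat.card {C : ConjClasses N //
        ConjClasses.map (MulEquiv.toMonoidHom (MulAut.conjNormal x : MulAut N)) C = C} := by
  let e : MulAut N := MulAut.conjNormal x
  have hmap : ∀ (a : MulAut N) (C : ConjClasses N),
      ConjClasses.map (MulEquiv.toMonoidHom a⁻¹) (ConjClasses.map (MulEquiv.toMonoidHom a) C) = C := by
    intro a C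
    induction C using Quotient.inductionOn with
    | _ n => exact congrArg ConjClasses.mk (a.symm_apply_apply n)
  let π : ConjClasses N ≃ ConjClasses N :=
    { toFun := ConjClasses.map (MulEquiv.toMonoidHom e⁻¹)
      invFun := ConjClasses.map (MulEquiv.toMonoidHom e)
      left_inv := fun C => by simpa only [inv_inv] using hmap e⁻¹ C
      right_inv := fun C => hmap e C }
  rw [Nat.card_congr (Equiv.subtypeEquivRight (q := fun C => π C = C) fun C =>
    (show ConjClasses.map (MulEquiv.toMonoidHom e) C = C ↔ π C = C from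
      ⟨fun h => π.eq_symm_apply.mp h.symm, fun h => (π.eq_symm_apply.mpr h).symm⟩)),
    ← brauer_permutation (fun θ => ⟨conjN N x (θ : N → ℂ), IsIrrCharacter.conjN θ.2 x⟩) π
      (fun θ g g' hg => by
        have h1 : IsConj g' (e⁻¹ g) := ConjClasses.mk_eq_mk_iff_isConj.mp hg
        obtain ⟨c, hc⟩ := isConj_iff.mp h1
        show conjN N x (θ : N → ℂ) g' = (θ : N → ℂ) g
        rw [conjN_eq_comp]
        refine classFunction_eq_of_isConj (isClassFunction_irr θ) (isConj_iff.mpr ⟨e c, ?_⟩)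
        rw [← map_inv, ← map_mul, ← map_mul, hc]
        exact e.apply_symm_apply g)]
  exact Nat.card_congr (Equiv.subtypeEquivRight fun θ => ⟨fun h => Subtype.ext h, fun h => congrArg Subtype.val h⟩)

variable (N : Subgroup G) [N.Normal]

/-- Outside `N` only the principal character is invariant, if centralisers lie in `N`. -/
theorem eq_one_of_conjN_eq (hC : ∀ n ∈ N, n ≠ 1 → Subgroup.centralizer ({n} : Set G) ≤ N)
    {x : G} (hx : x ∉ N) {θ : N → ℂ} (hθ : Cfsg.IsIrrCharacter N θ) (h : conjN N x θ = θ) :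
    θ = fun _ => 1 := by
  have hle : Nat.card {θ : Cfsg.IrrCharacter N // conjN N x (θ : N → ℂ) = θ} ≤ 1 := by
    rw [card_fixed_irr_conjN, Finite.card_le_one_iff_subsingleton]
    have key : ∀ C : ConjClasses N, ConjClasses.map
        (MulEquiv.toMonoidHom (MulAut.conjNormal x : MulAut N)) C = C → C = ConjClasses.mk 1 := by
      intro C hC'
      obtain ⟨n, rfl⟩ := ConjClasses.exists_rep C
      obtain ⟨c, hc⟩ := isConj_iff.mp (ConjClasses.mk_eq_mk_iff_isConj.mp hC').symm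
      by_contra hne
      have hn1 : (n : G) ≠ 1 := fun h1 => hne (by rw [show n = 1 from Subtype.ext h1])
      have h1 : (c : G)⁻¹ * x ∈ Subgroup.centralizer ({(n : G)} : Set G) := by
        have h0 : (c : G) * n * (c : G)⁻¹ = x * n * x⁻¹ := by
          simpa [MulAut.conjNormal_apply] using congrArg Subtype.val hc
        rw [Subgroup.mem_centralizer_singleton_iff]
        calc (c : G)⁻¹ * x * n = (c : G)⁻¹ * (x * n * x⁻¹) * x := by group
          _ = n * ((c : G)⁻¹ * x) := by rw [← h0]; group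
      exact hx (by simpa using N.mul_mem c.2 (hC n n.2 hn1 h1))
    exact ⟨fun ⟨C, hC⟩ ⟨D, hD⟩ => Subtype.ext ((key C hC).trans (key D hD).symm)⟩
  rw [Finite.card_le_one_iff_subsingleton] at hle
  have h1 : Cfsg.IsIrrCharacter N (fun _ => (1 : ℂ)) := by
    simpa using isIrrCharacter_linear (1 : N →* ℂˣ)
  exact congrArg (fun t : {θ : Cfsg.IrrCharacter N // conjN N x (θ : N → ℂ) = θ} => (t.1 : N → ℂ))
    (hle.elim ⟨⟨θ, hθ⟩, h⟩ ⟨⟨_, h1⟩, funext fun _ => rfl⟩)

/-- Induction from a Frobenius kernel. -/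
theorem isIrr_indFun_of_centralizer_le {G : Type u} [Group G] [Fintype G] (N : Subgroup G) [N.Normal]
    (hC : ∀ n ∈ N, n ≠ 1 → Subgroup.centralizer ({n} : Set G) ≤ N)
    {θ : N → ℂ} (hθ : Cfsg.IsIrrCharacter N θ) (hθ1 : θ ≠ fun _ => 1) :
    Cfsg.IsIrrCharacter G (Cfsg.indFun N θ) := by
  classical
  have := Fintype.ofFinite N
  refine isIrrCharacter_of_norm_one (IsCharacter.indFun (isCharacter_of_irr hθ)) ?_
  have h := classInner_indFun_eq_card N hθ hθ
  have hcard : Nat.card {g : G // conjN N g θ = θ} = Nat.card N := by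
    refine Nat.card_congr (Equiv.subtypeEquivRight fun g => ⟨fun hg => ?_, fun hg => ?_⟩)
    · by_contra hgN
      exact hθ1 (eq_one_of_conjN_eq N hC hgN hθ hg)
    · exact conjN_of_mem (isClassFunction_isChar (isCharacter_of_irr hθ)) ⟨g, hg⟩
  rw [hcard] at h
  exact (mul_eq_left₀ (by exact_mod_cast Nat.card_pos.ne')).mp h

/-- Centralisers inside `N` force `N` to be a Hall subgroup. -/
theorem coprime_of_centralizer_le
    (hC : ∀ n ∈ N, n ≠ 1 → Subgroup.centralizer ({n} : Set G) ≤ N) :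
    Nat.Coprime (Nat.card N) N.index := by
  refine Nat.coprime_of_dvd fun p hp hpN hpi => ?_
  have : Fact p.Prime := ⟨hp⟩
  obtain ⟨P⟩ := (inferInstance : Nonempty (Sylow p G))
  obtain ⟨⟨n, hn⟩, hno⟩ := exists_prime_orderOf_dvd_card' (G := N) p hpN
  have hno' : orderOf n = p := by rw [← hno, Subgroup.orderOf_mk]
  have hn1 : n ≠ 1 := fun h => by
    rw [h, orderOf_one] at hno'; exact hp.one_lt.ne hno'
  -- a conjugate of `n` lies in `P`
  have hz : IsPGroup p (Subgroup.zpowers n) := IsPGroup.of_card (n := 1) (by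
    rw [Nat.card_zpowers, hno', pow_one])
  obtain ⟨Q, hQ⟩ := hz.exists_le_sylow
  have hnt : ∃ z : G, z ∈ N ∧ z ≠ 1 ∧ z ∈ (Q : Subgroup G) ∧ ∀ y ∈ (Q : Subgroup G), y * z = z * y := by
    have hQp : IsPGroup p Q := Q.isPGroup'
    let M : Subgroup Q := N.subgroupOf Q
    have hM : M.Normal := Subgroup.Normal.subgroupOf inferInstance _
    have hMb : M ≠ ⊥ := fun hb => by
      have : (⟨n, hQ (Subgroup.mem_zpowers n)⟩ : Q) ∈ M := hn
      rw [hb] at this
      exact hn1 (congrArg Subtype.val (Subgroup.mem_bot.mp this))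
    have : Nontrivial M := (Subgroup.nontrivial_iff_ne_bot M).mpr hMb
    have hMdvd : p ∣ Nat.card M := by
      obtain ⟨k, hk⟩ := IsPGroup.iff_card.mp (hQp.to_subgroup M)
      have h1 := Finite.one_lt_card (α := M)
      cases k with
      | zero => rw [hk, pow_zero] at h1; exact absurd h1 (lt_irrefl _)
      | succ k => exact hk ▸ dvd_pow_self p k.succ_ne_zero
    have hfix : (1 : M) ∈ MulAction.fixedPoints (ConjAct Q) M := fun c => smul_one c
    have hPc : IsPGroup p (ConjAct Q) := hQp.of_equiv ConjAct.toConjAct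
    obtain ⟨b, hb, hb1⟩ := hPc.exists_fixed_point_of_prime_dvd_card_of_fixed_point M hMdvd hfix
    refine ⟨((b : Q) : G), b.2, fun h1 => hb1 (Subtype.ext (Subtype.ext h1)).symm, (b : Q).2,
      fun y hy => ?_⟩
    have h2 := congrArg (fun t : M => ((t : Q) : G)) (hb (ConjAct.toConjAct ⟨y, hy⟩))
    exact mul_inv_eq_iff_eq_mul.mp h2
  obtain ⟨z, hzN, hz1, -, hcomm⟩ := hnt
  have hQN : (Q : Subgroup G) ≤ N := fun y hy =>
    hC z hzN hz1 (Subgroup.mem_centralizer_singleton_iff.mpr (hcomm y hy))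
  exact Q.not_dvd_index (hpi.trans (Subgroup.index_dvd_of_le hQN))

/-- In a group with a fixed-point-free complement the centralisers lie in the kernel. -/
theorem centralizer_le_of_fpf (H : Subgroup G) (hKH' : N ⊔ H = ⊤)
    (hfpf : ∀ h ∈ H, h ≠ 1 → ∀ k ∈ N, h * k = k * h → k = 1) :
    (∀ n ∈ N, n ≠ 1 → Subgroup.centralizer ({n} : Set G) ≤ N) ∧
    ∀ g : G, g ∉ N → ∃ c ∈ N, ∃ h ∈ H, h ≠ 1 ∧ g = c * h * c⁻¹ := by
  have key : ∀ g : G, g ∉ N → ∃ c ∈ N, ∃ h ∈ H, h ≠ 1 ∧ g = c * h * c⁻¹ := by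
    intro g hg
    obtain ⟨k, hk, h, hh, rfl⟩ := Subgroup.mem_sup_of_normal_left.mp (hKH' ▸ Subgroup.mem_top g)
    have hh1 : h ≠ 1 := by rintro rfl; exact hg (by simpa using hk)
    let f : N → N := fun c => ⟨(c : G) * (h * (c : G)⁻¹ * h⁻¹),
      N.mul_mem c.2 (Subgroup.Normal.conj_mem inferInstance _ (N.inv_mem c.2) h)⟩
    have hinj : Function.Injective f := fun a b hab => by
      have h1 : (a : G) * (h * (a : G)⁻¹ * h⁻¹) = (b : G) * (h * (b : G)⁻¹ * h⁻¹) :=
        congrArg Subtype.val hab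
      refine Subtype.ext (inv_mul_eq_one.mp (hfpf h hh hh1 _ (N.mul_mem (N.inv_mem b.2) a.2) ?_)).symm
      calc h * ((b : G)⁻¹ * a)
          = (b : G)⁻¹ * ((b : G) * (h * (b : G)⁻¹ * h⁻¹)) * h * a := by group
        _ = (b : G)⁻¹ * ((a : G) * (h * (a : G)⁻¹ * h⁻¹)) * h * a := by rw [h1]
        _ = ((b : G)⁻¹ * a) * h := by group
    obtain ⟨c, hc⟩ := Finite.injective_iff_surjective.mp hinj ⟨k, hk⟩
    refine ⟨c, c.2, h, hh, hh1, ?_⟩
    rw [show k = (c : G) * (h * (c : G)⁻¹ * h⁻¹) from (congrArg Subtype.val hc).symm]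
    group
  refine ⟨fun n hn hn1 g hg => ?_, key⟩
  by_contra hgN
  obtain ⟨c, hc, h, hh, hh1, rfl⟩ := key g hgN
  rw [Subgroup.mem_centralizer_singleton_iff] at hg
  refine hn1 ?_
  have h2 : c⁻¹ * n * c = 1 := hfpf h hh hh1 _
    (by simpa using Subgroup.Normal.conj_mem inferInstance n hn c⁻¹) (by
      calc h * (c⁻¹ * n * c) = c⁻¹ * (c * h * c⁻¹ * n) * c := by group
        _ = c⁻¹ * (n * (c * h * c⁻¹)) * c := by rw [hg]
        _ = c⁻¹ * n * c * h := by group)
  calc n = c * (c⁻¹ * n * c) * c⁻¹ := by group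
    _ = 1 := by rw [h2]; group

end Cfsg.Lib.Chars
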