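import Cfsg.Agent.Chars.Gallagher

/-!
# Irreducibility tools, factorisation through quotients, induction along surjections
-/

namespace Cfsg.Lib.Chars

open scoped ComplexConjugate
open Module

universe u v

/-- A character is homogeneous on a subgroup if it restricts to a multiple of an irreducible. -/
def Homog {G : Type u} [Group G] (χ : G → ℂ) (M : Subgroup G) : Prop :=
  ∃ (θ : M → ℂ) (e : ℕ), Cfsg.IsIrrCharacter M θ ∧ (fun m : M => χ m) = (e : ℂ) • θ

variable {G : Type u} [Group G]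

theorem eq_zero_of_apply_one [Finite G] {f : G → ℂ} (hf : Cfsg.IsCharacter G f) (h : f 1 = 0) :
    f = 0 := by
  classical
  obtain ⟨m, rfl⟩ := IsCharacter.exists_decomp hf
  rw [Finset.sum_apply] at h
  simp only [Pi.smul_apply, nsmul_eq_mul, irr_apply_one_eq_deg] at h
  have h' : ∑ χ : Cfsg.IrrCharacter G, m χ * deg (χ : G → ℂ) = 0 := by exact_mod_cast h
  refine Finset.sum_eq_zero fun χ hχ => ?_
  have := (mul_eq_zero.mp (Finset.sum_eq_zero_iff.mp h' χ hχ)).resolve_right (deg_irr_pos χ).ne'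
  simp [this]

theorem not_irr_add [Finite G] {a b : G → ℂ} (ha : Cfsg.IsCharacter G a) (hb : Cfsg.IsCharacter G b)
    (ha1 : a 1 ≠ 0) (hb1 : b 1 ≠ 0) : ¬ Cfsg.IsIrrCharacter G (a + b) := by
  intro h
  have := Fintype.ofFinite G
  have h1 := classInner_self_irr h
  rw [classInner_add_left, classInner_add_right, classInner_add_right] at h1
  obtain ⟨p, hp, hp'⟩ := classInner_char_self_pos ha ha1
  obtain ⟨q, hq, hq'⟩ := classInner_char_self_pos hb hb1
  obtain ⟨r, hr⟩ := classInner_char_nat ha hb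
  obtain ⟨s, hs⟩ := classInner_char_nat hb ha
  rw [hp', hq', hr, hs] at h1
  have : p + r + (s + q) = 1 := by exact_mod_cast h1
  omega

theorem exists_split_of_not_irr [Finite G] {f : G → ℂ} (hf : Cfsg.IsCharacter G f) (h1 : f 1 ≠ 0)
    (hn : ¬ Cfsg.IsIrrCharacter G f) : ∃ a b : G → ℂ, Cfsg.IsCharacter G a ∧
      Cfsg.IsCharacter G b ∧ a 1 ≠ 0 ∧ b 1 ≠ 0 ∧ f = a + b := by
  classical
  obtain ⟨m, hm⟩ := IsCharacter.exists_decomp hf
  have hex : ∃ χ, m χ ≠ 0 := by
    by_contra hno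
    push Not at hno
    exact h1 (by rw [hm]; simp [hno, Finset.sum_apply])
  obtain ⟨χ, hχ⟩ := hex
  set b : G → ℂ := (∑ ψ ∈ Finset.univ.erase χ, m ψ • (ψ : G → ℂ)) + (m χ - 1) • (χ : G → ℂ)
  have hb : Cfsg.IsCharacter G b := IsCharacter.add
    (IsCharacter.sum _ _ fun ψ _ => IsCharacter.nsmul (isCharacter_of_irr ψ.2) _)
    (IsCharacter.nsmul (isCharacter_of_irr χ.2) _)
  have hf' : f = (χ : G → ℂ) + b := by
    rw [hm, ← Finset.add_sum_erase _ _ (Finset.mem_univ χ)]
    obtain ⟨k, hk⟩ := Nat.exists_eq_succ_of_ne_zero hχ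
    simp only [b, hk, Nat.succ_sub_one, succ_nsmul]
    abel
  refine ⟨χ, b, isCharacter_of_irr χ.2, hb, IsIrrCharacter.apply_one_ne_zero χ.2, fun h0 => hn ?_, hf'⟩
  rw [hf', eq_zero_of_apply_one hb h0, add_zero]
  exact χ.2

theorem irr_of_indFun_irr [Fintype G] (H : Subgroup G) {ψ : H → ℂ} (hψ : Cfsg.IsCharacter H ψ)
    (h : Cfsg.IsIrrCharacter G (Cfsg.indFun H ψ)) : Cfsg.IsIrrCharacter H ψ := by
  by_contra hn
  have hne : ψ 1 ≠ 0 := fun h0 => IsIrrCharacter.apply_one_ne_zero h (by rw [indFun_one, h0, mul_zero])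
  obtain ⟨a, b, ha, hb, ha1, hb1, rfl⟩ := exists_split_of_not_irr hψ hne hn
  rw [indFun_add] at h
  refine not_irr_add (IsCharacter.indFun ha) (IsCharacter.indFun hb) ?_ ?_ h <;> rw [indFun_one]
  · exact mul_ne_zero (by exact_mod_cast H.index_ne_zero_of_finite) ha1
  · exact mul_ne_zero (by exact_mod_cast H.index_ne_zero_of_finite) hb1

theorem irr_of_mul_irr [Finite G] {c f : G → ℂ} (hc : Cfsg.IsCharacter G c)
    (hf : Cfsg.IsCharacter G f) (h : Cfsg.IsIrrCharacter G (c * f)) : Cfsg.IsIrrCharacter G f := by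
  by_contra hn
  have h1 := IsIrrCharacter.apply_one_ne_zero h
  rw [Pi.mul_apply, mul_ne_zero_iff] at h1
  obtain ⟨a, b, ha, hb, ha1, hb1, rfl⟩ := exists_split_of_not_irr hf h1.2 hn
  rw [mul_add] at h
  exact not_irr_add (IsCharacter.mul hc ha) (IsCharacter.mul hc hb)
    (mul_ne_zero h1.1 ha1) (mul_ne_zero h1.1 hb1) h

theorem irr_of_comp_irr [Finite G] {H : Type v} [Group H] [Finite H] {f : G → ℂ}
    (hf : Cfsg.IsCharacter G f) (i : H →* G) (h : Cfsg.IsIrrCharacter H (fun x => f (i x))) :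
    Cfsg.IsIrrCharacter G f := by
  by_contra hn
  have h1 : f 1 ≠ 0 := by
    have := IsIrrCharacter.apply_one_ne_zero h
    rwa [map_one] at this
  obtain ⟨a, b, ha, hb, ha1, hb1, rfl⟩ := exists_split_of_not_irr hf h1 hn
  exact not_irr_add (IsCharacter.comp_hom ha i) (IsCharacter.comp_hom hb i)
    (by rwa [map_one]) (by rwa [map_one]) h

theorem eq_of_inner_ne_zero_of_deg [Fintype G] {f χ : G → ℂ} (hf : Cfsg.IsCharacter G f)
    (hχ : Cfsg.IsIrrCharacter G χ) (hne : Cfsg.classInner f χ ≠ 0) (hdeg : f 1 = χ 1) : f = χ := by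
  classical
  obtain ⟨m, hm⟩ := IsCharacter.exists_decomp hf
  have hmχ : m ⟨χ, hχ⟩ ≠ 0 := fun h => hne (by
    rw [hm]
    simp only [← Nat.cast_smul_eq_nsmul ℂ]
    rw [classInner_irrSum (fun ψ => (m ψ : ℂ)) ⟨χ, hχ⟩, h, Nat.cast_zero])
  obtain ⟨k, hk⟩ := Nat.exists_eq_succ_of_ne_zero hmχ
  have hsplit : f = χ + ((k • χ) + ∑ ψ ∈ Finset.univ.erase ⟨χ, hχ⟩, m ψ • (ψ : G → ℂ)) := by
    rw [hm, ← Finset.add_sum_erase _ _ (Finset.mem_univ (⟨χ, hχ⟩ : Cfsg.IrrCharacter G)), hk,
      succ_nsmul', add_assoc]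
  have hb : Cfsg.IsCharacter G ((k • χ) + ∑ ψ ∈ Finset.univ.erase ⟨χ, hχ⟩, m ψ • (ψ : G → ℂ)) :=
    IsCharacter.add (IsCharacter.nsmul (isCharacter_of_irr hχ) _)
      (IsCharacter.sum _ _ fun ψ _ => IsCharacter.nsmul (isCharacter_of_irr ψ.2) _)
  have h1 := congrFun hsplit 1
  rw [Pi.add_apply, hdeg, left_eq_add] at h1
  rw [hsplit, eq_zero_of_apply_one hb h1, add_zero]

/-- A value with maximal real part is the degree. -/
theorem IsCharacter.eq_apply_one_of_re_eq [Finite G] {f : G → ℂ} (hf : Cfsg.IsCharacter G f)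
    {g : G} (h : (f g).re = (f 1).re) : f g = f 1 := by
  obtain ⟨d, hd⟩ := IsCharacter.apply_one hf
  have hn : ‖f g‖ ≤ (d : ℝ) := (IsCharacter.norm_le hf g).trans (le_of_eq (by rw [hd]; simp))
  rw [hd, Complex.natCast_re] at h
  have him : (f g).im = 0 := by
    have h6 := Complex.sq_norm (f g)
    rw [Complex.normSq_apply, h] at h6
    nlinarith [norm_nonneg (f g), mul_self_nonneg (f g).im]
  rw [hd]
  exact Complex.ext (by rw [h]; simp) (by rw [him]; simp)

theorem IsCharacter.re_le [Finite G] {f : G → ℂ} (hf : Cfsg.IsCharacter G f) (g : G) :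
    (f g).re ≤ (f 1).re := by
  obtain ⟨d, hd⟩ := IsCharacter.apply_one hf
  exact (Complex.re_le_norm _).trans ((IsCharacter.norm_le hf g).trans (le_of_eq (by simp [hd])))

/-- A character constant on a kernel factors through the quotient. -/
theorem exists_factor [Finite G] {Q : Type v} [Group Q] (f : G →* Q) (hf : Function.Surjective f)
    {b : G → ℂ} (hb : Cfsg.IsCharacter G b) (hker : ∀ k ∈ f.ker, b k = b 1) :
    ∃ b' : Q → ℂ, Cfsg.IsCharacter Q b' ∧ b = fun x => b' (f x) := by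
  obtain ⟨n, ρ, rfl⟩ := hb
  have hle : f.ker ≤ ρ.ker := fun k hk =>
    (eq_id_of_character_eq_finrank ρ k).mp (by rw [hker k hk, ρ.char_one])
  let ρ' : Representation ℂ (G ⧸ f.ker) (Fin n → ℂ) := QuotientGroup.lift f.ker ρ hle
  let e : Q →* G ⧸ f.ker := (QuotientGroup.quotientKerEquivOfSurjective f hf).symm.toMonoidHom
  let σ : Representation ℂ Q (Fin n → ℂ) := MonoidHom.comp ρ' e
  refine ⟨σ.character, ⟨n, σ, rfl⟩, funext fun x => ?_⟩
  have he : e (f x) = QuotientGroup.mk' f.ker x :=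
    (QuotientGroup.quotientKerEquivOfSurjective f hf).symm_apply_eq.mpr rfl
  show ρ.character x = ρ'.character (e (f x))
  rw [he]
  rfl

/-- Induction commutes with inflation along a surjection. -/
theorem indFun_comap [Fintype G] {Q : Type v} [Group Q] [Fintype Q] (f : G →* Q)
    (hf : Function.Surjective f) (H : Subgroup Q) (ψ : H → ℂ) (g : G) :
    Cfsg.indFun (H.comap f) (fun x => ψ ⟨f x, x.2⟩) g = Cfsg.indFun H ψ (f g) := by
  classical
  rw [indFun_apply, indFun_apply]
  have hval : ∀ x : G, Cfsg.extendByZero (H.comap f) (fun x => ψ ⟨f x, x.2⟩) (x⁻¹ * g * x) =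
      Cfsg.extendByZero H ψ ((f x)⁻¹ * f g * f x) := fun x => by
    rw [← map_inv, ← map_mul, ← map_mul]
    by_cases hh : f (x⁻¹ * g * x) ∈ H
    · rw [extendByZero_mem _ (show x⁻¹ * g * x ∈ H.comap f from hh), extendByZero_mem _ hh]
    · rw [extendByZero_not_mem _ (show x⁻¹ * g * x ∉ H.comap f from hh), extendByZero_not_mem _ hh]
  have hfib : ∀ q : Q, (Finset.univ.filter fun x : G => f x = q).card = Nat.card f.ker := by
    intro q
    obtain ⟨z, rfl⟩ := hf q
    rw [Nat.card_eq_fintype_card, ← Fintype.card_subtype]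
    refine Fintype.card_congr ((Equiv.mulLeft z⁻¹).subtypeEquiv fun x => ?_)
    rw [Equiv.coe_mulLeft, MonoidHom.mem_ker, map_mul, map_inv, inv_mul_eq_one, eq_comm]
  have hsum : ∑ x : G, Cfsg.extendByZero (H.comap f) (fun x => ψ ⟨f x, x.2⟩) (x⁻¹ * g * x) =
      (Nat.card f.ker : ℂ) * ∑ q : Q, Cfsg.extendByZero H ψ (q⁻¹ * f g * q) := by
    rw [← Finset.sum_fiberwise Finset.univ f, Finset.mul_sum]
    refine Finset.sum_congr rfl fun q _ => ?_
    rw [Finset.sum_congr rfl (g := fun _ => Cfsg.extendByZero H ψ (q⁻¹ * f g * q))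
      (fun x hx => by rw [hval, (Finset.mem_filter.mp hx).2]), Finset.sum_const, hfib, nsmul_eq_mul]
  have hcard : Nat.card (H.comap f) = Nat.card H * Nat.card f.ker := by
    have h1 := (H.comap f).card_mul_index
    rw [Subgroup.index_comap_of_surjective H hf] at h1
    have h2 := f.ker.card_mul_index
    rw [Subgroup.index_ker, MonoidHom.range_eq_top.mpr hf, Subgroup.card_top, ← H.card_mul_index] at h2
    apply Nat.eq_of_mul_eq_mul_right (Nat.pos_of_ne_zero H.index_ne_zero_of_finite)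
    rw [h1, ← h2]; ring
  rw [hsum, hcard, Nat.cast_mul]
  have hA : (Nat.card f.ker : ℂ) ≠ 0 := by exact_mod_cast Nat.card_pos.ne'
  field_simp

/-- An induced character inflated from a quotient is induced in the quotient. -/
theorem exists_descend_indFun [Fintype G] {Q : Type v} [Group Q] [Fintype Q] (f : G →* Q)
    (hf : Function.Surjective f) (T : Subgroup G) (hker : f.ker ≤ T) {b₀ : T → ℂ}
    (hb₀ : Cfsg.IsCharacter T b₀) {β : Q → ℂ}
    (h : Cfsg.indFun T b₀ = fun x => β (f x)) :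
    ∃ b' : T.map f → ℂ, Cfsg.IsCharacter (T.map f) b' ∧ Cfsg.indFun (T.map f) b' = β := by
  classical
  have hsub : ∀ k ∈ f.ker, ∀ hk : k ∈ T, b₀ ⟨k, hk⟩ = b₀ 1 := by
    intro k hk hkT
    have hconj : ∀ x : G, x⁻¹ * k * x ∈ T := fun x => hker (by
      simpa using (inferInstance : f.ker.Normal).conj_mem k hk x⁻¹)
    have e1 : Cfsg.indFun T b₀ k = Cfsg.indFun T b₀ 1 := by
      rw [h]
      show β (f k) = β (f 1)
      rw [MonoidHom.mem_ker.mp hk, map_one]
    rw [indFun_apply, indFun_apply] at e1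
    have e2 := mul_left_cancel₀ (inv_ne_zero (by exact_mod_cast Nat.card_pos.ne')) e1
    rw [Finset.sum_congr rfl (g := fun x => b₀ ⟨x⁻¹ * k * x, hconj x⟩)
      (fun x _ => extendByZero_mem _ (hconj x)),
      Finset.sum_congr rfl (s₁ := Finset.univ) (g := fun _ : G => b₀ 1)
      (fun x _ => show Cfsg.extendByZero T b₀ (x⁻¹ * 1 * x) = b₀ 1 by
        rw [mul_one, inv_mul_cancel, extendByZero_mem _ T.one_mem]; rfl)] at e2
    have e3 := congrArg Complex.re e2
    rw [Complex.re_sum, Complex.re_sum] at e3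
    have e4 := (Finset.sum_eq_sum_iff_of_le fun x _ => IsCharacter.re_le hb₀ _).mp e3 1 (Finset.mem_univ _)
    have e5 := IsCharacter.eq_apply_one_of_re_eq hb₀ e4
    rw [← e5]
    congr 1
    apply Subtype.ext
    simp
  obtain ⟨b', hb', hfac⟩ := exists_factor (f.subgroupMap T) (f.subgroupMap_surjective T) hb₀
    (fun k hk => by
      have hk' : (k : G) ∈ f.ker := congrArg Subtype.val hk
      exact hsub k hk' k.2)
  refine ⟨b', hb', funext fun q => ?_⟩
  obtain ⟨g, rfl⟩ := hf q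
  have hT : (T.map f).comap f = T := Subgroup.comap_map_eq_self hker
  rw [← indFun_comap f hf (T.map f) b' g, ← show Cfsg.indFun T b₀ g = β (f g) from congrFun h g]
  have key : ∀ (U : Subgroup G), U = T → ∀ hU : ∀ x : U, f x ∈ T.map f,
      Cfsg.indFun U (fun x => b' ⟨f x, hU x⟩) g = Cfsg.indFun T b₀ g := by
    rintro U rfl hU
    rw [hfac]
    rfl
  exact key _ hT fun x => x.2

/-- Products with an extension: irreducibility and cancellation. -/
theorem gallagher_trivial [Fintype G] (N : Subgroup G) [N.Normal] {η : G → ℂ}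
    (hη : Cfsg.IsIrrCharacter G η) (hηN : Cfsg.IsIrrCharacter N (fun n : N => η n)) {a b : G → ℂ}
    (ha : Cfsg.IsIrrCharacter G a) (hb : Cfsg.IsIrrCharacter G b)
    (haN : ∀ n : N, a n = a 1) (hbN : ∀ n : N, b n = b 1) :
    Cfsg.IsIrrCharacter G (a * η) ∧ (a * η = b * η → a = b) := by
  classical
  have := Fintype.ofFinite N
  have hmul : ((fun _ => 1) * fun n : N => η n) = fun n : N => η n := one_mul _
  have hbij := gallagher N isIrrCharacter_one (fun g => funext fun n => rfl) hη (by rwa [hmul])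
  have hmem : ∀ c : G → ℂ, Cfsg.IsIrrCharacter G c → (∀ n : N, c n = c 1) →
      Cfsg.classInner (Cfsg.indFun N (fun _ => 1)) c ≠ 0 := fun c hc hcN => by
    rw [frobenius_reciprocity N _ (isClassFunction_isChar (isCharacter_of_irr hc)),
      show (fun n : N => c n) = c 1 • (fun _ => (1 : ℂ)) from funext fun n => by simp [hcN n],
      classInner_smul_right, classInner_self_irr isIrrCharacter_one, mul_one]
    exact (map_ne_zero _).mpr (IsIrrCharacter.apply_one_ne_zero hc)
  exact ⟨(hbij.mapsTo ⟨ha, hmem a ha haN⟩).1,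
    fun h => hbij.injOn ⟨ha, hmem a ha haN⟩ ⟨hb, hmem b hb hbN⟩ h⟩

/-- Characters over an extendible character are products. -/
theorem exists_factor_extension [Fintype G] (N : Subgroup G) [N.Normal] {η : G → ℂ}
    (hη : Cfsg.IsIrrCharacter G η) (hηN : Cfsg.IsIrrCharacter N (fun n : N => η n)) {χ : G → ℂ}
    (hχ : Cfsg.IsIrrCharacter G χ) {e : ℕ} (hres : ∀ n : N, χ n = (e : ℂ) * η n) :
    ∃ b : G → ℂ, Cfsg.IsIrrCharacter G b ∧ χ = b * η ∧ ∀ n : N, b n = b 1 := by
  classical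
  have := Fintype.ofFinite N
  have he : (e : ℂ) ≠ 0 := fun h0 => IsIrrCharacter.apply_one_ne_zero hχ (by
    rw [show χ 1 = χ ((1 : N) : G) from rfl, hres, h0, zero_mul])
  have hmul : ((fun _ => 1) * fun n : N => η n) = fun n : N => η n := one_mul _
  have hbij := gallagher N isIrrCharacter_one (fun g => funext fun n => rfl) hη (by rwa [hmul])
  have hmemχ : Cfsg.classInner (Cfsg.indFun N ((fun _ => 1) * fun n : N => η n)) χ ≠ 0 := by
    rw [hmul, frobenius_reciprocity N _ (isClassFunction_isChar (isCharacter_of_irr hχ)),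
      show (fun n : N => χ n) = (e : ℂ) • (fun n : N => η n) from funext hres,
      classInner_smul_right, classInner_self_irr hηN, mul_one, Complex.conj_natCast]
    exact he
  obtain ⟨b, ⟨hb, hb0⟩, hbe⟩ := hbij.surjOn ⟨hχ, hmemχ⟩
  refine ⟨b, hb, hbe.symm, ?_⟩
  rw [frobenius_reciprocity N _ (isClassFunction_isChar (isCharacter_of_irr hb)),
    ← classInner_conj_symm, map_ne_zero] at hb0
  obtain ⟨k, -, hk⟩ := restrict_eq_mult_of_invariant N hb isIrrCharacter_one (fun g => funext fun n => rfl) hb0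
  intro n
  have h1 := congrFun hk n
  have h2 := congrFun hk 1
  simp only [Pi.smul_apply, OneMemClass.coe_one] at h1 h2
  rw [h1, h2]

end Cfsg.Lib.Chars
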