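import Cfsg.Agent.Chars.Values

/-!
# Galois action on characters
-/

namespace Cfsg.Lib.Chars

open scoped ComplexConjugate
open Module

universe u v

/-- The standard primitive `m`-th root of unity. -/
noncomputable def zetaC (m : ℕ) : ℂ := Complex.exp (2 * Real.pi * Complex.I / m)

theorem isPrimitiveRoot_zetaC (m : ℕ) [NeZero m] : IsPrimitiveRoot (zetaC m) m :=
  Complex.isPrimitiveRoot_exp m (NeZero.ne m)

/-- The `m`-th cyclotomic subfield of `ℂ`. -/
noncomputable def cycField (m : ℕ) : IntermediateField ℚ ℂ :=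
  IntermediateField.adjoin ℚ {zetaC m}

theorem mem_cycField_of_pow_eq_one (m : ℕ) [NeZero m] {z : ℂ} (hz : z ^ m = 1) :
    z ∈ cycField m := by
  obtain ⟨i, -, rfl⟩ := (isPrimitiveRoot_zetaC m).eq_pow_of_pow_eq_one hz
  exact pow_mem (IntermediateField.mem_adjoin_simple_self ℚ _) i

instance instCycFieldCyclotomic (m : ℕ) [NeZero m] :
    IsCyclotomicExtension {m} ℚ (cycField m) := by
  have hζ := isPrimitiveRoot_zetaC m
  change IsCyclotomicExtension {m} ℚ (IntermediateField.adjoin ℚ {zetaC m}).toSubalgebra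
  rw [IntermediateField.adjoin_simple_toSubalgebra_of_isAlgebraic
    ((hζ.isIntegral (NeZero.pos m)).tower_top.isAlgebraic)]
  exact hζ.adjoin_isCyclotomicExtension ℚ

theorem finiteDimensional_cycField (m : ℕ) [NeZero m] : FiniteDimensional ℚ (cycField m) :=
  IsCyclotomicExtension.finiteDimensional {m} ℚ (cycField m)

theorem isGalois_cycField (m : ℕ) [NeZero m] : IsGalois ℚ (cycField m) :=
  IsCyclotomicExtension.isGalois {m} ℚ (cycField m)

/-- Automorphisms of subfields of `ℂ` extend to `ℂ`. -/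
theorem exists_extend_auto (E : IntermediateField ℚ ℂ) (τ : E ≃ₐ[ℚ] E) :
    ∃ σ : ℂ ≃+* ℂ, ∀ x : E, σ (x : ℂ) = (τ x : ℂ) := by
  obtain ⟨s, hs⟩ := exists_isTranscendenceBasis E ℂ
  let v : s → ℂ := Subtype.val
  let : IsAlgClosure (Algebra.adjoin E (Set.range v)) ℂ :=
    IsAlgClosed.isAlgClosure_of_transcendence_basis v hs
  let e : Algebra.adjoin E (Set.range v) ≃+* Algebra.adjoin E (Set.range v) :=
    hs.1.aevalEquiv.symm.toRingEquiv.trans
      ((MvPolynomial.mapEquiv s τ.toRingEquiv).trans hs.1.aevalEquiv.toRingEquiv)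
  refine ⟨IsAlgClosure.equivOfEquiv ℂ ℂ e, fun x => ?_⟩
  have h := IsAlgClosure.equivOfEquiv_algebraMap ℂ ℂ e
    (algebraMap E (Algebra.adjoin E (Set.range v)) x)
  have he : e (algebraMap E (Algebra.adjoin E (Set.range v)) x) =
      algebraMap E (Algebra.adjoin E (Set.range v)) (τ x) := by
    simp only [e, RingEquiv.trans_apply, AlgEquiv.coe_ringEquiv,
      AlgEquiv.commutes, MvPolynomial.algebraMap_eq, MvPolynomial.mapEquiv_apply,
      MvPolynomial.map_C]
    rw [← MvPolynomial.algebraMap_eq, AlgEquiv.commutes]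
    rfl
  rw [he] at h
  exact h

/-- `σ` raises every `m`-th root of unity to the `k`-th power. -/
def IsGalConj (σ : ℂ ≃+* ℂ) (m k : ℕ) : Prop := ∀ z : ℂ, z ^ m = 1 → σ z = z ^ k

theorem exists_galConj_auto {m k : ℕ} [NeZero m] (hk : k.Coprime m) :
    ∃ σ : ℂ ≃+* ℂ, IsGalConj σ m k := by
  have hirr := Polynomial.cyclotomic.irreducible_rat (NeZero.pos m)
  set ζ := IsCyclotomicExtension.zeta m ℚ (cycField m) with hζdef
  have hζ : IsPrimitiveRoot ζ m := IsCyclotomicExtension.zeta_spec m ℚ (cycField m)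
  let τ : (cycField m) ≃ₐ[ℚ] (cycField m) :=
    IsCyclotomicExtension.fromZetaAut (hζ.pow_of_coprime k hk) hirr
  obtain ⟨σ, hσ⟩ := exists_extend_auto (cycField m) τ
  refine ⟨σ, fun z hz => ?_⟩
  have hζC : IsPrimitiveRoot ((ζ : cycField m) : ℂ) m :=
    hζ.map_of_injective (f := (cycField m).val) (cycField m).val.injective
  obtain ⟨i, -, rfl⟩ := hζC.eq_pow_of_pow_eq_one hz
  rw [map_pow, hσ]
  have : τ ζ = ζ ^ k := IsCyclotomicExtension.fromZetaAut_spec _ hirr
  rw [this, SubmonoidClass.coe_pow, ← pow_mul, ← pow_mul, mul_comm]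

theorem exists_galConj_of_auto {m : ℕ} [NeZero m] (τ : (cycField m) ≃ₐ[ℚ] (cycField m))
    (σ : ℂ ≃+* ℂ) (hσ : ∀ x : cycField m, σ (x : ℂ) = (τ x : ℂ)) :
    ∃ k : ℕ, k.Coprime m ∧ IsGalConj σ m k := by
  have hζ := isPrimitiveRoot_zetaC m
  have h2 : IsPrimitiveRoot (σ (zetaC m)) m := hζ.map_of_injective σ.injective
  obtain ⟨k, -, hk⟩ := hζ.eq_pow_of_pow_eq_one h2.pow_eq_one
  refine ⟨k, (hζ.pow_iff_coprime (NeZero.pos m) k).mp (hk ▸ h2), fun z hz => ?_⟩
  obtain ⟨i, -, rfl⟩ := hζ.eq_pow_of_pow_eq_one hz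
  rw [map_pow, ← hk, ← pow_mul, ← pow_mul, mul_comm]

/-- An element of the cyclotomic field fixed by all Galois automorphisms is rational. -/
theorem rat_of_galConj_fixed {m : ℕ} [NeZero m] {z : ℂ} (hz : z ∈ cycField m)
    (h : ∀ (σ : ℂ ≃+* ℂ) (k : ℕ), k.Coprime m → IsGalConj σ m k → σ z = z) :
    ∃ q : ℚ, z = (q : ℂ) := by
  have := finiteDimensional_cycField m
  have := isGalois_cycField m
  have hfix : ∀ τ : (cycField m) ≃ₐ[ℚ] (cycField m), τ ⟨z, hz⟩ = ⟨z, hz⟩ := by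
    intro τ
    obtain ⟨σ, hσ⟩ := exists_extend_auto _ τ
    obtain ⟨k, hk, hg⟩ := exists_galConj_of_auto τ σ hσ
    apply Subtype.ext
    rw [← hσ]
    exact h σ k hk hg
  obtain ⟨q, hq⟩ := IntermediateField.mem_bot.mp
    ((IsGalois.mem_bot_iff_fixed _).mpr hfix)
  refine ⟨q, ?_⟩
  have := congrArg (fun x : cycField m => (x : ℂ)) hq
  simpa using this.symm

/-! ## Characters -/

variable {G : Type u} [Group G]

/-- An irreducible character of an abelian group is linear. -/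
theorem irr_deg_one_of_comm (hG : ∀ a b : G, a * b = b * a) {χ : G → ℂ}
    (h : Cfsg.IsIrrCharacter G χ) : χ 1 = 1 := by
  obtain ⟨n, ρ, hρ, rfl⟩ := h
  have : IsMulCommutative G := ⟨⟨hG⟩⟩
  rw [ρ.char_one, Representation.IsIrreducible.finrank_eq_one_of_isMulCommutative ρ, Nat.cast_one]

/-- The restriction of a character to a cyclic subgroup, in terms of roots of unity. -/
theorem IsCharacter.exists_cyclic_decomp [Finite G] {χ : G → ℂ} (hχ : Cfsg.IsCharacter G χ)
    (g : G) :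
    ∃ (ι : Type u) (_ : Fintype ι) (c : ι → ℕ) (z : ι → ℂ), (∀ i, z i ^ orderOf g = 1) ∧
      ∀ j : ℕ, χ (g ^ j) = ∑ i, (c i : ℂ) * z i ^ j := by
  obtain ⟨c, hc⟩ := IsCharacter.exists_decomp (IsCharacter.restrict hχ (Subgroup.zpowers g))
  have hlin : ∀ ψ : Cfsg.IrrCharacter (Subgroup.zpowers g), ∃ f : Subgroup.zpowers g →* ℂˣ,
      (ψ : Subgroup.zpowers g → ℂ) = fun x => (f x : ℂ) := fun ψ =>
    exists_hom_of_deg_one (isCharacter_of_irr ψ.2)
      (irr_deg_one_of_comm (fun a b => Subtype.ext (by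
        obtain ⟨⟨x, ⟨i, rfl⟩⟩, ⟨y, ⟨j, rfl⟩⟩⟩ := a, b
        exact zpow_mul_comm g i j)) ψ.2)
  choose f hf using hlin
  refine ⟨_, inferInstance, c, fun ψ => (f ψ ⟨g, Subgroup.mem_zpowers g⟩ : ℂ), fun ψ => ?_,
    fun j => ?_⟩
  · rw [← Units.val_pow_eq_pow_val, ← map_pow,
      show (⟨g, Subgroup.mem_zpowers g⟩ : Subgroup.zpowers g) ^ orderOf g = 1 from
        Subtype.ext (by simp [pow_orderOf_eq_one]), map_one, Units.val_one]
  · have := congrFun hc ((⟨g, Subgroup.mem_zpowers g⟩ : Subgroup.zpowers g) ^ j)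
    simp only [SubmonoidClass.coe_pow, Finset.sum_apply, Pi.smul_apply, nsmul_eq_mul] at this
    rw [this]
    exact Finset.sum_congr rfl fun ψ _ => by
      rw [hf ψ, Pi.mul_apply]
      simp only [Pi.natCast_apply]
      rw [← Units.val_pow_eq_pow_val, ← map_pow]

theorem IsCharacter.mem_cycField [Finite G] {χ : G → ℂ} (hχ : Cfsg.IsCharacter G χ) {m : ℕ}
    [NeZero m] {g : G} (hg : orderOf g ∣ m) : χ g ∈ cycField m := by
  obtain ⟨ι, _, c, z, hz, h⟩ := IsCharacter.exists_cyclic_decomp hχ g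
  have h1 := h 1
  rw [pow_one] at h1
  rw [h1]
  refine sum_mem fun i _ => ?_
  rw [pow_one]
  refine mul_mem (natCast_mem _ _) (mem_cycField_of_pow_eq_one m ?_)
  obtain ⟨d, rfl⟩ := hg
  rw [pow_mul, hz, one_pow]

theorem IsGalConj.apply_character [Finite G] {σ : ℂ ≃+* ℂ} {m k : ℕ} (hσ : IsGalConj σ m k)
    {χ : G → ℂ} (hχ : Cfsg.IsCharacter G χ) {g : G} (hg : orderOf g ∣ m) :
    σ (χ g) = χ (g ^ k) := by
  obtain ⟨ι, _, c, z, hz, h⟩ := IsCharacter.exists_cyclic_decomp hχ g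
  have h1 := h 1
  rw [pow_one] at h1
  rw [h k, h1, map_sum]
  refine Finset.sum_congr rfl fun i _ => ?_
  obtain ⟨d, rfl⟩ := hg
  rw [map_mul, map_natCast, pow_one, hσ (z i) (by rw [pow_mul, hz, one_pow])]

/-- Applying a field automorphism to a character gives a character. -/
theorem IsCharacter.map_auto {χ : G → ℂ} (hχ : Cfsg.IsCharacter G χ) (σ : ℂ ≃+* ℂ) :
    Cfsg.IsCharacter G (fun g => σ (χ g)) := by
  obtain ⟨n, ρ, rfl⟩ := hχ
  let M : G →* Matrix (Fin n) (Fin n) ℂ :=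
    (σ.toRingHom.mapMatrix.toMonoidHom).comp
      ((LinearMap.toMatrixAlgEquiv' (R := ℂ) (n := Fin n)).toAlgHom.toMonoidHom.comp ρ)
  let ρ' : Representation ℂ G (Fin n → ℂ) :=
    ((Matrix.toLinAlgEquiv' (R := ℂ) (n := Fin n)).toAlgHom.toMonoidHom).comp M
  refine ⟨n, ρ', funext fun g => ?_⟩
  have h1 : ∀ T : (Fin n → ℂ) →ₗ[ℂ] (Fin n → ℂ),
      LinearMap.trace ℂ _ T = (LinearMap.toMatrix' T).trace := fun T => by
    rw [LinearMap.trace_eq_matrix_trace ℂ (Pi.basisFun ℂ (Fin n))]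
    rw [LinearMap.toMatrix_eq_toMatrix']
  have h2 : LinearMap.toMatrix' (ρ' g) = (LinearMap.toMatrix' (ρ g)).map σ := by
    show LinearMap.toMatrix' (Matrix.toLinAlgEquiv' ((LinearMap.toMatrix' (ρ g)).map σ)) = _
    exact LinearMap.toMatrix'_toLin' _
  show LinearMap.trace ℂ _ (ρ' g) = σ (LinearMap.trace ℂ _ (ρ g))
  rw [h1, h1, h2]
  simp [Matrix.trace, map_sum]

theorem IsIrrCharacter.map_auto [Finite G] {χ : G → ℂ} (hχ : Cfsg.IsIrrCharacter G χ)
    (σ : ℂ ≃+* ℂ) : Cfsg.IsIrrCharacter G (fun g => σ (χ g)) := by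
  have := Fintype.ofFinite G
  have hc := isCharacter_of_irr hχ
  have hc' := IsCharacter.map_auto hc σ
  refine isIrrCharacter_of_norm_one hc' ?_
  have hnorm := classInner_self_irr hχ
  have h1 : Cfsg.classInner (fun g => σ (χ g)) (fun g => σ (χ g)) = σ (Cfsg.classInner χ χ) := by
    rw [classInner_def, classInner_def, map_mul, map_inv₀, map_natCast, map_sum]
    congr 1
    refine Finset.sum_congr rfl fun g _ => ?_
    rw [map_mul, ← IsCharacter.conj_inv hc' g, ← IsCharacter.conj_inv hc g]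
  rw [h1, hnorm, map_one]

end Cfsg.Lib.Chars
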