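import Cfsg.Agent.Chars.Clifford

/-!
# Inertia groups and the Clifford correspondence
-/

namespace Cfsg.Lib.Chars

open scoped ComplexConjugate

universe u

variable {G : Type u} [Group G]

/-- The inertia group of `θ`. -/
def inertia (N : Subgroup G) [N.Normal] (θ : N → ℂ) : Subgroup G where
  carrier := {g | conjN N g θ = θ}
  one_mem' := conjN_one N θ
  mul_mem' := fun {a b} ha hb => by
    show conjN N (a * b) θ = θ
    rw [conjN_mul, ha, hb]
  inv_mem' := fun {a} ha => by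
    show conjN N a⁻¹ θ = θ
    conv_lhs => rw [← ha, ← conjN_mul, mul_inv_cancel, conjN_one]

theorem mem_inertia {N : Subgroup G} [N.Normal] {θ : N → ℂ} {g : G} :
    g ∈ inertia N θ ↔ conjN N g θ = θ := Iff.rfl

theorem le_inertia {N : Subgroup G} [N.Normal] {θ : N → ℂ} (hθ : Cfsg.IsClassFunction N θ) :
    N ≤ inertia N θ := fun n hn => conjN_of_mem hθ ⟨n, hn⟩

variable [Fintype G] (N : Subgroup G) [N.Normal]

theorem card_conjN_eq (θ : N → ℂ) (a : G) :
    Nat.card {g : G // conjN N g θ = conjN N a θ} = Nat.card (inertia N θ) := by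
  refine Nat.card_congr ((Equiv.mulRight a⁻¹).subtypeEquiv fun g => ?_)
  simp only [Equiv.coe_mulRight, mem_inertia, conjN_mul]
  constructor
  · intro h
    rw [h, ← conjN_mul, mul_inv_cancel, conjN_one]
  · intro h
    conv_rhs => rw [← h, ← conjN_mul, inv_mul_cancel, conjN_one]

theorem card_conjOrbit (θ : N → ℂ) :
    (conjOrbit N θ).card * Nat.card (inertia N θ) = Nat.card G := by
  classical
  rw [Nat.card_eq_fintype_card (α := G), ← Finset.card_univ (α := G),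
    Finset.card_eq_sum_card_image (fun g : G => conjN N g θ) Finset.univ]
  rw [Finset.sum_congr rfl (g := fun _ => Nat.card (inertia N θ)) ?_]
  · rw [Finset.sum_const, smul_eq_mul]
    congr 1
    unfold conjOrbit
    convert rfl
  intro φ hφ
  obtain ⟨a, -, rfl⟩ := Finset.mem_image.mp hφ
  rw [← card_conjN_eq N θ a, Nat.card_eq_fintype_card, Fintype.card_subtype]

variable [Fintype N]

/-- `|N| ⟨θ^G, φ^G⟩ = |{g : θ^g = φ}|`. -/
theorem classInner_indFun_eq_card {θ φ : N → ℂ} (hθ : Cfsg.IsIrrCharacter N θ)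
    (hφ : Cfsg.IsIrrCharacter N φ) :
    (Nat.card N : ℂ) * Cfsg.classInner (Cfsg.indFun N θ) (Cfsg.indFun N φ) =
      (Nat.card {g : G // conjN N g θ = φ} : ℂ) := by
  rw [classInner_indFun_indFun, sum_classInner_conjN N hθ hφ]

/-- The restriction of an induced character. -/
theorem restrict_indFun (θ : N → ℂ) :
    (fun n : N => Cfsg.indFun N θ n) =
      ((Nat.card (inertia N θ) : ℂ) / (Nat.card N : ℂ)) • ∑ ψ ∈ conjOrbit N θ, ψ := by
  classical
  funext n
  simp only [indFun_normal_mem, Pi.smul_apply, Finset.sum_apply, smul_eq_mul]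
  rw [div_eq_inv_mul, mul_assoc]
  congr 1
  rw [Finset.mul_sum, show (∑ g : G, θ ⟨g * n * g⁻¹, _⟩) = ∑ g : G, conjN N g θ n from rfl,
    ← Finset.sum_fiberwise_of_maps_to (t := conjOrbit N θ) (g := fun g => conjN N g θ)
      (fun g _ => (mem_conjOrbit N).mpr ⟨g, rfl⟩)]
  refine Finset.sum_congr rfl fun φ hφ => ?_
  obtain ⟨a, ha⟩ := (mem_conjOrbit N).mp hφ
  rw [Finset.sum_congr rfl (g := fun _ => φ n) (fun g hg => by
      rw [← (Finset.mem_filter.mp hg).2]), Finset.sum_const, nsmul_eq_mul]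
  congr 1
  rw [← card_conjN_eq N θ a, ha, Nat.card_eq_fintype_card, Fintype.card_subtype]

/-- A character of an intermediate group over an invariant constituent restricts to a multiple
of it. -/
theorem restrict_of_le_inertia {θ : N → ℂ} (hθ : Cfsg.IsIrrCharacter N θ) (T : Subgroup G)
    [Fintype T] (hNT : N ≤ T) (hT : T ≤ inertia N θ) {ψ : T → ℂ} (hψ : Cfsg.IsIrrCharacter T ψ)
    (hc : Cfsg.classInner (fun n : N => ψ ⟨n, hNT n.2⟩) θ ≠ 0) :
    ∃ e : ℕ, 0 < e ∧ (fun n : N => ψ ⟨n, hNT n.2⟩) = (e : ℂ) • θ := by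
  classical
  let e := Subgroup.subgroupOfEquivOfLe hNT
  let θ' : N.subgroupOf T → ℂ := fun x => θ (e x)
  have hθ' : Cfsg.IsIrrCharacter (N.subgroupOf T) θ' := IsIrrCharacter.comp_mulEquiv hθ e
  have hinv : ∀ g : T, conjN (N.subgroupOf T) g θ' = θ' := by
    intro g
    funext x
    exact congrFun (hT g.2) (e x)
  have hc' : Cfsg.classInner (fun x : N.subgroupOf T => ψ (x : T)) θ' ≠ 0 := by
    intro h
    apply hc
    rw [← classInner_comp_equiv e.toEquiv]
    exact h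
  obtain ⟨k, hk, hk'⟩ := restrict_eq_mult_of_invariant (N.subgroupOf T) hψ hθ' hinv hc'
  refine ⟨k, hk, funext fun n => ?_⟩
  have h2 := congrFun hk' (e.symm n)
  simp only [θ', Pi.smul_apply, MulEquiv.apply_symm_apply] at h2
  exact h2

variable {N} in
/-- The constituents over `θ` of a restriction to `T`. -/
theorem exists_constituent_over {θ : N → ℂ} (T : Subgroup G) [Fintype T] (hNT : N ≤ T)
    {χ : G → ℂ} (hχ : Cfsg.IsCharacter G χ) (hc : Cfsg.classInner (fun n : N => χ n) θ ≠ 0) :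
    ∃ ψ : T → ℂ, Cfsg.IsIrrCharacter T ψ ∧
      Cfsg.classInner (fun t : T => χ t) ψ ≠ 0 ∧
      Cfsg.classInner (fun n : N => ψ ⟨n, hNT n.2⟩) θ ≠ 0 := by
  classical
  obtain ⟨m, hm⟩ := IsCharacter.exists_decomp (IsCharacter.restrict hχ T)
  have h1 : (fun n : N => χ n) =
      ∑ ψ : Cfsg.IrrCharacter T, m ψ • (fun n : N => (ψ : T → ℂ) ⟨n, hNT n.2⟩) := by
    funext n
    rw [show χ (n : G) = (fun t : T => χ t) ⟨n, hNT n.2⟩ from rfl, hm]
    simp [Finset.sum_apply]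
  rw [h1, classInner_sum_left] at hc
  obtain ⟨ψ, -, hψ⟩ := Finset.exists_ne_zero_of_sum_ne_zero hc
  rw [classInner_nsmul_left, mul_ne_zero_iff, Nat.cast_ne_zero] at hψ
  refine ⟨ψ, ψ.2, ?_, hψ.2⟩
  rw [hm]
  simp only [← Nat.cast_smul_eq_nsmul ℂ]
  rw [classInner_irrSum (fun ψ => (m ψ : ℂ)) ψ]
  exact_mod_cast hψ.1

variable {N} in
/-- The Clifford correspondence. -/
theorem clifford_correspondence {θ : N → ℂ} (hθ : Cfsg.IsIrrCharacter N θ) (T : Subgroup G)
    [Fintype T] (hT : T = inertia N θ) (hNT : N ≤ T) {χ : G → ℂ} (hχ : Cfsg.IsIrrCharacter G χ)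
    {ψ : T → ℂ} (hψ : Cfsg.IsIrrCharacter T ψ)
    (hχψ : Cfsg.classInner (fun t : T => χ t) ψ ≠ 0)
    (hc : Cfsg.classInner (fun n : N => ψ ⟨n, hNT n.2⟩) θ ≠ 0) :
    Cfsg.indFun T ψ = χ ∧
      Cfsg.classInner (fun n : N => ψ ⟨n, hNT n.2⟩) θ = Cfsg.classInner (fun n : N => χ n) θ ∧
      ∀ ψ' : T → ℂ, Cfsg.IsIrrCharacter T ψ' → Cfsg.classInner (fun t : T => χ t) ψ' ≠ 0 →
        Cfsg.classInner (fun n : N => ψ' ⟨n, hNT n.2⟩) θ ≠ 0 → ψ' = ψ := by
  classical
  have hχc := isCharacter_of_irr hχ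
  obtain ⟨e, he, hres⟩ := restrict_of_le_inertia N hθ T hNT hT.le hψ hc
  have he' : Cfsg.classInner (fun n : N => ψ ⟨n, hNT n.2⟩) θ = e := by
    rw [hres, classInner_smul_left, classInner_self_irr hθ, mul_one]
  obtain ⟨m, hm⟩ := IsCharacter.exists_decomp (IsCharacter.restrict hχc T)
  have hmne : ∀ φ : T → ℂ, (hφ : Cfsg.IsIrrCharacter T φ) →
      Cfsg.classInner (fun t : T => χ t) φ ≠ 0 → 0 < m ⟨φ, hφ⟩ := by
    intro φ hφ h
    rw [hm] at h
    simp only [← Nat.cast_smul_eq_nsmul ℂ] at h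
    rw [classInner_irrSum (fun ψ => (m ψ : ℂ)) ⟨φ, hφ⟩] at h
    exact Nat.pos_of_ne_zero (by exact_mod_cast h)
  choose k hk using fun φ : Cfsg.IrrCharacter T => IsCharacter.exists_mult
    (IsCharacter.comp_hom (isCharacter_of_irr φ.2) (Subgroup.inclusion hNT)) hθ
  obtain ⟨f, hf⟩ := IsCharacter.exists_mult (IsCharacter.restrict hχc N) hθ
  have hfsum : f = ∑ φ : Cfsg.IrrCharacter T, m φ * k φ := by
    apply Nat.cast_injective (R := ℂ)
    rw [← hf]
    have h1 : (fun n : N => χ n) =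
        ∑ ψ : Cfsg.IrrCharacter T, m ψ • (fun n : N => (ψ : T → ℂ) (Subgroup.inclusion hNT n)) := by
      funext n
      rw [show χ (n : G) = (fun t : T => χ t) (Subgroup.inclusion hNT n) from rfl, hm]
      simp [Finset.sum_apply]
    rw [h1, classInner_sum_left]
    push_cast
    exact Finset.sum_congr rfl fun φ _ => by rw [classInner_nsmul_left, hk]
  have hkψ : k ⟨ψ, hψ⟩ = e := Nat.cast_injective (R := ℂ) ((hk ⟨ψ, hψ⟩).symm.trans he')
  have hle : e ≤ f := by
    rw [hfsum]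
    refine le_trans ?_ (Finset.single_le_sum (fun φ _ => Nat.zero_le _)
      (Finset.mem_univ (⟨ψ, hψ⟩ : Cfsg.IrrCharacter T)))
    rw [hkψ]
    exact Nat.le_mul_of_pos_left _ (hmne ψ hψ hχψ)
  have hθc : Cfsg.classInner (fun n : N => χ n) θ ≠ 0 := by
    rw [hf]
    exact_mod_cast (by omega : f ≠ 0)
  have hdegχ : χ 1 = (f : ℂ) * (T.index : ℂ) * θ 1 := by
    have h := congrFun (clifford N hχ hθ hθc) 1
    simp only [OneMemClass.coe_one, Pi.smul_apply, Finset.sum_apply, smul_eq_mul] at h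
    rw [h, hf, Finset.sum_congr rfl (g := fun _ => θ 1), Finset.sum_const, nsmul_eq_mul, ← mul_assoc]
    · congr 2
      have h2 := card_conjOrbit N θ
      rw [← hT, ← T.index_mul_card] at h2
      exact_mod_cast Nat.eq_of_mul_eq_mul_right Nat.card_pos h2
    · intro φ hφ
      obtain ⟨g, rfl⟩ := (mem_conjOrbit N).mp hφ
      simp [conjN]; rfl
  have hψ1 : ψ 1 = (e : ℂ) * θ 1 := congrFun hres 1
  obtain ⟨a, ha⟩ := IsCharacter.exists_decomp (IsCharacter.indFun (G := G) (isCharacter_of_irr hψ))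
  have haχ : 0 < a ⟨χ, hχ⟩ := by
    refine Nat.pos_of_ne_zero fun h => hχψ ?_
    rw [← frobenius_reciprocity' T ψ (isClassFunction_isChar hχc), ← classInner_conj_symm, ha]
    simp only [← Nat.cast_smul_eq_nsmul ℂ]
    rw [classInner_irrSum (fun ψ => (a ψ : ℂ)) ⟨χ, hχ⟩, h, Nat.cast_zero, map_zero]
  obtain ⟨dθ, hdθ, hθ1⟩ := IsIrrCharacter.apply_one hθ
  have hdsum : T.index * (e * dθ) = ∑ φ : Cfsg.IrrCharacter G, a φ * deg (φ : G → ℂ) := by
    apply Nat.cast_injective (R := ℂ)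
    push_cast
    rw [← hθ1, ← hψ1, ← indFun_one T ψ, congrFun ha 1]
    simp [Finset.sum_apply, irr_apply_one_eq_deg]
  have hdχ : deg χ = f * T.index * dθ := by
    apply Nat.cast_injective (R := ℂ)
    rw [← IsCharacter.apply_one_eq_deg hχc, hdegχ, hθ1]
    push_cast
    rfl
  rw [← Finset.add_sum_erase Finset.univ _ (Finset.mem_univ (⟨χ, hχ⟩ : Cfsg.IrrCharacter G))]
    at hdsum
  have hTpos : 0 < T.index := Nat.pos_of_ne_zero T.index_ne_zero_of_finite
  have hfe : f * T.index * dθ ≤ T.index * (e * dθ) := by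
    rw [hdsum, ← hdχ]
    exact le_add_right (Nat.le_mul_of_pos_left _ haχ)
  have hef : f = e := by
    refine le_antisymm ?_ hle
    have : f * (T.index * dθ) ≤ e * (T.index * dθ) := by linarith
    exact Nat.le_of_mul_le_mul_right this (Nat.mul_pos hTpos hdθ)
  subst hef
  refine ⟨?_, by rw [he', hf], ?_⟩
  · have hrest : ∀ φ ∈ Finset.univ.erase (⟨χ, hχ⟩ : Cfsg.IrrCharacter G), a φ = 0 := by
      intro φ hφ
      have h3 : f * T.index * dθ ≤ a ⟨χ, hχ⟩ * deg χ := by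
        rw [← hdχ]; exact Nat.le_mul_of_pos_left _ haχ
      have h4 : f * T.index * dθ = T.index * (f * dθ) := by ring
      have h5 : ∑ x ∈ Finset.univ.erase (⟨χ, hχ⟩ : Cfsg.IrrCharacter G),
          a x * deg (x : G → ℂ) = 0 := by
        have h6 : T.index * (f * dθ) = a ⟨χ, hχ⟩ * deg χ +
          ∑ x ∈ Finset.univ.erase (⟨χ, hχ⟩ : Cfsg.IrrCharacter G), a x * deg (x : G → ℂ) := hdsum
        omega
      exact (mul_eq_zero.mp (Finset.sum_eq_zero_iff.mp h5 φ hφ)).resolve_right (deg_irr_pos φ).ne'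
    have h1 : a ⟨χ, hχ⟩ = 1 := by
      rw [Finset.sum_eq_zero fun φ hφ => by rw [hrest φ hφ, zero_mul], add_zero, hdχ,
        show T.index * (f * dθ) = 1 * (f * T.index * dθ) by ring] at hdsum
      exact (Nat.eq_of_mul_eq_mul_right (Nat.mul_pos (Nat.mul_pos he hTpos) hdθ) hdsum).symm
    rw [ha, Finset.sum_eq_single (⟨χ, hχ⟩ : Cfsg.IrrCharacter G)
      (fun φ _ h => by rw [hrest φ (Finset.mem_erase.mpr ⟨h, Finset.mem_univ _⟩), zero_smul])
      (by simp), h1, one_smul]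
  · intro ψ' hψ' h1 h2
    by_contra hne
    have hk' : 0 < k ⟨ψ', hψ'⟩ := Nat.pos_of_ne_zero fun h => h2 (by
      have := hk ⟨ψ', hψ'⟩; rwa [h, Nat.cast_zero] at this)
    have hpair := Finset.sum_le_sum_of_subset
      (f := fun φ : Cfsg.IrrCharacter T => m φ * k φ)
      (Finset.subset_univ {(⟨ψ, hψ⟩ : Cfsg.IrrCharacter T), ⟨ψ', hψ'⟩})
    rw [Finset.sum_pair (fun h => hne (congrArg Subtype.val h).symm), ← hfsum, hkψ] at hpair
    have := Nat.le_mul_of_pos_left f (hmne ψ hψ hχψ)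
    have := Nat.mul_pos (hmne ψ' hψ' h1) hk'
    omega

end Cfsg.Lib.Chars
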