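import Cfsg.Agent.Chars.Perm

/-!
# Real characters and real classes
-/

namespace Cfsg.Lib.Chars

open scoped ComplexConjugate

universe u

variable {G : Type u} [Group G]

/-- The permutation of the classes induced by inversion. -/
def invClasses (G : Type u) [Group G] : ConjClasses G ≃ ConjClasses G where
  toFun := fun C => Quotient.liftOn C (fun g => ConjClasses.mk g⁻¹) fun a b h => by
    obtain ⟨c, rfl⟩ := isConj_iff.mp h
    exact ConjClasses.mk_eq_mk_iff_isConj.mpr (isConj_iff.mpr ⟨c, by group⟩)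
  invFun := fun C => Quotient.liftOn C (fun g => ConjClasses.mk g⁻¹) fun a b h => by
    obtain ⟨c, rfl⟩ := isConj_iff.mp h
    exact ConjClasses.mk_eq_mk_iff_isConj.mpr (isConj_iff.mpr ⟨c, by group⟩)
  left_inv C := by induction C using Quotient.inductionOn; exact congrArg ConjClasses.mk (inv_inv _)
  right_inv C := by induction C using Quotient.inductionOn; exact congrArg ConjClasses.mk (inv_inv _)

/-- The conjugate irreducible character. -/
noncomputable def conjIrr [Finite G] (χ : Cfsg.IrrCharacter G) : Cfsg.IrrCharacter G :=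
  ⟨fun g => conj ((χ : G → ℂ) g), IsIrrCharacter.conjugate χ.2⟩

theorem conjIrr_eq_self_iff [Finite G] (χ : Cfsg.IrrCharacter G) :
    conjIrr χ = χ ↔ ∀ g, ((χ : G → ℂ) g).im = 0 := by
  rw [Subtype.ext_iff, funext_iff]
  exact forall_congr' fun g => Complex.conj_eq_iff_im

theorem invClasses_eq_self_iff (C : ConjClasses G) :
    invClasses G C = C ↔ ∀ g, ConjClasses.mk g = C → IsConj g g⁻¹ := by
  induction C using Quotient.inductionOn with
  | _ g =>
    constructor
    · intro h x hx
      have h1 : IsConj g⁻¹ g := ConjClasses.mk_eq_mk_iff_isConj.mp h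
      have h2 : IsConj x g := ConjClasses.mk_eq_mk_iff_isConj.mp hx
      obtain ⟨c, hc⟩ := isConj_iff.mp h2
      exact h2.trans (h1.symm.trans (isConj_iff.mpr ⟨c⁻¹, by rw [← hc]; group⟩))
    · intro h
      exact ConjClasses.mk_eq_mk_iff_isConj.mpr (h g rfl).symm

theorem card_real_irr [Finite G] :
    Nat.card {χ : Cfsg.IrrCharacter G // ∀ g : G, ((χ : G → ℂ) g).im = 0} =
      Nat.card {C : ConjClasses G // ∀ g : G, ConjClasses.mk g = C → IsConj g g⁻¹} := by
  rw [← Nat.card_congr (Equiv.subtypeEquivRight fun χ => conjIrr_eq_self_iff χ),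
    ← Nat.card_congr (Equiv.subtypeEquivRight fun C => invClasses_eq_self_iff C)]
  refine brauer_permutation conjIrr (invClasses G) fun χ g g' hg => ?_
  have h1 : IsConj g' g⁻¹ := ConjClasses.mk_eq_mk_iff_isConj.mp hg
  show conj ((χ : G → ℂ) g') = _
  rw [classFunction_eq_of_isConj (isClassFunction_irr χ) h1,
    IsCharacter.conj_inv (isCharacter_of_irr χ.2), Complex.conj_conj]

/-- In a group of odd order only the trivial class is real. -/
theorem eq_one_of_isConj_inv [Finite G] (hodd : Odd (Nat.card G)) {g : G} (h : IsConj g g⁻¹) :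
    g = 1 := by
  obtain ⟨c, hc⟩ := isConj_iff.mp h
  have h2 : ∀ k : ℕ, c ^ (2 * k) * g * (c ^ (2 * k))⁻¹ = g := by
    intro k
    induction k with
    | zero => simp
    | succ k ih =>
      have hcc : c * (c * g * c⁻¹) * c⁻¹ = g := by
        rw [hc]
        have := congrArg (·⁻¹) hc
        simpa [mul_assoc] using this
      calc c ^ (2 * (k + 1)) * g * (c ^ (2 * (k + 1)))⁻¹
          = c ^ (2 * k) * (c * (c * g * c⁻¹) * c⁻¹) * (c ^ (2 * k))⁻¹ := by
            rw [mul_add, pow_add]; group
        _ = g := by rw [hcc, ih]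
  obtain ⟨m, hm⟩ := hodd
  have h1 := h2 (m + 1)
  have hc' : c ^ (2 * (m + 1)) = c := by
    rw [show 2 * (m + 1) = Nat.card G + 1 by omega, pow_succ, pow_card_eq_one', one_mul]
  rw [hc', hc] at h1
  have h3 : orderOf g ∣ 2 := orderOf_dvd_of_pow_eq_one (by rw [pow_two]; nth_rw 1 [← h1]; simp)
  have h4 : orderOf g ∣ Nat.card G := orderOf_dvd_natCard g
  have h5 : orderOf g = 1 := by
    rcases (Nat.dvd_prime Nat.prime_two).mp h3 with h | h
    · exact h
    · rw [h] at h4; omega
  exact orderOf_eq_one_iff.mp h5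

/-- In a group of odd order only the principal character is real. -/
theorem eq_principal_of_real [Finite G] (hodd : Odd (Nat.card G)) (χ : Cfsg.IrrCharacter G)
    (h : ∀ g, ((χ : G → ℂ) g).im = 0) : χ = principal G := by
  have hle : Nat.card {χ : Cfsg.IrrCharacter G // ∀ g : G, ((χ : G → ℂ) g).im = 0} ≤ 1 := by
    rw [card_real_irr, Finite.card_le_one_iff_subsingleton]
    refine ⟨fun ⟨C, hC⟩ ⟨D, hD⟩ => Subtype.ext ?_⟩
    obtain ⟨g, rfl⟩ := ConjClasses.exists_rep C
    obtain ⟨k, rfl⟩ := ConjClasses.exists_rep D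
    show ConjClasses.mk g = ConjClasses.mk k
    rw [eq_one_of_isConj_inv hodd (hC g rfl), eq_one_of_isConj_inv hodd (hD k rfl)]
  rw [Finite.card_le_one_iff_subsingleton] at hle
  have := hle.elim ⟨χ, h⟩ ⟨principal G, fun g => Complex.one_im⟩
  exact congrArg Subtype.val this

end Cfsg.Lib.Chars
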