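import Cfsg.Agent.Chars.Core

/-!
# Generalised characters of norm two vanishing at the identity
-/

namespace Cfsg.Lib.Chars

open scoped ComplexConjugate

universe u

variable {G : Type u} [Group G] [Fintype G]

/-- A generalised character of norm two and degree zero is a difference of two irreducibles. -/
theorem exists_sub_of_norm_two {f : G → ℂ} (h : Cfsg.IsGeneralizedCharacter G f)
    (hn : Cfsg.classInner f f = 2) (h1 : f 1 = 0) :
    ∃ μ ν : Cfsg.IrrCharacter G, μ ≠ ν ∧ f = (μ : G → ℂ) - (ν : G → ℂ) := by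
  classical
  obtain ⟨a, rfl⟩ := exists_int_decomp h
  rw [classInner_self_decomp] at hn
  have h2 : ∑ χ, a χ * a χ = 2 := by
    apply Int.cast_injective (α := ℂ)
    simpa using hn
  obtain ⟨χ, -, hχ⟩ := Finset.exists_ne_zero_of_sum_ne_zero (h2.symm ▸ two_ne_zero)
  have hbound : ∀ ξ, a ξ * a ξ ≠ 0 → a ξ * a ξ = 1 := fun ξ hξ => by
    have hle : a ξ * a ξ ≤ 2 := h2 ▸ Finset.single_le_sum (f := fun ξ => a ξ * a ξ)
      (fun x _ => mul_self_nonneg _) (Finset.mem_univ ξ)
    have hb1 : a ξ ≤ 1 := by nlinarith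
    have hb2 : -1 ≤ a ξ := by nlinarith
    interval_cases (a ξ) <;> simp_all
  have hsum := Finset.add_sum_erase Finset.univ (fun χ => a χ * a χ) (Finset.mem_univ χ)
  rw [h2, hbound χ hχ] at hsum
  obtain ⟨ψ, hψm, hψ⟩ := Finset.exists_ne_zero_of_sum_ne_zero
    (show ∑ x ∈ Finset.univ.erase χ, a x * a x ≠ 0 by omega)
  have hne : ψ ≠ χ := (Finset.mem_erase.mp hψm).1
  have hrest : ∀ ξ, ξ ≠ χ → ξ ≠ ψ → a ξ = 0 := by
    intro ξ hξ1 hξ2
    have hsum2 := Finset.add_sum_erase (Finset.univ.erase χ) (fun χ => a χ * a χ) hψm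
    rw [hbound ψ hψ] at hsum2
    have h0 : ∑ x ∈ (Finset.univ.erase χ).erase ψ, a x * a x = 0 := by omega
    simpa using (Finset.sum_eq_zero_iff_of_nonneg fun x _ => mul_self_nonneg _).mp h0 ξ
      (by simp [hξ1, hξ2])
  have hf : (∑ ξ, (a ξ : ℂ) • (ξ : G → ℂ)) = (a χ : ℂ) • (χ : G → ℂ) + (a ψ : ℂ) • (ψ : G → ℂ) := by
    rw [← Finset.sum_pair (f := fun ξ : Cfsg.IrrCharacter G => (a ξ : ℂ) • (ξ : G → ℂ)) hne.symm]
    refine (Finset.sum_subset (Finset.subset_univ _) fun ξ _ hξ => ?_).symm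
    simp only [Finset.mem_insert, Finset.mem_singleton, not_or] at hξ
    simp [hrest ξ hξ.1 hξ.2]
  rw [hf] at h1 ⊢
  simp only [Pi.add_apply, Pi.smul_apply, smul_eq_mul, irr_apply_one_eq_deg] at h1
  have h1' : a χ * deg (χ : G → ℂ) + a ψ * deg (ψ : G → ℂ) = 0 := by exact_mod_cast h1
  have hp1 : (0 : ℤ) < deg (χ : G → ℂ) := by exact_mod_cast deg_irr_pos χ
  have hp2 : (0 : ℤ) < deg (ψ : G → ℂ) := by exact_mod_cast deg_irr_pos ψ
  rcases mul_self_eq_one_iff.mp (hbound χ hχ) with ha | ha <;>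
    rcases mul_self_eq_one_iff.mp (hbound ψ hψ) with hb | hb
  · rw [ha, hb] at h1'; omega
  · exact ⟨χ, ψ, hne.symm, by rw [ha, hb]; simp [sub_eq_add_neg]⟩
  · exact ⟨ψ, χ, hne, by rw [ha, hb]; simp [sub_eq_add_neg, add_comm]⟩
  · rw [ha, hb] at h1'; omega

/-- A Gram matrix `2, 1` family of degree zero is a star of differences. -/
theorem exists_star {ι : Type*} [Fintype ι] (i₀ : ι) (τ : ι → (G → ℂ)) (h0 : τ i₀ = 0)
    (hgen : ∀ i, Cfsg.IsGeneralizedCharacter G (τ i)) (hone : ∀ i, τ i 1 = 0)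
    (hgram : ∀ i j, i ≠ i₀ → j ≠ i₀ →
      (i = j → Cfsg.classInner (τ i) (τ j) = 2) ∧ (i ≠ j → Cfsg.classInner (τ i) (τ j) = 1)) :
    ∃ ε : ℂ, (ε = 1 ∨ ε = -1) ∧ ∃ μ : ι → (G → ℂ), (∀ i, Cfsg.IsIrrCharacter G (μ i)) ∧
      Function.Injective μ ∧ ∀ i, τ i = ε • (μ i - μ i₀) := by
  classical
  by_cases hsub : ∀ i, i = i₀
  · exact ⟨1, Or.inl rfl, fun _ => (principal G : G → ℂ), fun _ => (principal G).2,
      fun i j _ => (hsub i).trans (hsub j).symm, fun i => by rw [hsub i, h0]; simp⟩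
  push Not at hsub
  obtain ⟨i₁, hi₁⟩ := hsub
  have hex : ∀ i, i ≠ i₀ → ∃ μ ν : Cfsg.IrrCharacter G, μ ≠ ν ∧ τ i = (μ : G → ℂ) - (ν : G → ℂ) :=
    fun i hi => exists_sub_of_norm_two (hgen i) ((hgram i i hi hi).1 rfl) (hone i)
  have hd : ∀ i, ∃ μ ν : Cfsg.IrrCharacter G, i ≠ i₀ → μ ≠ ν ∧ τ i = (μ : G → ℂ) - (ν : G → ℂ) :=
    fun i => by
      by_cases hi : i = i₀
      · exact ⟨principal G, principal G, fun h => absurd hi h⟩
      · obtain ⟨μ, ν, h⟩ := hex i hi; exact ⟨μ, ν, fun _ => h⟩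
  choose P N hPN using hd
  have hxor : ∀ i j, i ≠ i₀ → j ≠ i₀ → i ≠ j → (P i = P j ↔ N i ≠ N j) := by
    intro i j hi hj hij
    have h := (hgram i j hi hj).2 hij
    rw [(hPN i hi).2, (hPN j hj).2, classInner_sub_left, classInner_sub_right, classInner_sub_right,
      classInner_irrCharacter, classInner_irrCharacter, classInner_irrCharacter,
      classInner_irrCharacter] at h
    have hne1 := (hPN i hi).1
    have hne2 := (hPN j hj).1
    constructor
    · intro hP hN
      rw [if_pos hP, if_pos hN, if_neg (by rw [← hN]; exact hne1), if_neg (by rw [← hP]; exact hne1.symm)] at h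
      norm_num at h
    · intro hN
      by_contra hP
      rw [if_neg hP, if_neg hN] at h
      split_ifs at h <;> norm_num at h
  by_cases hN : ∀ i j, i ≠ i₀ → j ≠ i₀ → N i = N j
  · refine ⟨1, Or.inl rfl, fun i => if i = i₀ then (N i₁ : G → ℂ) else (P i : G → ℂ),
      fun i => by simp only; split_ifs; exacts [(N i₁).2, (P i).2], ?_, ?_⟩
    · intro i j hij
      simp only at hij
      by_contra hne
      split_ifs at hij with h1 h2 h2
      · exact hne (h1.trans h2.symm)
      · exact (hPN j h2).1 ((Subtype.ext hij : N i₁ = P j).symm.trans (hN _ _ hi₁ h2))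
      · exact (hPN i h1).1 ((Subtype.ext hij : P i = N i₁).trans (hN _ _ hi₁ h1))
      · exact (hxor i j h1 h2 hne).mp (Subtype.ext hij) (hN i j h1 h2)
    · intro i
      by_cases hi : i = i₀
      · simp [hi, h0]
      · simp only [if_neg hi, if_pos, one_smul]
        rw [(hPN i hi).2, hN i i₁ hi hi₁]
  · push Not at hN
    obtain ⟨a, b, ha, hb, hab⟩ := hN
    have hab' : a ≠ b := fun h => hab (by rw [h])
    have hPab : P a = P b := (hxor a b ha hb hab').mpr hab
    have hP : ∀ k, k ≠ i₀ → P k = P a := by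
      intro k hk
      by_cases hka : k = a
      · rw [hka]
      by_cases hkb : k = b
      · rw [hkb, hPab]
      by_contra hne
      have h1 : N k = N a := by
        by_contra h; exact hne ((hxor k a hk ha hka).mpr h)
      have h2 : N k = N b := by
        by_contra h; exact hne (((hxor k b hk hb hkb).mpr h).trans hPab.symm)
      exact hab (h1.symm.trans h2)
    refine ⟨-1, Or.inr rfl, fun i => if i = i₀ then (P a : G → ℂ) else (N i : G → ℂ),
      fun i => by simp only; split_ifs; exacts [(P a).2, (N i).2], ?_, ?_⟩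
    · intro i j hij
      simp only at hij
      by_contra hne
      split_ifs at hij with h1 h2 h2
      · exact hne (h1.trans h2.symm)
      · exact (hPN j h2).1 ((hP j h2).trans (Subtype.ext hij : P a = N j))
      · exact (hPN i h1).1 ((hP i h1).trans (Subtype.ext hij : N i = P a).symm)
      · exact (hxor i j h1 h2 hne).mp ((hP i h1).trans (hP j h2).symm) (Subtype.ext hij)
    · intro i
      by_cases hi : i = i₀
      · simp [hi, h0]
      · simp only [if_neg hi, if_pos, neg_one_smul, neg_sub]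
        rw [(hPN i hi).2, hP i hi]

end Cfsg.Lib.Chars
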