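import Cfsg.Agent.Chars.Values
import Cfsg.Agent.Chars.Induced

/-!
# Core of ordinary character theory (re-export)
-/
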