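import Cfsg.Agent.Chars.Galois

/-!
# Burnside's lemma and the `p^a q^b` theorem
-/

namespace Cfsg.Lib.Chars

open scoped ComplexConjugate
open Module

universe u v

variable {G : Type u} [Group G]

/-- If `χ g / χ 1` is an algebraic integer then `χ g = 0` or `|χ g| = χ 1`. -/
theorem zero_or_norm_eq_of_isIntegral_div [Finite G] {χ : G → ℂ} (hχ : Cfsg.IsCharacter G χ)
    (g : G) (hint : IsIntegral ℤ (χ g / χ 1)) : χ g = 0 ∨ ‖χ g‖ = (χ 1).re := by
  obtain ⟨n, hn⟩ := IsCharacter.apply_one hχ
  have hle := IsCharacter.norm_le hχ g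
  rw [hn, Complex.natCast_re] at hle ⊢
  rw [hn] at hint
  by_cases hlt : ‖χ g‖ < (n : ℝ)
  swap
  · exact Or.inr (le_antisymm hle (not_lt.mp hlt))
  left
  classical
  have hnR : (0 : ℝ) < n := lt_of_le_of_lt (norm_nonneg _) hlt
  have : NeZero (orderOf g) := ⟨(orderOf_pos g).ne'⟩
  have := finiteDimensional_cycField (orderOf g)
  have := isGalois_cycField (orderOf g)
  set E := cycField (orderOf g)
  have hmem : χ g / (n : ℂ) ∈ E :=
    div_mem (IsCharacter.mem_cycField hχ dvd_rfl) (natCast_mem _ _)
  set a : E := ⟨χ g / (n : ℂ), hmem⟩ with ha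
  have haint : IsIntegral ℤ a := by
    have : IsIntegral ℤ (algebraMap E ℂ a) := hint
    exact (isIntegral_algebraMap_iff (algebraMap E ℂ).injective).mp this
  obtain ⟨z, hz⟩ := IsIntegrallyClosed.isIntegral_iff.mp (Algebra.isIntegral_norm ℚ haint)
  have hprod := Algebra.norm_eq_prod_automorphisms ℚ a
  have hbound : ∀ τ : Gal(E/ℚ), ‖((τ a : E) : ℂ)‖ ≤ 1 := by
    intro τ
    obtain ⟨σ, hσ⟩ := exists_extend_auto E τ
    rw [← hσ, ha]
    show ‖σ (χ g / (n : ℂ))‖ ≤ 1
    rw [map_div₀, map_natCast, norm_div, Complex.norm_natCast, div_le_one hnR]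
    have := IsCharacter.norm_le (IsCharacter.map_auto hχ σ) g
    simpa [hn] using this
  have hlt1 : ‖((a : E) : ℂ)‖ < 1 := by
    rw [ha]
    show ‖χ g / (n : ℂ)‖ < 1
    rwa [norm_div, Complex.norm_natCast, div_lt_one hnR]
  have hnorm : ‖((algebraMap ℚ E (Algebra.norm ℚ a) : E) : ℂ)‖ < 1 := by
    rw [hprod, ← IntermediateField.coe_val, map_prod, norm_prod,
      ← Finset.mul_prod_erase Finset.univ _ (Finset.mem_univ (1 : Gal(E/ℚ)))]
    refine lt_of_le_of_lt (mul_le_of_le_one_right (norm_nonneg _) ?_) ?_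
    · exact Finset.prod_le_one (fun τ _ => norm_nonneg _) (fun τ _ => hbound τ)
    · exact hlt1
  rw [← hz] at hnorm
  have hz0 : z = 0 := by
    have h2 : ‖(z : ℂ)‖ < 1 := by simpa using hnorm
    rw [Complex.norm_intCast] at h2
    exact Int.abs_lt_one_iff.mp (by exact_mod_cast h2)
  rw [hz0, map_zero] at hz
  have ha0 : a = 0 := Algebra.norm_eq_zero_iff.mp hz.symm
  have h3 : χ g / (n : ℂ) = 0 := congrArg (fun x : E => (x : ℂ)) ha0
  rcases div_eq_zero_iff.mp h3 with h | h
  · exact h
  · exact absurd (Nat.cast_eq_zero.mp h) (fun h0 => by simp [h0] at hnR)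

theorem burnside_zero_or_max [Finite G] {χ : G → ℂ} (hχ : Cfsg.IsIrrCharacter G χ) (g : G)
    (hcop : (deg χ).Coprime (Nat.card {x : G // IsConj g x})) :
    χ g = 0 ∨ ‖χ g‖ = (χ 1).re := by
  have hc := isCharacter_of_irr hχ
  refine zero_or_norm_eq_of_isIntegral_div hc g ?_
  have h1 := isIntegral_centralChar_irr hχ g
  have h2 := IsCharacter.isIntegral hc g
  have hne := IsIrrCharacter.apply_one_ne_zero hχ
  set c := Nat.card {x : G // IsConj g x}
  have hb := Nat.gcd_eq_gcd_ab (deg χ) c
  rw [Nat.coprime_iff_gcd_eq_one.mp hcop] at hb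
  have hdeg : χ 1 = (deg χ : ℂ) := IsCharacter.apply_one_eq_deg hc
  have hb' : (1 : ℂ) = (χ 1) * (Nat.gcdA (deg χ) c : ℂ) + (c : ℂ) * (Nat.gcdB (deg χ) c : ℂ) := by
    have := congrArg (fun x : ℤ => (x : ℂ)) hb
    push_cast at this
    rw [hdeg]
    exact_mod_cast this
  have : χ g / χ 1 = χ g * (Nat.gcdA (deg χ) c : ℂ) +
      ((c : ℂ) * χ g / χ 1) * (Nat.gcdB (deg χ) c : ℂ) := by
    field_simp
    linear_combination χ g * hb'
  rw [this]
  refine (h2.mul ?_).add (h1.mul ?_) <;>
    exact isIntegral_algebraMap (R := ℤ) (A := ℂ)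

/-- A simple group with a class of prime power size is of prime order. -/
theorem prime_card_of_class_prime_pow [Finite G] [IsSimpleGroup G] (p k : ℕ) (hp : p.Prime)
    (g : G) (hg : g ≠ 1) (hclass : Nat.card {x : G // IsConj g x} = p ^ k) :
    (Nat.card G).Prime := by
  have habel : (∀ a b : G, a * b = b * a) → (Nat.card G).Prime := fun h => by
    let : CommGroup G := { mul_comm := h }
    exact IsSimpleGroup.prime_card
  by_cases hcen : g ∈ Subgroup.center G
  · apply habel
    have hne : Subgroup.center G ≠ ⊥ := fun h => hg (Subgroup.mem_bot.mp (h ▸ hcen))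
    have htop := (IsSimpleGroup.eq_bot_or_eq_top_of_normal (Subgroup.center G)
      inferInstance).resolve_left hne
    intro a b
    have ha : a ∈ Subgroup.center G := htop ▸ Subgroup.mem_top a
    exact (Subgroup.mem_center_iff.mp ha b).symm
  exfalso
  have hk : k ≠ 0 := by
    rintro rfl
    apply hcen
    rw [Subgroup.mem_center_iff]
    intro x
    have hsub : Subsingleton {y : G // IsConj g y} :=
      (Nat.card_eq_one_iff_unique.mp hclass).1
    have := congrArg Subtype.val (hsub.elim ⟨x * g * x⁻¹, isConj_iff.mpr ⟨x, rfl⟩⟩ ⟨g, IsConj.refl g⟩)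
    simp only at this
    nth_rw 2 [← this]
    group
  have := Fintype.ofFinite G
  classical
  have hvan : ∀ χ : Cfsg.IrrCharacter G, χ ≠ principal G → ¬ p ∣ deg (χ : G → ℂ) →
      (χ : G → ℂ) g = 0 := by
    intro χ hχ hdvd
    have hc := isCharacter_of_irr χ.2
    have hcop : (deg (χ : G → ℂ)).Coprime (Nat.card {x : G // IsConj g x}) := by
      rw [hclass]
      exact Nat.Coprime.pow_right k ((Nat.Prime.coprime_iff_not_dvd hp).mpr hdvd).symm
    refine (burnside_zero_or_max χ.2 g hcop).resolve_right fun hnorm => ?_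
    obtain ⟨n, ρ, hρ, hchar⟩ := χ.2
    rw [← hchar, ρ.char_one, Complex.natCast_re] at hnorm
    obtain ⟨ω, hω, -⟩ := scalar_of_norm_character_eq ρ g hnorm
    have hker : ρ.ker = ⊥ := by
      refine (IsSimpleGroup.eq_bot_or_eq_top_of_normal ρ.ker inferInstance).resolve_right
        fun h => ?_
      apply hχ
      have htriv : ∀ x, ρ x = 1 := fun x => by
        have : x ∈ ρ.ker := h ▸ Subgroup.mem_top x
        exact this
      have h1 : Cfsg.classInner (χ : G → ℂ) χ = 1 := classInner_irr_self χ
      have hval : ∀ x, (χ : G → ℂ) x = (finrank ℂ (Fin n → ℂ) : ℂ) := fun x => by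
        rw [← hchar, Representation.character, htriv, LinearMap.trace_one]
      rw [classInner_def] at h1
      simp only [hval, map_natCast, Finset.sum_const, Finset.card_univ, nsmul_eq_mul] at h1
      rw [← mul_assoc, Nat.card_eq_fintype_card,
        inv_mul_cancel₀ (by exact_mod_cast Fintype.card_ne_zero), one_mul] at h1
      have h2 : finrank ℂ (Fin n → ℂ) = 1 := by
        have : finrank ℂ (Fin n → ℂ) * finrank ℂ (Fin n → ℂ) = 1 := by exact_mod_cast h1
        exact Nat.eq_one_of_mul_eq_one_right this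
      apply Subtype.ext
      funext x
      rw [hval, h2]
      simp [principal]
    apply hcen
    rw [Subgroup.mem_center_iff]
    intro x
    have hinj : Function.Injective ρ := (MonoidHom.ker_eq_bot_iff ρ).mp hker
    apply hinj
    rw [map_mul, map_mul, hω]
    ext v
    simp
  have hsum := sum_deg_mul g
  rw [if_neg hg, ← Finset.add_sum_erase Finset.univ _ (Finset.mem_univ (principal G))] at hsum
  have hint : IsIntegral ℤ ((1 : ℂ) / (p : ℂ)) := by
    have : (1 : ℂ) / (p : ℂ) = - ∑ χ ∈ Finset.univ.erase (principal G),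
        (χ : G → ℂ) 1 / (p : ℂ) * (χ : G → ℂ) g := by
      rw [← Finset.sum_neg_distrib]
      simp only [principal] at hsum ⊢
      rw [show (1 : ℂ) * 1 = 1 from one_mul 1] at hsum
      rw [Finset.sum_congr rfl (g := fun χ : Cfsg.IrrCharacter G =>
        -((χ : G → ℂ) 1 * (χ : G → ℂ) g) / (p : ℂ)) (fun χ _ => by ring), ← Finset.sum_div,
        Finset.sum_neg_distrib]
      congr 1
      linear_combination hsum
    rw [this]
    refine (IsIntegral.sum _ fun χ hχ => ?_).neg
    by_cases hd : p ∣ deg (χ : G → ℂ)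
    · obtain ⟨d, hd⟩ := hd
      rw [irr_apply_one_eq_deg, hd, Nat.cast_mul, mul_div_cancel_left₀ _ (by exact_mod_cast hp.ne_zero)]
      exact (isIntegral_algebraMap (R := ℤ) (x := (d : ℤ))).mul
        (IsCharacter.isIntegral (isCharacter_of_irr χ.2) g)
    · rw [hvan χ (Finset.mem_erase.mp hχ).1 hd, mul_zero]
      exact isIntegral_zero
  exact hp.not_dvd_one (dvd_of_isIntegral_div (a := 1) hp.ne_zero (by simpa using hint))

/-- Burnside's `p^a q^b` theorem. -/
theorem burnside_isSolvable (p q : ℕ) (hp : p.Prime) (hq : q.Prime) :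
    ∀ (G : Type u) [Group G] [Finite G], (∃ a b, Nat.card G = p ^ a * q ^ b) →
      Group.IsSolvable G := by
  suffices key : ∀ (N : ℕ) (G : Type u) [Group G] [Finite G], Nat.card G = N →
      (∃ a b, Nat.card G = p ^ a * q ^ b) → Group.IsSolvable G from
    fun G _ _ h => key _ G rfl h
  intro N
  induction N using Nat.strong_induction_on with
  | _ N ih =>
    intro G _ _ hN hab
    obtain ⟨a, b, hab⟩ := hab
    rcases subsingleton_or_nontrivial G with hsub | hnt
    · infer_instance
    by_cases hsimple : IsSimpleGroup G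
    · by_cases hcomm : ∀ x y : G, x * y = y * x
      · exact Group.isSolvable_of_comm hcomm
      exfalso
      have hnotprime : ¬ (Nat.card G).Prime := fun h => by
        have : Fact (Nat.card G).Prime := ⟨h⟩
        have := isCyclic_of_prime_card (α := G) rfl
        exact hcomm fun x y => IsMulCommutative.is_comm.comm x y
      obtain ⟨r, hr, hdvd⟩ := Nat.exists_prime_and_dvd (Finite.one_lt_card (α := G)).ne'
      have : Fact r.Prime := ⟨hr⟩
      let P : Sylow r G := Classical.arbitrary _
      have hPcard := P.card_eq_multiplicity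
      have hPnt : Nontrivial (P : Subgroup G) := by
        rw [← Finite.one_lt_card_iff_nontrivial, hPcard]
        exact Nat.one_lt_pow ((hr.factorization_pos_of_dvd Nat.card_pos.ne' hdvd).ne') hr.one_lt
      have := P.isPGroup'.center_nontrivial
      obtain ⟨z, hz⟩ := exists_ne (1 : Subgroup.center (P : Subgroup G))
      set g : G := ((z : (P : Subgroup G)) : G)
      have hg : g ≠ 1 := by
        intro h
        exact hz (Subtype.ext (Subtype.ext h))
      have hle : (P : Subgroup G) ≤ Subgroup.centralizer ({g} : Set G) := by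
        intro x hx
        rw [Subgroup.mem_centralizer_singleton_iff]
        have := Subgroup.mem_center_iff.mp z.2 ⟨x, hx⟩
        exact congrArg Subtype.val this
      have hd1 : Nat.card {x : G // IsConj g x} ∣ p ^ a * q ^ b := by
        rw [card_isConj, ← hab]; exact Subgroup.index_dvd_card _
      have hnr : ¬ r ∣ Nat.card {x : G // IsConj g x} := by
        rw [card_isConj]
        exact fun h => P.not_dvd_index (h.trans (Subgroup.index_dvd_of_le hle))
      apply hnotprime
      have hr' : r = p ∨ r = q := by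
        rcases (Nat.Prime.dvd_mul hr).mp (hab ▸ hdvd) with h | h
        · exact Or.inl ((Nat.prime_dvd_prime_iff_eq hr hp).mp (hr.dvd_of_dvd_pow h))
        · exact Or.inr ((Nat.prime_dvd_prime_iff_eq hr hq).mp (hr.dvd_of_dvd_pow h))
      rcases hr' with rfl | rfl
      · have hcp : (Nat.card {x : G // IsConj g x}).Coprime (r ^ a) :=
          Nat.Coprime.pow_right a ((hr.coprime_iff_not_dvd.mpr hnr).symm)
        obtain ⟨j, -, hj⟩ := (Nat.dvd_prime_pow hq).mp (hcp.dvd_of_dvd_mul_left hd1)
        exact prime_card_of_class_prime_pow q j hq g hg hj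
      · have hcp : (Nat.card {x : G // IsConj g x}).Coprime (r ^ b) :=
          Nat.Coprime.pow_right b ((hr.coprime_iff_not_dvd.mpr hnr).symm)
        obtain ⟨j, -, hj⟩ := (Nat.dvd_prime_pow hp).mp (hcp.dvd_of_dvd_mul_right hd1)
        exact prime_card_of_class_prime_pow p j hp g hg hj
    · obtain ⟨H, hH, hbot, htop⟩ : ∃ H : Subgroup G, H.Normal ∧ H ≠ ⊥ ∧ H ≠ ⊤ := by
        by_contra h
        push Not at h
        exact hsimple ⟨fun H hH => or_iff_not_imp_left.mpr (h H hH)⟩
      have hpq : ∀ d, d ∣ p ^ a * q ^ b → ∃ a' b', d = p ^ a' * q ^ b' := by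
        intro d hd
        obtain ⟨d1, d2, hd1, hd2, rfl⟩ := exists_dvd_and_dvd_of_dvd_mul hd
        obtain ⟨i, -, rfl⟩ := (Nat.dvd_prime_pow hp).mp hd1
        obtain ⟨j, -, rfl⟩ := (Nat.dvd_prime_pow hq).mp hd2
        exact ⟨i, j, rfl⟩
      have h1 := Subgroup.card_eq_card_quotient_mul_card_subgroup H
      have hlt1 : Nat.card H < N := by
        rw [← hN]
        exact lt_of_le_of_ne (Subgroup.card_le_card_group H) (fun h => htop (Subgroup.eq_top_of_card_eq H h))
      have hlt2 : Nat.card (G ⧸ H) < N := by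
        rw [← hN, h1]
        have : 1 < Nat.card H := (Subgroup.one_lt_card_iff_ne_bot H).mpr hbot
        exact lt_mul_of_one_lt_right Nat.card_pos this
      have := ih _ hlt1 H rfl (hpq _ (hab ▸ H.card_subgroup_dvd_card))
      have := ih _ hlt2 (G ⧸ H) rfl (hpq _ (hab ▸ H.card_quotient_dvd_card))
      exact Group.isSolvable_of_ker_le_range (G' := H) H.subtype (QuotientGroup.mk' H) (by simp)

end Cfsg.Lib.Chars
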