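import Cfsg.Agent.Chars.Count
import Cfsg.Agent.Chars.Values

/-!
# Congruences from almost free actions, and products of class sums
-/

namespace Cfsg.Lib.Chars

open Module

universe u v

/-- If every point is fixed or has trivial stabilizer, a sum of algebraic integers constant on
orbits is congruent to the sum over the fixed points. -/
theorem exists_sum_eq_fixed_add {A : Type u} [Group A] [Fintype A] {S : Type v} [DecidableEq S]
    (act : A → S → S) (hone : ∀ s, act 1 s = s) (hmul : ∀ a b s, act (a * b) s = act a (act b s))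
    (f : S → ℂ) (hf : ∀ a s, f (act a s) = f s) (hint : ∀ s, IsIntegral ℤ (f s))
    [DecidablePred fun s => ∀ a, act a s = s] (T : Finset S) (hT : ∀ a, ∀ s ∈ T, act a s ∈ T)
    (hfree : ∀ s ∈ T, (∀ a, act a s = s) ∨ ∀ a, act a s = s → a = 1) :
    ∃ z : ℂ, IsIntegral ℤ z ∧
      ∑ s ∈ T, f s = ∑ s ∈ T.filter (fun s => ∀ a, act a s = s), f s + (Nat.card A : ℂ) * z := by
  classical
  induction T using Finset.strongInduction with
  | H T ih =>
    by_cases hall : ∀ s ∈ T, ∀ a, act a s = s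
    · exact ⟨0, isIntegral_zero, by rw [Finset.filter_true_of_mem hall, mul_zero, add_zero]⟩
    push Not at hall
    obtain ⟨s, hs, a₀, ha₀⟩ := hall
    have hfr : ∀ a, act a s = s → a = 1 := (hfree s hs).resolve_left fun h => ha₀ (h a₀)
    set O := Finset.univ.image fun a => act a s
    have hOT : O ⊆ T := fun t ht => by
      obtain ⟨a, -, rfl⟩ := Finset.mem_image.mp ht; exact hT a s hs
    have hinj : Function.Injective fun a => act a s := fun a b h => by
      have : act (b⁻¹ * a) s = s := by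
        rw [hmul, show act a s = act b s from h, ← hmul, inv_mul_cancel, hone]
      exact (inv_mul_eq_one.mp (hfr _ this)).symm
    have hO : ∀ t ∈ O, ¬ ∀ a, act a t = t := fun t ht h => by
      obtain ⟨b, -, rfl⟩ := Finset.mem_image.mp ht
      apply ha₀
      have h2 := h (b * a₀ * b⁻¹)
      rw [← hmul, inv_mul_cancel_right, hmul] at h2
      have h3 := congrArg (act b⁻¹) h2
      rwa [← hmul, inv_mul_cancel, hone, ← hmul, inv_mul_cancel, hone] at h3
    have hlt : T \ O ⊂ T := Finset.sdiff_ssubset hOT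
      ⟨s, Finset.mem_image.mpr ⟨1, Finset.mem_univ _, hone s⟩⟩
    obtain ⟨z, hz, he⟩ := ih (T \ O) hlt (fun a t ht => by
      obtain ⟨htT, htO⟩ := Finset.mem_sdiff.mp ht
      refine Finset.mem_sdiff.mpr ⟨hT a t htT, fun h => htO ?_⟩
      obtain ⟨b, -, hb⟩ := Finset.mem_image.mp h
      refine Finset.mem_image.mpr ⟨a⁻¹ * b, Finset.mem_univ _, ?_⟩
      rw [hmul, hb, ← hmul, inv_mul_cancel, hone]) (fun t ht => hfree t (Finset.mem_sdiff.mp ht).1)
    refine ⟨z + f s, hz.add (hint s), ?_⟩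
    have hfix : (T \ O).filter (fun s => ∀ a, act a s = s) = T.filter (fun s => ∀ a, act a s = s) := by
      ext t
      simp only [Finset.mem_filter, Finset.mem_sdiff]
      exact ⟨fun h => ⟨h.1.1, h.2⟩, fun h => ⟨⟨h.1, fun hto => hO t hto h.2⟩, h.2⟩⟩
    rw [← Finset.sum_sdiff hOT, he, hfix, Finset.sum_image fun a _ b _ h => hinj h,
      Finset.sum_congr rfl (fun a _ => hf a s), Finset.sum_const, Finset.card_univ, nsmul_eq_mul,
      ← Nat.card_eq_fintype_card]
    ring

/-- An irreducible character is multiplicative on a conjugation invariant sum. -/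
theorem sum_sum_mul_irr {G : Type u} [Group G] {χ : G → ℂ} (hχ : Cfsg.IsIrrCharacter G χ)
    (K : Finset G) (hK : ∀ a : G, ∀ x ∈ K, a * x * a⁻¹ ∈ K) {ι : Type v} (s : Finset ι) (h : ι → G) :
    χ 1 * ∑ a ∈ K, ∑ i ∈ s, χ (a * h i) = (∑ a ∈ K, χ a) * ∑ i ∈ s, χ (h i) := by
  classical
  obtain ⟨n, ρ, hρ, rfl⟩ := hχ
  haveI := hρ
  set T := ∑ x ∈ K, ρ x with hT
  have hcomm : ∀ (a : G) v, T (ρ a v) = ρ a (T v) := by
    intro a v
    simp only [hT, LinearMap.sum_apply, map_sum]
    refine Finset.sum_equiv (MulAut.conj a⁻¹).toEquiv (fun x => ?_) (fun x _ => ?_)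
    · simp only [MulEquiv.toEquiv_eq_coe, MulEquiv.coe_toEquiv, MulAut.conj_apply, inv_inv]
      exact ⟨fun H => by simpa using hK a⁻¹ x H,
        fun H => by simpa [mul_assoc] using hK a _ H⟩
    · simp only [MulEquiv.toEquiv_eq_coe, MulEquiv.coe_toEquiv, MulAut.conj_apply, inv_inv]
      rw [← Module.End.mul_apply, ← Module.End.mul_apply, ← map_mul ρ, ← map_mul ρ]
      congr 2
      group
  obtain ⟨c, hc⟩ := schur_scalar ρ T hcomm
  have h1 : ∑ a ∈ K, ρ.character a = c * (finrank ℂ (Fin n → ℂ) : ℂ) := by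
    have h := congrArg (LinearMap.trace ℂ (Fin n → ℂ)) (hT ▸ hc : ∑ x ∈ K, ρ x = _)
    rw [map_sum, map_smul, LinearMap.trace_id, smul_eq_mul] at h
    exact h
  have h2 : ∀ i, ∑ a ∈ K, ρ.character (a * h i) = c * ρ.character (h i) := fun i => by
    show ∑ a ∈ K, LinearMap.trace ℂ _ (ρ (a * h i)) = _
    simp only [map_mul]
    rw [← map_sum, ← Finset.sum_mul, (hT ▸ hc : ∑ x ∈ K, ρ x = _), smul_mul_assoc, map_smul]
    rfl
  rw [Finset.sum_comm, Finset.sum_congr rfl fun i _ => h2 i, h1, ρ.char_one, ← Finset.mul_sum]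
  ring

end Cfsg.Lib.Chars
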