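import Cfsg.Agent.Chars.Core
import Cfsg.Agent.Chars.Count

/-!
# Convolution of irreducible characters and class multiplication constants
-/

namespace Cfsg.Lib.Chars

open scoped ComplexConjugate
open Module

universe u v

variable {G : Type u} [Group G] [Fintype G]

section
variable {V : Type v} [AddCommGroup V] [Module ℂ V] [FiniteDimensional ℂ V]
variable (ρ : Representation ℂ G V) [ρ.IsIrreducible]

/-- A class function averaged against an irreducible representation is a scalar. -/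
theorem sum_smul_rep_eq {f : G → ℂ} (hf : Cfsg.IsClassFunction G f) :
    ∑ x, f x • ρ x = ((∑ x, f x * ρ.character x) / (finrank ℂ V : ℂ)) • LinearMap.id := by
  obtain ⟨c, hc⟩ := schur_scalar ρ (∑ x, f x • ρ x) fun a v => by
    simp only [LinearMap.sum_apply, LinearMap.smul_apply, map_sum, map_smul]
    refine Fintype.sum_equiv (MulAut.conj a⁻¹).toEquiv _ _ fun x => ?_
    simp only [MulEquiv.toEquiv_eq_coe, MulEquiv.coe_toEquiv, MulAut.conj_apply]
    rw [hf x a⁻¹]
    congr 1
    rw [← Module.End.mul_apply, ← Module.End.mul_apply, ← map_mul, ← map_mul]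
    congr 2
    group
  have ht : ∑ x, f x * ρ.character x = c * (finrank ℂ V : ℂ) := by
    have := congrArg (LinearMap.trace ℂ V) hc
    rw [map_smul, LinearMap.trace_id, map_sum, smul_eq_mul] at this
    rw [← this]
    exact Finset.sum_congr rfl fun x _ => by rw [map_smul, smul_eq_mul]; rfl
  rw [ht, mul_div_assoc, div_self (by exact_mod_cast (finrank_pos_of_irreducible ρ).ne'), mul_one,
    hc]

theorem sum_smul_rep_trace {f : G → ℂ} (hf : Cfsg.IsClassFunction G f) (g : G) :
    ∑ x, f x * ρ.character (x * g) =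
      (∑ x, f x * ρ.character x) / (finrank ℂ V : ℂ) * ρ.character g := by
  have h := congrArg (fun T => LinearMap.trace ℂ V (T * ρ g)) (sum_smul_rep_eq ρ hf)
  simp only [Finset.sum_mul, map_sum, smul_mul_assoc, map_smul, smul_eq_mul, ← map_mul ρ] at h
  rw [show LinearMap.id * ρ g = ρ g from one_mul _] at h
  exact h

end

/-- The convolution of an irreducible character with itself. -/
theorem sum_irr_mul_inv_mul {χ : G → ℂ} (hχ : Cfsg.IsIrrCharacter G χ) (g : G) :
    ∑ a, χ a * χ (a⁻¹ * g) = (Nat.card G : ℂ) * χ g / χ 1 := by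
  have hcl := isClassFunction_isChar (isCharacter_of_irr hχ)
  have hn := classInner_self_irr hχ
  rw [classInner_def, inv_mul_eq_iff_eq_mul₀ (by exact_mod_cast Nat.card_pos.ne'), mul_one] at hn
  have hc : ∀ a, conj (χ a) = χ a⁻¹ := fun a => by
    rw [IsCharacter.conj_inv (isCharacter_of_irr hχ)]
  obtain ⟨n, ρ, hρ, rfl⟩ := hχ
  have h := sum_smul_rep_trace ρ (f := fun a => ρ.character a⁻¹)
    (fun a b => by
      show ρ.character (b * a * b⁻¹)⁻¹ = _
      rw [show (b * a * b⁻¹)⁻¹ = b * a⁻¹ * b⁻¹ by group]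
      exact hcl a⁻¹ b) g
  rw [← Fintype.sum_equiv (Equiv.inv G) (fun a => ρ.character a⁻¹ * ρ.character (a * g)) _
    (fun a => by simp), h, ρ.char_one]
  rw [Finset.sum_congr rfl fun a _ => show ρ.character a⁻¹ * ρ.character a =
    ρ.character a * conj (ρ.character a) by rw [hc, mul_comm], hn]
  ring

open scoped Classical in
/-- The sum of `χ` over products of two classes. -/
theorem sum_class_products {χ : G → ℂ} (hχ : Cfsg.IsIrrCharacter G χ) (a b z : G) :
    ∑ x ∈ Finset.univ.filter (IsConj a), ∑ y ∈ Finset.univ.filter (IsConj b), χ (x * y * z) =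
      (Nat.card {x : G // IsConj a x} : ℂ) * (Nat.card {x : G // IsConj b x} : ℂ) *
        χ a * χ b * χ z / (χ 1 * χ 1) := by
  have hcl := isClassFunction_isChar (isCharacter_of_irr hχ)
  obtain ⟨n, ρ, hρ, rfl⟩ := hχ
  have key : ∀ c w : G, ∑ x ∈ Finset.univ.filter (IsConj c), ρ.character (x * w) =
      (Nat.card {x : G // IsConj c x} : ℂ) * ρ.character c / ρ.character 1 * ρ.character w := by
    intro c w
    let f : G → ℂ := fun x => if IsConj c x then 1 else 0
    have hf : Cfsg.IsClassFunction G f := by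
      intro x h
      have : IsConj c (h * x * h⁻¹) ↔ IsConj c x :=
        ⟨fun H => H.trans (isConj_iff.mpr ⟨h⁻¹, by group⟩), fun H => H.trans (isConj_iff.mpr ⟨h, rfl⟩)⟩
      simp only [f, this]
    have h := sum_smul_rep_trace ρ hf w
    simp only [f, ite_mul, one_mul, zero_mul, ← Finset.sum_filter] at h
    rw [h, sum_isConj (isClassFunction_character ρ), ρ.char_one]
  simp only [mul_assoc _ _ z]
  rw [Finset.sum_comm, Finset.sum_congr rfl fun y _ => key a (y * z), ← Finset.mul_sum, key b z]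
  ring

open scoped Classical in
theorem class_mult_formula (a b c : G) :
    (Nat.card {p : G × G // IsConj a p.1 ∧ IsConj b p.2 ∧ p.1 * p.2 = c} : ℂ) =
      (Nat.card {x : G // IsConj a x} : ℂ) * (Nat.card {x : G // IsConj b x} : ℂ) /
        (Nat.card G : ℂ) *
        ∑ χ : Cfsg.IrrCharacter G,
          (χ : G → ℂ) a * (χ : G → ℂ) b * conj ((χ : G → ℂ) c) / (χ : G → ℂ) 1 := by
  have h1 : ∀ χ : Cfsg.IrrCharacter G,
      (χ : G → ℂ) 1 * ∑ x ∈ Finset.univ.filter (IsConj a), ∑ y ∈ Finset.univ.filter (IsConj b),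
        (χ : G → ℂ) (x * y * c⁻¹) =
      (Nat.card {x : G // IsConj a x} : ℂ) * (Nat.card {x : G // IsConj b x} : ℂ) *
        ((χ : G → ℂ) a * (χ : G → ℂ) b * conj ((χ : G → ℂ) c) / (χ : G → ℂ) 1) := fun χ => by
    rw [sum_class_products χ.2, IsCharacter.conj_inv (isCharacter_of_irr χ.2)]
    field_simp [IsIrrCharacter.apply_one_ne_zero χ.2]
  have h2 : ∑ χ : Cfsg.IrrCharacter G,
      (χ : G → ℂ) 1 * ∑ x ∈ Finset.univ.filter (IsConj a), ∑ y ∈ Finset.univ.filter (IsConj b),
        (χ : G → ℂ) (x * y * c⁻¹) =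
      (Nat.card G : ℂ) *
        (Nat.card {p : G × G // IsConj a p.1 ∧ IsConj b p.2 ∧ p.1 * p.2 = c} : ℂ) := by
    simp only [Finset.mul_sum]
    rw [Finset.sum_comm, Finset.sum_congr rfl fun x _ => Finset.sum_comm]
    have : ∀ w : G, ∑ χ : Cfsg.IrrCharacter G, (χ : G → ℂ) 1 * (χ : G → ℂ) w =
        if w = 1 then (Nat.card G : ℂ) else 0 := fun w => by
      exact sum_deg_mul w
    simp only [this, mul_inv_eq_one]
    rw [← Finset.sum_product', ← Finset.sum_filter, Finset.sum_const, nsmul_eq_mul, mul_comm,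
      Nat.card_eq_fintype_card (α := {p : G × G // _}), Fintype.card_subtype]
    congr 2
    rw [← Finset.filter_univ_mem (Finset.filter _ _)]
    congr 1
    refine Finset.filter_congr fun p _ => ?_
    simp [and_assoc]
  rw [Finset.sum_congr rfl fun χ _ => h1 χ, ← Finset.mul_sum] at h2
  have hG : (Nat.card G : ℂ) ≠ 0 := by exact_mod_cast Nat.card_pos.ne'
  field_simp
  linear_combination -h2

open scoped Classical in
theorem card_commutator_eq (g : G) :
    (Nat.card {p : G × G // g = p.1 * p.2 * p.1⁻¹ * p.2⁻¹} : ℂ) =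
      (Nat.card G : ℂ) * ∑ χ : Cfsg.IrrCharacter G, (χ : G → ℂ) g / (χ : G → ℂ) 1 := by
  have hb : ∀ a : G, (Nat.card {b : G // g = a * b * a⁻¹ * b⁻¹} : ℂ) =
      ∑ χ : Cfsg.IrrCharacter G, (χ : G → ℂ) (a⁻¹ * g) * conj ((χ : G → ℂ) a⁻¹) := by
    intro a
    rw [second_orthogonality]
    have heq : ∀ b : G, g = a * b * a⁻¹ * b⁻¹ ↔ b * a⁻¹ * b⁻¹ = a⁻¹ * g := fun b => by
      constructor
      · rintro rfl; group
      · intro h
        rw [show a * b * a⁻¹ * b⁻¹ = a * (b * a⁻¹ * b⁻¹) by group, h]; group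
    rw [Nat.card_congr (Equiv.subtypeEquivRight heq)]
    split_ifs with h
    · obtain ⟨b₀, hb₀⟩ := isConj_iff.mp h.symm
      congr 1
      refine Nat.card_congr ((Equiv.mulRight b₀⁻¹).subtypeEquiv fun b => ?_)
      rw [Subgroup.mem_centralizer_singleton_iff, Equiv.coe_mulRight]
      constructor
      · intro hb
        have : b * a⁻¹ * b⁻¹ * b = a⁻¹ * g * b := by rw [hb]
        rw [inv_mul_cancel_right] at this
        have h2 : b₀⁻¹ * (a⁻¹ * g) = a⁻¹ * b₀⁻¹ := by rw [← hb₀]; group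
        rw [mul_assoc b, h2, ← mul_assoc b, this]
        group
      · intro hb
        rw [show b = b * b₀⁻¹ * b₀ by group, show b * b₀⁻¹ * b₀ * a⁻¹ * (b * b₀⁻¹ * b₀)⁻¹ =
          b * b₀⁻¹ * (b₀ * a⁻¹ * b₀⁻¹) * (b * b₀⁻¹)⁻¹ by group, hb₀, hb]
        group
    · have : IsEmpty {b : G // b * a⁻¹ * b⁻¹ = a⁻¹ * g} :=
        ⟨fun b => h (isConj_iff.mpr ⟨b.1, b.2⟩).symm⟩
      simp
  rw [Nat.card_congr (show {p : G × G // g = p.1 * p.2 * p.1⁻¹ * p.2⁻¹} ≃
      Σ a : G, {b : G // g = a * b * a⁻¹ * b⁻¹} from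
    { toFun := fun p => ⟨p.1.1, p.1.2, p.2⟩
      invFun := fun s => ⟨(s.1, s.2.1), s.2.2⟩
      left_inv := fun p => rfl
      right_inv := fun s => rfl }), Nat.card_sigma, Nat.cast_sum]
  rw [Finset.sum_congr rfl fun a _ => hb a, Finset.sum_comm, Finset.mul_sum]
  refine Finset.sum_congr rfl fun χ _ => ?_
  rw [← mul_div_assoc, ← sum_irr_mul_inv_mul χ.2]
  refine Finset.sum_congr rfl fun a _ => ?_
  rw [IsCharacter.conj_inv (isCharacter_of_irr χ.2), Complex.conj_conj, mul_comm]

end Cfsg.Lib.Chars
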