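import Cfsg.Agent.Chars.Irr

/-!
# Characters: closure properties and criteria
-/

namespace Cfsg.Lib.Chars

open scoped ComplexConjugate
open Module

universe u v w

variable {G : Type u} [Group G]

theorem isCharacter_zero : Cfsg.IsCharacter G 0 := by
  refine ⟨0, 1, funext fun g => ?_⟩
  simp [Representation.character, LinearMap.trace_one]

theorem IsCharacter.add {χ ψ : G → ℂ} (h₁ : Cfsg.IsCharacter G χ) (h₂ : Cfsg.IsCharacter G ψ) :
    Cfsg.IsCharacter G (χ + ψ) := by
  obtain ⟨n, ρ, rfl⟩ := h₁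
  obtain ⟨m, σ, rfl⟩ := h₂
  rw [← character_prod]
  exact isCharacter_character _

theorem IsCharacter.sum {ι : Type*} (s : Finset ι) (f : ι → G → ℂ)
    (h : ∀ i ∈ s, Cfsg.IsCharacter G (f i)) : Cfsg.IsCharacter G (∑ i ∈ s, f i) :=
  Finset.sum_induction f (Cfsg.IsCharacter G) (fun _ _ => IsCharacter.add) isCharacter_zero h

theorem IsCharacter.nsmul {χ : G → ℂ} (h : Cfsg.IsCharacter G χ) (n : ℕ) :
    Cfsg.IsCharacter G (n • χ) := by
  induction n with
  | zero => simpa using isCharacter_zero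
  | succ n ih => rw [succ_nsmul]; exact IsCharacter.add ih h

theorem IsCharacter.mul {χ ψ : G → ℂ} (h₁ : Cfsg.IsCharacter G χ) (h₂ : Cfsg.IsCharacter G ψ) :
    Cfsg.IsCharacter G (χ * ψ) := by
  obtain ⟨n, ρ, rfl⟩ := h₁
  obtain ⟨m, σ, rfl⟩ := h₂
  rw [← Representation.char_tensor]
  exact isCharacter_character _

theorem IsCharacter.conjugate [Finite G] {χ : G → ℂ} (h : Cfsg.IsCharacter G χ) :
    Cfsg.IsCharacter G (fun g => conj (χ g)) := by
  obtain ⟨n, ρ, rfl⟩ := h
  have : (fun g => conj (ρ.character g)) = ρ.dual.character := by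
    funext g; rw [Representation.char_dual, character_inv]
  rw [this]
  exact isCharacter_character _

theorem IsCharacter.comp_hom {H : Type v} [Group H] {χ : G → ℂ} (h : Cfsg.IsCharacter G χ)
    (f : H →* G) : Cfsg.IsCharacter H (fun x => χ (f x)) := by
  obtain ⟨n, ρ, rfl⟩ := h
  exact ⟨n, ρ.comp f, rfl⟩

theorem IsCharacter.restrict {χ : G → ℂ} (h : Cfsg.IsCharacter G χ) (H : Subgroup G) :
    Cfsg.IsCharacter H (fun x : H => χ x) :=
  IsCharacter.comp_hom h H.subtype

/-- A one-dimensional representation from a linear character. -/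
noncomputable def linRep (f : G →* ℂˣ) : Representation ℂ G ℂ where
  toFun g := (f g : ℂ) • LinearMap.id
  map_one' := by ext; simp
  map_mul' g h := by ext; simp [mul_comm]

theorem character_linRep (f : G →* ℂˣ) : (linRep f).character = fun g => (f g : ℂ) := by
  funext g
  simp [Representation.character, linRep, LinearMap.trace_id]

theorem isIrreducible_of_finrank_one {V : Type v} [AddCommGroup V] [Module ℂ V]
    (ρ : Representation ℂ G V) (h : finrank ℂ V = 1) : ρ.IsIrreducible := by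
  have := Module.nontrivial_of_finrank_eq_succ h
  have : Nontrivial (Subrepresentation ρ) := by
    refine ⟨⊥, ⊤, fun h' => ?_⟩
    have h2 : (⊥ : Submodule ℂ V) = ⊤ := congrArg Subrepresentation.toSubmodule h'
    exact bot_ne_top h2
  refine ⟨fun S => ?_⟩
  have : IsSimpleOrder (Submodule ℂ V) := (isSimpleModule_iff ℂ V).mp
    (isSimpleModule_iff_finrank_eq_one.mpr h)
  rcases IsSimpleOrder.eq_bot_or_eq_top S.toSubmodule with h' | h'
  · exact Or.inl (Subrepresentation.toSubmodule_injective h')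
  · exact Or.inr (Subrepresentation.toSubmodule_injective h')

theorem isIrrCharacter_linear (f : G →* ℂˣ) : Cfsg.IsIrrCharacter G (fun g => (f g : ℂ)) := by
  have := isIrreducible_of_finrank_one (linRep f) (Module.finrank_self ℂ)
  rw [← character_linRep]
  exact isIrrCharacter_character _

theorem isCharacter_linear (f : G →* ℂˣ) : Cfsg.IsCharacter G (fun g => (f g : ℂ)) :=
  isCharacter_of_irr (isIrrCharacter_linear f)

theorem isIrrCharacter_one : Cfsg.IsIrrCharacter G (fun _ => 1) := by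
  simpa using isIrrCharacter_linear (1 : G →* ℂˣ)

theorem isCharacter_one : Cfsg.IsCharacter G (fun _ => 1) := isCharacter_of_irr isIrrCharacter_one

/-- The principal character. -/
noncomputable def principal (G : Type u) [Group G] : Cfsg.IrrCharacter G :=
  ⟨fun _ => 1, isIrrCharacter_one⟩

/-- A character of degree one is a linear character. -/
theorem exists_hom_of_deg_one {χ : G → ℂ} (h : Cfsg.IsCharacter G χ) (h1 : χ 1 = 1) :
    ∃ f : G →* ℂˣ, χ = fun g => (f g : ℂ) := by
  obtain ⟨n, ρ, rfl⟩ := h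
  have hn : n = 1 := by
    have := ρ.char_one
    rw [h1] at this
    simpa using (Nat.cast_injective (R := ℂ) (by simpa using this.symm) : n = 1)
  subst hn
  have hχ : ∀ g, ρ.character g = LinearMap.toMatrix' (ρ g) 0 0 := fun g => by
    simp [Representation.character, LinearMap.trace_eq_matrix_trace ℂ (Pi.basisFun ℂ (Fin 1)),
      Matrix.trace, LinearMap.toMatrix_eq_toMatrix']
  have hmul : ∀ a b, ρ.character (a * b) = ρ.character a * ρ.character b := fun a b => by
    rw [hχ, hχ, hχ, map_mul ρ, LinearMap.toMatrix'_mul, Matrix.mul_apply]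
    simp
  let f : G →* ℂ := ⟨⟨ρ.character, h1⟩, hmul⟩
  exact ⟨f.toHomUnits, funext fun g => by simp [f]⟩

theorem isIrrCharacter_of_deg_one {χ : G → ℂ} (h : Cfsg.IsCharacter G χ) (h1 : χ 1 = 1) :
    Cfsg.IsIrrCharacter G χ := by
  obtain ⟨f, rfl⟩ := exists_hom_of_deg_one h h1
  exact isIrrCharacter_linear f

/-! ## Criteria -/

section Criteria

variable [Fintype G]

/-- A class function is a character iff all its multiplicities are natural numbers. -/
theorem isCharacter_of_coeff {f : G → ℂ} (hf : Cfsg.IsClassFunction G f)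
    (h : ∀ χ : Cfsg.IrrCharacter G, ∃ m : ℕ, Cfsg.classInner f χ = m) :
    Cfsg.IsCharacter G f := by
  choose m hm using h
  rw [classFunction_expand hf]
  refine IsCharacter.sum _ _ fun χ _ => ?_
  rw [hm χ, Nat.cast_smul_eq_nsmul]
  exact IsCharacter.nsmul (isCharacter_of_irr χ.2) _

theorem isCharacter_iff_coeff {f : G → ℂ} :
    Cfsg.IsCharacter G f ↔ Cfsg.IsClassFunction G f ∧
      ∀ χ : Cfsg.IrrCharacter G, ∃ m : ℕ, Cfsg.classInner f χ = m :=
  ⟨fun h => ⟨isClassFunction_isChar h, fun χ => IsCharacter.exists_mult h χ.2⟩,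
    fun h => isCharacter_of_coeff h.1 h.2⟩

theorem classInner_self_decomp (a : Cfsg.IrrCharacter G → ℂ) :
    Cfsg.classInner (∑ χ, a χ • (χ : G → ℂ)) (∑ χ, a χ • (χ : G → ℂ)) =
      ∑ χ, a χ * conj (a χ) := by
  classical
  rw [classInner_sum_right]
  refine Finset.sum_congr rfl fun χ _ => ?_
  rw [classInner_smul_right, classInner_irrSum, mul_comm]

/-- A character of norm one is irreducible. -/
theorem isIrrCharacter_of_norm_one {f : G → ℂ} (h : Cfsg.IsCharacter G f)
    (hn : Cfsg.classInner f f = 1) : Cfsg.IsIrrCharacter G f := by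
  classical
  obtain ⟨m, rfl⟩ := IsCharacter.exists_decomp h
  simp only [← Nat.cast_smul_eq_nsmul ℂ] at hn ⊢
  rw [classInner_self_decomp] at hn
  have h2 : ∑ χ, m χ * m χ = 1 := by
    apply Nat.cast_injective (R := ℂ)
    simpa using hn
  obtain ⟨χ₀, -, hχ₀⟩ := Finset.exists_ne_zero_of_sum_ne_zero (h2.symm ▸ one_ne_zero)
  have h3 := Finset.add_sum_erase Finset.univ (fun χ => m χ * m χ) (Finset.mem_univ χ₀)
  rw [h2] at h3
  have h4 : 0 < m χ₀ * m χ₀ := Nat.pos_of_ne_zero hχ₀
  have hrest : ∀ χ, χ ≠ χ₀ → m χ = 0 := by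
    intro χ hχ
    have h5 : ∑ x ∈ Finset.univ.erase χ₀, m x * m x = 0 := by omega
    have := Finset.sum_eq_zero_iff.mp h5 χ (by simp [hχ])
    simpa using this
  have hm1 : m χ₀ = 1 := by
    have : m χ₀ * m χ₀ = 1 := by omega
    exact Nat.eq_one_of_mul_eq_one_right this
  rw [Finset.sum_eq_single χ₀ (fun χ _ hχ => by rw [hrest χ hχ]; simp) (by simp), hm1]
  simpa using χ₀.2

theorem classInner_self_irr {χ : G → ℂ} (h : Cfsg.IsIrrCharacter G χ) :
    Cfsg.classInner χ χ = 1 := by
  classical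
  simp [classInner_irrChar h h]

theorem isIrrCharacter_iff_norm_one {f : G → ℂ} :
    Cfsg.IsIrrCharacter G f ↔ Cfsg.IsCharacter G f ∧ Cfsg.classInner f f = 1 :=
  ⟨fun h => ⟨isCharacter_of_irr h, classInner_self_irr h⟩,
    fun h => isIrrCharacter_of_norm_one h.1 h.2⟩

theorem exists_int_decomp {f : G → ℂ} (h : Cfsg.IsGeneralizedCharacter G f) :
    ∃ a : Cfsg.IrrCharacter G → ℤ, f = ∑ χ, (a χ : ℂ) • (χ : G → ℂ) := by
  obtain ⟨χ, ψ, hχ, hψ, rfl⟩ := h
  obtain ⟨m, rfl⟩ := IsCharacter.exists_decomp hχ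
  obtain ⟨n, rfl⟩ := IsCharacter.exists_decomp hψ
  refine ⟨fun χ => (m χ : ℤ) - n χ, ?_⟩
  rw [← Finset.sum_sub_distrib]
  refine Finset.sum_congr rfl fun χ _ => ?_
  simp [sub_smul, Nat.cast_smul_eq_nsmul]

theorem IsGeneralizedCharacter.exists_mult {f : G → ℂ} (h : Cfsg.IsGeneralizedCharacter G f)
    {χ : G → ℂ} (hχ : Cfsg.IsIrrCharacter G χ) : ∃ m : ℤ, Cfsg.classInner f χ = m := by
  obtain ⟨a, b, ha, hb, rfl⟩ := h
  obtain ⟨m, hm⟩ := IsCharacter.exists_mult ha hχ
  obtain ⟨n, hn⟩ := IsCharacter.exists_mult hb hχ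
  exact ⟨m - n, by simp [classInner_sub_left, hm, hn]⟩

theorem isGeneralized_of_coeff {f : G → ℂ} (hf : Cfsg.IsClassFunction G f)
    (h : ∀ χ : Cfsg.IrrCharacter G, ∃ m : ℤ, Cfsg.classInner f χ = m) :
    Cfsg.IsGeneralizedCharacter G f := by
  choose m hm using h
  refine ⟨∑ χ, (m χ).toNat • (χ : G → ℂ), ∑ χ, (-m χ).toNat • (χ : G → ℂ),
    IsCharacter.sum _ _ fun χ _ => IsCharacter.nsmul (isCharacter_of_irr χ.2) _,
    IsCharacter.sum _ _ fun χ _ => IsCharacter.nsmul (isCharacter_of_irr χ.2) _, ?_⟩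
  rw [← Finset.sum_sub_distrib]
  conv_lhs => rw [classFunction_expand hf]
  refine Finset.sum_congr rfl fun χ _ => ?_
  rw [hm χ, ← Nat.cast_smul_eq_nsmul ℂ, ← Nat.cast_smul_eq_nsmul ℂ, ← sub_smul]
  congr 1
  have : ((m χ).toNat : ℤ) - ((-m χ).toNat : ℤ) = m χ := by omega
  exact_mod_cast this.symm

end Criteria

theorem IsCharacter.isGeneralized {χ : G → ℂ} (h : Cfsg.IsCharacter G χ) :
    Cfsg.IsGeneralizedCharacter G χ :=
  ⟨χ, 0, h, isCharacter_zero, by simp⟩

theorem isClassFunction_generalized {f : G → ℂ} (h : Cfsg.IsGeneralizedCharacter G f) :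
    Cfsg.IsClassFunction G f := by
  obtain ⟨χ, ψ, hχ, hψ, rfl⟩ := h
  intro a b
  simp [isClassFunction_isChar hχ a b, isClassFunction_isChar hψ a b]

theorem IsGeneralizedCharacter.add {f f' : G → ℂ} (h₁ : Cfsg.IsGeneralizedCharacter G f)
    (h₂ : Cfsg.IsGeneralizedCharacter G f') : Cfsg.IsGeneralizedCharacter G (f + f') := by
  obtain ⟨a, b, ha, hb, rfl⟩ := h₁
  obtain ⟨c, d, hc, hd, rfl⟩ := h₂
  exact ⟨a + c, b + d, IsCharacter.add ha hc, IsCharacter.add hb hd, by abel⟩

theorem IsGeneralizedCharacter.neg {f : G → ℂ} (h₁ : Cfsg.IsGeneralizedCharacter G f) :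
    Cfsg.IsGeneralizedCharacter G (-f) := by
  obtain ⟨a, b, ha, hb, rfl⟩ := h₁
  exact ⟨b, a, hb, ha, by abel⟩

theorem isGeneralized_zero : Cfsg.IsGeneralizedCharacter G 0 :=
  IsCharacter.isGeneralized isCharacter_zero

theorem IsGeneralizedCharacter.sub {f f' : G → ℂ} (h₁ : Cfsg.IsGeneralizedCharacter G f)
    (h₂ : Cfsg.IsGeneralizedCharacter G f') : Cfsg.IsGeneralizedCharacter G (f - f') := by
  rw [sub_eq_add_neg]; exact IsGeneralizedCharacter.add h₁ (IsGeneralizedCharacter.neg h₂)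

theorem IsGeneralizedCharacter.sum {ι : Type*} (s : Finset ι) (f : ι → G → ℂ)
    (h : ∀ i ∈ s, Cfsg.IsGeneralizedCharacter G (f i)) :
    Cfsg.IsGeneralizedCharacter G (∑ i ∈ s, f i) :=
  Finset.sum_induction f (Cfsg.IsGeneralizedCharacter G)
    (fun _ _ => IsGeneralizedCharacter.add) isGeneralized_zero h

theorem IsGeneralizedCharacter.zsmul {f : G → ℂ} (h : Cfsg.IsGeneralizedCharacter G f) (n : ℤ) :
    Cfsg.IsGeneralizedCharacter G (n • f) := by
  obtain ⟨a, b, ha, hb, rfl⟩ := h
  rcases Int.eq_nat_or_neg n with ⟨k, rfl | rfl⟩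
  · exact ⟨k • a, k • b, IsCharacter.nsmul ha k, IsCharacter.nsmul hb k, by simp [smul_sub]⟩
  · exact ⟨k • b, k • a, IsCharacter.nsmul hb k, IsCharacter.nsmul ha k, by simp [smul_sub]; ring⟩

theorem IsGeneralizedCharacter.mul {f f' : G → ℂ} (h₁ : Cfsg.IsGeneralizedCharacter G f)
    (h₂ : Cfsg.IsGeneralizedCharacter G f') : Cfsg.IsGeneralizedCharacter G (f * f') := by
  obtain ⟨a, b, ha, hb, rfl⟩ := h₁
  obtain ⟨c, d, hc, hd, rfl⟩ := h₂
  exact ⟨a * c + b * d, a * d + b * c, IsCharacter.add (IsCharacter.mul ha hc) (IsCharacter.mul hb hd),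
    IsCharacter.add (IsCharacter.mul ha hd) (IsCharacter.mul hb hc), by ring⟩

theorem IsGeneralizedCharacter.comp_hom {H : Type v} [Group H] {f : G → ℂ}
    (h : Cfsg.IsGeneralizedCharacter G f) (φ : H →* G) :
    Cfsg.IsGeneralizedCharacter H (fun x => f (φ x)) := by
  obtain ⟨a, b, ha, hb, rfl⟩ := h
  exact ⟨_, _, IsCharacter.comp_hom ha φ, IsCharacter.comp_hom hb φ, rfl⟩

theorem IsGeneralizedCharacter.apply_one {f : G → ℂ} (h : Cfsg.IsGeneralizedCharacter G f) :
    ∃ n : ℤ, f 1 = n := by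
  obtain ⟨a, b, ha, hb, rfl⟩ := h
  obtain ⟨m, hm⟩ := IsCharacter.apply_one ha
  obtain ⟨n, hn⟩ := IsCharacter.apply_one hb
  exact ⟨m - n, by simp [hm, hn]⟩

/-- A generalized character of norm one is an irreducible character up to sign. -/
theorem isIrr_or_neg_of_norm_one [Fintype G] {f : G → ℂ} (h : Cfsg.IsGeneralizedCharacter G f)
    (hn : Cfsg.classInner f f = 1) :
    Cfsg.IsIrrCharacter G f ∨ Cfsg.IsIrrCharacter G (-f) := by
  classical
  obtain ⟨a, rfl⟩ := exists_int_decomp h
  rw [classInner_self_decomp] at hn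
  have h2 : ∑ χ, a χ * a χ = 1 := by
    apply Int.cast_injective (α := ℂ)
    simpa using hn
  obtain ⟨χ₀, -, hχ₀⟩ := Finset.exists_ne_zero_of_sum_ne_zero (h2.symm ▸ one_ne_zero)
  have h3 := Finset.add_sum_erase Finset.univ (fun χ => a χ * a χ) (Finset.mem_univ χ₀)
  rw [h2] at h3
  have h4 : 0 < a χ₀ * a χ₀ := lt_of_le_of_ne (mul_self_nonneg _) (Ne.symm hχ₀)
  have h6 : 0 ≤ ∑ x ∈ Finset.univ.erase χ₀, a x * a x :=
    Finset.sum_nonneg fun x _ => mul_self_nonneg _
  have hrest : ∀ χ, χ ≠ χ₀ → a χ = 0 := by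
    intro χ hχ
    have h5 : ∑ x ∈ Finset.univ.erase χ₀, a x * a x = 0 := by omega
    have := (Finset.sum_eq_zero_iff_of_nonneg fun x _ => mul_self_nonneg _).mp h5 χ (by simp [hχ])
    simpa using this
  have hm1 : a χ₀ = 1 ∨ a χ₀ = -1 := by
    apply mul_self_eq_one_iff.mp
    omega
  rw [Finset.sum_eq_single χ₀ (fun χ _ hχ => by rw [hrest χ hχ]; simp) (by simp)]
  rcases hm1 with h1 | h1 <;> rw [h1]
  · left; simpa using χ₀.2
  · right; simpa using χ₀.2

/-! ## Inflation and automorphisms -/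

theorem classInner_comp_surjective [Fintype G] {H : Type v} [Group H] [Fintype H]
    (f : H →* G) (hf : Function.Surjective f) (φ ψ : G → ℂ) :
    Cfsg.classInner (fun x => φ (f x)) (fun x => ψ (f x)) = Cfsg.classInner φ ψ := by
  classical
  have hfib : ∀ g : G, (Finset.univ.filter fun x => f x = g).card =
      (Finset.univ.filter fun x => f x = 1).card := fun g =>
    MonoidHom.card_fiber_eq_of_mem_range f (by simp [Set.mem_range]; exact hf g) ⟨1, map_one f⟩
  have hcard : Fintype.card H = Fintype.card G * (Finset.univ.filter fun x => f x = 1).card := by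
    rw [← Finset.card_univ, Finset.card_eq_sum_card_fiberwise (fun x _ => Finset.mem_univ (f x))]
    simp [hfib]
  have hsum : ∑ x : H, φ (f x) * conj (ψ (f x)) =
      ((Finset.univ.filter fun x => f x = 1).card : ℂ) * ∑ g : G, φ g * conj (ψ g) := by
    rw [← Finset.sum_fiberwise Finset.univ f, Finset.mul_sum]
    refine Finset.sum_congr rfl fun g _ => ?_
    rw [← hfib g, Finset.sum_congr rfl (g := fun _ => φ g * conj (ψ g))
      (fun x hx => by rw [(Finset.mem_filter.mp hx).2])]
    simp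
  have hpos : ((Finset.univ.filter fun x => f x = 1).card : ℂ) ≠ 0 := by
    exact_mod_cast (Finset.card_pos.mpr ⟨1, by simp⟩).ne'
  simp only [classInner_def, Nat.card_eq_fintype_card, hsum, hcard, Nat.cast_mul]
  field_simp

/-- Inflation along a surjective homomorphism preserves irreducibility. -/
theorem IsIrrCharacter.comp_surjective [Finite G] {H : Type v} [Group H] [Finite H] {χ : G → ℂ}
    (h : Cfsg.IsIrrCharacter G χ) (f : H →* G) (hf : Function.Surjective f) :
    Cfsg.IsIrrCharacter H (fun x => χ (f x)) := by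
  have := Fintype.ofFinite G
  have := Fintype.ofFinite H
  refine isIrrCharacter_of_norm_one (IsCharacter.comp_hom (isCharacter_of_irr h) f) ?_
  rw [classInner_comp_surjective f hf, classInner_self_irr h]

/-- An irreducible character of `G` constant on kernel cosets descends along a surjection. -/
theorem IsIrrCharacter.descend [Finite G] {H : Type v} [Group H] [Finite H] {χ : G → ℂ}
    (hc : Cfsg.IsCharacter G χ) (f : H →* G) (hf : Function.Surjective f)
    (h : Cfsg.IsIrrCharacter H (fun x => χ (f x))) : Cfsg.IsIrrCharacter G χ := by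
  have := Fintype.ofFinite G
  have := Fintype.ofFinite H
  refine isIrrCharacter_of_norm_one hc ?_
  rw [← classInner_comp_surjective f hf, classInner_self_irr h]

theorem IsIrrCharacter.comp_mulEquiv [Finite G] {H : Type v} [Group H] {χ : G → ℂ}
    (h : Cfsg.IsIrrCharacter G χ) (e : H ≃* G) : Cfsg.IsIrrCharacter H (fun x => χ (e x)) := by
  have : Finite H := Finite.of_equiv G e.symm.toEquiv
  exact IsIrrCharacter.comp_surjective h e.toMonoidHom e.surjective

theorem IsIrrCharacter.conjugate [Finite G] {χ : G → ℂ} (h : Cfsg.IsIrrCharacter G χ) :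
    Cfsg.IsIrrCharacter G (fun g => conj (χ g)) := by
  have := Fintype.ofFinite G
  refine isIrrCharacter_of_norm_one (IsCharacter.conjugate (isCharacter_of_irr h)) ?_
  have : Cfsg.classInner (fun g => conj (χ g)) (fun g => conj (χ g)) =
      conj (Cfsg.classInner χ χ) := by
    simp [classInner_def, map_sum]
  rw [this, classInner_self_irr h, map_one]

/-- Multiplying an irreducible character by a linear character gives an irreducible character. -/
theorem IsIrrCharacter.mul_linear [Finite G] {χ : G → ℂ} (h : Cfsg.IsIrrCharacter G χ)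
    (f : G →* ℂˣ) : Cfsg.IsIrrCharacter G (fun g => (f g : ℂ) * χ g) := by
  have := Fintype.ofFinite G
  refine isIrrCharacter_of_norm_one
    (IsCharacter.mul (isCharacter_linear f) (isCharacter_of_irr h)) ?_
  have hmul : ∀ g, (f g : ℂ) * conj (f g : ℂ) = 1 := by
    intro g
    have := IsCharacter.conj_inv (isCharacter_linear f) g
    rw [← this, ← Units.val_mul, ← map_mul, mul_inv_cancel, map_one, Units.val_one]
  have : Cfsg.classInner ((fun g => (f g : ℂ)) * χ) ((fun g => (f g : ℂ)) * χ) =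
      Cfsg.classInner χ χ := by
    simp only [classInner_def, Pi.mul_apply, map_mul]
    congr 1
    refine Finset.sum_congr rfl fun g _ => ?_
    linear_combination (χ g * conj (χ g)) * hmul g
  exact this.trans (classInner_self_irr h)

end Cfsg.Lib.Chars
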