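import Cfsg.Agent.Chars.Galois
import Cfsg.Agent.Chars.Induced

/-!
# The degree divides the index of a subgroup acting by scalars
-/

namespace Cfsg.Lib.Chars

open scoped ComplexConjugate
open Module

universe u v

/-- An irreducible character trivial on a normal subgroup has degree dividing the index. -/
theorem deg_dvd_index_of_le_ker {G : Type u} [Group G] [Finite G] {χ : G → ℂ}
    (hχ : Cfsg.IsIrrCharacter G χ) (K : Subgroup G) [K.Normal] (hK : ∀ a ∈ K, χ a = χ 1) :
    deg χ ∣ K.index := by
  have := Fintype.ofFinite G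
  obtain ⟨n, ρ, hρ, rfl⟩ := hχ
  have hker : K ≤ ρ.ker := fun a ha =>
    (eq_id_of_character_eq_finrank ρ a).mp (by rw [hK a ha, ρ.char_one])
  let ρ' : Representation ℂ (G ⧸ K) (Fin n → ℂ) := QuotientGroup.lift K ρ hker
  have h1 : ρ.character = fun g => ρ'.character (QuotientGroup.mk' K g) := rfl
  have h2 : Cfsg.IsIrrCharacter (G ⧸ K) ρ'.character := by
    have : Fintype (G ⧸ K) := Fintype.ofFinite _
    refine IsIrrCharacter.descend (isCharacter_character ρ') (QuotientGroup.mk' K)
      (QuotientGroup.mk'_surjective K) ?_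
    rw [← h1]
    exact isIrrCharacter_character ρ
  have h3 := IsIrrCharacter.deg_dvd h2
  rw [deg_character] at h3 ⊢
  exact h3

/-- Divisibility from a family of power divisibilities. -/
theorem dvd_of_pow_dvd_pow_mul {e r c : ℕ} (hr : r ≠ 0) (hc : c ≠ 0)
    (h : ∀ k : ℕ, 0 < k → e ^ k ∣ r ^ k * c) : e ∣ r := by
  have he : e ≠ 0 := by
    rintro rfl
    have := h 1 one_pos
    simp [hr, hc] at this
  rw [← Nat.factorization_le_iff_dvd he hr]
  intro p
  have h1 := (Nat.factorization_le_iff_dvd (pow_ne_zero _ he)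
    (mul_ne_zero (pow_ne_zero _ hr) hc)).mpr (h (c.factorization p + 1) (Nat.succ_pos _)) p
  rw [Nat.factorization_pow, Nat.factorization_mul (pow_ne_zero _ hr) hc,
    Nat.factorization_pow] at h1
  simp only [Finsupp.smul_apply, Finsupp.coe_add, Pi.add_apply, smul_eq_mul] at h1
  by_contra hlt
  push Not at hlt
  have := Nat.mul_le_mul_left (c.factorization p + 1) (Nat.succ_le_of_lt hlt)
  rw [Nat.mul_succ] at this
  omega

/-- The degree of an irreducible representation divides the index of any subgroup acting by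
scalars. -/
theorem finrank_dvd_index_of_scalar {G : Type u} [Group G] [Finite G]
    {V : Type v} [AddCommGroup V] [Module ℂ V] [FiniteDimensional ℂ V]
    (ρ : Representation ℂ G V) [ρ.IsIrreducible] (Z : Subgroup G)
    (hZ : ∀ z ∈ Z, ∃ c : ℂ, ρ z = c • LinearMap.id) : finrank ℂ V ∣ Z.index := by
  classical
  have := Fintype.ofFinite G
  have := nontrivial_of_irreducible ρ
  obtain ⟨v, hv⟩ := exists_ne (0 : V)
  choose c hc using fun z : Z => hZ z z.2
  have huniq : ∀ a b : ℂ, a • (LinearMap.id : V →ₗ[ℂ] V) = b • LinearMap.id → a = b := fun a b h =>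
    smul_left_injective ℂ hv (by simpa using LinearMap.congr_fun h v)
  have hmul : ∀ a b : Z, c (a * b) = c a * c b := fun a b => huniq _ _ <| by
    rw [← hc, Subgroup.coe_mul, map_mul, hc a, hc b]
    ext x
    simp [smul_smul, mul_comm]
  have hone : c 1 = 1 := huniq _ _ <| by
    rw [← hc, OneMemClass.coe_one, map_one, one_smul]
    rfl
  let ω : Z →* ℂˣ := (⟨⟨c, hone⟩, hmul⟩ : Z →* ℂ).toHomUnits
  have hω : ∀ z : Z, (ω z : ℂ) = c z := fun z => rfl
  have : Finite ω.range := Set.finite_range ω
  refine dvd_of_pow_dvd_pow_mul Z.index_ne_zero_of_finite (c := Nat.card ω.range)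
    Nat.card_pos.ne' fun k hk => ?_
  let F : (Fin k → G) → ℂ := fun x => ∏ i, ρ.character (x i)
  have hFc : Cfsg.IsCharacter (Fin k → G) F := by
    have hF : F = ∏ i, fun x : Fin k → G => ρ.character (x i) := by funext x; simp [F]
    rw [hF]
    refine Finset.prod_induction _ (Cfsg.IsCharacter (Fin k → G)) (fun _ _ => IsCharacter.mul)
      ?_ fun i _ => ?_
    · exact isCharacter_one
    · exact IsCharacter.comp_hom (isCharacter_character ρ) (Pi.evalMonoidHom (fun _ : Fin k => G) i)
  have hFirr : Cfsg.IsIrrCharacter (Fin k → G) F := by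
    refine isIrrCharacter_of_norm_one hFc ?_
    have h1 := classInner_self_irr (isIrrCharacter_character ρ)
    rw [classInner_def] at h1 ⊢
    have h2 : ∑ x : Fin k → G, F x * conj (F x) =
        ∏ _i : Fin k, ∑ g : G, ρ.character g * conj (ρ.character g) := by
      rw [Fintype.prod_sum]
      exact Finset.sum_congr rfl fun x _ => by simp only [F, map_prod, Finset.prod_mul_distrib]
    rw [h2, Nat.card_pi, Finset.prod_const, Finset.prod_const, Nat.cast_pow, ← inv_pow, ← mul_pow,
      h1, one_pow]
  let Φ : (Fin k → Z) →* ω.range :=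
    { toFun := fun x => ∏ i, ω.rangeRestrict (x i)
      map_one' := by simp
      map_mul' := fun x y => by simp [Finset.prod_mul_distrib] }
  have hΦ : Function.Surjective Φ := by
    intro y
    obtain ⟨z, rfl⟩ := ω.rangeRestrict_surjective y
    refine ⟨Pi.mulSingle ⟨0, hk⟩ z, ?_⟩
    show ∏ i, ω.rangeRestrict (Pi.mulSingle (M := fun _ : Fin k => Z) ⟨0, hk⟩ z i) = _
    rw [Finset.prod_eq_single (⟨0, hk⟩ : Fin k) (fun i _ hi => by simp [hi]) (by simp)]
    simp
  let inclD : Φ.ker →* (Fin k → G) := (MonoidHom.compLeft Z.subtype (Fin k)).comp Φ.ker.subtype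
  have hinj : Function.Injective inclD := fun a b h => by
    apply Subtype.ext
    funext i
    exact Subtype.ext (congrFun h i)
  have hsub : inclD.range ≤ kerSubgroup F hFc := by
    rintro _ ⟨⟨x, hx⟩, rfl⟩
    rw [mem_kerSubgroup]
    have h1 : ∀ i, ρ.character (x i : G) = c (x i) * (finrank ℂ V : ℂ) := fun i => by
      rw [Representation.character, hc (x i), map_smul, LinearMap.trace_id, smul_eq_mul]
    have hx' : ∏ i, (ω (x i) : ℂ) = 1 := by
      have h2 : Φ x = 1 := hx
      have h3 := congrArg (fun y : ω.range => ((y : ℂˣ) : ℂ)) h2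
      simpa [Φ] using h3
    show ∏ i, ρ.character (x i : G) = ∏ i : Fin k, ρ.character (1 : G)
    simp only [h1, ρ.char_one, Finset.prod_mul_distrib, ← hω, hx', one_mul]
  have := kerSubgroup_normal hFc
  have hd := deg_dvd_index_of_le_ker hFirr (kerSubgroup F hFc) fun a ha => ha
  have hdeg : deg F = finrank ℂ V ^ k := by
    apply Nat.cast_injective (R := ℂ)
    rw [← IsCharacter.apply_one_eq_deg hFc]
    simp [F, ρ.char_one]
  have hdK : Nat.card Φ.ker ∣ Nat.card (kerSubgroup F hFc) := by
    rw [Nat.card_congr (MonoidHom.ofInjective hinj).toEquiv]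
    exact Subgroup.card_dvd_of_le hsub
  have h5 : finrank ℂ V ^ k * Nat.card Φ.ker ∣ Nat.card G ^ k := by
    have hG := (kerSubgroup F hFc).card_mul_index
    rw [Nat.card_pi, Finset.prod_const, Finset.card_univ, Fintype.card_fin] at hG
    rw [hdeg] at hd
    rw [← hG, mul_comm]
    exact mul_dvd_mul hdK hd
  have h6 : Nat.card Φ.ker * Nat.card ω.range = Nat.card Z ^ k := by
    have h := Φ.ker.card_mul_index
    rw [Subgroup.index_ker, MonoidHom.range_eq_top.mpr hΦ, Subgroup.card_top, Nat.card_pi,
      Finset.prod_const, Finset.card_univ, Fintype.card_fin] at h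
    exact h
  have h7 : finrank ℂ V ^ k * Nat.card Z ^ k ∣ Z.index ^ k * Nat.card ω.range * Nat.card Z ^ k := by
    rw [← Z.card_mul_index, mul_pow] at h5
    calc finrank ℂ V ^ k * Nat.card Z ^ k
        = finrank ℂ V ^ k * Nat.card Φ.ker * Nat.card ω.range := by rw [← h6, mul_assoc]
      _ ∣ Nat.card Z ^ k * Z.index ^ k * Nat.card ω.range := mul_dvd_mul_right h5 _
      _ = _ := by ring
  exact Nat.dvd_of_mul_dvd_mul_right (pow_pos Nat.card_pos k) h7

end Cfsg.Lib.Chars
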