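import Cfsg.Agent.Chars.ExtCriteria

/-!
# Gallagher's theorem and uniqueness of extensions
-/

namespace Cfsg.Lib.Chars

open scoped ComplexConjugate
open Module

universe u v

variable {G : Type u} [Group G] [Fintype G]

/-- The inner product of two characters is a natural number. -/
theorem classInner_char_nat {φ ψ : G → ℂ} (hφ : Cfsg.IsCharacter G φ) (hψ : Cfsg.IsCharacter G ψ) :
    ∃ c : ℕ, Cfsg.classInner φ ψ = c := by
  classical
  obtain ⟨m, rfl⟩ := IsCharacter.exists_decomp hψ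
  choose k hk using fun χ : Cfsg.IrrCharacter G => IsCharacter.exists_mult hφ χ.2
  refine ⟨∑ χ, m χ * k χ, ?_⟩
  rw [classInner_sum_right]
  push_cast
  refine Finset.sum_congr rfl fun χ _ => ?_
  rw [← Nat.cast_smul_eq_nsmul ℂ, classInner_smul_right, hk, Complex.conj_natCast]

/-- The norm of a nonzero character is a positive integer. -/
theorem classInner_char_self_pos {φ : G → ℂ} (hφ : Cfsg.IsCharacter G φ) (h0 : φ 1 ≠ 0) :
    ∃ c : ℕ, 0 < c ∧ Cfsg.classInner φ φ = c := by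
  classical
  obtain ⟨m, rfl⟩ := IsCharacter.exists_decomp hφ
  refine ⟨∑ χ, m χ * m χ, ?_, ?_⟩
  · refine Nat.pos_of_ne_zero fun h => h0 ?_
    rw [Finset.sum_apply]
    refine Finset.sum_eq_zero fun χ _ => ?_
    have := (Finset.sum_eq_zero_iff.mp h) χ (Finset.mem_univ _)
    rw [mul_self_eq_zero] at this
    simp [this]
  · simp only [← Nat.cast_smul_eq_nsmul ℂ]
    rw [classInner_self_decomp]
    push_cast
    simp [Complex.conj_natCast]

theorem indFun_mul_restrict (H : Subgroup G) (φ : H → ℂ) {χ : G → ℂ}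
    (hχ : Cfsg.IsClassFunction G χ) :
    Cfsg.indFun H (φ * fun h : H => χ h) = Cfsg.indFun H φ * χ := by
  funext g
  rw [Pi.mul_apply, indFun_apply, indFun_apply, mul_assoc, Finset.sum_mul]
  refine congrArg _ (Finset.sum_congr rfl fun x _ => ?_)
  by_cases h : x⁻¹ * g * x ∈ H
  · rw [extendByZero_mem _ h, extendByZero_mem _ h, Pi.mul_apply]
    congr 1
    have := hχ g x⁻¹
    rwa [inv_inv] at this
  · rw [extendByZero_not_mem _ h, extendByZero_not_mem _ h, zero_mul]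

variable (N : Subgroup G) [N.Normal] [Fintype N]

theorem classInner_indFun_self_of_invariant {θ : N → ℂ} (hθ : Cfsg.IsIrrCharacter N θ)
    (hinv : ∀ g : G, conjN N g θ = θ) :
    Cfsg.classInner (Cfsg.indFun N θ) (Cfsg.indFun N θ) = (N.index : ℂ) := by
  have h := classInner_indFun_eq_card N hθ hθ
  rw [Nat.card_congr (Equiv.subtypeUnivEquiv hinv), ← N.card_mul_index, Nat.cast_mul] at h
  exact mul_left_cancel₀ (by exact_mod_cast Nat.card_pos.ne') h

/-- Gallagher's theorem. -/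
theorem gallagher {φ : N → ℂ} (hφ : Cfsg.IsIrrCharacter N φ)
    (hφinv : ∀ g : G, conjN N g φ = φ) {χ : G → ℂ} (hχ : Cfsg.IsIrrCharacter G χ)
    (hprod : Cfsg.IsIrrCharacter N (φ * fun n : N => χ n)) :
    Set.BijOn (fun β : G → ℂ => β * χ)
      {β : G → ℂ | Cfsg.IsIrrCharacter G β ∧ Cfsg.classInner (Cfsg.indFun N φ) β ≠ 0}
      {ψ : G → ℂ | Cfsg.IsIrrCharacter G ψ ∧
        Cfsg.classInner (Cfsg.indFun N (φ * fun n : N => χ n)) ψ ≠ 0} := by
  classical
  have hχc := isCharacter_of_irr hχ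
  obtain ⟨m, hm⟩ := IsCharacter.exists_decomp (IsCharacter.indFun (G := G) (isCharacter_of_irr hφ))
  simp only [← Nat.cast_smul_eq_nsmul ℂ] at hm
  have hInd : Cfsg.indFun N (φ * fun n : N => χ n) =
      ∑ β : Cfsg.IrrCharacter G, (m β : ℂ) • ((β : G → ℂ) * χ) := by
    rw [indFun_mul_restrict N φ (isClassFunction_isChar hχc), hm, Finset.sum_mul]
    simp only [smul_mul_assoc]
  have hmul : ∀ β : Cfsg.IrrCharacter G,
      Cfsg.classInner (Cfsg.indFun N φ) β = (m β : ℂ) := fun β => by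
    rw [hm]
    exact classInner_irrSum (fun ψ => (m ψ : ℂ)) β
  choose c hc using fun β γ : Cfsg.IrrCharacter G =>
    classInner_char_nat (IsCharacter.mul (isCharacter_of_irr β.2) hχc)
      (IsCharacter.mul (isCharacter_of_irr γ.2) hχc)
  have hcpos : ∀ β, 0 < c β β := fun β => by
    obtain ⟨k, hk, hk'⟩ := classInner_char_self_pos (IsCharacter.mul (isCharacter_of_irr β.2) hχc)
      (mul_ne_zero (IsIrrCharacter.apply_one_ne_zero β.2) (IsIrrCharacter.apply_one_ne_zero hχ))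
    rw [hc] at hk'
    rwa [Nat.cast_inj.mp hk']
  have hinv2 : ∀ g : G, conjN N g (φ * fun n : N => χ n) = φ * fun n : N => χ n := by
    intro g
    funext n
    show conjN N g φ n * χ _ = φ n * χ n
    rw [hφinv g]
    congr 1
    exact isClassFunction_isChar hχc n g
  have hsum : ∑ β, ∑ γ, m β * m γ * c β γ = ∑ β, m β * m β := by
    have h1 := classInner_indFun_self_of_invariant N hprod hinv2
    have h2 := classInner_indFun_self_of_invariant N hφ hφinv
    rw [hInd] at h1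
    rw [hm, classInner_self_decomp, ← h1, classInner_sum_left] at h2
    simp only [classInner_sum_right, classInner_smul_left, classInner_smul_right, hc,
      Complex.conj_natCast] at h2
    apply Nat.cast_injective (R := ℂ)
    push_cast
    refine Eq.trans ?_ h2.symm
    refine Finset.sum_congr rfl fun β _ => ?_
    try rw [Finset.mul_sum]
    exact Finset.sum_congr rfl fun γ _ => by ring
  have hle : ∀ β ∈ (Finset.univ : Finset (Cfsg.IrrCharacter G)),
      m β * m β ≤ ∑ γ, m β * m γ * c β γ := fun β _ =>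
    le_trans (Nat.le_mul_of_pos_right _ (hcpos β))
      (Finset.single_le_sum (f := fun γ => m β * m γ * c β γ) (fun _ _ => Nat.zero_le _)
        (Finset.mem_univ β))
  have heq := (Finset.sum_eq_sum_iff_of_le hle).mp hsum.symm
  have hdiag : ∀ β, m β ≠ 0 → c β β = 1 := fun β h => by
    have h1 : m β * m β * c β β ≤ ∑ γ, m β * m γ * c β γ :=
      Finset.single_le_sum (f := fun γ => m β * m γ * c β γ) (fun _ _ => Nat.zero_le _)
        (Finset.mem_univ β)
    rw [← heq β (Finset.mem_univ _)] at h1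
    have h2 : c β β ≤ 1 := Nat.le_of_mul_le_mul_left (by rwa [mul_one])
      (Nat.mul_pos (Nat.pos_of_ne_zero h) (Nat.pos_of_ne_zero h))
    have := hcpos β
    omega
  have hoff : ∀ β γ, m β ≠ 0 → m γ ≠ 0 → β ≠ γ → c β γ = 0 := fun β γ hb hg hne => by
    have h1 := Finset.add_le_sum (f := fun γ => m β * m γ * c β γ) (fun _ _ => Nat.zero_le _)
      (Finset.mem_univ β) (Finset.mem_univ γ) hne
    rw [← heq β (Finset.mem_univ _)] at h1
    simp only [hdiag β hb, mul_one] at h1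
    have h2 : m β * m γ * c β γ = 0 := by omega
    simpa [hb, hg] using h2
  have hirr : ∀ β : Cfsg.IrrCharacter G, m β ≠ 0 → Cfsg.IsIrrCharacter G ((β : G → ℂ) * χ) :=
    fun β hb => isIrrCharacter_of_norm_one (IsCharacter.mul (isCharacter_of_irr β.2) hχc)
      (by rw [hc, hdiag β hb, Nat.cast_one])
  refine ⟨?_, ?_, ?_⟩
  · rintro β ⟨hβ, hβ0⟩
    have hb : m ⟨β, hβ⟩ ≠ 0 := fun h => hβ0 (by rw [hmul ⟨β, hβ⟩, h, Nat.cast_zero])
    refine ⟨hirr ⟨β, hβ⟩ hb, fun h => hb ?_⟩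
    rw [hInd, classInner_sum_left, Finset.sum_eq_single ⟨β, hβ⟩] at h
    · rw [classInner_smul_left, hc ⟨β, hβ⟩ ⟨β, hβ⟩, hdiag _ hb, Nat.cast_one, mul_one] at h
      exact_mod_cast h
    · intro γ _ hne
      rcases Nat.eq_zero_or_pos (m γ) with h0 | h0
      · rw [h0, Nat.cast_zero, zero_smul, classInner_zero_left]
      · rw [classInner_smul_left, hc γ ⟨β, hβ⟩, hoff γ _ h0.ne' hb hne, Nat.cast_zero, mul_zero]
    · simp
  · rintro β ⟨hβ, hβ0⟩ γ ⟨hγ, hγ0⟩ h
    by_contra hne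
    have hb : m ⟨β, hβ⟩ ≠ 0 := fun h => hβ0 (by rw [hmul ⟨β, hβ⟩, h, Nat.cast_zero])
    have hg : m ⟨γ, hγ⟩ ≠ 0 := fun h => hγ0 (by rw [hmul ⟨γ, hγ⟩, h, Nat.cast_zero])
    have h1 := hc ⟨β, hβ⟩ ⟨γ, hγ⟩
    have h2 := hc ⟨β, hβ⟩ ⟨β, hβ⟩
    rw [hoff _ _ hb hg fun e => hne (congrArg Subtype.val e), Nat.cast_zero] at h1
    rw [hdiag _ hb, Nat.cast_one] at h2
    simp only at h h1 h2
    rw [← h, h2] at h1
    exact one_ne_zero h1
  · rintro ψ ⟨hψ, hψ0⟩
    rw [hInd, classInner_sum_left] at hψ0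
    obtain ⟨β, -, hβ⟩ := Finset.exists_ne_zero_of_sum_ne_zero hψ0
    rw [classInner_smul_left, mul_ne_zero_iff, Nat.cast_ne_zero] at hβ
    refine ⟨β, ⟨β.2, by rw [hmul]; exact_mod_cast hβ.1⟩, ?_⟩
    have h1 := classInner_irrChar (hirr β hβ.1) hψ
    by_contra hne
    rw [if_neg hne] at h1
    exact hβ.2 h1

/-- Two extensions differ by a linear character of the quotient. -/
theorem exists_linear_of_extensions {ϑ : N → ℂ} (hϑ : Cfsg.IsIrrCharacter N ϑ) {χ χ' : G → ℂ}
    (hχ : Cfsg.IsIrrCharacter G χ) (hχ' : Cfsg.IsIrrCharacter G χ')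
    (h : ∀ n : N, χ n = ϑ n) (h' : ∀ n : N, χ' n = ϑ n) :
    ∃ f : G →* ℂˣ, (∀ n : N, f n = 1) ∧ χ' = (fun g => (f g : ℂ)) * χ := by
  classical
  have hone : Cfsg.IsIrrCharacter N (fun _ => 1) := by
    simpa using isIrrCharacter_linear (1 : N →* ℂˣ)
  have hres : ((fun _ => 1) * fun n : N => χ n) = ϑ := funext fun n => by simp [h]
  have hbij := gallagher N hone (fun g => funext fun n => rfl) hχ (by rwa [hres])
  have hmem : Cfsg.IsIrrCharacter G χ' ∧
      Cfsg.classInner (Cfsg.indFun N ((fun _ => 1) * fun n : N => χ n)) χ' ≠ 0 := by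
    refine ⟨hχ', ?_⟩
    rw [hres, frobenius_reciprocity N ϑ (isClassFunction_isChar (isCharacter_of_irr hχ')),
      show (fun n : N => χ' n) = ϑ from funext h', classInner_self_irr hϑ]
    exact one_ne_zero
  obtain ⟨β, ⟨hβ, hβ0⟩, hb⟩ := hbij.surjOn hmem
  have hb1 : β 1 = 1 := by
    have h1 := congrFun hb 1
    have e1 : χ 1 = ϑ 1 := h 1
    have e2 : χ' 1 = ϑ 1 := h' 1
    simp only [Pi.mul_apply] at h1
    rw [e1, e2] at h1
    exact (mul_eq_right₀ (IsIrrCharacter.apply_one_ne_zero hϑ)).mp h1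
  obtain ⟨f, rfl⟩ := exists_hom_of_deg_one (isCharacter_of_irr hβ) hb1
  refine ⟨f, fun n => ?_, hb.symm⟩
  rw [frobenius_reciprocity N _ (isClassFunction_isChar (isCharacter_of_irr hβ))] at hβ0
  have hl : Cfsg.IsIrrCharacter N (fun n : N => (f n : ℂ)) := isIrrCharacter_linear (f.comp N.subtype)
  rw [classInner_irrChar hone hl] at hβ0
  by_contra hne
  rw [if_neg fun e => hne (Units.ext (congrFun e n).symm)] at hβ0
  exact hβ0 rfl

omit [N.Normal] [Fintype N] [Fintype G] in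
/-- Determinant of a twist. -/
theorem detChar_linear_mul [Finite G] (f : G →* ℂˣ) {χ : G → ℂ} (hχ : Cfsg.IsCharacter G χ) {d : ℕ}
    (hd : χ 1 = d) :
    Cfsg.detChar ((fun g => (f g : ℂ)) * χ) = (fun g => (f g : ℂ)) ^ d * Cfsg.detChar χ := by
  obtain ⟨m, σ, rfl⟩ := hχ
  let τ : Representation ℂ G (Fin m → ℂ) :=
    { toFun := fun g => (f g : ℂ) • σ g
      map_one' := by simp
      map_mul' := fun a b => by simp [smul_smul, mul_comm, mul_left_comm] }
  have hτ : τ.character = (fun g => (f g : ℂ)) * σ.character := by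
    funext g
    simp [Representation.character, τ]
  rw [← hτ]
  funext g
  rw [detChar_character τ g]
  have hdet : LinearMap.det ((f g : ℂ) • σ g) = (f g : ℂ) ^ d * LinearMap.det (σ g) := by
    rw [LinearMap.det_smul]
    congr 2
    rw [Representation.char_one] at hd
    exact_mod_cast hd
  refine hdet.trans ?_
  rw [Pi.mul_apply, Pi.pow_apply, detChar_character σ g]

omit [N.Normal] [Fintype N] [Fintype G] in
theorem detChar_is_hom [Finite G] {χ : G → ℂ} (hχ : Cfsg.IsCharacter G χ) :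
    ∃ f : G →* ℂˣ, Cfsg.detChar χ = fun g => (f g : ℂ) := by
  obtain ⟨m, σ, rfl⟩ := hχ
  refine ⟨(Units.map (LinearMap.det (A := ℂ) (M := Fin m → ℂ))).comp (MonoidHom.toHomUnits σ),
    funext fun g => ?_⟩
  rw [detChar_character σ g]
  rfl

omit [N.Normal] [Fintype N] [Fintype G] in
theorem detChar_restrict [Finite G] {χ : G → ℂ} (hχ : Cfsg.IsCharacter G χ) {ϑ : N → ℂ}
    (h : ∀ n : N, χ n = ϑ n) (n : N) : Cfsg.detChar χ n = Cfsg.detChar ϑ n := by
  obtain ⟨m, σ, rfl⟩ := hχ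
  let σN : Representation ℂ N (Fin m → ℂ) := MonoidHom.comp σ N.subtype
  rw [show ϑ = σN.character from funext fun n => (h n).symm, detChar_character σ n,
    detChar_character σN n]
  rfl

omit [N.Normal] [Fintype N] [Fintype G] in
theorem detChar_of_linear [Finite G] {χ : G → ℂ} (hχ : Cfsg.IsCharacter G χ) (h1 : χ 1 = 1) :
    Cfsg.detChar χ = χ := by
  obtain ⟨f, rfl⟩ := exists_hom_of_deg_one hχ h1
  let τ : Representation ℂ G ℂ := (Algebra.lmul ℂ ℂ).toMonoidHom.comp ((Units.coeHom ℂ).comp f)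
  have hτ : ∀ g, τ g = (f g : ℂ) • (LinearMap.id : ℂ →ₗ[ℂ] ℂ) := fun g => by
    apply LinearMap.ext; intro v; simp [τ]
  have hc : τ.character = fun g => (f g : ℂ) := by
    funext g
    simp [Representation.character, hτ g]
  rw [← hc]
  funext g
  rw [detChar_character τ g, hc, hτ g]
  simp

omit [Fintype N] in
/-- A power of the determinant gives a splitting exponent. -/
theorem hasSplit_detPow {V : Type v} [AddCommGroup V] [Module ℂ V] [FiniteDimensional ℂ V]
    (ρ : Representation ℂ N V) [ρ.IsIrreducible] (o : ℕ)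
    (ho : ∀ n : N, LinearMap.det (ρ n) ^ o = 1) : HasSplit N ρ ((finrank ℂ V * o : ℕ) : ℤ) := by
  let D : twGroup N ρ →* ℂˣ :=
    (Units.map (LinearMap.det (A := ℂ) (M := V))).comp ((MonoidHom.snd G _).comp (twGroup N ρ).subtype)
  refine ⟨D ^ o, fun n => ?_, fun e => ?_⟩
  · apply Units.ext
    show LinearMap.det (ρ n) ^ o = 1
    exact ho n
  · apply Units.ext
    show LinearMap.det ((e : twGroup N ρ).1.2 : Module.End ℂ V) ^ o = _
    rw [show ((e : twGroup N ρ).1.2 : Module.End ℂ V) = (twScalar N ρ e : ℂ) • 1 from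
      twScalar_spec N ρ e, LinearMap.det_smul, map_one, mul_one, ← pow_mul, zpow_natCast,
      Units.val_pow_eq_pow_val]

omit [Fintype N] in
theorem pow_index_eq_one {f : G →* ℂˣ} (hf : ∀ n : N, f n = 1) : f ^ N.index = 1 := by
  ext g
  rw [MonoidHom.pow_apply, ← map_pow, MonoidHom.one_apply,
    hf ⟨g ^ N.index, N.pow_index_mem g⟩]

omit [Fintype G] [Fintype N] in
/-- The extension with prescribed determinant. -/
theorem existsUnique_extension_det [Finite G] {ϑ : N → ℂ} (hϑ : Cfsg.IsIrrCharacter N ϑ) {d : ℕ}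
    (hd : ϑ 1 = d) (hcop : Nat.Coprime N.index d)
    (hext : ∃ η : G → ℂ, Cfsg.IsIrrCharacter G η ∧ ∀ n : N, η n = ϑ n) {μ : G → ℂ}
    (hμ : Cfsg.IsCharacter G μ) (hμ1 : μ 1 = 1) (hμN : ∀ n : N, μ n = Cfsg.detChar ϑ n) :
    ∃! χ : G → ℂ, Cfsg.IsIrrCharacter G χ ∧ (∀ n : N, χ n = ϑ n) ∧ Cfsg.detChar χ = μ := by
  classical
  have := Fintype.ofFinite G
  have := Fintype.ofFinite N
  obtain ⟨η, hη, hηN⟩ := hext
  have hηd : η 1 = d := (hηN 1).trans hd
  obtain ⟨δ, hδ⟩ := detChar_is_hom (isCharacter_of_irr hη)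
  obtain ⟨μ', rfl⟩ := exists_hom_of_deg_one hμ hμ1
  have hl : ∀ n : N, (μ' * δ⁻¹) n = 1 := fun n => by
    rw [MonoidHom.mul_apply, MonoidHom.inv_apply, mul_inv_eq_one]
    apply Units.ext
    refine (hμN n).trans ?_
    rw [← detChar_restrict N (isCharacter_of_irr hη) hηN n, hδ]
  have key : (μ' * δ⁻¹) ^ N.index = 1 := pow_index_eq_one N hl
  have hb := Nat.gcd_eq_gcd_ab N.index d
  rw [show Nat.gcd N.index d = 1 from hcop] at hb
  let ν : G →* ℂˣ := (μ' * δ⁻¹) ^ Nat.gcdB N.index d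
  have hν : ν ^ d = μ' * δ⁻¹ := by
    ext1 g
    have hk : ((μ' * δ⁻¹) g) ^ N.index = 1 := DFunLike.congr_fun key g
    show (((μ' * δ⁻¹) g) ^ Nat.gcdB N.index d) ^ d = (μ' * δ⁻¹) g
    generalize (μ' * δ⁻¹) g = a at hk
    rw [← zpow_natCast (a ^ Nat.gcdB N.index d) d, ← zpow_mul]
    conv_rhs => rw [← zpow_one a]
    rw [show (1 : ℤ) = (N.index : ℤ) * Nat.gcdA N.index d + (d : ℤ) * Nat.gcdB N.index d from
      by exact_mod_cast hb, zpow_add, zpow_mul _ (N.index : ℤ), zpow_natCast, hk, one_zpow,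
      one_mul, mul_comm (d : ℤ)]
  have hνN : ∀ n : N, ν n = 1 := fun n => by
    rw [MonoidHom.zpow_apply, hl n, one_zpow]
  refine ⟨(fun g => (ν g : ℂ)) * η, ⟨?_, fun n => ?_, ?_⟩, ?_⟩
  · exact IsIrrCharacter.mul_linear hη ν
  · rw [Pi.mul_apply, hνN, Units.val_one, one_mul, hηN]
  · rw [detChar_linear_mul ν (isCharacter_of_irr hη) hηd, hδ]
    funext g
    rw [Pi.mul_apply, Pi.pow_apply, ← Units.val_pow_eq_pow_val, ← MonoidHom.pow_apply, hν,
      ← Units.val_mul, ← MonoidHom.mul_apply, inv_mul_cancel_right]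
  · rintro χ ⟨hχ, hχN, hχdet⟩
    obtain ⟨f, hf, rfl⟩ := exists_linear_of_extensions N hϑ hη hχ hηN hχN
    rw [detChar_linear_mul f (isCharacter_of_irr hη) hηd, hδ] at hχdet
    have hfd : f ^ d = μ' * δ⁻¹ := by
      ext1 g
      rw [MonoidHom.pow_apply, MonoidHom.mul_apply, MonoidHom.inv_apply, eq_mul_inv_iff_mul_eq]
      apply Units.ext
      simpa using congrFun hχdet g
    have h2 : (f * ν⁻¹) ^ N.index = 1 := pow_index_eq_one N fun n => by
      rw [MonoidHom.mul_apply, MonoidHom.inv_apply, hf, hνN, inv_one, mul_one]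
    funext g
    have h1g : ((f g) * (ν g)⁻¹) ^ d = 1 := by
      rw [mul_pow, inv_pow, ← MonoidHom.pow_apply f, hfd, ← MonoidHom.pow_apply ν, hν, mul_inv_cancel]
    have h2g : ((f g) * (ν g)⁻¹) ^ N.index = 1 := DFunLike.congr_fun h2 g
    have h3 : (f g) * (ν g)⁻¹ = 1 := by
      have := (pow_gcd_eq_one (m := N.index) (n := d)).mpr ⟨h2g, h1g⟩
      rwa [show Nat.gcd N.index d = 1 from hcop, pow_one] at this
    rw [Pi.mul_apply, Pi.mul_apply, mul_inv_eq_one.mp h3]

omit [Fintype N] in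
theorem orderOf_linear (f : G →* ℂˣ) : orderOf (fun g => (f g : ℂ)) = orderOf f :=
  orderOf_injective
    ({ toFun := fun f g => (f g : ℂ), map_one' := by funext g; simp, map_mul' := fun a b => by
        funext g; simp } : (G →* ℂˣ) →* (G → ℂ))
    (fun a b h => MonoidHom.ext fun g => Units.ext (congrFun h g)) f

omit [Fintype G] [Fintype N] in
/-- The canonical extension. -/
theorem exists_canonical_extension [Finite G] {ϑ : N → ℂ} (hϑ : Cfsg.IsIrrCharacter N ϑ)
    (hinv : ∀ g : G, conjN N g ϑ = ϑ) {d : ℕ} (hd : ϑ 1 = d)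
    (hcop : Nat.Coprime N.index (Cfsg.detOrder ϑ * d)) :
    ∃ χ : G → ℂ, (Cfsg.IsIrrCharacter G χ ∧ (∀ n : N, χ n = ϑ n) ∧
        Cfsg.detOrder χ = Cfsg.detOrder ϑ) ∧
      ∀ χ' : G → ℂ, Cfsg.IsIrrCharacter G χ' → (∀ n : N, χ' n = ϑ n) →
        Nat.Coprime N.index (Cfsg.detOrder χ') → χ' = χ := by
  classical
  have := Fintype.ofFinite G
  have := Fintype.ofFinite N
  obtain ⟨δN, hδN⟩ := detChar_is_hom (isCharacter_of_irr hϑ)
  have ho : Cfsg.detOrder ϑ = orderOf δN := by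
    rw [Cfsg.detOrder, hδN]; exact orderOf_linear δN
  have hopos : 0 < orderOf δN := by
    refine orderOf_pos_iff.mpr (isOfFinOrder_iff_pow_eq_one.mpr ⟨Nat.card N, Nat.card_pos, ?_⟩)
    ext n
    rw [MonoidHom.pow_apply, ← map_pow, pow_card_eq_one', map_one, MonoidHom.one_apply]
  rw [ho] at hcop
  obtain ⟨hcopo, hcopd⟩ := Nat.coprime_mul_iff_right.mp hcop
  obtain ⟨m, ρ, hρ, rfl⟩ := hϑ
  have hm : finrank ℂ (Fin m → ℂ) = d := by
    rw [Representation.char_one] at hd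
    exact_mod_cast hd
  have hdet : ∀ n : N, LinearMap.det (ρ n) ^ orderOf δN = 1 := fun n => by
    rw [← detChar_character ρ n, hδN, ← Units.val_pow_eq_pow_val, ← MonoidHom.pow_apply,
      pow_orderOf_eq_one, MonoidHom.one_apply, Units.val_one]
  have hsplit : HasSplit N ρ 1 := by
    have h := (splitExponents N ρ).add_mem
      ((splitExponents N ρ).zsmul_mem (hasSplit_index N ρ hinv)
        (Nat.gcdA N.index (d * orderOf δN)))
      ((splitExponents N ρ).zsmul_mem (hm ▸ hasSplit_detPow N ρ (orderOf δN) hdet)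
        (Nat.gcdB N.index (d * orderOf δN)))
    have hb := Nat.gcd_eq_gcd_ab N.index (d * orderOf δN)
    rw [show Nat.gcd N.index (d * orderOf δN) = 1 from by rw [mul_comm d]; exact hcop] at hb
    rw [smul_eq_mul, smul_eq_mul, mul_comm _ (N.index : ℤ),
      mul_comm _ ((d * orderOf δN : ℕ) : ℤ), ← hb, Nat.cast_one] at h
    exact h
  obtain ⟨R, hR⟩ := exists_extension_of_hasSplit N ρ hinv hsplit
  obtain ⟨hη, hηN⟩ := exists_irr_ext_of_rep N ρ R hR
  obtain ⟨δ, hδ⟩ := detChar_is_hom (isCharacter_of_irr hη)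
  have hres : ∀ n : N, δ n = δN n := fun n => by
    apply Units.ext
    have h := detChar_restrict N (isCharacter_of_irr hη) hηN n
    rw [hδ, hδN] at h
    exact h
  have hδo : (δ ^ orderOf δN) ^ N.index = 1 := pow_index_eq_one N fun n => by
    rw [MonoidHom.pow_apply, hres, ← MonoidHom.pow_apply, pow_orderOf_eq_one, MonoidHom.one_apply]
  have hb := Nat.gcd_eq_gcd_ab N.index (orderOf δN)
  rw [show Nat.gcd N.index (orderOf δN) = 1 from hcopo] at hb
  let μ : G →* ℂˣ := δ ^ ((N.index : ℤ) * Nat.gcdA N.index (orderOf δN))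
  have hμN : ∀ n : N, μ n = δN n := fun n => by
    rw [MonoidHom.zpow_apply, hres]
    conv_rhs => rw [← zpow_one (δN n)]
    rw [show (1 : ℤ) = _ from hb, zpow_add, zpow_mul _ (orderOf δN : ℤ), zpow_natCast,
      ← MonoidHom.pow_apply δN, pow_orderOf_eq_one, MonoidHom.one_apply, one_zpow, mul_one]
  have hμo : orderOf μ = orderOf δN := by
    apply Nat.dvd_antisymm
    · refine orderOf_dvd_of_pow_eq_one ?_
      ext1 g
      have hk : ((δ g) ^ orderOf δN) ^ N.index = 1 := DFunLike.congr_fun hδo g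
      show ((δ g) ^ ((N.index : ℤ) * Nat.gcdA N.index (orderOf δN))) ^ orderOf δN = 1
      generalize δ g = a at hk
      rw [← zpow_natCast, ← zpow_mul, mul_assoc, mul_comm _ (orderOf δN : ℤ), ← mul_assoc,
        ← Nat.cast_mul, zpow_mul, zpow_natCast, mul_comm N.index, pow_mul, hk, one_zpow]
    · refine orderOf_dvd_of_pow_eq_one ?_
      ext n
      rw [MonoidHom.pow_apply, ← hμN, ← MonoidHom.pow_apply, pow_orderOf_eq_one,
        MonoidHom.one_apply, MonoidHom.one_apply]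
  obtain ⟨χ, ⟨hχ, hχN, hχdet⟩, huniq⟩ := existsUnique_extension_det N
    (ϑ := ρ.character) ⟨_, ρ, hρ, rfl⟩ hd hcopd ⟨R.character, hη, hηN⟩
    (μ := fun g => (μ g : ℂ)) (isCharacter_of_irr (isIrrCharacter_linear μ)) (by simp)
    (fun n => by rw [hμN n, hδN])
  refine ⟨χ, ⟨hχ, hχN, by rw [Cfsg.detOrder, hχdet, orderOf_linear, hμo, ho]⟩,
    fun χ' hχ' hχ'N hcop' => huniq χ' ⟨hχ', hχ'N, ?_⟩⟩
  obtain ⟨δ', hδ'⟩ := detChar_is_hom (isCharacter_of_irr hχ')
  rw [Cfsg.detOrder, hδ', orderOf_linear] at hcop'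
  rw [hδ']
  have h2 : (δ' * μ⁻¹) ^ N.index = 1 := pow_index_eq_one N fun n => by
    rw [MonoidHom.mul_apply, MonoidHom.inv_apply, hμN, mul_inv_eq_one]
    apply Units.ext
    have h := detChar_restrict N (isCharacter_of_irr hχ') hχ'N n
    rw [hδ', hδN] at h
    exact h
  funext g
  have h2g : ((δ' g) * (μ g)⁻¹) ^ N.index = 1 := DFunLike.congr_fun h2 g
  have h1g : ((δ' g) * (μ g)⁻¹) ^ (orderOf δ' * orderOf δN) = 1 := by
    rw [mul_pow, inv_pow, pow_mul, mul_comm (orderOf δ'), pow_mul, ← MonoidHom.pow_apply δ',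
      pow_orderOf_eq_one, ← MonoidHom.pow_apply μ, ← hμo, pow_orderOf_eq_one, MonoidHom.one_apply,
      one_pow, one_pow, inv_one, mul_one]
  have h3 : (δ' g) * (μ g)⁻¹ = 1 := by
    have := (pow_gcd_eq_one (m := N.index) (n := orderOf δ' * orderOf δN)).mpr ⟨h2g, h1g⟩
    rwa [show Nat.gcd N.index (orderOf δ' * orderOf δN) = 1 from
      Nat.Coprime.mul_right hcop' hcopo, pow_one] at this
  rw [mul_inv_eq_one.mp h3]

end Cfsg.Lib.Chars
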