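import Cfsg.Agent.Chars.Core

/-!
# Clifford theory
-/

namespace Cfsg.Lib.Chars

open scoped ComplexConjugate

universe u

variable {G : Type u} [Group G]

/-- The conjugate of a function on a normal subgroup. -/
def conjN (N : Subgroup G) [hN : N.Normal] (g : G) (θ : N → ℂ) : N → ℂ :=
  fun n => θ ⟨g * n * g⁻¹, hN.conj_mem n n.2 g⟩

theorem conjN_eq_comp (N : Subgroup G) [N.Normal] (g : G) (θ : N → ℂ) :
    conjN N g θ = fun n => θ (MulAut.conjNormal g n) := by
  funext n
  exact congrArg θ (Subtype.ext (MulAut.conjNormal_apply g n).symm)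

theorem IsCharacter.conjN {N : Subgroup G} [N.Normal] {θ : N → ℂ} (h : Cfsg.IsCharacter N θ)
    (g : G) : Cfsg.IsCharacter N (Chars.conjN N g θ) := by
  rw [conjN_eq_comp]
  exact IsCharacter.comp_hom h (MulAut.conjNormal g).toMonoidHom

theorem IsIrrCharacter.conjN [Finite G] {N : Subgroup G} [N.Normal] {θ : N → ℂ}
    (h : Cfsg.IsIrrCharacter N θ) (g : G) : Cfsg.IsIrrCharacter N (Chars.conjN N g θ) := by
  rw [conjN_eq_comp]
  exact IsIrrCharacter.comp_mulEquiv h (MulAut.conjNormal g)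

theorem conjN_mul (N : Subgroup G) [N.Normal] (a b : G) (θ : N → ℂ) :
    conjN N (a * b) θ = conjN N b (conjN N a θ) := by
  funext n
  simp only [conjN]
  congr 1
  apply Subtype.ext
  simp [mul_assoc]

theorem conjN_one (N : Subgroup G) [N.Normal] (θ : N → ℂ) : conjN N 1 θ = θ := by
  funext n; simp [conjN]

theorem conjN_of_mem {N : Subgroup G} [N.Normal] {θ : N → ℂ} (hθ : Cfsg.IsClassFunction N θ)
    (m : N) : conjN N (m : G) θ = θ := by
  funext n
  exact hθ n m

theorem classInner_conjN [Fintype G] {N : Subgroup G} [N.Normal] [Fintype N] (g : G)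
    (φ ψ : N → ℂ) : Cfsg.classInner (conjN N g φ) (conjN N g ψ) = Cfsg.classInner φ ψ := by
  rw [conjN_eq_comp, conjN_eq_comp]
  exact classInner_comp_equiv (MulAut.conjNormal g).toEquiv φ ψ

theorem conjN_restrict {N : Subgroup G} [N.Normal] {χ : G → ℂ} (hχ : Cfsg.IsClassFunction G χ)
    (g : G) : conjN N g (fun n : N => χ n) = fun n : N => χ n := by
  funext n
  exact hχ n g

/-- Conjugate functions induce the same function. -/
theorem indFun_conjN [Fintype G] (N : Subgroup G) [N.Normal] (g : G) (θ : N → ℂ) :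
    Cfsg.indFun N (conjN N g θ) = Cfsg.indFun N θ := by
  funext x
  by_cases hx : x ∈ N
  · rw [show x = ((⟨x, hx⟩ : N) : G) from rfl, indFun_normal_mem, indFun_normal_mem]
    congr 1
    refine Fintype.sum_equiv (Equiv.mulLeft g) _ _ fun y => ?_
    simp only [conjN, Equiv.coe_mulLeft]
    congr 1
    apply Subtype.ext
    simp [mul_assoc]
  · rw [indFun_normal_not_mem N _ hx, indFun_normal_not_mem N _ hx]

section Finite

variable [Fintype G] (N : Subgroup G) [N.Normal] [Fintype N]

theorem classInner_indFun_restrict (θ φ : N → ℂ) :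
    Cfsg.classInner (fun n : N => Cfsg.indFun N θ n) φ =
      (Nat.card N : ℂ)⁻¹ * ∑ g : G, Cfsg.classInner (conjN N g θ) φ := by
  have h : (fun n : N => Cfsg.indFun N θ n) = (Nat.card N : ℂ)⁻¹ • ∑ g : G, conjN N g θ := by
    funext n
    simp [indFun_normal_mem, conjN, Finset.sum_apply]
  rw [h, classInner_smul_left, classInner_sum_left]

theorem classInner_indFun_indFun (θ φ : N → ℂ) :
    (Nat.card N : ℂ) * Cfsg.classInner (Cfsg.indFun N θ) (Cfsg.indFun N φ) =
      ∑ g : G, Cfsg.classInner (conjN N g θ) φ := by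
  rw [frobenius_reciprocity' N φ (isClassFunction_indFun N θ), classInner_indFun_restrict,
    ← mul_assoc, mul_inv_cancel₀ (by exact_mod_cast Nat.card_pos.ne'), one_mul]

open scoped Classical in
theorem sum_classInner_conjN {θ φ : N → ℂ} (hθ : Cfsg.IsIrrCharacter N θ)
    (hφ : Cfsg.IsIrrCharacter N φ) :
    ∑ g : G, Cfsg.classInner (conjN N g θ) φ = (Nat.card {g : G // conjN N g θ = φ} : ℂ) := by
  rw [Finset.sum_congr rfl fun g _ => classInner_irrChar (IsIrrCharacter.conjN hθ g) hφ,
    Finset.sum_boole, Nat.card_eq_fintype_card, Fintype.card_subtype]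

/-- Two constituents of the restriction of an irreducible character are conjugate. -/
theorem exists_conjN_of_constituents {χ : G → ℂ} (hχ : Cfsg.IsIrrCharacter G χ) {θ φ : N → ℂ}
    (hθ : Cfsg.IsIrrCharacter N θ) (hφ : Cfsg.IsIrrCharacter N φ)
    (hθc : Cfsg.classInner (fun n : N => χ n) θ ≠ 0)
    (hφc : Cfsg.classInner (fun n : N => χ n) φ ≠ 0) : ∃ g : G, φ = conjN N g θ := by
  classical
  by_contra hno
  push Not at hno
  have h0 : Cfsg.classInner (fun n : N => Cfsg.indFun N θ n) φ = 0 := by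
    rw [classInner_indFun_restrict, Finset.sum_eq_zero, mul_zero]
    intro g _
    rw [classInner_irrChar (IsIrrCharacter.conjN hθ g) hφ, if_neg (fun h => hno g h.symm)]
  obtain ⟨m, hm⟩ := IsCharacter.exists_decomp
    (IsCharacter.indFun (G := G) (isCharacter_of_irr hθ))
  have hmχ : m ⟨χ, hχ⟩ ≠ 0 := by
    intro h
    apply hθc
    rw [← frobenius_reciprocity' N θ (isClassFunction_isChar (isCharacter_of_irr hχ)),
      ← classInner_conj_symm, hm]
    simp only [← Nat.cast_smul_eq_nsmul ℂ]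
    rw [classInner_irrSum (fun ψ => (m ψ : ℂ)) ⟨χ, hχ⟩, h, Nat.cast_zero, map_zero]
  have hres : (fun n : N => Cfsg.indFun N θ n) =
      ∑ ψ : Cfsg.IrrCharacter G, m ψ • (fun n : N => (ψ : G → ℂ) n) := by
    funext n
    rw [congrFun hm (n : G)]
    simp [Finset.sum_apply]
  rw [hres, classInner_sum_left] at h0
  choose k hk using fun ψ : Cfsg.IrrCharacter G =>
    IsCharacter.exists_mult (IsCharacter.restrict (isCharacter_of_irr ψ.2) N) hφ
  simp only [classInner_nsmul_left, hk, ← Nat.cast_mul, ← Nat.cast_sum, Nat.cast_eq_zero] at h0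
  have := Finset.sum_eq_zero_iff.mp h0 ⟨χ, hχ⟩ (Finset.mem_univ _)
  apply hφc
  rw [hk ⟨χ, hχ⟩, (mul_eq_zero.mp this).resolve_left hmχ, Nat.cast_zero]

theorem classInner_restrict_conjN {χ : G → ℂ} (hχ : Cfsg.IsClassFunction G χ) (θ : N → ℂ)
    (g : G) : Cfsg.classInner (fun n : N => χ n) (conjN N g θ) =
      Cfsg.classInner (fun n : N => χ n) θ := by
  conv_lhs => rw [← conjN_restrict hχ g]
  exact classInner_conjN g _ _

/-- The orbit of `θ` as a finset. -/
noncomputable def conjOrbit (θ : N → ℂ) : Finset (N → ℂ) :=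
  haveI := Classical.decEq (N → ℂ)
  Finset.univ.image fun g : G => conjN N g θ

theorem mem_conjOrbit {θ φ : N → ℂ} : φ ∈ conjOrbit N θ ↔ ∃ g : G, conjN N g θ = φ := by
  classical
  simp [conjOrbit]

/-- Clifford's theorem. -/
theorem clifford {χ : G → ℂ} (hχ : Cfsg.IsIrrCharacter G χ) {θ : N → ℂ}
    (hθ : Cfsg.IsIrrCharacter N θ) (hθc : Cfsg.classInner (fun n : N => χ n) θ ≠ 0) :
    (fun n : N => χ n) =
      Cfsg.classInner (fun n : N => χ n) θ • ∑ ψ ∈ conjOrbit N θ, ψ := by
  classical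
  have hc := isClassFunction_isChar (isCharacter_of_irr hχ)
  have horb : ∀ ψ ∈ conjOrbit N θ, Cfsg.IsIrrCharacter N ψ := fun ψ hψ => by
    obtain ⟨g, rfl⟩ := (mem_conjOrbit N).mp hψ
    exact IsIrrCharacter.conjN hθ g
  refine classFunction_ext (isClassFunction_isChar (IsCharacter.restrict (isCharacter_of_irr hχ) N))
    ?_ fun φ hφ => ?_
  · intro a b
    simp only [Pi.smul_apply, Finset.sum_apply, smul_eq_mul]
    congr 1
    exact Finset.sum_congr rfl fun ψ hψ =>
      isClassFunction_isChar (isCharacter_of_irr (horb ψ hψ)) a b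
  rw [classInner_smul_left, classInner_sum_left]
  by_cases hmem : φ ∈ conjOrbit N θ
  · rw [Finset.sum_eq_single φ (fun ψ hψ hne => by
      rw [classInner_irrChar (horb ψ hψ) hφ, if_neg hne]) (fun h => absurd hmem h),
      classInner_self_irr hφ, mul_one]
    obtain ⟨g, rfl⟩ := (mem_conjOrbit N).mp hmem
    exact classInner_restrict_conjN N hc θ g
  · rw [Finset.sum_eq_zero fun ψ hψ => by
      rw [classInner_irrChar (horb ψ hψ) hφ, if_neg (fun h : ψ = φ => hmem (h ▸ hψ))], mul_zero]
    by_contra hne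
    obtain ⟨g, hg⟩ := exists_conjN_of_constituents N hχ hθ hφ hθc hne
    exact hmem ((mem_conjOrbit N).mpr ⟨g, hg.symm⟩)

/-- If `θ` is invariant, the restriction is a multiple of `θ`. -/
theorem restrict_eq_mult_of_invariant {χ : G → ℂ} (hχ : Cfsg.IsIrrCharacter G χ) {θ : N → ℂ}
    (hθ : Cfsg.IsIrrCharacter N θ) (hinv : ∀ g : G, conjN N g θ = θ)
    (hθc : Cfsg.classInner (fun n : N => χ n) θ ≠ 0) :
    ∃ e : ℕ, 0 < e ∧ (fun n : N => χ n) = (e : ℂ) • θ := by
  classical
  obtain ⟨e, he⟩ := IsCharacter.exists_mult (IsCharacter.restrict (isCharacter_of_irr hχ) N) hθ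
  refine ⟨e, Nat.pos_of_ne_zero fun h => hθc (by rw [he, h, Nat.cast_zero]), ?_⟩
  have h1 : conjOrbit N θ = {θ} := by
    ext φ
    simp [mem_conjOrbit, hinv, eq_comm]
  have := clifford N hχ hθ hθc
  rwa [h1, Finset.sum_singleton, he] at this

/-- Every irreducible character lies over some irreducible character of `N`. -/
theorem exists_constituent {χ : G → ℂ} (hχ : Cfsg.IsCharacter G χ) (hne : χ 1 ≠ 0) :
    ∃ θ : N → ℂ, Cfsg.IsIrrCharacter N θ ∧ Cfsg.classInner (fun n : N => χ n) θ ≠ 0 := by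
  by_contra h
  push Not at h
  have := eq_zero_of_classInner_eq_zero
    (isClassFunction_isChar (IsCharacter.restrict hχ N)) fun θ => h θ θ.2
  exact hne (by simpa using congrFun this 1)

theorem exists_over {θ : N → ℂ} (hθ : Cfsg.IsIrrCharacter N θ) :
    ∃ χ : G → ℂ, Cfsg.IsIrrCharacter G χ ∧ Cfsg.classInner (fun n : N => χ n) θ ≠ 0 := by
  by_contra h
  push Not at h
  have h0 := eq_zero_of_classInner_eq_zero (isClassFunction_indFun (G := G) N θ) fun χ => by
    rw [frobenius_reciprocity N θ (isClassFunction_irr χ), ← classInner_conj_symm, h χ χ.2,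
      map_zero]
  have h1 := congrFun h0 1
  rw [indFun_one, Pi.zero_apply, mul_eq_zero, Nat.cast_eq_zero] at h1
  exact h1.elim N.index_ne_zero_of_finite (IsIrrCharacter.apply_one_ne_zero hθ)

end Finite

end Cfsg.Lib.Chars
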