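import Cfsg.Agent.Chars.Core

/-!
# Representations are determined by their characters; products; abelian groups
-/

namespace Cfsg.Lib.Chars

open scoped ComplexConjugate
open Module

universe u v w

variable {G : Type u} [Group G]

/-- The inclusion of a subrepresentation. -/
def subrepIncl {V : Type v} [AddCommGroup V] [Module ℂ V] {ρ : Representation ℂ G V}
    (S : Subrepresentation ρ) : Representation.IntertwiningMap S.toRepresentation ρ where
  toLinearMap := S.toSubmodule.subtype
  isIntertwining' g := by ext; rfl

theorem exists_irr_embedding [Finite G] (V : Type v) [AddCommGroup V] [Module ℂ V]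
    [FiniteDimensional ℂ V] (ρ : Representation ℂ G V) (hV : Nontrivial V) :
    ∃ (U : Type v) (_ : AddCommGroup U) (_ : Module ℂ U) (_ : FiniteDimensional ℂ U)
      (τ : Representation ℂ G U) (_ : τ.IsIrreducible)
      (f : Representation.IntertwiningMap τ ρ), Function.Injective f := by
  suffices key : ∀ (W : Type v) [AddCommGroup W] [Module ℂ W] [FiniteDimensional ℂ W]
      (σ : Representation ℂ G W), Nontrivial W →
      ∃ (U : Type v) (_ : AddCommGroup U) (_ : Module ℂ U) (_ : FiniteDimensional ℂ U)
        (τ : Representation ℂ G U) (_ : τ.IsIrreducible)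
        (f : Representation.IntertwiningMap τ σ), Function.Injective f from key V ρ hV
  intro W _ _ _ σ
  apply rep_induction (P := fun W _ _ _ σ => Nontrivial W →
    ∃ (U : Type v) (_ : AddCommGroup U) (_ : Module ℂ U) (_ : FiniteDimensional ℂ U)
      (τ : Representation ℂ G U) (_ : τ.IsIrreducible)
      (f : Representation.IntertwiningMap τ σ), Function.Injective f)
  · intro W _ _ _ σ hs hn
    exact absurd hn (not_nontrivial_iff_subsingleton.mpr hs)
  · intro W _ _ _ σ hirr _
    exact ⟨W, inferInstance, inferInstance, inferInstance, σ, hirr, .id σ, fun a b h => h⟩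
  · intro W _ _ _ σ S T h hS hT hn
    rcases subsingleton_or_nontrivial S.toSubmodule with hs | hs
    · have hT' : Nontrivial T.toSubmodule := by
        by_contra hT'
        rw [not_nontrivial_iff_subsingleton] at hT'
        have := (Submodule.prodEquivOfIsCompl _ _ h).symm.toEquiv.subsingleton
        exact not_nontrivial_iff_subsingleton.mpr this hn
      obtain ⟨U, i1, i2, i3, τ, hτ, f, hf⟩ := hT hT'
      exact ⟨U, i1, i2, i3, τ, hτ, (subrepIncl T).comp f, fun a b hab => hf (Subtype.ext hab)⟩
    · obtain ⟨U, i1, i2, i3, τ, hτ, f, hf⟩ := hS hs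
      exact ⟨U, i1, i2, i3, τ, hτ, (subrepIncl S).comp f, fun a b hab => hf (Subtype.ext hab)⟩

theorem character_range_eq [Finite G] {U : Type v} [AddCommGroup U] [Module ℂ U]
    [FiniteDimensional ℂ U] {W : Type w} [AddCommGroup W] [Module ℂ W] [FiniteDimensional ℂ W]
    {τ : Representation ℂ G U} {σ : Representation ℂ G W} (f : Representation.IntertwiningMap τ σ)
    (hf : Function.Injective f) : Nonempty (τ.Equiv f.range.toRepresentation) := by
  refine ⟨Representation.Equiv.mk ((LinearEquiv.ofInjective f.toLinearMap hf).trans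
    (LinearEquiv.ofEq _ _ ?_)) ?_⟩
  · ext x; simp [Representation.IntertwiningMap.range]
  · intro g
    ext x
    exact Representation.IntertwiningMap.isIntertwining _ _ f g x

/-- Representations with equal characters are equivalent. -/
theorem nonempty_equiv_of_character_eq [Finite G] :
    ∀ (V : Type v) [AddCommGroup V] [Module ℂ V] [FiniteDimensional ℂ V]
      (W : Type w) [AddCommGroup W] [Module ℂ W] [FiniteDimensional ℂ W]
      (ρ : Representation ℂ G V) (σ : Representation ℂ G W),
      ρ.character = σ.character → Nonempty (ρ.Equiv σ) := by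
  suffices key : ∀ (n : ℕ) (V : Type v) [AddCommGroup V] [Module ℂ V] [FiniteDimensional ℂ V]
      (W : Type w) [AddCommGroup W] [Module ℂ W] [FiniteDimensional ℂ W]
      (ρ : Representation ℂ G V) (σ : Representation ℂ G W),
      finrank ℂ V = n → ρ.character = σ.character → Nonempty (ρ.Equiv σ) from
    fun V _ _ _ W _ _ _ ρ σ h => key _ V W ρ σ rfl h
  intro n
  induction n using Nat.strong_induction_on with
  | _ n ih =>
    intro V _ _ _ W _ _ _ ρ σ hn h
    have := Fintype.ofFinite G
    have hdim : finrank ℂ V = finrank ℂ W := by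
      have h1 := congrFun h 1
      rw [ρ.char_one, σ.char_one] at h1
      exact_mod_cast h1
    rcases subsingleton_or_nontrivial V with hV | hV
    · have hW : Subsingleton W := Module.finrank_zero_iff.mp (hdim ▸ Module.finrank_zero_iff.mpr hV)
      exact ⟨Representation.Equiv.mk (0 : V ≃ₗ[ℂ] W) fun g =>
        LinearMap.ext fun x => Subsingleton.elim _ _⟩
    obtain ⟨U, _, _, _, τ, hτ, f, hf⟩ := exists_irr_embedding V ρ hV
    have : Nontrivial U := nontrivial_of_irreducible τ
    have hinv : Invertible (Nat.card G : ℂ) :=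
      invertibleOfNonzero (by exact_mod_cast Nat.card_pos.ne')
    have hpos : 0 < finrank ℂ (Representation.IntertwiningMap τ σ) := by
      have h1 := Representation.card_inv_mul_sum_char_mul_char_eq_finrank τ σ
      have h2 := Representation.card_inv_mul_sum_char_mul_char_eq_finrank τ ρ
      rw [← h, h2, Nat.cast_inj] at h1
      rw [← h1]
      rw [Module.finrank_pos_iff_exists_ne_zero]
      refine ⟨f, fun hf0 => ?_⟩
      obtain ⟨u, hu⟩ := exists_ne (0 : U)
      apply hu
      apply hf
      rw [hf0]
      simp
    obtain ⟨f', hf'⟩ : ∃ f' : Representation.IntertwiningMap τ σ, f' ≠ 0 := by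
      by_contra hcon
      push Not at hcon
      have : Subsingleton (Representation.IntertwiningMap τ σ) :=
        ⟨fun a b => (hcon a).trans (hcon b).symm⟩
      rw [Module.finrank_zero_of_subsingleton] at hpos
      exact lt_irrefl 0 hpos
    have hf'i : Function.Injective f' :=
      (Representation.IsIrreducible.injective_or_eq_zero f').resolve_right hf'
    obtain ⟨e1⟩ := character_range_eq f hf
    obtain ⟨e2⟩ := character_range_eq f' hf'i
    obtain ⟨T1, hT1⟩ := exists_isCompl_subrep ρ f.range
    obtain ⟨T2, hT2⟩ := exists_isCompl_subrep σ f'.range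
    have hc : T1.toRepresentation.character = T2.toRepresentation.character := by
      have hh := h
      rw [character_compl ρ _ _ hT1, character_compl σ _ _ hT2, ← Representation.char_iso e1,
        ← Representation.char_iso e2] at hh
      exact add_left_cancel hh
    have hlt : finrank ℂ T1.toSubmodule < n := by
      have h1 := Submodule.finrank_add_eq_of_isCompl hT1
      have h2 : 0 < finrank ℂ f.range.toSubmodule := by
        rw [← LinearEquiv.finrank_eq e1.toLinearEquiv]; exact finrank_pos
      omega
    obtain ⟨e3⟩ := ih _ hlt _ _ _ _ rfl hc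
    refine ⟨(prodComplEquiv ρ _ _ hT1).symm.trans (Representation.Equiv.trans ?_
      (prodComplEquiv σ _ _ hT2))⟩
    exact Representation.Equiv.mk ((e1.symm.trans e2).toLinearEquiv.prodCongr e3.toLinearEquiv)
      fun g => by
        apply LinearMap.ext
        rintro ⟨x, y⟩
        exact Prod.ext (Representation.IntertwiningMap.isIntertwining _ _
          (e1.symm.trans e2).toIntertwiningMap g x)
          (Representation.IntertwiningMap.isIntertwining _ _ e3.toIntertwiningMap g y)

/-! ## Products -/

variable {H : Type v} [Group H]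

theorem classInner_prod [Fintype G] [Fintype H] (φ φ' : G → ℂ) (ψ ψ' : H → ℂ) :
    Cfsg.classInner (fun x : G × H => φ x.1 * ψ x.2) (fun x => φ' x.1 * ψ' x.2) =
      Cfsg.classInner φ φ' * Cfsg.classInner ψ ψ' := by
  simp only [classInner_def, Nat.card_prod, Nat.cast_mul, mul_inv, map_mul, Fintype.sum_prod_type]
  rw [mul_mul_mul_comm, Finset.sum_mul_sum]
  congr 1
  exact Finset.sum_congr rfl fun _ _ => Finset.sum_congr rfl fun _ _ => by ring

theorem isIrrCharacter_prod [Finite G] [Finite H] {φ : G → ℂ} {ψ : H → ℂ}
    (hφ : Cfsg.IsIrrCharacter G φ) (hψ : Cfsg.IsIrrCharacter H ψ) :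
    Cfsg.IsIrrCharacter (G × H) (fun x => φ x.1 * ψ x.2) := by
  have := Fintype.ofFinite G
  have := Fintype.ofFinite H
  refine isIrrCharacter_of_norm_one (IsCharacter.mul
    (IsCharacter.comp_hom (isCharacter_of_irr hφ) (MonoidHom.fst G H))
    (IsCharacter.comp_hom (isCharacter_of_irr hψ) (MonoidHom.snd G H))) ?_
  exact (classInner_prod φ φ ψ ψ).trans (by rw [classInner_self_irr hφ, classInner_self_irr hψ, mul_one])

theorem exists_prod_of_irr [Finite G] [Finite H] {θ : G × H → ℂ}
    (hθ : Cfsg.IsIrrCharacter (G × H) θ) :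
    ∃ (φ : G → ℂ) (ψ : H → ℂ), Cfsg.IsIrrCharacter G φ ∧ Cfsg.IsIrrCharacter H ψ ∧
      θ = fun x => φ x.1 * ψ x.2 := by
  classical
  have := Fintype.ofFinite G
  have := Fintype.ofFinite H
  let F : Cfsg.IrrCharacter G × Cfsg.IrrCharacter H → Cfsg.IrrCharacter (G × H) :=
    fun p => ⟨_, isIrrCharacter_prod p.1.2 p.2.2⟩
  by_contra hno
  push Not at hno
  have hinj : Function.Injective F := by
    intro p q hpq
    have h := classInner_irr_self (F p)
    nth_rw 2 [hpq] at h
    have h' := (classInner_prod (G := G) (H := H) (p.1 : G → ℂ) q.1 (p.2 : H → ℂ) q.2).symm.trans h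
    by_contra hne
    rcases Prod.ext_iff.not.mp hne |> not_and_or.mp with h1 | h1
    · rw [classInner_irr_ne h1, zero_mul] at h'; exact zero_ne_one h'
    · rw [classInner_irr_ne h1, mul_zero] at h'; exact zero_ne_one h'
  have hmem : (⟨θ, hθ⟩ : Cfsg.IrrCharacter (G × H)) ∉ Finset.univ.image F := by
    intro h
    obtain ⟨p, -, hp⟩ := Finset.mem_image.mp h
    exact hno p.1 p.2 p.1.2 p.2.2 (congrArg Subtype.val hp).symm
  have h1 : ∑ χ ∈ Finset.univ.image F, deg (χ : G × H → ℂ) ^ 2 = Nat.card (G × H) := by
    rw [Finset.sum_image fun a _ b _ h => hinj h, Nat.card_prod, ← sum_deg_sq_nat (G := G),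
      ← sum_deg_sq_nat (G := H), Finset.sum_mul_sum, ← Finset.sum_product']
    refine Finset.sum_congr rfl fun p _ => ?_
    rw [← mul_pow]
    congr 1
    apply Nat.cast_injective (R := ℂ)
    rw [← irr_apply_one_eq_deg, Nat.cast_mul, ← irr_apply_one_eq_deg, ← irr_apply_one_eq_deg]
    rfl
  have h2 := Finset.sum_le_sum_of_subset
    (f := fun χ : Cfsg.IrrCharacter (G × H) => deg (χ : G × H → ℂ) ^ 2)
    (Finset.subset_univ (insert ⟨θ, hθ⟩ (Finset.univ.image F)))
  rw [Finset.sum_insert hmem, h1, sum_deg_sq_nat] at h2
  have := deg_irr_pos (⟨θ, hθ⟩ : Cfsg.IrrCharacter (G × H))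
  nlinarith

end Cfsg.Lib.Chars
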