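import Cfsg.Agent.Chars.Inertia
import Cfsg.Agent.Chars.Equivalence
import Cfsg.Agent.Chars.Degree

/-!
# The group of normalised intertwiners of an invariant irreducible representation

For an irreducible representation `ρ` of a normal subgroup `N` whose character is invariant in `G`,
`twGroup N ρ` is the finite central extension of `G` formed by the pairs `(g, A)` where `A`
intertwines `ρ` with its `g`-conjugate and `(det A) ^ |G| = 1`.
-/

namespace Cfsg.Lib.Chars

open scoped ComplexConjugate
open Module

universe u v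

variable {G : Type u} [Group G] (N : Subgroup G) [hN : N.Normal]
variable {V : Type v} [AddCommGroup V] [Module ℂ V] (ρ : Representation ℂ N V)

/-- `A` intertwines `ρ` with its conjugate by `g`. -/
def Twists (g : G) (A : Module.End ℂ V) : Prop :=
  ∀ n : N, A * ρ n = ρ ⟨g * n * g⁻¹, hN.conj_mem n n.2 g⟩ * A

variable {N ρ}

theorem Twists.mul {a b : G} {A B : Module.End ℂ V} (hA : Twists N ρ a A) (hB : Twists N ρ b B) :
    Twists N ρ (a * b) (A * B) := by
  intro n
  rw [mul_assoc, hB n, ← mul_assoc, hA, mul_assoc]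
  congr 2
  apply Subtype.ext
  simp [mul_assoc]

theorem twists_one : Twists N ρ 1 1 := by
  intro n
  rw [one_mul, mul_one]
  congr 1
  apply Subtype.ext
  simp

theorem Twists.inv {a : G} {A : (Module.End ℂ V)ˣ} (hA : Twists N ρ a (A : Module.End ℂ V)) :
    Twists N ρ a⁻¹ (↑A⁻¹ : Module.End ℂ V) := by
  intro n
  have h := hA ⟨a⁻¹ * n * a⁻¹⁻¹, hN.conj_mem n n.2 a⁻¹⟩
  have he : (⟨a * (a⁻¹ * (n : G) * a⁻¹⁻¹) * a⁻¹, hN.conj_mem _ (hN.conj_mem n n.2 a⁻¹) a⟩ : N) = n := by
    apply Subtype.ext
    simp [mul_assoc]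
  rw [he] at h
  rw [Units.inv_mul_eq_iff_eq_mul, ← mul_assoc, h, mul_assoc, Units.mul_inv, mul_one]

theorem Twists.smul {a : G} {A : Module.End ℂ V} (hA : Twists N ρ a A) (c : ℂ) :
    Twists N ρ a (c • A) := by
  intro n
  rw [smul_mul_assoc, hA n, mul_smul_comm]

theorem twists_self (n : N) : Twists N ρ (n : G) (ρ n) := by
  intro m
  rw [← map_mul, ← map_mul]
  congr 1
  apply Subtype.ext
  simp [mul_assoc]

variable (N ρ)

/-- The group of normalised intertwiners. -/
def twGroup : Subgroup (G × (Module.End ℂ V)ˣ) where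
  carrier := {x | Twists N ρ x.1 (x.2 : Module.End ℂ V) ∧
    LinearMap.det (x.2 : Module.End ℂ V) ^ Nat.card G = 1}
  one_mem' := ⟨twists_one, by simp⟩
  mul_mem' := fun {a b} ha hb => ⟨ha.1.mul hb.1, by
    rw [Prod.snd_mul, Units.val_mul, map_mul, mul_pow, ha.2, hb.2, one_mul]⟩
  inv_mem' := fun {a} ha => ⟨ha.1.inv, by
    show LinearMap.det ((↑(a.2⁻¹) : Module.End ℂ V)) ^ Nat.card G = 1
    have h : LinearMap.det (a.2 : Module.End ℂ V) * LinearMap.det (↑(a.2⁻¹) : Module.End ℂ V) = 1 := by
      rw [← map_mul, Units.mul_inv, map_one]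
    have h2 := congrArg (· ^ Nat.card G) h
    simp only [mul_pow, ha.2, one_mul, one_pow] at h2
    exact h2⟩

/-- The projection to `G`. -/
def twProj : twGroup N ρ →* G := (MonoidHom.fst G _).comp (twGroup N ρ).subtype

/-- The natural representation of the intertwiner group. -/
def twNat : Representation ℂ (twGroup N ρ) V :=
  (Units.coeHom _).comp ((MonoidHom.snd G _).comp (twGroup N ρ).subtype)

theorem twists_twNat (e : twGroup N ρ) : Twists N ρ (twProj N ρ e) (twNat N ρ e) := e.2.1

variable [Finite G]

/-- The embedding of `N`. -/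
def twIncl : N →* twGroup N ρ where
  toFun n := ⟨((n : G), MonoidHom.toHomUnits ρ n), twists_self n, by
    show LinearMap.det (ρ n) ^ Nat.card G = 1
    rw [← map_pow, ← map_pow ρ, show n ^ Nat.card G = 1 from Subtype.ext (by simp [pow_card_eq_one']),
      map_one, map_one]⟩
  map_one' := by ext <;> simp
  map_mul' a b := by ext <;> simp

theorem twProj_twIncl (n : N) : twProj N ρ (twIncl N ρ n) = (n : G) := rfl

theorem twNat_twIncl (n : N) : twNat N ρ (twIncl N ρ n) = ρ n := rfl

theorem twIncl_conj (e : twGroup N ρ) (n : N) :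
    e * twIncl N ρ n * e⁻¹ =
      twIncl N ρ ⟨twProj N ρ e * n * (twProj N ρ e)⁻¹, hN.conj_mem n n.2 _⟩ := by
  apply Subtype.ext
  refine Prod.ext rfl (Units.ext ?_)
  show (e.1.2 : Module.End ℂ V) * ρ n * (↑(e.1.2⁻¹) : Module.End ℂ V) = ρ _
  rw [e.2.1 n, mul_assoc, Units.mul_inv, mul_one]
  rfl

variable [FiniteDimensional ℂ V] [ρ.IsIrreducible]

/-- Two intertwiners over the same element differ by a scalar. -/
theorem twists_unique {a : G} {A B : (Module.End ℂ V)ˣ} (hA : Twists N ρ a (A : Module.End ℂ V))
    (hB : Twists N ρ a (B : Module.End ℂ V)) :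
    ∃ c : ℂ, c ≠ 0 ∧ (B : Module.End ℂ V) = c • (A : Module.End ℂ V) := by
  obtain ⟨c, hc⟩ := schur_scalar ρ ((↑A⁻¹ : Module.End ℂ V) * (B : Module.End ℂ V)) fun n v => by
    have h1 : Twists N ρ (a⁻¹ * a) ((↑A⁻¹ : Module.End ℂ V) * (B : Module.End ℂ V)) := hA.inv.mul hB
    have h2 := h1 n
    have he : (⟨a⁻¹ * a * (n : G) * (a⁻¹ * a)⁻¹, hN.conj_mem n n.2 (a⁻¹ * a)⟩ : N) = n := by
      apply Subtype.ext; simp
    rw [he] at h2
    exact LinearMap.congr_fun h2 v
  have hAB : (B : Module.End ℂ V) = c • (A : Module.End ℂ V) := by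
    have := congrArg ((A : Module.End ℂ V) * ·) hc
    rw [← mul_assoc, Units.mul_inv, one_mul] at this
    rw [this, mul_smul_comm]
    congr 1
  refine ⟨c, fun h0 => ?_, hAB⟩
  rw [h0, zero_smul] at hAB
  have := nontrivial_of_irreducible ρ
  exact B.ne_zero hAB

instance instFiniteTwGroup : Finite (twGroup N ρ) := by
  have hd : finrank ℂ V ≠ 0 := (finrank_pos_of_irreducible ρ).ne'
  have hm : 0 < finrank ℂ V * Nat.card G := Nat.mul_pos (Nat.pos_of_ne_zero hd) Nat.card_pos
  have hset : {x : twGroup N ρ | twProj N ρ x = 1}.Finite := by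
    have hroots : {c : ℂ | c ^ (finrank ℂ V * Nat.card G) = 1}.Finite :=
      Set.Finite.subset (Polynomial.nthRootsFinset (finrank ℂ V * Nat.card G) (1 : ℂ)).finite_toSet
        fun c hc => (Polynomial.mem_nthRootsFinset hm (1 : ℂ)).mpr hc
    refine Set.Finite.of_finite_image (f := fun x => twNat N ρ x) ?_ ?_
    · refine (hroots.image fun c : ℂ => c • (1 : Module.End ℂ V)).subset ?_
      rintro _ ⟨x, hx, rfl⟩
      have hx1 : Twists N ρ (1 : G) (x.1.2 : Module.End ℂ V) := by
        rw [← show twProj N ρ x = 1 from hx]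
        exact x.2.1
      obtain ⟨c, -, hc⟩ := twists_unique N ρ (A := 1) twists_one hx1
      refine ⟨c, ?_, hc.symm⟩
      have hdet := x.2.2
      rw [hc, Units.val_one, LinearMap.det_smul, map_one, mul_one, ← pow_mul] at hdet
      exact hdet
    · intro x hx y hy h
      apply Subtype.ext
      exact Prod.ext ((show twProj N ρ x = 1 from hx).trans (show twProj N ρ y = 1 from hy).symm)
        (Units.ext h)
  have : Finite (twProj N ρ).ker := hset.to_subtype
  have : Finite (twGroup N ρ ⧸ (twProj N ρ).ker) :=
    Finite.of_injective (QuotientGroup.kerLift (twProj N ρ)) (QuotientGroup.kerLift_injective _)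
  exact Finite.of_subgroup_quotient (twProj N ρ).ker

/-- The scalar attached to an element over `N`. -/
theorem exists_scalar_of_mem (e : twGroup N ρ) (he : twProj N ρ e ∈ N) :
    ∃ c : ℂ, c ≠ 0 ∧ twNat N ρ e = c • ρ ⟨_, he⟩ :=
  twists_unique N ρ (twIncl N ρ ⟨_, he⟩).2.1 e.2.1

/-- Surjectivity of the projection, for invariant characters. -/
theorem twProj_surjective (hinv : ∀ g : G, conjN N g ρ.character = ρ.character) :
    Function.Surjective (twProj N ρ) := by
  intro g
  let σ : Representation ℂ N V := ρ.comp (MulAut.conjNormal g).toMonoidHom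
  have hσc : σ.character = ρ.character := by
    rw [← hinv g]
    funext n
    exact congrArg ρ.character (Subtype.ext (MulAut.conjNormal_apply g n))
  have : σ.IsIrreducible := by
    let e : Subrepresentation σ ≃o Subrepresentation ρ :=
      { toFun := fun S => ⟨S.toSubmodule, fun n v hv => by
          have := S.apply_mem_toSubmodule ((MulAut.conjNormal g).symm n) hv
          simpa [σ] using this⟩
        invFun := fun S => ⟨S.toSubmodule, fun n v hv => S.apply_mem_toSubmodule _ hv⟩
        left_inv := fun S => rfl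
        right_inv := fun S => rfl
        map_rel_iff' := Iff.rfl }
    exact (OrderIso.isSimpleOrder_iff e).mpr ‹ρ.IsIrreducible›
  obtain ⟨φ⟩ := nonempty_equiv_of_irr_character_eq ρ σ hσc.symm
  let A : (Module.End ℂ V)ˣ := (LinearMap.GeneralLinearGroup.generalLinearEquiv ℂ V).symm φ.toLinearEquiv
  have hA : Twists N ρ g (A : Module.End ℂ V) := by
    intro n
    refine LinearMap.ext fun v => ?_
    refine (Representation.IntertwiningMap.isIntertwining _ _ φ.toIntertwiningMap n v).trans ?_
    show ρ (MulAut.conjNormal g n) _ = ρ _ _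
    congr 2
  have hdet : LinearMap.det (A : Module.End ℂ V) ≠ 0 := (A.isUnit.map LinearMap.det).ne_zero
  obtain ⟨c, hc⟩ := IsAlgClosed.exists_pow_nat_eq (LinearMap.det (A : Module.End ℂ V))⁻¹
    (finrank_pos_of_irreducible ρ)
  have hc0 : c ≠ 0 := by
    rintro rfl
    rw [zero_pow (finrank_pos_of_irreducible ρ).ne'] at hc
    exact hdet (inv_eq_zero.mp hc.symm)
  let B : (Module.End ℂ V)ˣ := Units.map (algebraMap ℂ (Module.End ℂ V)).toMonoidHom (Units.mk0 c hc0) * A
  have hB : (B : Module.End ℂ V) = c • (A : Module.End ℂ V) := by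
    simp [B, Algebra.smul_def]
  refine ⟨⟨(g, B), by simpa [hB] using hA.smul c, ?_⟩, rfl⟩
  show LinearMap.det (B : Module.End ℂ V) ^ Nat.card G = 1
  rw [hB, LinearMap.det_smul, hc, inv_mul_cancel₀ hdet, one_pow]

/-- An extension exists as soon as the scalars split off. -/
theorem exists_extension_rep (hinv : ∀ g : G, conjN N g ρ.character = ρ.character)
    (r : twGroup N ρ →* ℂˣ) (hr1 : ∀ n : N, r (twIncl N ρ n) = 1)
    (hr2 : ∀ e : twGroup N ρ, twProj N ρ e = 1 → twNat N ρ e = (r e : ℂ) • 1) :
    ∃ R : Representation ℂ G V, ∀ n : N, R (n : G) = ρ n := by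
  choose s hs using twProj_surjective N ρ hinv
  have key : ∀ e e', twProj N ρ e = twProj N ρ e' →
      ((r e)⁻¹ : ℂˣ) • twNat N ρ e = ((r e')⁻¹ : ℂˣ) • twNat N ρ e' := by
    intro e e' h
    have h1 : twProj N ρ (e * e'⁻¹) = 1 := by rw [map_mul, map_inv, h, mul_inv_cancel]
    have h2 := hr2 _ h1
    have h3 : twNat N ρ e = twNat N ρ (e * e'⁻¹) * twNat N ρ e' := by
      rw [← map_mul, inv_mul_cancel_right]
    rw [h3, h2, map_mul r, map_inv r, smul_mul_assoc, one_mul,
      Units.smul_def, Units.smul_def, smul_smul]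
    congr 1
    push_cast
    field_simp
  refine ⟨⟨⟨fun g => ((r (s g))⁻¹ : ℂˣ) • twNat N ρ (s g), ?_⟩, fun a b => ?_⟩, fun n => ?_⟩
  · show ((r (s 1))⁻¹ : ℂˣ) • twNat N ρ (s 1) = 1
    rw [key (s 1) 1 (by rw [hs, map_one]), map_one, map_one, inv_one, one_smul]
  · show ((r (s (a * b)))⁻¹ : ℂˣ) • twNat N ρ (s (a * b)) =
      (((r (s a))⁻¹ : ℂˣ) • twNat N ρ (s a)) * (((r (s b))⁻¹ : ℂˣ) • twNat N ρ (s b))
    rw [key (s (a * b)) (s a * s b) (by rw [map_mul, hs, hs, hs]), map_mul, map_mul, mul_inv,
      Units.smul_def, Units.smul_def, Units.smul_def, smul_mul_smul_comm, Units.val_mul]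
  · show ((r (s n))⁻¹ : ℂˣ) • twNat N ρ (s n) = ρ n
    rw [key (s n) (twIncl N ρ n) (by rw [hs, twProj_twIncl]), hr1, inv_one, one_smul, twNat_twIncl]

/-- The ratio of the degree of a character over an invariant one divides the index. -/
theorem finrank_dvd_of_invariant {U : Type v} [AddCommGroup U] [Module ℂ U] [FiniteDimensional ℂ U]
    (σ : Representation ℂ G U) [σ.IsIrreducible]
    (hinv : ∀ g : G, conjN N g ρ.character = ρ.character) {e : ℕ}
    (hres : (fun n : N => σ.character n) = (e : ℂ) • ρ.character) : e ∣ N.index := by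
  classical
  have := Fintype.ofFinite G
  have := Fintype.ofFinite N
  have hdimU : finrank ℂ U = e * finrank ℂ V := by
    have h := congrFun hres 1
    simp only [OneMemClass.coe_one, Pi.smul_apply, σ.char_one, ρ.char_one, smul_eq_mul] at h
    exact_mod_cast h
  let σN : Representation ℂ N U := σ.comp N.subtype
  let W := Representation.IntertwiningMap ρ σN
  have hdimW : finrank ℂ W = e := by
    have : Invertible (Nat.card N : ℂ) := invertibleOfNonzero (by exact_mod_cast Nat.card_pos.ne')
    apply Nat.cast_injective (R := ℂ)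
    rw [← Representation.card_inv_mul_sum_char_mul_char_eq_finrank ρ σN]
    have h1 : ∀ n : N, σN.character n * ρ.character n⁻¹ =
        (e : ℂ) * (ρ.character n * conj (ρ.character n)) := fun n => by
      rw [show σN.character n = ((e : ℂ) • ρ.character) n from congrFun hres n, character_inv,
        Pi.smul_apply, smul_eq_mul, mul_assoc]
    rw [Finset.sum_congr rfl fun n _ => h1 n, ← Finset.mul_sum]
    have h2 := classInner_self_irr (isIrrCharacter_character ρ)
    rw [classInner_def] at h2
    rw [mul_left_comm, h2, mul_one]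
  let β : Representation ℂ (twGroup N ρ) W :=
    { toFun := fun x =>
        { toFun := fun F =>
            { toLinearMap := (σ (twProj N ρ x)) ∘ₗ F.toLinearMap ∘ₗ (twNat N ρ x⁻¹)
              isIntertwining' := fun n => by
                apply LinearMap.ext
                intro v
                show σ (twProj N ρ x) (F (twNat N ρ x⁻¹ (ρ n v))) =
                  σ (n : G) (σ (twProj N ρ x) (F (twNat N ρ x⁻¹ v)))
                have h := LinearMap.congr_fun (twists_twNat N ρ x⁻¹ n) v
                simp only [Module.End.mul_apply] at h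
                rw [h, show ∀ m w, F (ρ m w) = σN m (F w) from
                  fun m w => Representation.IntertwiningMap.isIntertwining _ _ F m w]
                show σ (twProj N ρ x) (σ (twProj N ρ x⁻¹ * n * (twProj N ρ x⁻¹)⁻¹) _) = _
                rw [← Module.End.mul_apply, ← map_mul, ← Module.End.mul_apply, ← map_mul]
                congr 2
                rw [map_inv]
                group }
          map_add' := fun F F' => by
            apply Representation.IntertwiningMap.ext
            ext v
            exact map_add (σ (twProj N ρ x)) (F (twNat N ρ x⁻¹ v)) (F' (twNat N ρ x⁻¹ v))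
          map_smul' := fun c F => by
            apply Representation.IntertwiningMap.ext
            ext v
            exact map_smul (σ (twProj N ρ x)) c (F (twNat N ρ x⁻¹ v)) }
      map_one' := by
        ext F v
        simp
      map_mul' := fun a b => by
        ext F v
        simp [map_mul, mul_inv_rev] }
  have hdVpos := finrank_pos_of_irreducible ρ
  have hepos : 0 < e := by
    rcases Nat.eq_zero_or_pos e with h | h
    · rw [h, zero_mul] at hdimU; exact absurd hdimU (finrank_pos_of_irreducible σ).ne'
    · exact h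
  have : β.IsIrreducible := by
    have hWnt : Nontrivial W := Module.finrank_pos_iff.mp (hdimW.symm ▸ hepos)
    have : Nontrivial (Subrepresentation β) := by
      refine ⟨⊥, ⊤, fun h' => ?_⟩
      have h2 : (⊥ : Submodule ℂ W) = ⊤ := congrArg Subrepresentation.toSubmodule h'
      exact bot_ne_top h2
    refine ⟨fun S => or_iff_not_imp_left.mpr fun hS => ?_⟩
    apply Subrepresentation.toSubmodule_injective
    show S.toSubmodule = ⊤
    apply Submodule.eq_top_of_finrank_eq
    refine le_antisymm (Submodule.finrank_le _) ?_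
    rw [hdimW]
    let ev : V × S.toSubmodule → U := fun p => (p.2 : W) p.1
    let R : Subrepresentation σ :=
      { toSubmodule := Submodule.span ℂ (Set.range ev)
        apply_mem_toSubmodule := fun g u hu => by
          have hle : Submodule.span ℂ (Set.range ev) ≤
              (Submodule.span ℂ (Set.range ev)).comap (σ g) := by
            rw [Submodule.span_le]
            rintro _ ⟨⟨v, F, hF⟩, rfl⟩
            obtain ⟨x, rfl⟩ := twProj_surjective N ρ hinv g
            refine Submodule.subset_span ⟨⟨twNat N ρ x v, β x F, S.apply_mem_toSubmodule x hF⟩, ?_⟩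
            show σ (twProj N ρ x) (F (twNat N ρ x⁻¹ (twNat N ρ x v))) = _
            rw [← Module.End.mul_apply, ← map_mul, inv_mul_cancel, map_one]
            rfl
          exact hle hu }
    have hR : R = ⊤ := (IsSimpleOrder.eq_bot_or_eq_top R).resolve_left fun hbot => by
      apply hS
      apply Subrepresentation.toSubmodule_injective
      show S.toSubmodule = ⊥
      rw [Submodule.eq_bot_iff]
      intro F hF
      apply Representation.IntertwiningMap.ext
      ext v
      have hmem : ev (v, ⟨F, hF⟩) ∈ R.toSubmodule := Submodule.subset_span ⟨_, rfl⟩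
      rw [hbot] at hmem
      simpa [ev] using (Submodule.mem_bot ℂ).mp hmem
    have hspan : Submodule.span ℂ (Set.range ev) = ⊤ := congrArg Subrepresentation.toSubmodule hR
    let bV := Module.finBasis ℂ V
    let bS := Module.finBasis ℂ S.toSubmodule
    have hle : finrank ℂ U ≤ finrank ℂ V * finrank ℂ S.toSubmodule := by
      let T : Finset U := Finset.univ.image fun ij : _ × _ => ev (bV ij.1, bS ij.2)
      have hT : Submodule.span ℂ (T : Set U) = ⊤ := by
        rw [eq_top_iff, ← hspan, Submodule.span_le]
        rintro _ ⟨⟨v, F⟩, rfl⟩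
        show Representation.IntertwiningMap.toLinearMapl (ρ := ρ) (σ := σN) (F : W) v ∈ _
        rw [← bS.sum_repr F, ← bV.sum_repr v]
        simp only [Submodule.coe_sum, Submodule.coe_smul, map_sum, map_smul, LinearMap.sum_apply,
          LinearMap.smul_apply, Finset.smul_sum]
        refine Submodule.sum_mem _ fun j _ => Submodule.sum_mem _ fun i _ => ?_
        refine Submodule.smul_mem _ _ (Submodule.smul_mem _ _ (Submodule.subset_span ?_))
        exact Finset.mem_coe.mpr (Finset.mem_image.mpr ⟨(j, i), Finset.mem_univ _, rfl⟩)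
      calc finrank ℂ U = finrank ℂ (Submodule.span ℂ (T : Set U)) := by rw [hT, finrank_top]
        _ ≤ T.card := finrank_span_finset_le_card T
        _ ≤ _ := Finset.card_image_le.trans (by simp)
    rw [hdimU, mul_comm] at hle
    exact Nat.le_of_mul_le_mul_left hle hdVpos
  have hscal : ∀ z ∈ N.comap (twProj N ρ), ∃ c : ℂ, β z = c • LinearMap.id := by
    intro z hz
    have hz' : twProj N ρ z⁻¹ ∈ N := by rw [map_inv]; exact N.inv_mem hz
    obtain ⟨c, -, hc⟩ := exists_scalar_of_mem N ρ z⁻¹ hz'
    refine ⟨c, ?_⟩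
    ext F v
    show σ (twProj N ρ z) (F (twNat N ρ z⁻¹ v)) = c • F v
    rw [hc, LinearMap.smul_apply, map_smul, map_smul,
      show ∀ m w, F (ρ m w) = σN m (F w) from
        fun m w => Representation.IntertwiningMap.isIntertwining _ _ F m w]
    show c • σ (twProj N ρ z) (σ (twProj N ρ z⁻¹) (F v)) = _
    rw [← Module.End.mul_apply, ← map_mul, ← map_mul, mul_inv_cancel, map_one, map_one]
    rfl
  have h := finrank_dvd_index_of_scalar β (N.comap (twProj N ρ)) hscal
  rwa [hdimW, Subgroup.index_comap_of_surjective _ (twProj_surjective N ρ hinv)] at h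

end Cfsg.Lib.Chars
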