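import Cfsg.Agent.Blocks.BrauerInduction
import Cfsg.Agent.Blocks.PiSection

/-!
# Characters of defect zero vanish on singular elements
-/

namespace Cfsg.Lib.Chars

open scoped ComplexConjugate
open Cfsg.Lib.Blocks (mul_pow_of_isNilpotent pow_eq_one_of_modEq_zero pow_eq_self_of_modEq_one)

universe u

variable {G : Type u} [Group G] [Fintype G]

/-- In a nilpotent group the `p`-regular elements form a subgroup centralised by a subgroup of
order the exact power of `p`. -/
theorem exists_regular_part {E : Type u} [Group E] [Finite E] [Group.IsNilpotent E] (p : ℕ)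
    [Fact p.Prime] :
    ∃ Q : Subgroup E, (∀ y, y ∈ Q ↔ ¬ p ∣ orderOf y) ∧ ¬ p ∣ Nat.card Q ∧
      ∃ P : Subgroup E, Nat.card P * Nat.card Q = Nat.card E ∧
        (∃ s, Nat.card P = p ^ s) ∧ ∀ a ∈ P, ∀ y ∈ Q, a * y = y * a := by
  classical
  have hp : p.Prime := Fact.out
  set s := (Nat.card E).factorization p
  set n := Nat.card E / p ^ s with hn
  have hmn : p ^ s * n = Nat.card E := Nat.ordProj_mul_ordCompl_eq_self _ _
  have hcop : Nat.Coprime (p ^ s) n :=
    Nat.Coprime.pow_left _ (Nat.coprime_ordCompl hp Nat.card_pos.ne')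
  obtain ⟨t, ht0, ht1⟩ := Nat.chineseRemainder hcop 0 1
  obtain ⟨t', ht0', ht1'⟩ := Nat.chineseRemainder hcop.symm 0 1
  have hmul := mul_pow_of_isNilpotent (G := E) hmn.symm.dvd hcop ht0 ht1
  have hmul' := mul_pow_of_isNilpotent (G := E) (m := n) (n := p ^ s) (t := t')
    (by rw [mul_comm, hmn]) hcop.symm ht0' ht1'
  set π : E →* E := MonoidHom.mk' (fun x => x ^ t) hmul
  have hndvd : ¬ p ∣ n := Nat.not_dvd_ordCompl hp Nat.card_pos.ne'
  have hreg : ∀ y : E, ¬ p ∣ orderOf y → orderOf y ∣ n := fun y hy =>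
    (Nat.Coprime.pow_right _ ((hp.coprime_iff_not_dvd.mpr hy).symm)).dvd_of_dvd_mul_left
      (hmn ▸ orderOf_dvd_natCard y)
  have hQ : ∀ y, y ∈ π.range ↔ ¬ p ∣ orderOf y := by
    refine fun y => ⟨?_, fun hy => ⟨y, pow_eq_self_of_modEq_one (hreg y hy) ht1⟩⟩
    rintro ⟨x, rfl⟩ hdvd
    refine hndvd (hdvd.trans (orderOf_dvd_of_pow_eq_one ?_))
    show (x ^ t) ^ n = 1
    rw [← pow_mul]
    refine orderOf_dvd_iff_pow_eq_one.1 ((orderOf_dvd_natCard x).trans ?_)
    rw [← hmn]
    exact Nat.mul_dvd_mul_right (Nat.modEq_zero_iff_dvd.1 ht0) n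
  have hQp : ¬ p ∣ Nat.card π.range := fun h => by
    obtain ⟨y, hy⟩ := exists_prime_orderOf_dvd_card' p h
    exact (hQ (y : E)).mp y.2 (by rw [Subgroup.orderOf_coe, hy])
  set P := π.ker
  have hker : Nat.card P * Nat.card π.range = Nat.card E := by
    rw [← Subgroup.index_ker]; exact P.card_mul_index
  refine ⟨π.range, hQ, hQp, P, hker, ?_, fun a ha y hy => ?_⟩
  · have hPp : IsPGroup p P := fun a => by
      refine ⟨s, Subtype.ext ?_⟩
      show (a : E) ^ p ^ s = 1
      refine orderOf_dvd_iff_pow_eq_one.1 (Nat.Coprime.dvd_of_dvd_mul_right ?_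
        (hmn ▸ orderOf_dvd_natCard (a : E)))
      refine Nat.coprime_of_dvd fun q hq h1 h2 => ?_
      have h3 : q ∣ t := h1.trans (orderOf_dvd_of_pow_eq_one (show (a : E) ^ t = 1 from a.2))
      have h4 : t % q = 1 % q := ht1.of_dvd h2
      rw [Nat.mod_eq_zero_of_dvd h3, Nat.one_mod_eq_one.mpr hq.ne_one] at h4
      exact one_ne_zero h4.symm
    exact IsPGroup.iff_card.mp hPp
  · have hy' : y ^ t' = 1 := pow_eq_one_of_modEq_zero (hreg y ((hQ y).mp hy)) ht0'
    have ha' : a ^ t = 1 := ha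
    set c := a * y * a⁻¹ * y⁻¹ with hc
    have h1 : c ^ t = 1 := by
      rw [hc, hmul, hmul, hmul, inv_pow, inv_pow, ha']; group
    have h2 : c ^ t' = 1 := by
      rw [hc, hmul', hmul', hmul', inv_pow, inv_pow, hy']; group
    have h3 : orderOf c ∣ p ^ s := by
      refine Nat.Coprime.dvd_of_dvd_mul_right ?_ (hmn ▸ orderOf_dvd_natCard c)
      refine Nat.coprime_of_dvd fun q hq k1 k2 => ?_
      have h4 : t % q = 1 % q := ht1.of_dvd k2
      rw [Nat.mod_eq_zero_of_dvd (k1.trans (orderOf_dvd_of_pow_eq_one h1)),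
        Nat.one_mod_eq_one.mpr hq.ne_one] at h4
      exact one_ne_zero h4.symm
    have hc1 : c = 1 := (pow_eq_self_of_modEq_one h3 ht1').symm.trans h2
    calc a * y = c * (y * a) := by rw [hc]; group
      _ = y * a := by rw [hc1, one_mul]

/-- Defect zero: the character vanishes at every `p`-singular element. -/
theorem eq_zero_of_defect_zero {χ : G → ℂ} (hχ : Cfsg.IsIrrCharacter G χ) {p n : ℕ}
    (hp : p.Prime) (hn : p ^ n ∣ Nat.card G) (hn' : ¬ p ^ (n + 1) ∣ Nat.card G)
    (hdeg : p ^ n ∣ deg χ) {x : G} (hx : p ∣ orderOf x) : χ x = 0 := by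
  classical
  have := Fact.mk hp
  have hχc := isCharacter_of_irr hχ
  obtain ⟨c, hc⟩ := hn
  obtain ⟨a, ha⟩ := hdeg
  have hcp : ¬ p ∣ c := fun ⟨d, hd⟩ => hn' ⟨d, by rw [hc, hd, pow_succ, mul_assoc]⟩
  set f : G → ℂ := fun g => if p ∣ orderOf g then 0 else χ g with hf
  have hfc : Cfsg.IsClassFunction G f := fun g y => by
    simp only [hf]
    rw [show orderOf (y * g * y⁻¹) = orderOf g from orderOf_injective (MulAut.conj y).toMonoidHom
      (MulAut.conj y).injective g, isClassFunction_isChar hχc g y]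
  have hgen : Cfsg.IsGeneralizedCharacter G f := by
    refine Cfsg.Lib.Blocks.isGeneralized_of_elementary hfc fun E hE => ?_
    obtain ⟨q, hq, hel⟩ := hE
    have := Cfsg.Lib.Blocks.isNilpotent_of_isElementary hq hel
    obtain ⟨Q, hQ, hQp, P, hPQ, ⟨s, hs⟩, hcomm⟩ := exists_regular_part (E := E) p
    refine isGeneralized_of_coeff (fun g y => hfc (g : G) (y : G)) fun lam => ?_
    have := Fintype.ofFinite Q
    obtain ⟨k, hk⟩ := classInner_char_nat
      (IsCharacter.comp_hom hχc (E.subtype.comp Q.subtype))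
      (IsCharacter.comp_hom (isCharacter_of_irr lam.2) Q.subtype)
    -- on the regular part the values are divisible by the order of `P`
    have hval : ∀ y : Q, IsIntegral ℤ ((c : ℂ) * χ ((y : E) : G) / (Nat.card P : ℂ)) := by
      intro y
      have hle : P.map E.subtype ≤ Subgroup.centralizer ({((y : E) : G)} : Set G) := by
        rintro _ ⟨z, hz, rfl⟩
        rw [Subgroup.mem_centralizer_singleton_iff]
        exact congrArg Subtype.val (hcomm z hz y y.2)
      obtain ⟨b, hb⟩ : Nat.card P ∣ Nat.card (Subgroup.centralizer ({((y : E) : G)} : Set G)) := by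
        rw [← Subgroup.card_map_of_injective E.subtype_injective]
        exact Subgroup.card_dvd_of_le hle
      set C := Subgroup.centralizer ({((y : E) : G)} : Set G)
      have hmul : Nat.card P * b * C.index = p ^ n * c := by rw [← hb, C.card_mul_index, hc]
      have hω := isIntegral_centralChar_irr hχ ((y : E) : G)
      rw [card_isConj, IsCharacter.apply_one_eq_deg hχc, ha] at hω
      have key : (c : ℂ) * χ ((y : E) : G) / (Nat.card P : ℂ) =
          ((a * b : ℕ) : ℂ) *
            ((C.index : ℂ) * χ ((y : E) : G) / ((p ^ n * a : ℕ) : ℂ)) := by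
        have h1 : (p : ℂ) ^ n * c = (Nat.card P : ℂ) * b * C.index := by exact_mod_cast hmul.symm
        have ha0 : (a : ℂ) ≠ 0 := Nat.cast_ne_zero.mpr fun h0 => by
          have := deg_irr_pos ⟨χ, hχ⟩
          rw [show deg χ = 0 by rw [ha, h0, mul_zero]] at this
          exact lt_irrefl 0 this
        have hP0 : (Nat.card P : ℂ) ≠ 0 := Nat.cast_ne_zero.mpr Nat.card_pos.ne'
        have hp0 : (p : ℂ) ≠ 0 := Nat.cast_ne_zero.mpr hp.ne_zero
        push_cast
        field_simp
        linear_combination χ ((y : E) : G) * h1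
      rw [key]
      exact IsIntegral.mul (natCast_mem (integralClosure ℤ ℂ) _) hω
    have hint : IsIntegral ℤ (((k * Nat.card Q * c : ℕ) : ℂ) / (Nat.card P : ℂ)) := by
      have h2 : ((k * Nat.card Q * c : ℕ) : ℂ) / (Nat.card P : ℂ) = ∑ y : Q,
          ((c : ℂ) * χ ((y : E) : G) / (Nat.card P : ℂ)) * conj ((lam : E → ℂ) y) := by
        rw [Nat.cast_mul, Nat.cast_mul, ← hk, classInner_def]
        have hQ0 : (Nat.card Q : ℂ) ≠ 0 := Nat.cast_ne_zero.mpr Nat.card_pos.ne'
        simp only [MonoidHom.comp_apply, Subgroup.coe_subtype]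
        rw [mul_comm (Nat.card Q : ℂ)⁻¹, mul_assoc, mul_assoc, inv_mul_cancel_left₀ hQ0,
          Finset.sum_mul, Finset.sum_div]
        exact Finset.sum_congr rfl fun y _ => by ring
      rw [h2]
      refine IsIntegral.sum _ fun y _ => (hval y).mul ?_
      exact (IsCharacter.isIntegral (IsCharacter.conjugate (isCharacter_of_irr lam.2)) _)
    have hcop : Nat.Coprime (Nat.card P) (Nat.card Q * c) := by
      rw [hs]
      exact Nat.Coprime.pow_left _ ((hp.coprime_iff_not_dvd.mpr hQp).mul_right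
        (hp.coprime_iff_not_dvd.mpr hcp))
    obtain ⟨z, hz⟩ := hcop.dvd_of_dvd_mul_right
      (mul_assoc k _ c ▸ dvd_of_isIntegral_div Nat.card_pos.ne' hint)
    refine ⟨z, ?_⟩
    rw [classInner_def, Int.cast_natCast]
    have hsum : ∑ g : E, f (g : G) * conj ((lam : E → ℂ) g) =
        ∑ y : Q, χ ((y : E) : G) * conj ((lam : E → ℂ) y) := by
      rw [← Finset.sum_subset (Finset.subset_univ (Finset.univ.filter fun g : E => g ∈ Q))
        (fun g _ hg => by
          have hg' : g ∉ Q := fun h => hg (Finset.mem_filter.mpr ⟨Finset.mem_univ _, h⟩)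
          rw [hQ, not_not, ← Subgroup.orderOf_coe] at hg'
          simp only [hf, if_pos hg', zero_mul]),
        Finset.sum_subtype (p := fun g : E => g ∈ Q) (Finset.univ.filter fun g : E => g ∈ Q) (fun g => by simp) _]
      refine Finset.sum_congr rfl fun y _ => ?_
      simp only [hf]
      rw [Subgroup.orderOf_coe, if_neg ((hQ (y : E)).mp y.2)]
    rw [hsum]
    rw [classInner_def] at hk
    simp only [MonoidHom.comp_apply, Subgroup.coe_subtype] at hk
    rw [inv_mul_eq_iff_eq_mul₀ (Nat.cast_ne_zero.mpr Nat.card_pos.ne')] at hk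
    rw [hk, hz, ← hPQ]
    have hP0 : (Nat.card P : ℂ) ≠ 0 := Nat.cast_ne_zero.mpr Nat.card_pos.ne'
    have hQ0 : (Nat.card Q : ℂ) ≠ 0 := Nat.cast_ne_zero.mpr Nat.card_pos.ne'
    push_cast
    field_simp
  obtain ⟨z, hz⟩ := IsGeneralizedCharacter.exists_mult hgen hχ
  have hG0 : (0 : ℝ) < Nat.card G := by exact_mod_cast Nat.card_pos
  have hχ2 := classInner_self_irr hχ
  rw [classInner_self] at hχ2
  have hχ2' : (Nat.card G : ℝ)⁻¹ * ∑ g : G, ‖χ g‖ ^ 2 = 1 := by exact_mod_cast hχ2
  have hsplit := Finset.sum_filter_add_sum_filter_not Finset.univ (fun g => p ∣ orderOf g)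
    (fun g => ‖χ g‖ ^ 2)
  have hfz : (z : ℝ) = (Nat.card G : ℝ)⁻¹ *
      ∑ g ∈ Finset.univ.filter (fun g => ¬ p ∣ orderOf g), ‖χ g‖ ^ 2 := by
    have h1 : ∀ g, f g * conj (χ g) =
        ((if ¬ p ∣ orderOf g then ‖χ g‖ ^ 2 else 0 : ℝ) : ℂ) := fun g => by
      simp only [hf, ite_not]
      split_ifs <;> simp [Complex.mul_conj']
    rw [classInner_def] at hz
    simp only [h1, ← Complex.ofReal_sum, ← Finset.sum_filter] at hz
    rw [← Complex.ofReal_natCast, ← Complex.ofReal_inv, ← Complex.ofReal_mul,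
      ← Complex.ofReal_intCast] at hz
    exact (Complex.ofReal_injective hz).symm
  have hzpos : (0 : ℝ) < z := by
    rw [hfz]
    refine mul_pos (inv_pos.mpr hG0) (Finset.sum_pos' (fun _ _ => sq_nonneg _)
      ⟨1, by simp [hp.ne_one], ?_⟩)
    exact pow_pos (norm_pos_iff.mpr (IsIrrCharacter.apply_one_ne_zero hχ)) 2
  have hz1 : (1 : ℝ) ≤ z := by
    have : (0 : ℤ) < z := by exact_mod_cast hzpos
    exact_mod_cast this
  rw [← hsplit, mul_add, ← hfz] at hχ2'
  have hnn : 0 ≤ ∑ g ∈ Finset.univ.filter (fun g => p ∣ orderOf g), ‖χ g‖ ^ 2 :=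
    Finset.sum_nonneg fun _ _ => sq_nonneg _
  have h0 : ∑ g ∈ Finset.univ.filter (fun g => p ∣ orderOf g), ‖χ g‖ ^ 2 = 0 := by
    have h := mul_nonneg (inv_nonneg.mpr hG0.le) hnn
    have h' : (Nat.card G : ℝ)⁻¹ *
        ∑ g ∈ Finset.univ.filter (fun g => p ∣ orderOf g), ‖χ g‖ ^ 2 = 0 := by linarith
    exact (mul_eq_zero.mp h').resolve_left (inv_ne_zero hG0.ne')
  have := (Finset.sum_eq_zero_iff_of_nonneg fun g _ => sq_nonneg ‖χ g‖).mp h0 x (by simp [hx])
  exact norm_eq_zero.mp (pow_eq_zero_iff two_ne_zero |>.mp this)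

end Cfsg.Lib.Chars
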