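import Cfsg.Agent.Chars.Basic

/-!
# The irreducible complex characters: orthogonality relations and completeness
-/

namespace Cfsg.Lib.Chars

open scoped ComplexConjugate
open Module

universe u v w

variable {G : Type u} [Group G]

/-! ## The inner product -/

section Inner

variable [Fintype G]

theorem classInner_def (φ ψ : G → ℂ) :
    Cfsg.classInner φ ψ = (Nat.card G : ℂ)⁻¹ * ∑ g : G, φ g * conj (ψ g) := rfl

theorem classInner_eq_finsum (φ ψ : G → ℂ) :
    Cfsg.classInner φ ψ = (Nat.card G : ℂ)⁻¹ * ∑ᶠ g : G, φ g * conj (ψ g) := by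
  rw [finsum_eq_sum_of_fintype]; rfl

theorem classInner_conj_symm (φ ψ : G → ℂ) :
    conj (Cfsg.classInner φ ψ) = Cfsg.classInner ψ φ := by
  simp [classInner_def, map_sum, mul_comm]

theorem classInner_add_left (φ₁ φ₂ ψ : G → ℂ) :
    Cfsg.classInner (φ₁ + φ₂) ψ = Cfsg.classInner φ₁ ψ + Cfsg.classInner φ₂ ψ := by
  simp [classInner_def, add_mul, Finset.sum_add_distrib, mul_add]

theorem classInner_sub_left (φ₁ φ₂ ψ : G → ℂ) :
    Cfsg.classInner (φ₁ - φ₂) ψ = Cfsg.classInner φ₁ ψ - Cfsg.classInner φ₂ ψ := by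
  simp [classInner_def, sub_mul, Finset.sum_sub_distrib, mul_sub]

theorem classInner_smul_left (c : ℂ) (φ ψ : G → ℂ) :
    Cfsg.classInner (c • φ) ψ = c * Cfsg.classInner φ ψ := by
  simp [classInner_def, Finset.mul_sum, mul_left_comm, mul_assoc]

theorem classInner_zero_left (ψ : G → ℂ) : Cfsg.classInner 0 ψ = 0 := by simp [classInner_def]

theorem classInner_zero_right (φ : G → ℂ) : Cfsg.classInner φ 0 = 0 := by simp [classInner_def]

theorem classInner_neg_left (φ ψ : G → ℂ) : Cfsg.classInner (-φ) ψ = -Cfsg.classInner φ ψ := by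
  simp [classInner_def]

theorem classInner_add_right (φ ψ₁ ψ₂ : G → ℂ) :
    Cfsg.classInner φ (ψ₁ + ψ₂) = Cfsg.classInner φ ψ₁ + Cfsg.classInner φ ψ₂ := by
  simp [classInner_def, mul_add, Finset.sum_add_distrib]

theorem classInner_sub_right (φ ψ₁ ψ₂ : G → ℂ) :
    Cfsg.classInner φ (ψ₁ - ψ₂) = Cfsg.classInner φ ψ₁ - Cfsg.classInner φ ψ₂ := by
  simp [classInner_def, mul_sub, Finset.sum_sub_distrib]

theorem classInner_neg_right (φ ψ : G → ℂ) : Cfsg.classInner φ (-ψ) = -Cfsg.classInner φ ψ := by
  simp [classInner_def]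

theorem classInner_smul_right (c : ℂ) (φ ψ : G → ℂ) :
    Cfsg.classInner φ (c • ψ) = conj c * Cfsg.classInner φ ψ := by
  simp [classInner_def, Finset.mul_sum, mul_left_comm, mul_assoc]

theorem classInner_nsmul_left (n : ℕ) (φ ψ : G → ℂ) :
    Cfsg.classInner (n • φ) ψ = n * Cfsg.classInner φ ψ := by
  rw [← Nat.cast_smul_eq_nsmul ℂ, classInner_smul_left]

theorem classInner_nsmul_right (n : ℕ) (φ ψ : G → ℂ) :
    Cfsg.classInner φ (n • ψ) = n * Cfsg.classInner φ ψ := by
  rw [← Nat.cast_smul_eq_nsmul ℂ, classInner_smul_right]; simp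

theorem classInner_zsmul_left (n : ℤ) (φ ψ : G → ℂ) :
    Cfsg.classInner (n • φ) ψ = n * Cfsg.classInner φ ψ := by
  rw [← Int.cast_smul_eq_zsmul ℂ, classInner_smul_left]

theorem classInner_zsmul_right (n : ℤ) (φ ψ : G → ℂ) :
    Cfsg.classInner φ (n • ψ) = n * Cfsg.classInner φ ψ := by
  rw [← Int.cast_smul_eq_zsmul ℂ, classInner_smul_right]; simp

theorem classInner_sum_left {ι : Type*} (s : Finset ι) (f : ι → G → ℂ) (ψ : G → ℂ) :
    Cfsg.classInner (∑ i ∈ s, f i) ψ = ∑ i ∈ s, Cfsg.classInner (f i) ψ := by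
  classical
  induction s using Finset.induction with
  | empty => simp [classInner_zero_left]
  | insert a s has ih => simp [Finset.sum_insert has, classInner_add_left, ih]

theorem classInner_sum_right {ι : Type*} (s : Finset ι) (φ : G → ℂ) (f : ι → G → ℂ) :
    Cfsg.classInner φ (∑ i ∈ s, f i) = ∑ i ∈ s, Cfsg.classInner φ (f i) := by
  classical
  induction s using Finset.induction with
  | empty => simp [classInner_zero_right]
  | insert a s has ih => simp [Finset.sum_insert has, classInner_add_right, ih]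

theorem classInner_self (φ : G → ℂ) :
    Cfsg.classInner φ φ = (((Nat.card G : ℝ)⁻¹ * ∑ g : G, ‖φ g‖ ^ 2 : ℝ) : ℂ) := by
  simp [classInner_def, Complex.mul_conj, Complex.normSq_eq_norm_sq]

theorem classInner_self_eq_zero (φ : G → ℂ) : Cfsg.classInner φ φ = 0 ↔ φ = 0 := by
  constructor
  · intro h
    rw [classInner_self, Complex.ofReal_eq_zero] at h
    have h2 : ∑ g : G, ‖φ g‖ ^ 2 = 0 := by
      rcases mul_eq_zero.mp h with h' | h'
      · exact absurd h' (inv_ne_zero (by exact_mod_cast Nat.card_pos.ne'))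
      · exact h'
    funext g
    have := (Finset.sum_eq_zero_iff_of_nonneg (fun i _ => by positivity)).mp h2 g (Finset.mem_univ g)
    simpa using this
  · rintro rfl; simp [classInner_def]

/-- The inner product is invariant under relabelling the group elements. -/
theorem classInner_comp_equiv {H : Type*} [Group H] [Fintype H] (e : H ≃ G) (φ ψ : G → ℂ) :
    Cfsg.classInner (fun h => φ (e h)) (fun h => ψ (e h)) = Cfsg.classInner φ ψ := by
  simp only [classInner_def, Nat.card_congr e]
  rw [Equiv.sum_comp e (fun g => φ g * conj (ψ g))]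

end Inner

/-! ## Class functions -/

theorem isClassFunction_character {V : Type v} [AddCommGroup V] [Module ℂ V]
    (ρ : Representation ℂ G V) : Cfsg.IsClassFunction G ρ.character :=
  fun g h => by
    simp only [Representation.character]
    rw [map_mul ρ, map_mul ρ, LinearMap.trace_mul_comm ℂ, ← mul_assoc, ← map_mul ρ,
      inv_mul_cancel, map_one, one_mul]

theorem isClassFunction_isChar {χ : G → ℂ} (h : Cfsg.IsCharacter G χ) :
    Cfsg.IsClassFunction G χ := by
  obtain ⟨n, ρ, rfl⟩ := h; exact isClassFunction_character ρ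

theorem isCharacter_of_irr {χ : G → ℂ} (h : Cfsg.IsIrrCharacter G χ) : Cfsg.IsCharacter G χ := by
  obtain ⟨n, ρ, -, rfl⟩ := h; exact ⟨n, ρ, rfl⟩

theorem isClassFunction_irr (χ : Cfsg.IrrCharacter G) : Cfsg.IsClassFunction G (χ : G → ℂ) :=
  isClassFunction_isChar (isCharacter_of_irr χ.2)

theorem classFunction_eq_of_isConj {f : G → ℂ} (hf : Cfsg.IsClassFunction G f) {g h : G}
    (hgh : IsConj g h) : f g = f h := by
  obtain ⟨c, rfl⟩ := isConj_iff.mp hgh
  exact (hf g c).symm

theorem classFunction_mul_comm {f : G → ℂ} (hf : Cfsg.IsClassFunction G f) (a b : G) :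
    f (a * b) = f (b * a) := by
  have := hf (b * a) a
  rw [show a * (b * a) * a⁻¹ = a * b by group] at this
  exact this

theorem classFunction_conj' {f : G → ℂ} (hf : Cfsg.IsClassFunction G f) (g h : G) :
    f (h⁻¹ * g * h) = f g := by
  have := hf g h⁻¹
  rwa [inv_inv] at this

theorem IsCharacter.conj_inv [Finite G] {χ : G → ℂ} (h : Cfsg.IsCharacter G χ) (g : G) :
    χ g⁻¹ = conj (χ g) := by
  obtain ⟨n, ρ, rfl⟩ := h; exact character_inv ρ g

theorem IsCharacter.apply_one {χ : G → ℂ} (h : Cfsg.IsCharacter G χ) :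
    ∃ n : ℕ, χ 1 = n := by
  obtain ⟨n, ρ, rfl⟩ := h; exact ⟨_, ρ.char_one⟩

theorem IsIrrCharacter.apply_one {χ : G → ℂ} (h : Cfsg.IsIrrCharacter G χ) :
    ∃ n : ℕ, 0 < n ∧ χ 1 = n := by
  obtain ⟨n, ρ, hρ, rfl⟩ := h
  exact ⟨_, finrank_pos_of_irreducible ρ, ρ.char_one⟩

theorem IsIrrCharacter.apply_one_ne_zero {χ : G → ℂ} (h : Cfsg.IsIrrCharacter G χ) : χ 1 ≠ 0 := by
  obtain ⟨n, hn, h1⟩ := IsIrrCharacter.apply_one h
  rw [h1]; exact_mod_cast hn.ne'

/-- The degree of a character, as a natural number. -/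
noncomputable def deg (χ : G → ℂ) : ℕ := ⌊(χ 1).re⌋₊

theorem IsCharacter.apply_one_eq_deg {χ : G → ℂ} (h : Cfsg.IsCharacter G χ) : χ 1 = deg χ := by
  obtain ⟨n, hn⟩ := IsCharacter.apply_one h
  simp [deg, hn]

theorem irr_apply_one_eq_deg (χ : Cfsg.IrrCharacter G) : (χ : G → ℂ) 1 = deg (χ : G → ℂ) :=
  IsCharacter.apply_one_eq_deg (isCharacter_of_irr χ.2)

theorem deg_irr_pos (χ : Cfsg.IrrCharacter G) : 0 < deg (χ : G → ℂ) := by
  obtain ⟨n, hn, h1⟩ := IsIrrCharacter.apply_one χ.2
  simp [deg, h1, hn]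

theorem deg_character {V : Type v} [AddCommGroup V] [Module ℂ V] [FiniteDimensional ℂ V]
    (ρ : Representation ℂ G V) : deg ρ.character = finrank ℂ V := by
  simp [deg, ρ.char_one]

/-! ## First orthogonality relation -/

open scoped Classical in
theorem classInner_character [Fintype G]
    {V : Type v} [AddCommGroup V] [Module ℂ V] [FiniteDimensional ℂ V]
    {W : Type w} [AddCommGroup W] [Module ℂ W] [FiniteDimensional ℂ W]
    (ρ : Representation ℂ G V) (σ : Representation ℂ G W) [ρ.IsIrreducible] [σ.IsIrreducible] :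
    Cfsg.classInner ρ.character σ.character =
      if Nonempty (σ.Equiv ρ) then 1 else 0 := by
  have : Invertible (Nat.card G : ℂ) := invertibleOfNonzero (by exact_mod_cast Nat.card_pos.ne')
  rw [← Representation.char_orthonormal ρ σ]
  simp [classInner_def, character_inv σ]

open scoped Classical in
theorem classInner_irrChar [Fintype G] {χ ψ : G → ℂ} (hχ : Cfsg.IsIrrCharacter G χ)
    (hψ : Cfsg.IsIrrCharacter G ψ) :
    Cfsg.classInner χ ψ = if χ = ψ then 1 else 0 := by
  obtain ⟨n, ρ, hρ, rfl⟩ := hχ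
  obtain ⟨m, σ, hσ, rfl⟩ := hψ
  rw [classInner_character ρ σ]
  by_cases h : Nonempty (σ.Equiv ρ)
  · rw [if_pos h, if_pos (Representation.char_iso h.some).symm]
  · rw [if_neg h, if_neg]
    intro heq
    have h1 := classInner_character ρ ρ
    rw [if_pos ⟨Representation.Equiv.refl ρ⟩] at h1
    have h2 := classInner_character ρ σ
    rw [if_neg h, ← heq, h1] at h2
    exact one_ne_zero h2

theorem classInner_irr_self [Fintype G] (χ : Cfsg.IrrCharacter G) :
    Cfsg.classInner (χ : G → ℂ) χ = 1 := by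
  classical
  simp [classInner_irrChar χ.2 χ.2]

theorem classInner_irr_ne [Fintype G] {χ ψ : Cfsg.IrrCharacter G} (h : χ ≠ ψ) :
    Cfsg.classInner (χ : G → ℂ) ψ = 0 := by
  classical
  rw [classInner_irrChar χ.2 ψ.2, if_neg (fun h' => h (Subtype.ext h'))]

theorem classInner_irrCharacter [Fintype G] [DecidableEq (Cfsg.IrrCharacter G)]
    (χ ψ : Cfsg.IrrCharacter G) :
    Cfsg.classInner (χ : G → ℂ) ψ = if χ = ψ then 1 else 0 := by
  by_cases h : χ = ψ
  · subst h; simp [classInner_irr_self]
  · rw [if_neg h, classInner_irr_ne h]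

/-- Irreducible representations with the same character are equivalent. -/
theorem nonempty_equiv_of_irr_character_eq [Finite G]
    {V : Type v} [AddCommGroup V] [Module ℂ V] [FiniteDimensional ℂ V]
    {W : Type w} [AddCommGroup W] [Module ℂ W] [FiniteDimensional ℂ W]
    (ρ : Representation ℂ G V) (σ : Representation ℂ G W) [ρ.IsIrreducible] [σ.IsIrreducible]
    (h : ρ.character = σ.character) : Nonempty (ρ.Equiv σ) := by
  classical
  have := Fintype.ofFinite G
  by_contra hne
  have h1 := classInner_character ρ ρ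
  rw [if_pos ⟨Representation.Equiv.refl ρ⟩] at h1
  have h2 := classInner_character σ ρ
  rw [if_neg hne, ← h, h1] at h2
  exact one_ne_zero h2

theorem linearIndependent_irr [Finite G] :
    LinearIndependent ℂ (fun χ : Cfsg.IrrCharacter G => (χ : G → ℂ)) := by
  classical
  have := Fintype.ofFinite G
  rw [linearIndependent_iff']
  intro s c hc χ hχ
  have := congrArg (fun f => Cfsg.classInner f (χ : G → ℂ)) hc
  simp only [classInner_sum_left, classInner_smul_left, classInner_zero_left] at this
  simpa [classInner_irrCharacter, hχ] using this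

instance instFiniteIrrCharacter [Finite G] : Finite (Cfsg.IrrCharacter G) :=
  linearIndependent_irr.finite

noncomputable instance instFintypeIrrCharacter [Finite G] : Fintype (Cfsg.IrrCharacter G) :=
  Fintype.ofFinite _

/-! ## Decomposition of a character -/

theorem exists_decomp [Finite G] {V : Type v} [AddCommGroup V] [Module ℂ V]
    [FiniteDimensional ℂ V] (ρ : Representation ℂ G V) :
    ∃ m : Cfsg.IrrCharacter G → ℕ, ρ.character = ∑ χ, m χ • (χ : G → ℂ) := by
  classical
  apply rep_induction (P := fun V _ _ _ ρ =>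
    ∃ m : Cfsg.IrrCharacter G → ℕ, ρ.character = ∑ χ, m χ • (χ : G → ℂ))
  · intro V _ _ _ ρ hV
    refine ⟨0, funext fun g => ?_⟩
    have : ρ g = 0 := LinearMap.ext fun x => Subsingleton.elim _ _
    simp [Representation.character, this]
  · intro V _ _ _ ρ hρ
    refine ⟨fun χ => if χ = ⟨ρ.character, isIrrCharacter_character ρ⟩ then 1 else 0, ?_⟩
    simp
  · intro V _ _ _ ρ S T h hS hT
    obtain ⟨a, ha⟩ := hS
    obtain ⟨b, hb⟩ := hT
    exact ⟨a + b, by rw [character_compl ρ S T h, ha, hb, ← Finset.sum_add_distrib]; simp [add_smul]⟩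

theorem IsCharacter.exists_decomp [Finite G] {χ : G → ℂ} (h : Cfsg.IsCharacter G χ) :
    ∃ m : Cfsg.IrrCharacter G → ℕ, χ = ∑ ψ, m ψ • (ψ : G → ℂ) := by
  obtain ⟨n, ρ, rfl⟩ := h; exact Chars.exists_decomp ρ

theorem classInner_irrSum [Fintype G] (c : Cfsg.IrrCharacter G → ℂ) (χ : Cfsg.IrrCharacter G) :
    Cfsg.classInner (∑ ψ, c ψ • (ψ : G → ℂ)) χ = c χ := by
  classical
  simp [classInner_sum_left, classInner_smul_left, classInner_irrCharacter]

/-- The multiplicity of an irreducible constituent in a character is a natural number. -/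
theorem IsCharacter.exists_mult [Fintype G] {φ : G → ℂ} (h : Cfsg.IsCharacter G φ)
    {χ : G → ℂ} (hχ : Cfsg.IsIrrCharacter G χ) : ∃ m : ℕ, Cfsg.classInner φ χ = m := by
  classical
  obtain ⟨m, rfl⟩ := IsCharacter.exists_decomp h
  refine ⟨m ⟨χ, hχ⟩, ?_⟩
  simp only [← Nat.cast_smul_eq_nsmul ℂ]
  exact classInner_irrSum (fun ψ => (m ψ : ℂ)) ⟨χ, hχ⟩

/-! ## Completeness -/

/-- A class function orthogonal to every irreducible character gives the zero operator in every
representation. -/
theorem twistedSum_eq_zero [Fintype G] {f : G → ℂ} (hf : Cfsg.IsClassFunction G f)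
    (h0 : ∀ χ : Cfsg.IrrCharacter G, Cfsg.classInner f χ = 0)
    {V : Type v} [AddCommGroup V] [Module ℂ V] [FiniteDimensional ℂ V]
    (ρ : Representation ℂ G V) : (∑ g : G, conj (f g) • ρ g) = 0 := by
  apply rep_induction (P := fun V _ _ _ ρ => (∑ g : G, conj (f g) • ρ g) = 0)
  · intro V _ _ _ ρ hV
    exact LinearMap.ext fun x => Subsingleton.elim _ _
  · intro V _ _ _ ρ hρ
    set T := ∑ g : G, conj (f g) • ρ g with hT
    have hcomm : ∀ (a : G) v, T (ρ a v) = ρ a (T v) := by
      intro a v
      simp only [hT, LinearMap.sum_apply, LinearMap.smul_apply, map_sum, map_smul]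
      refine Fintype.sum_equiv (MulAut.conj a⁻¹).toEquiv _ _ fun g => ?_
      simp only [MulEquiv.toEquiv_eq_coe, MulEquiv.coe_toEquiv, MulAut.conj_apply, inv_inv]
      rw [classFunction_conj' hf, ← Module.End.mul_apply, ← Module.End.mul_apply, ← map_mul,
        ← map_mul]
      congr 2
      group
    obtain ⟨c, hc⟩ := schur_scalar ρ T hcomm
    have htr : LinearMap.trace ℂ V T = 0 := by
      simp only [hT, map_sum, map_smul, smul_eq_mul]
      have h1 := h0 ⟨ρ.character, isIrrCharacter_character ρ⟩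
      rw [classInner_def, mul_eq_zero] at h1
      have h2 := h1.resolve_left (inv_ne_zero (by exact_mod_cast Nat.card_pos.ne'))
      have h3 := congrArg conj h2
      simpa [map_sum, Representation.character] using h3
    have := finrank_pos_of_irreducible ρ
    rw [hc, map_smul, LinearMap.trace_id, smul_eq_mul, mul_eq_zero] at htr
    have hc0 : c = 0 := htr.resolve_right (by exact_mod_cast this.ne')
    rw [hc, hc0, zero_smul]
  · intro V _ _ _ ρ S T h hS hT
    apply LinearMap.ext
    intro x
    obtain ⟨⟨a, b⟩, rfl⟩ := (Submodule.prodEquivOfIsCompl _ _ h).surjective x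
    rw [Submodule.coe_prodEquivOfIsCompl', map_add, LinearMap.zero_apply]
    have ha := congrArg (fun F : S.toSubmodule →ₗ[ℂ] S.toSubmodule => (F a : V)) hS
    have hb := congrArg (fun F : T.toSubmodule →ₗ[ℂ] T.toSubmodule => (F b : V)) hT
    simp only [LinearMap.sum_apply, LinearMap.smul_apply, Submodule.coe_sum, Submodule.coe_smul,
      LinearMap.zero_apply, Submodule.coe_zero] at ha hb ⊢
    rw [show (∑ g : G, conj (f g) • (ρ g) (a : V)) = 0 from ha,
      show (∑ g : G, conj (f g) • (ρ g) (b : V)) = 0 from hb, add_zero]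

theorem eq_zero_of_classInner_eq_zero [Fintype G] {f : G → ℂ} (hf : Cfsg.IsClassFunction G f)
    (h0 : ∀ χ : Cfsg.IrrCharacter G, Cfsg.classInner f χ = 0) : f = 0 := by
  classical
  have h := congrArg (fun F => (F (MonoidAlgebra.single (1 : G) (1 : ℂ))))
    (twistedSum_eq_zero hf h0 (Representation.leftRegular ℂ G))
  simp only [LinearMap.sum_apply, LinearMap.smul_apply, Representation.ofMulAction_single,
    LinearMap.zero_apply, smul_eq_mul, mul_one, MonoidAlgebra.smul_single] at h
  funext x
  have h2 := congrArg (fun z : MonoidAlgebra ℂ G => z.coeff x) h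
  simp at h2
  simpa [Finsupp.single_apply] using h2

/-- Every class function is the combination of irreducible characters given by inner products. -/
theorem classFunction_expand [Fintype G] {f : G → ℂ} (hf : Cfsg.IsClassFunction G f) :
    f = ∑ χ : Cfsg.IrrCharacter G, Cfsg.classInner f χ • (χ : G → ℂ) := by
  rw [← sub_eq_zero]
  apply eq_zero_of_classInner_eq_zero
  · intro g h
    simp only [Pi.sub_apply, Finset.sum_apply, Pi.smul_apply]
    rw [hf g h, Finset.sum_congr rfl fun χ _ => by rw [isClassFunction_irr χ g h]]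
  · intro χ
    rw [classInner_sub_left, classInner_irrSum, sub_self]

theorem classFunction_expand_apply [Fintype G] {f : G → ℂ} (hf : Cfsg.IsClassFunction G f)
    (g : G) : f g = ∑ χ : Cfsg.IrrCharacter G, Cfsg.classInner f χ * (χ : G → ℂ) g := by
  conv_lhs => rw [classFunction_expand hf]
  simp [Finset.sum_apply]

theorem classFunction_ext [Fintype G] {f f' : G → ℂ} (hf : Cfsg.IsClassFunction G f)
    (hf' : Cfsg.IsClassFunction G f')
    (h : ∀ χ : G → ℂ, Cfsg.IsIrrCharacter G χ → Cfsg.classInner f χ = Cfsg.classInner f' χ) :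
    f = f' := by
  rw [classFunction_expand hf, classFunction_expand hf']
  exact Finset.sum_congr rfl fun χ _ => by rw [h χ χ.2]

end Cfsg.Lib.Chars
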