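import Cfsg.Agent.Chars.Values
import Cfsg.Agent.Chars.Construct
import Cfsg.Agent.Chars.Count

/-!
# Characters of small degree
-/

namespace Cfsg.Lib.Chars

universe u

variable {H : Type u} [Group H] [Finite H]

/-- A character of degree below every prime divisor of the order contains only linear
constituents, so it is trivial on commutators. -/
theorem commutator_mem_ker_of_small {χ : H → ℂ} (hχ : Cfsg.IsCharacter H χ)
    (hsmall : ∀ q : ℕ, q.Prime → q ∣ Nat.card H → deg χ < q) (a b : H) :
    χ (a * b * a⁻¹ * b⁻¹) = χ 1 := by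
  classical
  obtain ⟨m, hm⟩ := IsCharacter.exists_decomp hχ
  have hdeg : deg χ = ∑ θ : Cfsg.IrrCharacter H, m θ * deg (θ : H → ℂ) := by
    have := congrFun hm 1
    simp only [Finset.sum_apply, Pi.smul_apply] at this
    simp only [irr_apply_one_eq_deg, nsmul_eq_mul] at this
    rw [IsCharacter.apply_one_eq_deg hχ] at this
    exact_mod_cast this
  have hlin : ∀ θ : Cfsg.IrrCharacter H, m θ ≠ 0 →
      (θ : H → ℂ) (a * b * a⁻¹ * b⁻¹) = (θ : H → ℂ) 1 := by
    intro θ hθ
    have hle : deg (θ : H → ℂ) ≤ deg χ := by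
      rw [hdeg]
      exact (Nat.le_mul_of_pos_left _ (Nat.pos_of_ne_zero hθ)).trans
        (Finset.single_le_sum (f := fun t => m t * deg (t : H → ℂ)) (fun _ _ => Nat.zero_le _)
          (Finset.mem_univ θ))
    have h1 : deg (θ : H → ℂ) = 1 := by
      by_contra h
      obtain ⟨q, hq, hqd⟩ := Nat.exists_prime_and_dvd h
      have := hsmall q hq (hqd.trans (IsIrrCharacter.deg_dvd θ.2))
      exact absurd (Nat.le_of_dvd (deg_irr_pos θ) hqd) (by omega)
    obtain ⟨f, hf⟩ := exists_hom_of_deg_one (isCharacter_of_irr θ.2)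
      (by rw [irr_apply_one_eq_deg, h1, Nat.cast_one])
    simp only [hf, map_mul, map_inv, map_one, mul_inv_cancel_comm, mul_inv_cancel, Units.val_one]
  rw [hm]
  simp only [Finset.sum_apply, Pi.smul_apply]
  refine Finset.sum_congr rfl fun θ _ => ?_
  by_cases h : m θ = 0
  · simp [h]
  · rw [hlin θ h]

end Cfsg.Lib.Chars
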