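import Cfsg.Agent.Chars.Extension
import Cfsg.Agent.Chars.Count
import Mathlib.GroupTheory.Sylow

/-!
# Groups all of whose irreducible degrees are powers of one prime
-/

namespace Cfsg.Lib.Chars

open scoped commutatorElement

universe u

theorem mem_of_coprime_pPow {G : Type u} [Group G] [Finite G] {p k : ℕ} (hp : p.Prime)
    (A : Subgroup G) [A.Normal] (hA : A.index = p ^ k) {x : G} (hx : Nat.Coprime (orderOf x) p) :
    x ∈ A := by
  have h1 : orderOf (QuotientGroup.mk' A x) ∣ orderOf x := orderOf_map_dvd _ x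
  have h2 : orderOf (QuotientGroup.mk' A x) ∣ p ^ k := hA ▸ orderOf_dvd_natCard _
  have h3 := Nat.eq_one_of_dvd_coprimes (hx.pow_right k) h1 h2
  exact (QuotientGroup.eq_one_iff x).mp (orderOf_eq_one_iff.mp h3)

theorem mul_comm_of_all_linear {G : Type u} [Group G] [Finite G]
    (h : ∀ χ : Cfsg.IrrCharacter G, (χ : G → ℂ) 1 = 1) (a b : G) : a * b = b * a := by
  rw [← commutatorElement_eq_one_iff_mul_comm]
  refine isConj_one_right.mp ((isConj_iff_forall_irr 1 _).mpr fun χ => ?_)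
  obtain ⟨f, hf⟩ := exists_hom_of_deg_one (isCharacter_of_irr χ.2) (h χ)
  simp [hf, commutatorElement_def, mul_comm, mul_assoc, mul_left_comm]

/-- The abelian normal `p`-complement. -/
theorem exists_abelian_complement (p : ℕ) (hp : p.Prime) : ∀ (n : ℕ) (G : Type u) [Group G]
    [Finite G], Nat.card G = n →
      (∀ χ : Cfsg.IrrCharacter G, ∃ k : ℕ, (χ : G → ℂ) 1 = (p : ℂ) ^ k) →
      ∃ A : Subgroup G, A.Normal ∧ (∀ a ∈ A, ∀ b ∈ A, a * b = b * a) ∧
        Nat.Coprime (Nat.card A) p ∧ ∃ k : ℕ, A.index = p ^ k := by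
  intro n
  induction n using Nat.strong_induction_on with
  | _ n ih =>
  intro G _ _ hcard hdeg
  classical
  have := Fintype.ofFinite G
  have hd : ∀ χ : Cfsg.IrrCharacter G, ∃ k : ℕ, deg (χ : G → ℂ) = p ^ k := fun χ => by
    obtain ⟨k, hk⟩ := hdeg χ
    rw [irr_apply_one_eq_deg χ] at hk
    exact ⟨k, by exact_mod_cast hk⟩
  by_cases hpG : p ∣ Nat.card G
  swap
  · refine ⟨⊤, inferInstance, fun a _ b _ => mul_comm_of_all_linear (fun χ => ?_) a b, ?_, 0,
      by simp⟩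
    · obtain ⟨k, hk⟩ := hd χ
      have hdvd := IsIrrCharacter.deg_dvd χ.2
      rw [hk] at hdvd
      rcases Nat.eq_zero_or_pos k with rfl | hkp
      · rw [irr_apply_one_eq_deg χ, hk]; simp
      · exact absurd ((dvd_pow_self p hkp.ne').trans hdvd) hpG
    · rw [Subgroup.card_top]
      exact ((Nat.Prime.coprime_iff_not_dvd hp).mpr hpG).symm
  -- a nontrivial linear character of order `p`
  set L := Finset.univ.filter fun χ : Cfsg.IrrCharacter G => deg (χ : G → ℂ) = 1 with hL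
  have hpL : p ∣ L.card := by
    have h := sum_deg_sq_nat (G := G)
    rw [← Finset.sum_filter_add_sum_filter_not Finset.univ
      (fun χ : Cfsg.IrrCharacter G => deg (χ : G → ℂ) = 1)] at h
    have e1 : ∑ χ ∈ L, deg (χ : G → ℂ) ^ 2 = L.card := by
      rw [Finset.card_eq_sum_ones]
      refine Finset.sum_congr rfl fun χ hχ => ?_
      rw [hL] at hχ
      rw [(Finset.mem_filter.mp hχ).2, one_pow]
    rw [← hL, e1] at h
    have h2 : p ∣ ∑ χ ∈ Finset.univ.filter
        (fun χ : Cfsg.IrrCharacter G => ¬ deg (χ : G → ℂ) = 1), deg (χ : G → ℂ) ^ 2 := by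
      refine Finset.dvd_sum fun χ hχ => ?_
      obtain ⟨k, hk⟩ := hd χ
      rcases Nat.eq_zero_or_pos k with rfl | hkp
      · exact absurd (by simpa using hk) (Finset.mem_filter.mp hχ).2
      · rw [hk, ← pow_mul]; exact dvd_pow_self p (by omega)
    have h' : L.card = Nat.card G - ∑ χ ∈ Finset.univ.filter
        (fun χ : Cfsg.IrrCharacter G => ¬ deg (χ : G → ℂ) = 1), deg (χ : G → ℂ) ^ 2 := by omega
    rw [h']
    exact Nat.dvd_sub hpG h2
  let toIrr : (G →* ℂˣ) → {χ : Cfsg.IrrCharacter G // deg (χ : G → ℂ) = 1} := fun f =>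
    ⟨⟨fun g => (f g : ℂ), isIrrCharacter_linear f⟩, by simp [deg]⟩
  have hbij : Function.Bijective toIrr := by
    constructor
    · intro f g h
      refine MonoidHom.ext fun x => Units.ext ?_
      exact congrFun (congrArg (fun z : {χ : Cfsg.IrrCharacter G // deg (χ : G → ℂ) = 1} =>
        (z.1 : G → ℂ)) h) x
    · rintro ⟨χ, hχ⟩
      obtain ⟨f, hf⟩ := exists_hom_of_deg_one (isCharacter_of_irr χ.2)
        (by rw [irr_apply_one_eq_deg χ, hχ, Nat.cast_one])
      exact ⟨f, Subtype.ext (Subtype.ext hf.symm)⟩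
  haveI : Finite (G →* ℂˣ) := Finite.of_injective toIrr hbij.1
  have hpH : p ∣ Nat.card (G →* ℂˣ) := by
    rw [Nat.card_eq_of_bijective toIrr hbij, Nat.card_eq_fintype_card, Fintype.card_subtype]
    exact hpL
  haveI := Fact.mk hp
  obtain ⟨f, hf⟩ := exists_prime_orderOf_dvd_card' p hpH
  set N := f.ker with hN
  have hNidx : ∃ k, N.index = p ^ k ∧ k ≠ 0 := by
    have hpg : IsPGroup p f.range := fun ⟨y, hy⟩ => ⟨1, by
      obtain ⟨x, rfl⟩ := hy
      apply Subtype.ext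
      rw [SubmonoidClass.coe_pow, pow_one, OneMemClass.coe_one]
      show f x ^ p = 1
      rw [← MonoidHom.pow_apply, ← hf, pow_orderOf_eq_one, MonoidHom.one_apply]⟩
    haveI : Finite f.range := Set.finite_range f
    obtain ⟨k, hk⟩ := IsPGroup.iff_card.mp hpg
    refine ⟨k, by rw [hN, Subgroup.index_ker, hk], fun h0 => ?_⟩
    rw [h0, pow_zero] at hk
    have : f = 1 := MonoidHom.range_eq_bot_iff.mp (Subgroup.card_eq_one.mp hk)
    rw [this, orderOf_one] at hf
    exact hp.ne_one hf.symm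
  obtain ⟨k, hk, hk0⟩ := hNidx
  haveI : N.Normal := inferInstance
  have := Fintype.ofFinite N
  have hlt : Nat.card N < n := by
    rw [← hcard, ← Subgroup.card_mul_index N, hk]
    exact lt_mul_of_one_lt_right Nat.card_pos (Nat.one_lt_pow hk0 hp.one_lt)
  obtain ⟨A, hAn, hAc, hAp, j, hAj⟩ := ih _ hlt N rfl fun θ => by
    obtain ⟨χ, hχ, hc⟩ := exists_over N θ.2
    obtain ⟨m, hm⟩ := IsCharacter.exists_mult (IsCharacter.restrict (isCharacter_of_irr hχ) N) θ.2
    have h := congrFun (clifford N hχ θ.2 hc) 1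
    rw [Pi.smul_apply, Finset.sum_apply, hm,
      Finset.sum_congr rfl (g := fun _ => (θ : N → ℂ) 1) (fun ψ hψ => by
        obtain ⟨g, rfl⟩ := (mem_conjOrbit N).mp hψ
        exact congrArg (θ : N → ℂ) (Subtype.ext (by simp))),
      Finset.sum_const, nsmul_eq_mul, smul_eq_mul] at h
    obtain ⟨i, hi⟩ := hd ⟨χ, hχ⟩
    have hχ1 := irr_apply_one_eq_deg (⟨χ, hχ⟩ : Cfsg.IrrCharacter G)
    rw [hi] at hχ1
    rw [show ((1 : N) : G) = 1 from rfl, show χ 1 = _ from hχ1, irr_apply_one_eq_deg θ] at h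
    have h' : p ^ i = m * ((conjOrbit N (θ : N → ℂ)).card * deg (θ : N → ℂ)) := by
      exact_mod_cast h
    obtain ⟨l, -, hl⟩ := (Nat.dvd_prime_pow hp).mp
      (show deg (θ : N → ℂ) ∣ p ^ i from ⟨m * (conjOrbit N (θ : N → ℂ)).card, by rw [h']; ring⟩)
    exact ⟨l, by rw [irr_apply_one_eq_deg θ, hl]; push_cast; rfl⟩
  refine ⟨A.map N.subtype, ⟨fun x hx g => ?_⟩, ?_, ?_, j + k, ?_⟩
  · obtain ⟨a, ha, rfl⟩ := hx
    refine ⟨⟨g * a * g⁻¹, (inferInstance : N.Normal).conj_mem a a.2 g⟩, ?_, rfl⟩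
    refine mem_of_coprime_pPow hp A hAj ?_
    rw [Subgroup.orderOf_mk, ← MulAut.conj_apply, MulEquiv.orderOf_eq, Subgroup.orderOf_coe]
    exact hAp.coprime_dvd_left (Subgroup.orderOf_dvd_natCard _ ha)
  · rintro - ⟨a, ha, rfl⟩ - ⟨b, hb, rfl⟩
    rw [← map_mul, ← map_mul, hAc a ha b hb]
  · rwa [Subgroup.card_map_of_injective N.subtype_injective]
  · rw [Subgroup.index_map_subtype, hk, hAj, pow_add]

end Cfsg.Lib.Chars
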