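import Cfsg.Prelude.Def_Transfer
import Cfsg.Agent.Chars.Galois
import Cfsg.Agent.Chars.Induced
import Cfsg.Agent.Chars.IrrTools
import Cfsg.Agent.Chars.Count

/-!
# Characters of extraspecial groups
-/

namespace Cfsg.Lib.Chars

open scoped ComplexConjugate commutatorElement

universe u

variable {P : Type u} [Group P] [Finite P]

/-- Central elements act on irreducible characters by scalars. -/
theorem center_mul_of_irr {χ : P → ℂ} (hχ : Cfsg.IsIrrCharacter P χ) {z : P}
    (hz : z ∈ Subgroup.center P) (x : P) : χ (z * x) * χ 1 = χ z * χ x := by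
  obtain ⟨n, ρ, hρ, rfl⟩ := hχ
  obtain ⟨c, hc⟩ := schur_scalar ρ (ρ z) fun g v => by
    rw [← Module.End.mul_apply, ← Module.End.mul_apply, ← map_mul, ← map_mul,
      Subgroup.mem_center_iff.mp hz g]
  have h : ∀ y : P, ρ.character (z * y) = c * ρ.character y := fun y => by
    rw [Representation.character, Representation.character, map_mul, hc, smul_mul_assoc,
      show (LinearMap.id : (Fin n → ℂ) →ₗ[ℂ] _) * ρ y = ρ y from one_mul _, map_smul, smul_eq_mul]
  have h1 : ρ.character z = c * ρ.character 1 := by simpa using h 1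
  rw [h, h1]; ring

variable {p : ℕ} [Fact p.Prime]

theorem zpowers_eq_center (hP : Cfsg.IsExtraspecial p P) {z : P} (hz : z ∈ Subgroup.center P)
    (hz1 : z ≠ 1) : Subgroup.zpowers z = Subgroup.center P := by
  have hle : Subgroup.zpowers z ≤ Subgroup.center P := Subgroup.zpowers_le.mpr hz
  refine Subgroup.eq_of_le_of_card_ge hle ?_
  rw [hP.2]
  have hd : Nat.card (Subgroup.zpowers z) ∣ p := hP.2 ▸ Subgroup.card_dvd_of_le hle
  rcases (Nat.dvd_prime (Fact.out : p.Prime)).mp hd with h | h
  · exact absurd (orderOf_eq_one_iff.mp (by rw [← Nat.card_zpowers]; exact h)) hz1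
  · exact h.ge

theorem exists_commutator (hP : Cfsg.IsExtraspecial p P) {x : P} (hx : x ∉ Subgroup.center P) :
    ∃ g : P, ⁅g, x⁆ ∈ Subgroup.center P ∧ ⁅g, x⁆ ≠ 1 := by
  rw [Subgroup.mem_center_iff] at hx
  push Not at hx
  obtain ⟨g, hg⟩ := hx
  refine ⟨g, ?_, fun h => hg (commutatorElement_eq_one_iff_mul_comm.mp h)⟩
  rw [← hP.1.2.2, commutator_def]
  exact Subgroup.commutator_mem_commutator (Subgroup.mem_top g) (Subgroup.mem_top x)

/-- A class function on which the centre acts by a nontrivial character vanishes off the centre. -/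
theorem vanish_off_center (hP : Cfsg.IsExtraspecial p P) {f : P → ℂ}
    (hf : Cfsg.IsClassFunction P f) (ω : P → ℂ)
    (hω : ∀ z ∈ Subgroup.center P, z ≠ 1 → ω z ≠ 1 ∧ ∀ x : P, f (z * x) = ω z * f x) {x : P}
    (hx : x ∉ Subgroup.center P) : f x = 0 := by
  obtain ⟨g, hz, hz1⟩ := exists_commutator hP hx
  obtain ⟨hne, hmul⟩ := hω _ hz hz1
  have h := hf x g
  rw [show g * x * g⁻¹ = ⁅g, x⁆ * x by simp [commutatorElement_def], hmul x] at h
  have h' : (ω ⁅g, x⁆ - 1) * f x = 0 := by rw [sub_mul, h, one_mul, sub_self]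
  exact (mul_eq_zero.mp h').resolve_left (sub_ne_zero.mpr hne)

/-- The dichotomy for irreducible characters of an extraspecial group. -/
theorem extraspecial_dichotomy (hP : Cfsg.IsExtraspecial p P) {n : ℕ}
    (hcard : Nat.card P = p ^ (2 * n + 1)) {χ : P → ℂ} (hχ : Cfsg.IsIrrCharacter P χ) :
    χ 1 = 1 ∨ (χ 1 = (p : ℂ) ^ n ∧ ∀ x ∉ Subgroup.center P, χ x = 0) := by
  classical
  have := Fintype.ofFinite P
  have hc := isCharacter_of_irr hχ
  by_cases hker : ∀ z ∈ Subgroup.center P, χ z = χ 1
  · left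
    obtain ⟨χ', hχ', hfac⟩ := exists_factor (QuotientGroup.mk' (commutator P))
      (QuotientGroup.mk'_surjective _) hc fun k hk => hker k (by
        rwa [QuotientGroup.ker_mk', hP.1.2.2] at hk)
    have hirr : Cfsg.IsIrrCharacter (P ⧸ commutator P) χ' :=
      IsIrrCharacter.descend hχ' (QuotientGroup.mk' (commutator P))
        (QuotientGroup.mk'_surjective _) (hfac ▸ hχ)
    have hcomm : ∀ a b : P ⧸ commutator P, a * b = b * a := by
      intro a b
      induction a using QuotientGroup.induction_on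
      induction b using QuotientGroup.induction_on
      rename_i a b
      rw [← commutatorElement_eq_one_iff_mul_comm]
      show ⁅(QuotientGroup.mk' (commutator P)) a, (QuotientGroup.mk' (commutator P)) b⁆ = 1
      rw [← map_commutatorElement]
      exact (QuotientGroup.eq_one_iff _).mpr
        (Subgroup.commutator_mem_commutator (Subgroup.mem_top a) (Subgroup.mem_top b))
    rw [hfac]
    show χ' (QuotientGroup.mk' (commutator P) 1) = 1
    rw [map_one]
    exact irr_deg_one_of_comm hcomm hirr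
  · right
    push Not at hker
    obtain ⟨z₀, hz₀, hz₀ne⟩ := hker
    have h10 : χ 1 ≠ 0 := IsIrrCharacter.apply_one_ne_zero hχ
    have hω : ∀ z ∈ Subgroup.center P, z ≠ 1 →
        χ z / χ 1 ≠ 1 ∧ ∀ x : P, χ (z * x) = χ z / χ 1 * χ x := by
      intro z hz hz1
      refine ⟨fun h => hz₀ne ?_, fun x => ?_⟩
      · rw [div_eq_one_iff_eq h10] at h
        have hle : Subgroup.zpowers z ≤ kerSubgroup χ hc := Subgroup.zpowers_le.mpr h
        rw [zpowers_eq_center hP hz hz1] at hle
        exact hle hz₀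
      · rw [div_mul_eq_mul_div, eq_div_iff h10]
        exact center_mul_of_irr hχ hz x
    have hvan : ∀ x ∉ Subgroup.center P, χ x = 0 := fun x hx =>
      vanish_off_center hP (isClassFunction_isChar hc) _ hω hx
    refine ⟨?_, hvan⟩
    obtain ⟨d, hd⟩ := IsCharacter.apply_one hc
    have hnorm : ∀ x ∈ Subgroup.center P, χ x * conj (χ x) = (d : ℂ) * d := by
      intro x hx
      have h := center_mul_of_irr hχ hx x⁻¹
      rw [mul_inv_cancel, IsCharacter.conj_inv hc x, hd] at h
      exact h.symm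
    have hn := classInner_self_irr hχ
    rw [classInner_def, ← Finset.sum_subset
      (Finset.subset_univ (Finset.univ.filter (fun x => x ∈ Subgroup.center P)))
      (fun x _ hx => by
        rw [hvan x (fun h => hx (Finset.mem_filter.mpr ⟨Finset.mem_univ x, h⟩)), zero_mul]),
      Finset.sum_congr rfl (fun x hx => hnorm x (Finset.mem_filter.mp hx).2), Finset.sum_const,
      nsmul_eq_mul, hcard] at hn
    have hZ : ((Finset.univ.filter (fun x => x ∈ Subgroup.center P)).card : ℂ) = p := by
      rw [← Fintype.card_subtype, ← Nat.card_eq_fintype_card, hP.2]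
    rw [hZ, inv_mul_eq_one₀ (by exact_mod_cast (pow_pos (Fact.out : p.Prime).pos _).ne')] at hn
    have hn' : p ^ (2 * n + 1) = p * (d * d) := by exact_mod_cast hn
    rw [pow_succ, mul_comm (p ^ (2 * n)) p, two_mul, pow_add] at hn'
    have hd' : d * d = p ^ n * p ^ n :=
      (Nat.eq_of_mul_eq_mul_left (Fact.out : p.Prime).pos hn').symm
    rw [hd, Nat.mul_self_inj.mp hd']
    push_cast
    ring

theorem one_le_rank (hP : Cfsg.IsExtraspecial p P) {n : ℕ}
    (hcard : Nat.card P = p ^ (2 * n + 1)) : 1 ≤ n := by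
  by_contra h0
  obtain rfl : n = 0 := by omega
  simp only [mul_zero, zero_add, pow_one] at hcard
  have htop : frattini P = ⊤ := by
    rw [hP.1.2.1]
    exact Subgroup.eq_top_of_card_eq _ (hP.2.trans hcard.symm)
  have : Nontrivial P := Finite.one_lt_card_iff_nontrivial.mp (hcard ▸ (Fact.out : p.Prime).one_lt)
  rcases IsCoatomic.eq_top_or_exists_le_coatom (⊥ : Subgroup P) with h | ⟨M, hM, -⟩
  · exact bot_ne_top h
  · exact hM.1 (top_le_iff.mp (htop ▸ frattini_le_coatom hM))

/-- The size of a noncentral class. -/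
theorem card_noncentral_class (hP : Cfsg.IsExtraspecial p P) {x : P}
    (hx : x ∉ Subgroup.center P) : Nat.card {y : P // IsConj x y} = p := by
  have hle : Nat.card {y : P // IsConj x y} ≤ p := by
    rw [← hP.2]
    refine Nat.card_le_card_of_injective (fun y : {y : P // IsConj x y} =>
      (⟨(y : P) * x⁻¹, ?_⟩ : Subgroup.center P)) ?_
    · obtain ⟨g, hg⟩ := isConj_iff.mp y.2
      rw [← hg, ← hP.1.2.2, commutator_def, show g * x * g⁻¹ * x⁻¹ = ⁅g, x⁆ from rfl]
      exact Subgroup.commutator_mem_commutator (Subgroup.mem_top g) (Subgroup.mem_top x)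
    · intro a b h
      exact Subtype.ext (mul_right_cancel (congrArg Subtype.val h))
  have hdvd : Nat.card {y : P // IsConj x y} ∣ Nat.card P := Dvd.intro _ (card_isConj_mul x)
  obtain ⟨g, -, hg1⟩ := exists_commutator hP hx
  have hgt : 1 < Nat.card {y : P // IsConj x y} := by
    haveI : Nontrivial {y : P // IsConj x y} :=
      ⟨⟨⟨x, IsConj.refl x⟩, ⟨g * x * g⁻¹, isConj_iff.mpr ⟨g, rfl⟩⟩, fun h => hg1 (by
        rw [commutatorElement_def, ← show x = g * x * g⁻¹ from congrArg Subtype.val h,
          mul_inv_cancel])⟩⟩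
    exact Finite.one_lt_card
  obtain ⟨k, hk⟩ := IsPGroup.iff_card.mp hP.1.1
  obtain ⟨i, -, hi⟩ := (Nat.dvd_prime_pow (Fact.out : p.Prime)).mp (hk ▸ hdvd)
  rw [hi] at hle hgt ⊢
  have h1 : i ≤ 1 := (Nat.pow_le_pow_iff_right (Fact.out : p.Prime).one_lt).mp (by simpa using hle)
  interval_cases i
  · simp at hgt
  · exact pow_one p

end Cfsg.Lib.Chars
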