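import Cfsg.Agent.Chars.Values
import Cfsg.Agent.Chars.Count
import Cfsg.Prelude.Def_Blocks
import Cfsg.Prelude.Def_DegreeGraph

/-!
# Common eigen class functions of class sums

A nonzero class function which is an eigenfunction of translation by some class sums comes
with an irreducible character having the corresponding central character values.
-/

namespace Cfsg.Lib.Chars

open Module

universe u

variable {G : Type u} [Group G] [Fintype G]

theorem sum_conjClass_character_mul {n : ℕ} (ρ : Representation ℂ G (Fin n → ℂ))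
    [ρ.IsIrreducible] (z g : G) [DecidablePred fun x => IsConj z x] :
    (∑ x ∈ Finset.univ.filter (fun x => IsConj z x), ρ.character (x * g)) * (n : ℂ) =
      (Nat.card {x : G // IsConj z x} : ℂ) * ρ.character z * ρ.character g := by
  classical
  set s := Finset.univ.filter (fun x => IsConj z x) with hs
  set T := ∑ x ∈ s, ρ x with hT
  have hcomm : ∀ (a : G) v, T (ρ a v) = ρ a (T v) := by
    intro a v
    simp only [hT, LinearMap.sum_apply, map_sum]
    refine Finset.sum_equiv (MulAut.conj a⁻¹).toEquiv (fun x => ?_) (fun x _ => ?_)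
    · simp only [hs, Finset.mem_filter, Finset.mem_univ, true_and, MulEquiv.toEquiv_eq_coe,
        MulEquiv.coe_toEquiv, MulAut.conj_apply]
      exact ⟨fun H => H.trans (isConj_iff.mpr ⟨a⁻¹, rfl⟩),
        fun H => H.trans (isConj_iff.mpr ⟨a, by group⟩)⟩
    · simp only [MulEquiv.toEquiv_eq_coe, MulEquiv.coe_toEquiv, MulAut.conj_apply, inv_inv]
      rw [← Module.End.mul_apply, ← Module.End.mul_apply, ← map_mul ρ, ← map_mul ρ]
      congr 2
      group
  obtain ⟨c, hc⟩ := schur_scalar ρ T hcomm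
  have h1 : (Nat.card {x : G // IsConj z x} : ℂ) * ρ.character z = c * (n : ℂ) := by
    rw [← sum_isConj (isClassFunction_character ρ) z]
    have : LinearMap.trace ℂ _ T = ∑ x ∈ s, ρ.character x := by rw [hT, map_sum]; rfl
    rw [← this, hc, map_smul, LinearMap.trace_id, smul_eq_mul, finrank_fin_fun]
  have h2 : ∑ x ∈ s, ρ.character (x * g) = c * ρ.character g := by
    have : LinearMap.trace ℂ _ (T * ρ g) = ∑ x ∈ s, ρ.character (x * g) := by
      rw [hT, Finset.sum_mul, map_sum]
      simp only [← map_mul ρ]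
      rfl
    rw [← this, hc, smul_mul_assoc, map_smul, smul_eq_mul]
    rfl
  rw [h2, h1]
  ring

theorem exists_irr_central_values {ι : Type*} [DecidableRel (IsConj : G → G → Prop)]
    (z : ι → G) (l : ι → ℂ) {f : G → ℂ} (hf : Cfsg.IsClassFunction G f) (hne : f ≠ 0)
    (heig : ∀ i g, ∑ x ∈ Finset.univ.filter (fun x => IsConj (z i) x), f (x * g) = l i * f g) :
    ∃ χ : Cfsg.IrrCharacter G, ∀ i,
      (Nat.card {x : G // IsConj (z i) x} : ℂ) * (χ : G → ℂ) (z i) = l i * (χ : G → ℂ) 1 := by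
  classical
  obtain ⟨χ, hχ⟩ : ∃ χ : Cfsg.IrrCharacter G, Cfsg.classInner f χ ≠ 0 := by
    by_contra h
    push Not at h
    exact hne (eq_zero_of_classInner_eq_zero hf h)
  refine ⟨χ, fun i => ?_⟩
  have hone : ∀ ψ : Cfsg.IrrCharacter G, (ψ : G → ℂ) 1 ≠ 0 := fun ψ =>
    IsIrrCharacter.apply_one_ne_zero ψ.2
  let w : Cfsg.IrrCharacter G → ℂ := fun ψ =>
    (Nat.card {x : G // IsConj (z i) x} : ℂ) * (ψ : G → ℂ) (z i) / (ψ : G → ℂ) 1
  have hw : ∀ (ψ : Cfsg.IrrCharacter G) (g : G),
      ∑ x ∈ Finset.univ.filter (fun x => IsConj (z i) x), (ψ : G → ℂ) (x * g) =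
        w ψ * (ψ : G → ℂ) g := by
    intro ψ g
    have h1 := hone ψ
    obtain ⟨n, ρ, hρ, he⟩ := ψ.2
    have := sum_conjClass_character_mul ρ (z i) g
    have hn : (ψ : G → ℂ) 1 = (n : ℂ) := by rw [← he, ρ.char_one, finrank_fin_fun]
    simp only [w]
    rw [div_mul_eq_mul_div, eq_div_iff h1, hn, ← he]
    exact this
  have h0 : ∑ ψ : Cfsg.IrrCharacter G,
      (Cfsg.classInner f ψ * (w ψ - l i)) • (ψ : G → ℂ) = 0 := by
    funext g
    have e1 := heig i g
    simp only [classFunction_expand_apply hf] at e1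
    rw [Finset.sum_comm, Finset.mul_sum, ← sub_eq_zero, ← Finset.sum_sub_distrib] at e1
    simp only [Finset.sum_apply, Pi.smul_apply, smul_eq_mul, Pi.zero_apply]
    refine (Finset.sum_congr rfl fun ψ _ => ?_).trans e1
    rw [← Finset.mul_sum, hw]
    ring
  have := Fintype.linearIndependent_iff.mp linearIndependent_irr _ h0 χ
  have h2 : w χ - l i = 0 := (mul_eq_zero.mp this).resolve_left hχ
  exact (div_eq_iff (hone χ)).mp (sub_eq_zero.mp h2)

/-- With rational eigenvalue the degree relation holds in the integers. -/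
theorem exists_int_of_central_value (χ : Cfsg.IrrCharacter G) (z : G) {h : ℕ} (hh : h ≠ 0) (l : ℤ)
    (e : (h : ℂ) * (χ : G → ℂ) z = (l : ℂ) * (χ : G → ℂ) 1) :
    ∃ m : ℤ, (h : ℤ) * m = l * (Cfsg.charDegree (χ : G → ℂ) : ℤ) := by
  have hd : (χ : G → ℂ) 1 = (Cfsg.charDegree (χ : G → ℂ) : ℂ) := irr_apply_one_eq_deg χ
  rw [hd] at e
  have hint : IsIntegral ℤ ((χ : G → ℂ) z) := by
    obtain ⟨n, ρ, hρ, he⟩ := χ.2
    rw [← he]
    exact isIntegral_character ρ z
  set d := Cfsg.charDegree (χ : G → ℂ)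
  have hq : (χ : G → ℂ) z = (((l : ℚ) * d / h : ℚ) : ℂ) := by
    push_cast
    rw [eq_div_iff (by exact_mod_cast hh), mul_comm]
    exact e
  rw [hq] at hint
  obtain ⟨m, hm⟩ := int_of_isIntegral_rat hint
  refine ⟨m, ?_⟩
  rw [div_eq_iff (by exact_mod_cast hh)] at hm
  have : ((l * d : ℤ) : ℚ) = ((h * m : ℤ) : ℚ) := by push_cast; rw [hm]; ring
  exact (Int.cast_inj.mp this).symm

theorem charDegree_dvd_card {H : Type u} [Group H] [Finite H] {d : ℕ}
    (hd : d ∈ Cfsg.charDegrees H) : d ∣ Nat.card H := by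
  obtain ⟨χ, rfl⟩ := hd
  exact IsIrrCharacter.deg_dvd χ.2

end Cfsg.Lib.Chars
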