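import Cfsg.Agent.Chars.Inertia
import Cfsg.Agent.Chars.Count

/-!
# Degrees and constituents
-/

namespace Cfsg.Lib.Chars

universe u v

variable {G : Type u} [Group G] [Fintype G]

/-- A constituent has degree at most that of the character, with equality only for equality. -/
theorem constituent_le {χ η : G → ℂ} (hχ : Cfsg.IsCharacter G χ) (hη : Cfsg.IsIrrCharacter G η)
    (hc : Cfsg.classInner χ η ≠ 0) : deg η ≤ deg χ ∧ (deg χ ≤ deg η → χ = η) := by
  classical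
  obtain ⟨m, hm⟩ := IsCharacter.exists_decomp hχ
  have hmη : 0 < m ⟨η, hη⟩ := by
    refine Nat.pos_of_ne_zero fun h => hc ?_
    rw [hm]
    simp only [← Nat.cast_smul_eq_nsmul ℂ]
    rw [classInner_irrSum (fun ψ => (m ψ : ℂ)) ⟨η, hη⟩, h, Nat.cast_zero]
  have hdeg : deg χ = ∑ ψ : Cfsg.IrrCharacter G, m ψ * deg (ψ : G → ℂ) := by
    apply Nat.cast_injective (R := ℂ)
    rw [← IsCharacter.apply_one_eq_deg hχ, congrFun hm 1]
    push_cast
    simp [Finset.sum_apply, irr_apply_one_eq_deg]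
  rw [← Finset.add_sum_erase Finset.univ _ (Finset.mem_univ (⟨η, hη⟩ : Cfsg.IrrCharacter G))] at hdeg
  have hle : deg η ≤ m ⟨η, hη⟩ * deg η := Nat.le_mul_of_pos_left _ hmη
  have hdeg' : deg χ = m ⟨η, hη⟩ * deg η + ∑ x ∈ Finset.univ.erase (⟨η, hη⟩ : Cfsg.IrrCharacter G),
      m x * deg (x : G → ℂ) := hdeg
  refine ⟨by omega, fun h => ?_⟩
  have h0 : ∑ x ∈ Finset.univ.erase (⟨η, hη⟩ : Cfsg.IrrCharacter G), m x * deg (x : G → ℂ) = 0 := by omega
  have h1 : m ⟨η, hη⟩ = 1 := by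
    have : m ⟨η, hη⟩ * deg η = 1 * deg η := by omega
    exact Nat.eq_of_mul_eq_mul_right (deg_irr_pos ⟨η, hη⟩) this
  rw [hm, Finset.sum_eq_single (⟨η, hη⟩ : Cfsg.IrrCharacter G), h1, one_smul]
  · intro φ _ hne
    rw [(mul_eq_zero.mp (Finset.sum_eq_zero_iff.mp h0 φ
      (Finset.mem_erase.mpr ⟨hne, Finset.mem_univ _⟩))).resolve_right (deg_irr_pos φ).ne', zero_smul]
  · simp

/-- Constituents of the restriction of a constituent. -/
theorem classInner_pullback_ne_zero {W : Type v} [Group W] [Fintype W] (f : W →* G) {χ ψ : G → ℂ}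
    (hχ : Cfsg.IsCharacter G χ) (hψ : Cfsg.IsIrrCharacter G ψ) (hc : Cfsg.classInner χ ψ ≠ 0)
    {η : W → ℂ} (hη : Cfsg.IsIrrCharacter W η)
    (hc' : Cfsg.classInner (fun w => ψ (f w)) η ≠ 0) :
    Cfsg.classInner (fun w => χ (f w)) η ≠ 0 := by
  classical
  obtain ⟨m, hm⟩ := IsCharacter.exists_decomp hχ
  choose k hk using fun φ : Cfsg.IrrCharacter G =>
    IsCharacter.exists_mult (IsCharacter.comp_hom (isCharacter_of_irr φ.2) f) hη
  have h1 : (fun w => χ (f w)) = ∑ φ : Cfsg.IrrCharacter G, m φ • (fun w => (φ : G → ℂ) (f w)) := by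
    funext w
    rw [hm]
    simp [Finset.sum_apply]
  rw [h1, classInner_sum_left]
  simp only [classInner_nsmul_left, hk]
  rw [hm] at hc
  simp only [← Nat.cast_smul_eq_nsmul ℂ] at hc
  rw [classInner_irrSum (fun ψ => (m ψ : ℂ)) ⟨ψ, hψ⟩] at hc
  have hk' : k ⟨ψ, hψ⟩ ≠ 0 := fun h => hc' (by rw [hk ⟨ψ, hψ⟩, h, Nat.cast_zero])
  have hm' : m ⟨ψ, hψ⟩ ≠ 0 := fun h => hc (by rw [h, Nat.cast_zero])
  intro h
  have h2 : ∑ φ : Cfsg.IrrCharacter G, m φ * k φ = 0 := by exact_mod_cast h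
  exact mul_ne_zero hm' hk' (Finset.sum_eq_zero_iff.mp h2 _ (Finset.mem_univ _))

end Cfsg.Lib.Chars
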