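import Cfsg.Agent.Chars.AbelianInertiaInduce
import Cfsg.Agent.Chars.PPowerDegrees
import Cfsg.Agent.Chars.Constituent
import Cfsg.Agent.Chars.Degree
import Cfsg.Agent.S4456
import Mathlib

/-!
# Groups with two irreducible character degrees

If every irreducible character has degree `1` or `m ≠ 1` and some has degree `m`, then the group has an abelian
normal subgroup of index `m`, or `m = p ^ e` and the group is the product of a `p`-group and an abelian group.
-/

namespace Cfsg.Lib.Chars

open scoped commutatorElement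

universe u

variable {G : Type u} [Group G]

/-- Commutators lie in a normal subgroup all of whose quotient characters are linear. -/
theorem commutator_mem_of_linear [Finite G] (N : Subgroup G) [N.Normal]
    (h : ∀ χ : Cfsg.IrrCharacter G, (∀ n ∈ N, (χ : G → ℂ) n = (χ : G → ℂ) 1) → deg (χ : G → ℂ) = 1)
    (a b : G) : ⁅a, b⁆ ∈ N := by
  classical
  have := Fintype.ofFinite G
  have hc := mul_comm_of_all_linear (G := G ⧸ N) (fun φ => ?_)
    (QuotientGroup.mk' N a) (QuotientGroup.mk' N b)
  · rw [← QuotientGroup.eq_one_iff, ← QuotientGroup.mk'_apply, map_commutatorElement,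
      commutatorElement_eq_one_iff_mul_comm]
    exact hc
  · have hirr := IsIrrCharacter.comp_surjective φ.2 (QuotientGroup.mk' N)
      (QuotientGroup.mk'_surjective N)
    have h1 := h ⟨_, hirr⟩ fun n hn => by
      show (φ : G ⧸ N → ℂ) (QuotientGroup.mk' N n) = (φ : G ⧸ N → ℂ) (QuotientGroup.mk' N 1)
      rw [map_one, QuotientGroup.mk'_apply, (QuotientGroup.eq_one_iff n).2 hn]
    have h2 := irr_apply_one_eq_deg (⟨_, hirr⟩ : Cfsg.IrrCharacter G)
    rw [h1, Nat.cast_one] at h2
    simpa using h2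

/-- Commuting modulo a central subgroup of order prime to the index is commuting. -/
theorem commute_of_central_coprime [Finite G] (H A : Subgroup G) [H.Normal] (hHA : H ≤ A)
    (hc : ∀ h ∈ H, ∀ a ∈ A, h * a = a * h) (hcop : (Nat.card H).Coprime H.index)
    (hab : ∀ a ∈ A, ∀ b ∈ A, ⁅a, b⁆ ∈ H) {a b : G} (ha : a ∈ A) (hb : b ∈ A) : a * b = b * a := by
  rw [← commutatorElement_eq_one_iff_mul_comm]
  set c := ⁅a, b⁆ with hcdef
  have hcH : c ∈ H := hab a ha b hb
  have hconj : ∀ k : ℕ, a ^ k * b * (a ^ k)⁻¹ = c ^ k * b := by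
    intro k
    induction k with
    | zero => simp
    | succ k ih =>
      have hca : c ^ k * a = a * c ^ k := hc _ (H.pow_mem hcH k) a ha
      calc a ^ (k + 1) * b * (a ^ (k + 1))⁻¹ = a * (a ^ k * b * (a ^ k)⁻¹) * a⁻¹ := by
            rw [pow_succ']; group
        _ = a * (c ^ k * b) * a⁻¹ := by rw [ih]
        _ = a * c ^ k * b * a⁻¹ := by group
        _ = c ^ k * a * b * a⁻¹ := by rw [hca]
        _ = c ^ k * c * b := by rw [hcdef, commutatorElement_def]; group
        _ = c ^ (k + 1) * b := by rw [pow_succ]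
  have han : a ^ H.index ∈ H := by
    rw [← QuotientGroup.eq_one_iff, QuotientGroup.mk_pow]
    exact pow_card_eq_one'
  have h1 := hconj H.index
  rw [hc _ han b hb, mul_inv_cancel_right] at h1
  have h2 : c ^ H.index = 1 := by simpa using h1
  have h3 : orderOf c ∣ Nat.card H := Subgroup.orderOf_dvd_natCard _ hcH
  exact orderOf_eq_one_iff.1 (Nat.eq_one_of_dvd_coprimes hcop h3 (orderOf_dvd_of_pow_eq_one h2))

/-- The normal Hall subgroup of elements of order prime to `m`. -/
theorem exists_coprime_core [Finite G] (m : ℕ) (hm0 : m ≠ 0)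
    (hN : ∀ q : ℕ, q.Prime → q ∣ m →
      ∃ N : Subgroup G, N.Normal ∧ (Nat.card N).Coprime q ∧ ∃ k : ℕ, N.index = q ^ k) :
    ∃ H : Subgroup G, H.Normal ∧ (∀ g : G, g ∈ H ↔ (orderOf g).Coprime m) ∧
      (Nat.card H).Coprime m ∧ (Nat.card H).Coprime H.index := by
  classical
  choose N hNn hNc k hNk using hN
  have hmem : ∀ q (hq : q.Prime) (hqm : q ∣ m) (g : G),
      g ∈ N q hq hqm ↔ (orderOf g).Coprime q := by
    intro q hq hqm g
    refine ⟨fun hg => (hNc q hq hqm).coprime_dvd_left (Subgroup.orderOf_dvd_natCard _ hg),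
      fun hg => ?_⟩
    haveI := hNn q hq hqm
    exact mem_of_coprime_pPow hq _ (hNk q hq hqm) hg
  set H : Subgroup G := ⨅ (q : ℕ) (hq : q.Prime) (hqm : q ∣ m), N q hq hqm with hH
  have hHmem : ∀ g : G, g ∈ H ↔ (orderOf g).Coprime m := by
    intro g
    simp only [hH, Subgroup.mem_iInf, hmem]
    constructor
    · intro h
      exact Nat.coprime_of_dvd fun q hq h1 h2 =>
        hq.coprime_iff_not_dvd.1 (h q hq h2).symm h1
    · intro h q hq hqm
      exact h.coprime_dvd_right hqm
  have hHn : H.Normal := by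
    refine ⟨fun n hn g => ?_⟩
    rw [hHmem] at hn ⊢
    rwa [show orderOf (g * n * g⁻¹) = orderOf n from
      orderOf_injective (MulAut.conj g).toMonoidHom (MulAut.conj g).injective n]
  haveI := hHn
  have hcard : (Nat.card H).Coprime m := Nat.coprime_of_dvd fun q hq h1 h2 => by
    haveI := Fact.mk hq
    obtain ⟨x, hx⟩ := exists_prime_orderOf_dvd_card' q h1
    have h3 := (hHmem x).1 x.2
    rw [Subgroup.orderOf_coe, hx] at h3
    exact hq.coprime_iff_not_dvd.1 h3 h2
  refine ⟨H, hHn, hHmem, hcard, Nat.coprime_of_dvd fun r hr h1 h2 => ?_⟩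
  haveI := Fact.mk hr
  obtain ⟨x, hx⟩ := exists_prime_orderOf_dvd_card' (G := G ⧸ H) r h2
  obtain ⟨g, rfl⟩ := QuotientGroup.mk_surjective x
  have hgH : g ^ r ∈ H := by
    rw [← QuotientGroup.eq_one_iff, QuotientGroup.mk_pow, ← hx, pow_orderOf_eq_one]
  have hg : g ∈ H := by
    rw [hHmem]
    refine Nat.Coprime.coprime_dvd_left (orderOf_dvd_of_pow_eq_one
      (x := g) (n := r * orderOf (g ^ r)) (by rw [pow_mul, pow_orderOf_eq_one])) ?_
    exact (hcard.coprime_dvd_left h1).mul_left ((hHmem _).1 hgH)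
  rw [(QuotientGroup.eq_one_iff g).2 hg, orderOf_one] at hx
  exact hr.one_lt.ne hx

variable [Fintype G] {m : ℕ}

/-- Every irreducible character of a subgroup lies in some restriction. -/
theorem exists_constituent_ind (T : Subgroup G) [Fintype T] {ψ : T → ℂ}
    (hψ : Cfsg.IsIrrCharacter T ψ) :
    ∃ χ : G → ℂ, Cfsg.IsIrrCharacter G χ ∧ Cfsg.classInner (fun t : T => χ t) ψ ≠ 0 := by
  by_contra h
  push Not at h
  have h0 := eq_zero_of_classInner_eq_zero (isClassFunction_indFun (G := G) T ψ) fun χ => by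
    rw [frobenius_reciprocity T ψ (isClassFunction_irr χ), ← classInner_conj_symm, h χ χ.2, map_zero]
  have h1 := congrFun h0 1
  rw [indFun_one, Pi.zero_apply, mul_eq_zero, Nat.cast_eq_zero] at h1
  exact h1.elim T.index_ne_zero_of_finite (IsIrrCharacter.apply_one_ne_zero hψ)

/-- A subgroup of index `m` with trivially induced character of degree `m` is normal. -/
theorem commutator_mem_of_index (hm1 : 1 < m)
    (hcd : ∀ χ : G → ℂ, Cfsg.IsIrrCharacter G χ → deg χ = 1 ∨ deg χ = m) (T : Subgroup G)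
    (hT : T.index = m) (a b : G) : ⁅a, b⁆ ∈ T := by
  classical
  have := Fintype.ofFinite T
  set π := Cfsg.indFun T (fun _ : T => (1 : ℂ)) with hπ
  have hone : Cfsg.IsIrrCharacter T (fun _ : T => (1 : ℂ)) := by
    simpa using isIrrCharacter_linear (1 : T →* ℂˣ)
  have hπc : Cfsg.IsCharacter G π := IsCharacter.indFun (isCharacter_of_irr hone)
  have hone' : Cfsg.IsIrrCharacter G (fun _ : G => (1 : ℂ)) := by
    simpa using isIrrCharacter_linear (1 : G →* ℂˣ)
  have hπ1 : π 1 = (m : ℂ) := by rw [hπ, indFun_one, hT, mul_one]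
  have hdegπ : deg π = m := by
    have := IsCharacter.apply_one_eq_deg hπc
    rw [hπ1] at this
    exact_mod_cast this.symm
  have hprin : Cfsg.classInner π (fun _ : G => (1 : ℂ)) ≠ 0 := by
    rw [hπ, frobenius_reciprocity T _ (isClassFunction_isChar (isCharacter_of_irr hone')),
      classInner_self_irr hone]
    exact one_ne_zero
  have hlin : ∀ ψ : Cfsg.IrrCharacter G, Cfsg.classInner π (ψ : G → ℂ) ≠ 0 →
      deg (ψ : G → ℂ) = 1 := by
    intro ψ hψ
    refine (hcd _ ψ.2).resolve_right fun hψm => ?_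
    have heq := (constituent_le hπc ψ.2 hψ).2 (by rw [hdegπ, hψm])
    rw [heq, classInner_irrChar ψ.2 hone'] at hprin
    by_cases h : (ψ : G → ℂ) = fun _ => 1
    · have := irr_apply_one_eq_deg ψ
      rw [hψm, h] at this
      replace this : (1 : ℂ) = (m : ℂ) := this
      have h' : (1 : ℕ) = m := by exact_mod_cast this
      omega
    · exact hprin (if_neg h)
  obtain ⟨c, hc⟩ := IsCharacter.exists_decomp hπc
  have hval : π ⁅a, b⁆ = π 1 := by
    rw [hc]
    simp only [Finset.sum_apply, Pi.smul_apply]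
    refine Finset.sum_congr rfl fun ψ _ => ?_
    rcases Nat.eq_zero_or_pos (c ψ) with h | h
    · simp [h]
    · congr 1
      have h1 : deg (ψ : G → ℂ) = 1 := hlin ψ (by
        rw [hc]
        simp only [← Nat.cast_smul_eq_nsmul ℂ]
        rw [classInner_irrSum (fun ψ => (c ψ : ℂ)) ψ]
        exact_mod_cast h.ne')
      obtain ⟨f, hf⟩ := exists_hom_of_deg_one (isCharacter_of_irr ψ.2)
        (by rw [irr_apply_one_eq_deg, h1, Nat.cast_one])
      simp [hf, commutatorElement_def, mul_comm, mul_assoc, mul_left_comm]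
  rw [hπ1, hπ, indFun_apply, inv_mul_eq_iff_eq_mul₀ (Nat.cast_ne_zero.2 Nat.card_pos.ne')] at hval
  by_contra hab
  have hre := congrArg Complex.re hval
  rw [Complex.re_sum] at hre
  have hlt : ∑ x : G, (Cfsg.extendByZero T (fun _ : T => (1 : ℂ)) (x⁻¹ * ⁅a, b⁆ * x)).re <
      ∑ _x : G, (1 : ℝ) := by
    refine Finset.sum_lt_sum (fun x _ => ?_) ⟨1, Finset.mem_univ _, ?_⟩
    · by_cases hx : x⁻¹ * ⁅a, b⁆ * x ∈ T
      · rw [extendByZero_mem _ hx]; simp
      · rw [extendByZero_not_mem _ hx]; simp
    · rw [inv_one, one_mul, mul_one, extendByZero_not_mem _ hab]; simp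
  rw [hre, Finset.sum_const, nsmul_eq_mul, mul_one, Finset.card_univ, ← Nat.card_eq_fintype_card,
    ← T.card_mul_index, hT] at hlt
  push_cast at hlt
  simp at hlt

/-- The structure of a group with two character degrees. -/
theorem two_degrees (hm1 : m ≠ 1)
    (hcd : ∀ χ : G → ℂ, Cfsg.IsIrrCharacter G χ → deg χ = 1 ∨ deg χ = m)
    (hm : ∃ χ : G → ℂ, Cfsg.IsIrrCharacter G χ ∧ deg χ = m) :
    (∃ A : Subgroup G, A.Normal ∧ (∀ a ∈ A, ∀ b ∈ A, a * b = b * a) ∧ A.index = m) ∨
      ∃ p e : ℕ, p.Prime ∧ m = p ^ e ∧ ∃ P A : Subgroup G, P.Normal ∧ A.Normal ∧ IsPGroup p P ∧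
        (∀ a ∈ A, ∀ b ∈ A, a * b = b * a) ∧ P ⊓ A = ⊥ ∧ P ⊔ A = ⊤ := by
  classical
  obtain ⟨χ₀, hχ₀, hdeg₀⟩ := hm
  have hm0 : m ≠ 0 := hdeg₀ ▸ (deg_irr_pos ⟨χ₀, hχ₀⟩).ne'
  have hm2 : 1 < m := by omega
  have hcharDeg : ∀ χ : Cfsg.IrrCharacter G, Cfsg.charDegree (χ : G → ℂ) = deg (χ : G → ℂ) :=
    fun χ => by
      rw [Cfsg.charDegree, irr_apply_one_eq_deg, Complex.natCast_re, Nat.floor_natCast]
  obtain ⟨H, hHn, hHmem, hHm, hcop⟩ := exists_coprime_core (G := G) m hm0 fun q hq hqm =>
    Cfsg.Agent.S4456.result q hq fun χ h => by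
      rw [hcharDeg] at h ⊢
      rcases hcd _ χ.2 with h1 | h1
      · exact absurd h1 h
      · rwa [h1]
  haveI := hHn
  haveI : Fintype H := Fintype.ofFinite H
  -- `H` is abelian
  have hHlin : ∀ θ : Cfsg.IrrCharacter H, (θ : H → ℂ) 1 = 1 := by
    intro θ
    obtain ⟨χ, hχ, hc⟩ := exists_over H θ.2
    obtain ⟨hle, -⟩ := constituent_le (IsCharacter.restrict (isCharacter_of_irr hχ) H) θ.2 hc
    have hdvd : deg (θ : H → ℂ) ∣ deg χ := by
      have h := congrFun (clifford H hχ θ.2 hc) 1
      obtain ⟨t, ht⟩ := IsCharacter.exists_mult (IsCharacter.restrict (isCharacter_of_irr hχ) H) θ.2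
      simp only [OneMemClass.coe_one, Pi.smul_apply, Finset.sum_apply, smul_eq_mul, ht] at h
      rw [Finset.sum_congr rfl (g := fun _ => (θ : H → ℂ) 1) (fun φ hφ => by
        obtain ⟨g, rfl⟩ := (mem_conjOrbit H).mp hφ
        simp [conjN]; rfl), Finset.sum_const, nsmul_eq_mul, irr_apply_one_eq_deg,
        IsCharacter.apply_one_eq_deg (isCharacter_of_irr hχ)] at h
      have h' : deg χ = t * ((conjOrbit H (θ : H → ℂ)).card * deg (θ : H → ℂ)) := by exact_mod_cast h
      rw [h', ← mul_assoc]
      exact dvd_mul_left _ _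
    have h1 : deg (θ : H → ℂ) = 1 := by
      rcases hcd χ hχ with h | h
      · rwa [h, Nat.dvd_one] at hdvd
      · exact Nat.eq_one_of_dvd_coprimes hHm (IsIrrCharacter.deg_dvd θ.2) (h ▸ hdvd)
    rw [irr_apply_one_eq_deg, h1, Nat.cast_one]
  have hHab : ∀ a ∈ H, ∀ b ∈ H, a * b = b * a := fun a ha b hb =>
    congrArg Subtype.val (mul_comm_of_all_linear hHlin ⟨a, ha⟩ ⟨b, hb⟩)
  set θf : (H →* ℂˣ) → H → ℂ := fun f h => (f h : ℂ) with hθf
  set St : (H →* ℂˣ) → Subgroup G := fun f => inertia H (θf f) with hSt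
  have hStmem : ∀ f g, g ∈ St f ↔ ∀ h : H,
      f ⟨g * (h : G) * g⁻¹, hHn.conj_mem h h.2 g⟩ = f h := by
    intro f g
    rw [hSt, mem_inertia, funext_iff]
    exact forall_congr' fun h => ⟨fun e => Units.ext e, fun e => congrArg Units.val e⟩
  have hHSt : ∀ f, H ≤ St f := fun f => le_inertia
    (isClassFunction_isChar (isCharacter_of_irr (isIrrCharacter_linear f)))
  -- the stabilisers of the moved characters
  have hmove : ∀ f, St f ≠ ⊤ → (St f).index = m ∧ ∀ a ∈ St f, ∀ b ∈ St f, ⁅a, b⁆ ∈ H := by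
    intro f hf
    set T := St f with hTdef
    haveI : Fintype T := Fintype.ofFinite T
    have hθ : Cfsg.IsIrrCharacter H (θf f) := isIrrCharacter_linear f
    haveI : Fintype (H.subgroupOf T) := Fintype.ofFinite _
    obtain ⟨ξ, hξ, hξr⟩ := exists_extension_of_coprime_index (H.subgroupOf T)
      (θ := fun x : H.subgroupOf T => θf f ⟨(x : T), Subgroup.mem_subgroupOf.mp x.2⟩)
      (IsIrrCharacter.comp_mulEquiv hθ (Subgroup.subgroupOfEquivOfLe (hHSt f)))
      (fun g => funext fun x => congrFun (mem_inertia.1 g.2) ⟨(x : T), Subgroup.mem_subgroupOf.mp x.2⟩)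
      (by
        rw [Nat.card_congr (Subgroup.subgroupOfEquivOfLe (hHSt f)).toEquiv]
        exact hcop.coprime_dvd_right ⟨T.index, (Subgroup.relIndex_mul_index (hHSt f)).symm⟩)
    have hξH : (fun n : H => ξ ⟨n, hHSt f n.2⟩) = θf f :=
      funext fun n => hξr ⟨⟨n, hHSt f n.2⟩, Subgroup.mem_subgroupOf.mpr n.2⟩
    have hξ1 : deg ξ = 1 := by
      have h2 := congrFun hξH 1
      apply Nat.cast_injective (R := ℂ)
      rw [← IsCharacter.apply_one_eq_deg (isCharacter_of_irr hξ), Nat.cast_one]
      rw [show (1 : T) = ⟨((1 : H) : G), hHSt f (1 : H).2⟩ from Subtype.ext rfl]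
      simpa [hθf] using h2
    have hT1 : T.index ≠ 1 := fun h => hf (Subgroup.index_eq_one.1 h)
    have hover : ∀ ψ : T → ℂ, Cfsg.IsIrrCharacter T ψ →
        Cfsg.classInner (fun n : H => ψ ⟨n, hHSt f n.2⟩) (θf f) ≠ 0 → T.index * deg ψ = m := by
      intro ψ hψ hc
      obtain ⟨χ, hχ, hχψ⟩ := exists_constituent_ind T hψ
      obtain ⟨hind, -, -⟩ := clifford_correspondence hθ T rfl (hHSt f) hχ hψ hχψ hc
      have h1 : deg χ = T.index * deg ψ := by
        apply Nat.cast_injective (R := ℂ)
        push_cast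
        rw [← IsCharacter.apply_one_eq_deg (isCharacter_of_irr hχ),
          ← IsCharacter.apply_one_eq_deg (isCharacter_of_irr hψ), ← hind, indFun_one]
      rcases hcd χ hχ with h | h
      · exact absurd (Nat.eq_one_of_mul_eq_one_right (h1.symm.trans h)) hT1
      · exact h1.symm.trans h
    have hTm : T.index = m := by
      have := hover ξ hξ (by rw [hξH, classInner_self_irr hθ]; exact one_ne_zero)
      rwa [hξ1, mul_one] at this
    refine ⟨hTm, fun a ha b hb => ?_⟩
    obtain ⟨l, hl⟩ := exists_hom_of_deg_one (isCharacter_of_irr hξ)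
      (by rw [IsCharacter.apply_one_eq_deg (isCharacter_of_irr hξ), hξ1, Nat.cast_one])
    have hquot : ∀ β : Cfsg.IrrCharacter T, (∀ n ∈ H.subgroupOf T, (β : T → ℂ) n = (β : T → ℂ) 1) →
        deg (β : T → ℂ) = 1 := by
      intro β hβ
      have hmul := IsIrrCharacter.mul_linear β.2 l
      have h1 := hover _ hmul (by
        rw [show (fun n : H => (l ⟨n, hHSt f n.2⟩ : ℂ) * (β : T → ℂ) ⟨n, hHSt f n.2⟩) =
          (β : T → ℂ) 1 • θf f from funext fun n => by
            rw [hβ ⟨n, hHSt f n.2⟩ (Subgroup.mem_subgroupOf.mpr n.2), Pi.smul_apply, smul_eq_mul,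
              ← congrFun hξH n, hl]
            ring, classInner_smul_left, classInner_self_irr hθ, mul_one]
        exact IsIrrCharacter.apply_one_ne_zero β.2)
      have h2 := IsCharacter.apply_one_eq_deg (isCharacter_of_irr hmul)
      rw [hTm] at h1
      have h1' : deg (fun g : T => (l g : ℂ) * (β : T → ℂ) g) = 1 :=
        Nat.eq_of_mul_eq_mul_left (by omega) (h1.trans (mul_one m).symm)
      rw [h1'] at h2
      simp only [map_one, Units.val_one, one_mul, Nat.cast_one] at h2
      rw [irr_apply_one_eq_deg] at h2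
      exact_mod_cast h2
    exact Subgroup.mem_subgroupOf.mp
      (commutator_mem_of_linear (H.subgroupOf T) hquot ⟨a, ha⟩ ⟨b, hb⟩)
  -- the linear characters separate `H`
  have hsep : ∀ h : H, (∀ f : H →* ℂˣ, f h = 1) → h = 1 := by
    intro h hh
    refine isConj_one_right.mp ((isConj_iff_forall_irr 1 _).mpr fun χ => ?_)
    obtain ⟨f, hf⟩ := exists_hom_of_deg_one (isCharacter_of_irr χ.2) (hHlin χ)
    simp [hf, hh f]
  have hcentral : ∀ A : Subgroup G, (∀ f, A ≤ St f) → ∀ x ∈ H, ∀ a ∈ A, x * a = a * x := by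
    intro A hA x hx a ha
    have h1 := hsep (⟨x, hx⟩⁻¹ * ⟨a * x * a⁻¹, hHn.conj_mem x hx a⟩) fun f => by
      rw [map_mul, map_inv, (hStmem f a).1 (hA f ha) ⟨x, hx⟩, inv_mul_cancel]
    have h2 : x⁻¹ * (a * x * a⁻¹) = 1 := congrArg Subtype.val h1
    rw [inv_mul_eq_one] at h2
    calc x * a = a * x * a⁻¹ * a := by rw [← h2]
      _ = a * x := by group
  by_cases hall : ∀ f, St f = ⊤
  · -- `H` is central
    right
    have hHZ := hcentral ⊤ (fun f => (hall f).ge)
    have hnot : ∃ (q : ℕ) (hq : q.Prime), q ∣ m ∧ ∃ (N : Subgroup G), N.Normal ∧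
        (Nat.card N).Coprime q ∧ (∃ k : ℕ, N.index = q ^ k ∧ m ∣ q ^ k) := by
      by_contra hno
      push Not at hno
      have hcomm : ∀ a b : G, a * b = b * a := fun a b => by
        refine commute_of_central_coprime H ⊤ le_top hHZ hcop (fun a _ b _ => ?_)
          (Subgroup.mem_top a) (Subgroup.mem_top b)
        rw [hHmem]
        refine Nat.coprime_of_dvd fun q hq h1 h2 => ?_
        obtain ⟨N, hNn, hNc, k, hk⟩ := Cfsg.Agent.S4456.result q hq fun χ h => by
          rw [hcharDeg] at h ⊢
          rcases hcd _ χ.2 with h' | h'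
          · exact absurd h' h
          · rwa [h']
        haveI := hNn
        have hmem := commutator_mem_of_linear N (fun χ hχ => by
          refine (hcd _ χ.2).resolve_right fun h' => ?_
          exact hno q hq h2 N hNn hNc k hk (h' ▸ deg_dvd_index_of_le_ker χ.2 N hχ |>.trans (hk ▸ dvd_rfl)))
          a b
        exact hq.coprime_iff_not_dvd.1
          (hNc.coprime_dvd_left (Subgroup.orderOf_dvd_natCard _ hmem)).symm h1
      have := irr_deg_one_of_comm hcomm hχ₀
      rw [IsCharacter.apply_one_eq_deg (isCharacter_of_irr hχ₀), hdeg₀] at this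
      exact hm1 (by exact_mod_cast this)
    obtain ⟨q, hq, hqm, N, hNn, hNc, k, hk, hmk⟩ := hnot
    obtain ⟨e, -, he⟩ := (Nat.dvd_prime_pow hq).1 hmk
    haveI := Fact.mk hq
    haveI := hNn
    have hHN : H = N := by
      ext g
      rw [hHmem]
      refine ⟨fun h => mem_of_coprime_pPow hq N hk (h.coprime_dvd_right hqm), fun h => ?_⟩
      rw [he]
      exact ((hNc.coprime_dvd_left (Subgroup.orderOf_dvd_natCard _ h))).pow_right e
    set P : Sylow q G := default
    have hjoin : (P : Subgroup G) ⊔ H = ⊤ := by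
      refine Subgroup.index_eq_one.1 (Nat.eq_one_of_dvd_coprimes ?_
        (Subgroup.index_dvd_of_le le_sup_left) (Subgroup.index_dvd_of_le le_sup_right))
      rw [hHN, hk]
      exact ((hq.coprime_iff_not_dvd.2 P.not_dvd_index).symm).pow_right k
    have hPn : (P : Subgroup G).Normal := by
      rw [← Subgroup.normalizer_eq_top_iff, eq_top_iff, ← hjoin]
      refine sup_le Subgroup.le_normalizer fun h hh => Subgroup.mem_normalizer_iff.2 fun n => ?_
      rw [hHZ h hh n (Subgroup.mem_top n), mul_inv_cancel_right]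
    refine ⟨q, e, hq, he, P, H, hPn, hHn, P.2, hHab, ?_, hjoin⟩
    refine Subgroup.inf_eq_bot_of_coprime ?_
    rw [P.card_eq_multiplicity, hHN]
    exact hNc.symm.pow_left _
  · left
    push Not at hall
    obtain ⟨f₀, hf₀⟩ := hall
    obtain ⟨hidx₀, hab₀⟩ := hmove f₀ hf₀
    have hnorm : ∀ f, St f ≠ ⊤ → (St f).Normal := fun f hf => ⟨fun t ht g => by
      have h1 := commutator_mem_of_index hm2 hcd (St f) (hmove f hf).1 g t
      have h2 := (St f).mul_mem h1 ht
      rwa [commutatorElement_def, inv_mul_cancel_right] at h2⟩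
    have hfixU : ∀ (U : Subgroup G) (f : H →* ℂˣ), U.index < m → U ≤ St f → St f = ⊤ :=
      fun U f hU hle => by
        by_contra h
        have h1 := Nat.le_of_dvd (Nat.pos_of_ne_zero U.index_ne_zero_of_finite)
          (Subgroup.index_dvd_of_le hle)
        rw [(hmove f h).1] at h1
        omega
    set A := St f₀ with hA
    have huniq : ∀ f, A ≤ St f := by
      intro f
      by_cases hf : St f = ⊤
      · rw [hf]; exact le_top
      by_contra hne
      set T := St f with hTdef
      haveI hAn : A.Normal := hnorm f₀ hf₀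
      haveI hTn : T.Normal := hnorm f hf
      have hU : (A ⊔ T).index < m := by
        have h1 := Nat.le_of_dvd (Nat.pos_of_ne_zero T.index_ne_zero_of_finite)
          (Subgroup.index_dvd_of_le (le_sup_right : T ≤ A ⊔ T))
        rw [(hmove f hf).1] at h1
        refine lt_of_le_of_ne h1 fun h => hne ?_
        have h2 : T = A ⊔ T := Subgroup.eq_of_le_of_card_ge le_sup_right (by
          have := (A ⊔ T).card_mul_index
          rw [h, ← T.card_mul_index, (hmove f hf).1] at this
          exact (Nat.eq_of_mul_eq_mul_right (by omega) this).le)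
        rw [h2]; exact le_sup_left
      have hq : ∀ q ∈ St (f₀ * f), q ∈ A ∧ q ∈ T := by
        intro q hq
        set cq : H →* H := ((MulAut.conj q).toMonoidHom.comp H.subtype).codRestrict H
          (fun h => hHn.conj_mem h h.2 q) with hcq
        have hcqv : ∀ h : H, cq h = ⟨q * (h : G) * q⁻¹, hHn.conj_mem h h.2 q⟩ := fun h => rfl
        set d : H →* ℂˣ := f₀.comp cq / f₀ with hd
        have hd' : d = f / f.comp cq := by
          refine MonoidHom.ext fun h => ?_
          have h1 := (hStmem _ q).1 hq h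
          simp only [MonoidHom.mul_apply, ← hcqv h] at h1
          simp only [hd, MonoidHom.div_apply, MonoidHom.comp_apply]
          rw [div_eq_div_iff_mul_eq_mul, h1, mul_comm]
        have hdfix : ∀ (F : H →* ℂˣ) (U : Subgroup G) [U.Normal], U ≤ St F →
            ∀ u ∈ U, ∀ h : H, F (cq ⟨u * (h : G) * u⁻¹, hHn.conj_mem h h.2 u⟩) = F (cq h) := by
          intro F U _ hUF u hu h
          have h1 := (hStmem F _).1 (hUF ((inferInstance : U.Normal).conj_mem u hu q)) (cq h)
          rw [← h1]
          congr 1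
          exact Subtype.ext (by simp [hcqv, mul_assoc])
        have hdA : A ≤ St d := fun u hu => (hStmem d u).2 fun h => by
          simp only [hd, MonoidHom.div_apply, MonoidHom.comp_apply]
          rw [hdfix f₀ A le_rfl u hu h, (hStmem f₀ u).1 hu h]
        have hdT : T ≤ St d := fun u hu => (hStmem d u).2 fun h => by
          simp only [hd', MonoidHom.div_apply, MonoidHom.comp_apply]
          rw [hdfix f T le_rfl u hu h, (hStmem f u).1 hu h]
        have htop := hfixU _ d hU (sup_le hdA hdT)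
        have hdq : ∀ h : H, d (cq h) = d h := fun h =>
          (hStmem d q).1 (htop.ge (Subgroup.mem_top q)) h
        have hk : ∀ (k : ℕ) (h : H), f₀ ((⇑cq)^[k] h) = f₀ h * d h ^ k := by
          intro k
          induction k with
          | zero => simp
          | succ k ih =>
            intro h
            rw [Function.iterate_succ_apply, ih, hdq, pow_succ', ← mul_assoc]
            congr 1
            simp [hd]
        have hit : ∀ (k : ℕ) (h : H), ((⇑cq)^[k] h : G) = q ^ k * (h : G) * (q ^ k)⁻¹ := by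
          intro k
          induction k with
          | zero => simp
          | succ k ih =>
            intro h
            rw [Function.iterate_succ_apply', hcqv]
            show q * ((⇑cq)^[k] h : G) * q⁻¹ = _
            rw [ih, pow_succ']
            group
        have hqH : q ^ H.index ∈ H := by
          rw [← QuotientGroup.eq_one_iff, QuotientGroup.mk_pow]
          exact pow_card_eq_one'
        have hd1 : ∀ h : H, d h = 1 := by
          intro h
          have h1 := hk H.index h
          rw [show (⇑cq)^[H.index] h = h from Subtype.ext (by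
            rw [hit, hHab _ hqH h h.2, mul_inv_cancel_right])] at h1
          have h2 : d h ^ H.index = 1 := by simpa using h1
          have h3 : d h ^ Nat.card H = 1 := by rw [← map_pow, pow_card_eq_one', map_one]
          exact orderOf_eq_one_iff.1 (Nat.eq_one_of_dvd_coprimes hcop (orderOf_dvd_of_pow_eq_one h3)
            (orderOf_dvd_of_pow_eq_one h2))
        refine ⟨(hStmem f₀ q).2 fun h => ?_, (hStmem f q).2 fun h => ?_⟩
        · have := hd1 h
          simp only [hd, MonoidHom.div_apply, MonoidHom.comp_apply, div_eq_one] at this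
          exact this
        · have := hd1 h
          simp only [hd', MonoidHom.div_apply, MonoidHom.comp_apply, div_eq_one] at this
          exact this.symm
      have hlt : St (f₀ * f) < A := lt_of_le_of_ne (fun q h => (hq q h).1) fun h =>
        hne fun a ha => (hq a (h.ge ha)).2
      have hnt : St (f₀ * f) ≠ ⊤ := fun h => not_top_lt (h ▸ hlt)
      have h1 := Subgroup.index_strictAnti hlt
      rw [(hmove _ hnt).1, hidx₀] at h1
      exact lt_irrefl _ h1
    exact ⟨A, hnorm f₀ hf₀, fun a ha b hb =>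
      commute_of_central_coprime H A (hHSt f₀) (hcentral A huniq) hcop hab₀ ha hb, hidx₀⟩

end Cfsg.Lib.Chars
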