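import Mathlib
import Cfsg.Agent.Chars.Constituent
import Cfsg.Agent.Chars.Extension
import Cfsg.Agent.Chars.Gallagher
import Cfsg.Agent.Chars.IrrTools
import Cfsg.Agent.Blocks.Monomial
import Cfsg.Agent.S4458

/-!
# Tools for groups with few character degrees
-/

set_option autoImplicit false
set_option linter.unusedSectionVars false

namespace Cfsg.Lib.Chars

open scoped ComplexConjugate commutatorElement

universe u

variable {G : Type u} [Group G]

theorem charDegree_eq_deg {χ : G → ℂ} (hχ : Cfsg.IsIrrCharacter G χ) : Cfsg.charDegree χ = deg χ := by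
  rw [Cfsg.charDegree, IsCharacter.apply_one_eq_deg (isCharacter_of_irr hχ), Complex.natCast_re, Nat.floor_natCast]

variable [Fintype G]

/-- The degree of a character over a constituent of a normal subgroup. -/
theorem deg_over (N : Subgroup G) [N.Normal] [Fintype N] {χ : G → ℂ} (hχ : Cfsg.IsIrrCharacter G χ)
    {θ : N → ℂ} (hθ : Cfsg.IsIrrCharacter N θ) (hc : Cfsg.classInner (fun n : N => χ n) θ ≠ 0) :
    ∃ m : ℕ, deg χ = m * deg θ ∧ m ∣ N.index := by
  classical
  have hθc : Cfsg.IsClassFunction N θ := isClassFunction_isChar (isCharacter_of_irr hθ)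
  have hNT := le_inertia hθc
  set T := inertia N θ with hT
  obtain ⟨ψ, hψ, h1, h2⟩ := exists_constituent_over T hNT (isCharacter_of_irr hχ) hc
  obtain ⟨hind, -, -⟩ := clifford_correspondence hθ T rfl hNT hχ hψ h1 h2
  obtain ⟨e, he, hres⟩ := restrict_of_le_inertia N hθ T hNT le_rfl hψ h2
  haveI : Fintype (N.subgroupOf T) := Fintype.ofFinite _
  let eT := Subgroup.subgroupOfEquivOfLe hNT
  have hθ' : Cfsg.IsIrrCharacter (N.subgroupOf T) (fun x => θ (eT x)) := IsIrrCharacter.comp_mulEquiv hθ eT
  obtain ⟨n, ρ, hρ, hρθ⟩ := hθ'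
  obtain ⟨m, σ, hσ, hσψ⟩ := hψ
  haveI := hρ
  haveI := hσ
  have hinv : ∀ g : T, conjN (N.subgroupOf T) g ρ.character = ρ.character := by
    intro g
    rw [hρθ]
    funext x
    exact congrFun (mem_inertia.1 g.2) (eT x)
  have hdvd : e ∣ (N.subgroupOf T).index := by
    refine finrank_dvd_of_invariant (N.subgroupOf T) ρ σ hinv ?_
    rw [hσψ, hρθ]
    funext x
    exact congrFun hres (eT x)
  refine ⟨T.index * e, ?_, ?_⟩
  · apply Nat.cast_injective (R := ℂ)
    have hψ1 : ψ 1 = (e : ℂ) * θ 1 := congrFun hres 1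
    rw [← IsCharacter.apply_one_eq_deg (isCharacter_of_irr hχ), Nat.cast_mul,
      ← IsCharacter.apply_one_eq_deg (isCharacter_of_irr hθ), ← hind, indFun_one, hψ1]
    push_cast
    ring
  · rw [← Subgroup.relIndex_mul_index hNT, mul_comm]
    exact mul_dvd_mul_right hdvd _

/-- A constituent of a character and the degree equation. -/
theorem exists_degree_decomp {F : G → ℂ} (hF : Cfsg.IsCharacter G F) :
    ∃ m : Cfsg.IrrCharacter G → ℕ, (F = fun g => ∑ φ, (m φ : ℂ) * (φ : G → ℂ) g) ∧
      (∀ φ : Cfsg.IrrCharacter G, Cfsg.classInner F (φ : G → ℂ) = m φ) ∧ deg F = ∑ φ : Cfsg.IrrCharacter G, m φ * deg (φ : G → ℂ) := by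
  classical
  obtain ⟨m, hm⟩ := IsCharacter.exists_decomp hF
  have hm' : F = fun g => ∑ φ, (m φ : ℂ) * (φ : G → ℂ) g := by
    funext g
    rw [hm]
    simp [Finset.sum_apply]
  refine ⟨m, hm', fun φ => ?_, ?_⟩
  · rw [hm]
    simp only [← Nat.cast_smul_eq_nsmul ℂ]
    exact classInner_irrSum (fun ψ => (m ψ : ℂ)) φ
  · apply Nat.cast_injective (R := ℂ)
    rw [← IsCharacter.apply_one_eq_deg hF, congrFun hm' 1]
    push_cast
    simp [irr_apply_one_eq_deg]

theorem derivedSeries_le_map (L : Subgroup G) {k : ℕ} (h : derivedSeries G k ≤ L) :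
    ∀ n, derivedSeries G (k + n) ≤ (derivedSeries L n).map L.subtype := by
  intro n
  induction n with
  | zero => rwa [derivedSeries_zero, ← MonoidHom.range_eq_map, Subgroup.range_subtype]
  | succ n ih =>
    rw [← add_assoc, derivedSeries_succ, derivedSeries_succ, Subgroup.map_commutator]
    exact Subgroup.commutator_mono ih ih

theorem derivedSeries_eq_bot_of_le {n k : ℕ} (h : derivedSeries G n = ⊥) (hk : n ≤ k) :
    derivedSeries G k = ⊥ := le_bot_iff.1 (h ▸ derivedSeries_antitone G hk)

/-- All characters linear: the commutator subgroup is trivial. -/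
theorem derived_one (h : ∀ χ : G → ℂ, Cfsg.IsIrrCharacter G χ → deg χ = 1) : derivedSeries G 1 = ⊥ := by
  rw [derivedSeries_one, commutator_def, Subgroup.commutator_eq_bot_iff_le_centralizer]
  intro a _
  rw [Subgroup.mem_centralizer_iff]
  exact fun b _ => mul_comm_of_all_linear (fun χ => by rw [irr_apply_one_eq_deg, h _ χ.2, Nat.cast_one]) b a

/-- Two degrees: metabelian. -/
theorem derived_two (m : ℕ) (h : ∀ χ : G → ℂ, Cfsg.IsIrrCharacter G χ → deg χ = 1 ∨ deg χ = m) :
    derivedSeries G 2 = ⊥ := by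
  by_cases hm : m ≠ 1 ∧ ∃ χ : Cfsg.IrrCharacter G, deg (χ : G → ℂ) = m
  · obtain ⟨hm1, χ, hχ⟩ := hm
    have hab := Cfsg.Agent.S4458.result (G := G) m (fun φ => by rw [charDegree_eq_deg φ.2]; exact h _ φ.2)
      ⟨χ, by rw [charDegree_eq_deg χ.2, hχ]⟩ hm1
    rw [derivedSeries_succ, derivedSeries_one, Subgroup.commutator_eq_bot_iff_le_centralizer]
    intro a ha
    rw [Subgroup.mem_centralizer_iff]
    exact fun b hb => hab b hb a ha
  · refine derivedSeries_eq_bot_of_le (derived_one fun χ hχ => ?_) (by norm_num)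
    rcases h χ hχ with h1 | h1
    · exact h1
    · push Not at hm
      by_cases hm1 : m = 1
      · rw [h1, hm1]
      · exact absurd h1 (hm hm1 ⟨χ, hχ⟩)

open Cfsg.Lib.Blocks in
/-- An abelian normal subgroup with nilpotent quotient makes a group monomial. -/
theorem isMonomial_abelian_nilpotent : ∀ (n : ℕ) (G : Type u) [Group G] [Fintype G], Nat.card G = n →
    ∀ (L : Subgroup G) [L.Normal], (∀ a ∈ L, ∀ b ∈ L, a * b = b * a) → Group.IsNilpotent (G ⧸ L) →
    ∀ χ : G → ℂ, Cfsg.IsIrrCharacter G χ → IsMonomialChar χ := by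
  intro n
  induction n using Nat.strong_induction_on with
  | _ n ih =>
  intro G _ _ hn L _ hab hnil χ hχ
  classical
  have hc := isCharacter_of_irr hχ
  by_cases hker : kerSubgroup χ hc = ⊥
  swap
  · set K := kerSubgroup χ hc with hK
    haveI : K.Normal := kerSubgroup_normal hc
    obtain ⟨χ', hχ', hχeq⟩ := exists_factor (QuotientGroup.mk' K) (QuotientGroup.mk'_surjective K) hc
      (fun k hk => by rw [QuotientGroup.ker_mk'] at hk; exact (mem_kerSubgroup hc k).1 hk)
    letI : Fintype (G ⧸ K) := Fintype.ofFinite _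
    have hirr' : Cfsg.IsIrrCharacter (G ⧸ K) χ' :=
      IsIrrCharacter.descend hχ' (QuotientGroup.mk' K) (QuotientGroup.mk'_surjective K) (hχeq ▸ hχ)
    have hlt : Nat.card (G ⧸ K) < n := by
      rw [← hn]
      have h2 := K.card_mul_index
      have h3 : 1 < Nat.card K := K.one_lt_card_iff_ne_bot.2 hker
      have h4 : (0 : ℕ) < K.index := Nat.pos_of_ne_zero Subgroup.index_ne_zero_of_finite
      show K.index < Nat.card G
      nlinarith
    haveI : (L.map (QuotientGroup.mk' K)).Normal :=
      Subgroup.Normal.map inferInstance _ (QuotientGroup.mk'_surjective K)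
    haveI := hnil
    have hnil' : Group.IsNilpotent ((G ⧸ K) ⧸ L.map (QuotientGroup.mk' K)) := by
      let f : G →* (G ⧸ K) ⧸ L.map (QuotientGroup.mk' K) :=
        (QuotientGroup.mk' _).comp (QuotientGroup.mk' K)
      have hLf : L ≤ f.ker := fun x hx => by
        rw [MonoidHom.mem_ker, MonoidHom.comp_apply, QuotientGroup.mk'_apply, QuotientGroup.eq_one_iff]
        exact Subgroup.mem_map_of_mem _ hx
      exact Group.nilpotent_of_surjective (G := G ⧸ L) (QuotientGroup.lift L f hLf)
        (QuotientGroup.lift_surjective_of_surjective L f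
          ((QuotientGroup.mk'_surjective _).comp (QuotientGroup.mk'_surjective K)) hLf)
    obtain ⟨H, lam, hH⟩ := ih _ hlt (G ⧸ K) rfl (L.map (QuotientGroup.mk' K)) (by
      rintro _ ⟨a, ha, rfl⟩ _ ⟨b, hb, rfl⟩
      rw [← map_mul, ← map_mul, hab a ha b hb]) hnil' χ' hirr'
    refine ⟨H.comap (QuotientGroup.mk' K), lam.comp ((QuotientGroup.mk' K).subgroupComap H), ?_⟩
    refine hχeq.trans (Eq.trans ?_ (Cfsg.Lib.Blocks.indFun_comap (QuotientGroup.mk' K) (QuotientGroup.mk'_surjective K) H
      (fun h => (lam h : ℂ))).symm)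
    funext g
    rw [hH]
  · letI : Fintype L := Fintype.ofFinite L
    obtain ⟨θ, hθ, hθc⟩ := exists_constituent L hc (IsIrrCharacter.apply_one_ne_zero hχ)
    by_cases hinv : ∀ g : G, conjN L g θ = θ
    · obtain ⟨e, he, hres⟩ := restrict_eq_mult_of_invariant L hχ hθ hinv hθc
      have hθ1 := irr_deg_one_of_comm (fun a b : L => Subtype.ext (hab a a.2 b b.2)) hθ
      obtain ⟨f, hf⟩ := exists_hom_of_deg_one (isCharacter_of_irr hθ) hθ1
      have hLZ : L ≤ Subgroup.center G := by
        intro l hl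
        rw [Subgroup.mem_center_iff]
        intro g
        have hconj : g * l * g⁻¹ ∈ L := Subgroup.Normal.conj_mem inferInstance l hl g
        set l' : L := ⟨g * l * g⁻¹, hconj⟩ * ⟨l, hl⟩⁻¹ with hl'
        have hfl : f l' = 1 := by
          rw [hl', map_mul, map_inv, mul_inv_eq_one]
          apply Units.ext
          have h := congrFun (hinv g) ⟨l, hl⟩
          rw [hf] at h
          exact h
        have : (l' : G) ∈ kerSubgroup χ hc := by
          rw [mem_kerSubgroup]
          have h1 := congrFun hres l'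
          have h2 := congrFun hres 1
          simp only [OneMemClass.coe_one] at h1 h2
          rw [h1, h2, Pi.smul_apply, Pi.smul_apply, hf]
          simp [hfl]
        rw [hker, Subgroup.mem_bot] at this
        simp only [hl', Subgroup.coe_mul, Subgroup.coe_inv] at this
        rw [mul_inv_eq_one] at this
        exact mul_inv_eq_iff_eq_mul.1 this
      haveI := hnil
      haveI : Group.IsNilpotent G := Subgroup.isNilpotent_of_ker_le_center (QuotientGroup.mk' L)
        (by rwa [QuotientGroup.ker_mk'])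
      exact isMonomial_of_isNilpotent _ G rfl χ hχ
    · push Not at hinv
      obtain ⟨T, ψ, hT, hLT, hψ, hind⟩ := exists_induced_of_not_invariant L hχ hθ hθc hinv
      letI : Fintype T := Fintype.ofFinite T
      have hlt : Nat.card T < n := by
        rw [← hn]
        refine lt_of_le_of_ne (Nat.le_of_dvd Nat.card_pos T.card_subgroup_dvd_card) fun h => hT ?_
        exact Subgroup.card_eq_iff_eq_top T |>.1 h
      haveI := hnil
      have hnil' : Group.IsNilpotent (T ⧸ L.subgroupOf T) := by
        let f : T ⧸ L.subgroupOf T →* G ⧸ L := QuotientGroup.map _ L T.subtype fun x hx => hx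
        have hf : Function.Injective f := by
          rw [injective_iff_map_eq_one]
          intro x hx
          obtain ⟨t, rfl⟩ := QuotientGroup.mk_surjective x
          rw [QuotientGroup.eq_one_iff, Subgroup.mem_subgroupOf]
          exact (QuotientGroup.eq_one_iff (t : G)).1 hx
        exact Subgroup.isNilpotent_of_ker_le_center f (by rw [(MonoidHom.ker_eq_bot_iff f).2 hf]; exact bot_le)
      have := ih _ hlt T rfl (L.subgroupOf T) (fun a ha b hb => Subtype.ext (hab a ha b hb)) hnil' ψ hψ
      exact hind ▸ isMonomial_indFun T this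

/-- The Taketa step: a subgroup in all kernels of smaller degree has its commutator in the kernel. -/
theorem taketa_step {χ : G → ℂ} (hχ : Cfsg.IsIrrCharacter G χ) (hm : Cfsg.Lib.Blocks.IsMonomialChar χ)
    (D : Subgroup G) [D.Normal]
    (hD : ∀ φ : G → ℂ, Cfsg.IsIrrCharacter G φ → deg φ < deg χ → ∀ d ∈ D, φ d = φ 1) :
    ∀ d ∈ ⁅D, D⁆, χ d = χ 1 := by
  classical
  obtain ⟨H, lam, rfl⟩ := hm
  letI : Fintype H := Fintype.ofFinite H
  set χ := Cfsg.indFun H (fun h : H => (lam h : ℂ)) with hχdef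
  have hdeg : deg χ = H.index := by
    apply Nat.cast_injective (R := ℂ)
    rw [← IsCharacter.apply_one_eq_deg (isCharacter_of_irr hχ), hχdef, indFun_one, map_one, Units.val_one, mul_one]
  set π := Cfsg.indFun H (fun _ : H => (1 : ℂ)) with hπ
  have hπc : Cfsg.IsCharacter G π := IsCharacter.indFun isCharacter_one
  have hπdeg : deg π = H.index := by
    apply Nat.cast_injective (R := ℂ)
    rw [← IsCharacter.apply_one_eq_deg hπc, hπ, indFun_one, mul_one]
  obtain ⟨m, hπm, hinner, hsum⟩ := exists_degree_decomp hπc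
  let one : Cfsg.IrrCharacter G := ⟨fun _ => 1, isIrrCharacter_one⟩
  have h1 : m one ≠ 0 := by
    intro h
    have := hinner one
    rw [h, Nat.cast_zero, hπ, frobenius_reciprocity H _ (isClassFunction_irr one),
      show (fun x : H => (one : G → ℂ) x) = (fun _ : H => (1 : ℂ)) from rfl,
      classInner_self_irr isIrrCharacter_one] at this
    exact one_ne_zero this
  have hone : deg (one : G → ℂ) = 1 := by
    apply Nat.cast_injective (R := ℂ)
    rw [← irr_apply_one_eq_deg one, Nat.cast_one]
  have hker : ∀ φ : Cfsg.IrrCharacter G, m φ ≠ 0 → ∀ d ∈ D, (φ : G → ℂ) d = (φ : G → ℂ) 1 := by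
    intro φ hφ d hd
    by_cases h : φ = one
    · subst h; rfl
    refine hD _ φ.2 ?_ d hd
    rw [hdeg, ← hπdeg, hsum]
    rw [← Finset.add_sum_erase _ _ (Finset.mem_univ one)]
    have h2 : m φ * deg (φ : G → ℂ) ≤ ∑ x ∈ Finset.univ.erase one, m x * deg (x : G → ℂ) :=
      Finset.single_le_sum (f := fun x : Cfsg.IrrCharacter G => m x * deg (x : G → ℂ)) (fun _ _ => Nat.zero_le _)
        (Finset.mem_erase.2 ⟨h, Finset.mem_univ _⟩)
    have h3 := Nat.le_mul_of_pos_left (deg (φ : G → ℂ)) (Nat.pos_of_ne_zero hφ)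
    have h4 : 0 < m one * deg (one : G → ℂ) := by rw [hone, mul_one]; exact Nat.pos_of_ne_zero h1
    omega
  have hDπ : ∀ d ∈ D, π d = π 1 := fun d hd => by
    rw [hπm]
    refine Finset.sum_congr rfl fun φ _ => ?_
    by_cases h : m φ = 0
    · simp [h]
    · rw [hker φ h d hd]
  have hDH : D ≤ H := by
    intro d hd
    have h := hDπ d hd
    rw [hπ, indFun_one, indFun_apply, mul_one] at h
    have hall : ∀ x : G, x⁻¹ * d * x ∈ H := by
      by_contra hno
      push Not at hno
      obtain ⟨x, hx⟩ := hno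
      set s := Finset.univ.filter fun x : G => x⁻¹ * d * x ∈ H with hs
      have h5 : (∑ x : G, extendByZero H (fun _ : H => (1 : ℂ)) (x⁻¹ * d * x)) = s.card := by
        rw [Finset.card_filter, Nat.cast_sum]
        refine Finset.sum_congr rfl fun y _ => ?_
        by_cases hy : y⁻¹ * d * y ∈ H
        · rw [extendByZero_mem _ hy, if_pos hy, Nat.cast_one]
        · rw [extendByZero_not_mem _ hy, if_neg hy, Nat.cast_zero]
      rw [h5, inv_mul_eq_iff_eq_mul₀ (by exact_mod_cast Nat.card_pos.ne'), ← Nat.cast_mul, H.card_mul_index,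
        Nat.cast_inj, Nat.card_eq_fintype_card] at h
      exact absurd (Finset.eq_univ_of_card s h ▸ Finset.mem_univ x) (by simpa [hs] using hx)
    simpa using hall 1
  intro d hd
  have hd' : ∀ x : G, ∃ h : x⁻¹ * d * x ∈ H, lam ⟨x⁻¹ * d * x, h⟩ = 1 := by
    intro x
    have hxd : x⁻¹ * d * x ∈ ⁅D, D⁆ := by simpa using Subgroup.Normal.conj_mem inferInstance d hd x⁻¹
    have hle : ⁅D, D⁆ ≤ lam.ker.map H.subtype := by
      rw [Subgroup.commutator_le]
      intro a ha b hb
      refine ⟨⁅(⟨a, hDH ha⟩ : H), ⟨b, hDH hb⟩⁆, ?_, map_commutatorElement H.subtype _ _⟩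
      rw [SetLike.mem_coe, MonoidHom.mem_ker, map_commutatorElement, commutatorElement_eq_one_iff_mul_comm, mul_comm]
    obtain ⟨y, hy, hyx⟩ := hle hxd
    refine ⟨hyx ▸ y.2, ?_⟩
    have : (⟨x⁻¹ * d * x, hyx ▸ y.2⟩ : H) = y := Subtype.ext hyx.symm
    rw [this]
    exact MonoidHom.mem_ker.1 hy
  rw [hχdef, indFun_apply, indFun_apply]
  congr 1
  refine Finset.sum_congr rfl fun x _ => ?_
  obtain ⟨hm, hl⟩ := hd' x
  rw [extendByZero_mem _ hm, hl, mul_one, inv_mul_cancel,
    show (1 : G) = ((1 : H) : G) from rfl, extendByZero_apply, map_one]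

end Cfsg.Lib.Chars
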