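import Mathlib
import Cfsg.Agent.Chars.DegreeTools

/-!
# No perfect derived subgroup with three coprime degrees

If the degrees are among `1`, `a < b` with `a`, `b` coprime and both occur, then the derived subgroup cannot be a
perfect group that is contained in every nontrivial normal subgroup.
-/

set_option autoImplicit false
set_option linter.unusedSectionVars false

namespace Cfsg.Lib.Chars

open scoped ComplexConjugate commutatorElement

universe u

variable {G : Type u} [Group G] [Fintype G]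

theorem classInner_mul_left (χ ψ φ : G → ℂ) :
    Cfsg.classInner (χ * ψ) φ = Cfsg.classInner ψ ((fun g => conj (χ g)) * φ) := by
  rw [classInner_def, classInner_def]
  congr 1
  refine Finset.sum_congr rfl fun g _ => ?_
  simp only [Pi.mul_apply, map_mul, Complex.conj_conj]
  ring

/-- A faithful character has every character in one of its powers. -/
theorem exists_power_inner {χ ψ : G → ℂ} (hf : ∀ g, χ g = χ 1 → g = 1) (hψ : ψ 1 ≠ 0) :
    ∃ n : ℕ, Cfsg.classInner (χ ^ n * ψ) (fun _ => 1) ≠ 0 := by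
  classical
  by_contra hno
  push Not at hno
  have hsum : ∀ n : ℕ, ∑ g : G, χ g ^ n * ψ g = 0 := fun n => by
    have h := hno n
    rw [classInner_def] at h
    simp only [map_one, mul_one, Pi.mul_apply, Pi.pow_apply] at h
    exact (mul_eq_zero.1 h).resolve_left (inv_ne_zero (by exact_mod_cast Nat.card_pos.ne'))
  let P : Polynomial ℂ := ∏ v ∈ (Finset.univ.image χ).erase (χ 1), (Polynomial.X - Polynomial.C v)
  have hP : ∀ g : G, g ≠ 1 → P.eval (χ g) = 0 := fun g hg => by
    rw [Polynomial.eval_prod]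
    exact Finset.prod_eq_zero (Finset.mem_erase.2 ⟨fun h => hg (hf g h), Finset.mem_image_of_mem χ (Finset.mem_univ g)⟩)
      (by simp)
  have hP1 : P.eval (χ 1) ≠ 0 := by
    rw [Polynomial.eval_prod, Finset.prod_ne_zero_iff]
    intro v hv
    simp [sub_ne_zero, (Finset.ne_of_mem_erase hv).symm]
  have h0 : ∑ g : G, P.eval (χ g) * ψ g = 0 := by
    simp only [Polynomial.eval_eq_sum_range, Finset.sum_mul, mul_assoc]
    rw [Finset.sum_comm]
    refine Finset.sum_eq_zero fun n _ => ?_
    rw [← Finset.mul_sum, hsum n, mul_zero]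
  rw [Finset.sum_eq_single (1 : G) (fun g _ hg => by rw [hP g hg, zero_mul]) (by simp)] at h0
  exact mul_ne_zero hP1 hψ h0

theorem deg_mul {χ ψ : G → ℂ} (hχ : Cfsg.IsCharacter G χ) (hψ : Cfsg.IsCharacter G ψ) :
    deg (χ * ψ) = deg χ * deg ψ := by
  apply Nat.cast_injective (R := ℂ)
  rw [← IsCharacter.apply_one_eq_deg (IsCharacter.mul hχ hψ), Nat.cast_mul, ← IsCharacter.apply_one_eq_deg hχ,
    ← IsCharacter.apply_one_eq_deg hψ, Pi.mul_apply]

/-- The degree equation for a character whose constituents have three possible degrees. -/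
theorem degree_three (a b : ℕ) (hcd : ∀ χ : G → ℂ, Cfsg.IsIrrCharacter G χ → deg χ = 1 ∨ deg χ = a ∨ deg χ = b)
    {F : G → ℂ} (hF : Cfsg.IsCharacter G F)
    (hlin : ∀ φ : G → ℂ, Cfsg.IsIrrCharacter G φ → deg φ = 1 → Cfsg.classInner F φ = 0) :
    ∃ x y : ℕ, deg F = x * a + y * b ∧
      ∀ φ : G → ℂ, Cfsg.IsIrrCharacter G φ → Cfsg.classInner F φ ≠ 0 →
        (deg φ = a ∧ 0 < x) ∨ (deg φ = b ∧ 0 < y) := by
  classical
  obtain ⟨m, -, hinner, hsum⟩ := exists_degree_decomp hF
  refine ⟨∑ φ ∈ Finset.univ.filter (fun φ : Cfsg.IrrCharacter G => deg (φ : G → ℂ) = a), m φ,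
    ∑ φ ∈ Finset.univ.filter (fun φ : Cfsg.IrrCharacter G => ¬ deg (φ : G → ℂ) = a), m φ, ?_, ?_⟩
  · rw [hsum, ← Finset.sum_filter_add_sum_filter_not Finset.univ
      (fun φ : Cfsg.IrrCharacter G => deg (φ : G → ℂ) = a), Finset.sum_mul, Finset.sum_mul]
    refine congrArg₂ (· + ·) (Finset.sum_congr rfl fun φ hφ => by rw [(Finset.mem_filter.1 hφ).2])
      (Finset.sum_congr rfl fun φ hφ => ?_)
    have hna := (Finset.mem_filter.1 hφ).2
    rcases hcd _ φ.2 with h | h | h
    · have h0 : m φ = 0 := by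
        have := hlin _ φ.2 h
        rw [hinner] at this
        exact_mod_cast this
      simp [h0]
    · exact absurd h hna
    · rw [h]
  · intro φ hφ hne
    have hm : 0 < m ⟨φ, hφ⟩ := Nat.pos_of_ne_zero fun h => hne (by
      have := hinner ⟨φ, hφ⟩
      rwa [h, Nat.cast_zero] at this)
    by_cases ha : deg φ = a
    · exact Or.inl ⟨ha, hm.trans_le (Finset.single_le_sum (f := m) (fun _ _ => Nat.zero_le _)
        (Finset.mem_filter.2 ⟨Finset.mem_univ _, ha⟩))⟩
    · rcases hcd φ hφ with h | h | h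
      · exact absurd (hlin φ hφ h) hne
      · exact absurd h ha
      · exact Or.inr ⟨h, hm.trans_le (Finset.single_le_sum (f := m) (fun _ _ => Nat.zero_le _)
          (Finset.mem_filter.2 ⟨Finset.mem_univ _, ha⟩))⟩

/-- No perfect unique minimal derived subgroup. -/
theorem not_perfect_three (a b : ℕ) (ha : 1 < a) (hab : a < b) (hcop : a.Coprime b)
    (hcd : ∀ χ : G → ℂ, Cfsg.IsIrrCharacter G χ → deg χ = 1 ∨ deg χ = a ∨ deg χ = b)
    (hne : commutator G ≠ ⊥) (hperf : ⁅commutator G, commutator G⁆ = commutator G)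
    (huniq : ∀ X : Subgroup G, X.Normal → X ≠ ⊥ → commutator G ≤ X) : False := by
  classical
  set N := commutator G with hN
  letI : Fintype N := Fintype.ofFinite N
  have hfaith : ∀ χ : G → ℂ, Cfsg.IsIrrCharacter G χ → deg χ ≠ 1 → ∀ g, χ g = χ 1 → g = 1 := by
    intro χ hχ hd g hg
    have hc := isCharacter_of_irr hχ
    haveI := kerSubgroup_normal hc
    by_contra hg1
    have hK : kerSubgroup χ hc ≠ ⊥ := fun h => hg1 (by
      have : g ∈ kerSubgroup χ hc := (mem_kerSubgroup hc g).2 hg
      rwa [h, Subgroup.mem_bot] at this)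
    have hle := huniq _ (kerSubgroup_normal hc) hK
    refine hd ?_
    have hdd := deg_dvd_index_of_le_ker hχ N fun x hx => (mem_kerSubgroup hc x).1 (hle hx)
    obtain ⟨χ', hχ', hχeq⟩ := exists_factor (QuotientGroup.mk' N) (QuotientGroup.mk'_surjective N) hc
      (fun x hx => by rw [QuotientGroup.ker_mk'] at hx; exact (mem_kerSubgroup hc x).1 (hle hx))
    letI : Fintype (G ⧸ N) := Fintype.ofFinite _
    have hirr' : Cfsg.IsIrrCharacter (G ⧸ N) χ' :=
      IsIrrCharacter.descend hχ' (QuotientGroup.mk' N) (QuotientGroup.mk'_surjective N) (hχeq ▸ hχ)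
    have h1 := irr_deg_one_of_comm (G := G ⧸ N) (fun x y => by
      obtain ⟨x, rfl⟩ := QuotientGroup.mk_surjective x
      obtain ⟨y, rfl⟩ := QuotientGroup.mk_surjective y
      rw [← QuotientGroup.mk_mul, ← QuotientGroup.mk_mul, QuotientGroup.eq]
      have : (x * y)⁻¹ * (y * x) = ⁅y⁻¹, x⁻¹⁆ := by rw [commutatorElement_def]; group
      rw [this]
      exact Subgroup.commutator_mem_commutator (Subgroup.mem_top _) (Subgroup.mem_top _)) hirr'
    apply Nat.cast_injective (R := ℂ)
    rw [← IsCharacter.apply_one_eq_deg hc, congrFun hχeq 1, map_one, h1, Nat.cast_one]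
  -- two degrees must both occur
  obtain ⟨χ, hχ, hχd⟩ : ∃ χ : G → ℂ, Cfsg.IsIrrCharacter G χ ∧ deg χ = a := by
    by_contra hno
    push Not at hno
    refine hne ?_
    have h := derived_two b fun φ hφ => (hcd φ hφ).imp_right (Or.resolve_left · (hno φ hφ))
    rwa [derivedSeries_succ, derivedSeries_one, hperf] at h
  obtain ⟨ψ₀, hψ₀, hψ₀d⟩ : ∃ ψ : G → ℂ, Cfsg.IsIrrCharacter G ψ ∧ deg ψ = b := by
    by_contra hno
    push Not at hno
    refine hne ?_
    have h := derived_two a fun φ hφ => (hcd φ hφ).imp_right (Or.resolve_right · (hno φ hφ))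
    rwa [derivedSeries_succ, derivedSeries_one, hperf] at h
  have hχc := isCharacter_of_irr hχ
  have hfχ := hfaith χ hχ (by omega)
  have hone : deg (fun _ : G => (1 : ℂ)) = 1 := by
    apply Nat.cast_injective (R := ℂ)
    rw [← IsCharacter.apply_one_eq_deg isCharacter_one, Nat.cast_one]
  -- some product leaves the characters of degree `b`
  obtain ⟨ψ, hψ, hψd, φ, hφ, hφi, hφd⟩ : ∃ ψ : G → ℂ, Cfsg.IsIrrCharacter G ψ ∧ deg ψ = b ∧
      ∃ φ : G → ℂ, Cfsg.IsIrrCharacter G φ ∧ Cfsg.classInner (χ * ψ) φ ≠ 0 ∧ deg φ ≠ b := by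
    by_contra hno
    push Not at hno
    obtain ⟨n, hn⟩ := exists_power_inner hfχ (IsIrrCharacter.apply_one_ne_zero hψ₀)
    have key : ∀ k : ℕ, ∀ φ : G → ℂ, Cfsg.IsIrrCharacter G φ → Cfsg.classInner (χ ^ k * ψ₀) φ ≠ 0 →
        deg φ = b := by
      intro k
      induction k with
      | zero =>
        intro φ hφ h
        rw [pow_zero, one_mul, classInner_irrChar hψ₀ hφ] at h
        by_cases e : ψ₀ = φ
        · rw [← e, hψ₀d]
        · exact absurd (if_neg e) h
      | succ k ih =>
        intro φ hφ h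
        have hchar : Cfsg.IsCharacter G (χ ^ k * ψ₀) := by
          refine IsCharacter.mul ?_ (isCharacter_of_irr hψ₀)
          clear ih h
          induction k with
          | zero => rw [pow_zero]; exact isCharacter_one
          | succ k ih' => rw [pow_succ]; exact IsCharacter.mul ih' hχc
        obtain ⟨m, hm, hinner, -⟩ := exists_degree_decomp hchar
        have e : χ ^ (k + 1) * ψ₀ = fun g => ∑ τ, (m τ : ℂ) * (χ * (τ : G → ℂ)) g := by
          funext g
          have := congrFun hm g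
          simp only [Pi.mul_apply, Pi.pow_apply] at this ⊢
          rw [pow_succ', mul_assoc, this, Finset.mul_sum]
          exact Finset.sum_congr rfl fun τ _ => by ring
        rw [e, classInner_def] at h
        simp only [Finset.sum_mul] at h
        rw [Finset.sum_comm, Finset.mul_sum] at h
        obtain ⟨τ, -, hτ⟩ := Finset.exists_ne_zero_of_sum_ne_zero h
        have hmτ : m τ ≠ 0 := fun h0 => hτ (by simp [h0])
        refine hno τ τ.2 (ih τ τ.2 (by rw [hinner]; exact_mod_cast hmτ)) φ hφ ?_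
        intro h0
        apply hτ
        rw [classInner_def] at h0
        have e2 : ∑ g : G, (m τ : ℂ) * (χ * (τ : G → ℂ)) g * conj (φ g) =
            (m τ : ℂ) * ∑ g : G, (χ * (τ : G → ℂ)) g * conj (φ g) := by
          rw [Finset.mul_sum]; exact Finset.sum_congr rfl fun g _ => by ring
        rw [e2, mul_left_comm, h0, mul_zero]
    have := key n _ isIrrCharacter_one hn
    omega
  have hψc := isCharacter_of_irr hψ
  -- the product with the conjugate
  have hassoc : ∀ φ' : G → ℂ, Cfsg.IsIrrCharacter G φ' → deg φ' = a →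
      Cfsg.classInner (χ * ψ) φ' ≠ 0 → ∃ l : G →* ℂˣ, φ' = fun g => (l g : ℂ) * χ g := by
    intro φ' hφ' hd' hi'
    by_contra hno
    push Not at hno
    set F := (fun g => conj (χ g)) * φ' with hF
    have hFc : Cfsg.IsCharacter G F := IsCharacter.mul (IsCharacter.conjugate hχc) (isCharacter_of_irr hφ')
    have hlin : ∀ τ : G → ℂ, Cfsg.IsIrrCharacter G τ → deg τ = 1 → Cfsg.classInner F τ = 0 := by
      intro τ hτ hτ1
      obtain ⟨l, rfl⟩ := exists_hom_of_deg_one (isCharacter_of_irr hτ)
        (by rw [IsCharacter.apply_one_eq_deg (isCharacter_of_irr hτ), hτ1, Nat.cast_one])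
      have e : Cfsg.classInner F (fun g => (l g : ℂ)) = Cfsg.classInner φ' (fun g => (l g : ℂ) * χ g) := by
        rw [classInner_def, classInner_def]
        congr 1
        refine Finset.sum_congr rfl fun g _ => ?_
        simp only [hF, Pi.mul_apply, map_mul]
        ring
      rw [e, classInner_irrChar hφ' (IsIrrCharacter.mul_linear hχ l), if_neg (hno l)]
    obtain ⟨x, y, hxy, hcons⟩ := degree_three a b hcd hFc hlin
    have hψF : Cfsg.classInner F ψ ≠ 0 := fun h => hi' (by
      rw [classInner_mul_left, ← classInner_conj_symm, h, map_zero])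
    have hy : 0 < y := by
      rcases hcons ψ hψ hψF with ⟨h, -⟩ | ⟨-, h⟩
      · omega
      · exact h
    rw [hF, deg_mul (IsCharacter.conjugate hχc) (isCharacter_of_irr hφ'), hd'] at hxy
    have hc1 : deg (fun g => conj (χ g)) = a := by
      apply Nat.cast_injective (R := ℂ)
      rw [← IsCharacter.apply_one_eq_deg (IsCharacter.conjugate hχc), IsCharacter.apply_one_eq_deg hχc, hχd]
      simp
    rw [hc1] at hxy
    have hdy : a ∣ y * b := (Nat.dvd_add_right (dvd_mul_left a x)).1 ⟨a, hxy.symm⟩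
    have h1 := Nat.le_of_dvd hy (hcop.dvd_of_dvd_mul_right hdy)
    nlinarith
  have hlin2 : ∀ τ : G → ℂ, Cfsg.IsIrrCharacter G τ → deg τ = 1 → Cfsg.classInner (χ * ψ) τ = 0 := by
    intro τ hτ hτ1
    obtain ⟨l, rfl⟩ := exists_hom_of_deg_one (isCharacter_of_irr hτ)
      (by rw [IsCharacter.apply_one_eq_deg (isCharacter_of_irr hτ), hτ1, Nat.cast_one])
    have hcχ := IsIrrCharacter.mul_linear (IsIrrCharacter.conjugate hχ) l
    have e : Cfsg.classInner (χ * ψ) (fun g => (l g : ℂ)) =
        Cfsg.classInner ψ (fun g => (l g : ℂ) * conj (χ g)) := by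
      rw [classInner_mul_left]
      congr 1
      funext g
      exact mul_comm _ _
    rw [e, classInner_irrChar hψ hcχ, if_neg]
    intro h
    have h1 := congrFun h 1
    rw [IsCharacter.apply_one_eq_deg hψc, hψd] at h1
    simp [IsCharacter.apply_one_eq_deg hχc, hχd] at h1
    omega
  obtain ⟨x, y, hxy, hcons⟩ := degree_three a b hcd (IsCharacter.mul hχc hψc) hlin2
  rw [deg_mul hχc hψc, hχd, hψd] at hxy
  have hx : 0 < x := by
    rcases hcons φ hφ hφi with ⟨-, h⟩ | ⟨h, -⟩
    · exact h
    · exact absurd h hφd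
  have hy : y = 0 := by
    have hdx : b ∣ x * a := (Nat.dvd_add_left (dvd_mul_left b y)).1 ⟨a, by rw [← hxy, mul_comm]⟩
    have h1 := Nat.le_of_dvd hx (hcop.symm.dvd_of_dvd_mul_right hdx)
    by_contra hy
    have h2 : b * a ≤ x * a := Nat.mul_le_mul_right a h1
    have h3 : 0 < y * b := Nat.mul_pos (Nat.pos_of_ne_zero hy) (by omega)
    rw [mul_comm] at hxy
    omega
  -- the product is a multiple of `χ` on `N`
  obtain ⟨m, hm, hinner, hsum⟩ := exists_degree_decomp (IsCharacter.mul hχc hψc)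
  have hres : ∀ (τ : Cfsg.IrrCharacter G), m τ ≠ 0 → deg (τ : G → ℂ) = a ∧ ∀ n ∈ N, (τ : G → ℂ) n = χ n := by
    intro τ hτ
    have hi : Cfsg.classInner (χ * ψ) (τ : G → ℂ) ≠ 0 := by rw [hinner]; exact_mod_cast hτ
    have hd : deg (τ : G → ℂ) = a := by
      rcases hcons _ τ.2 hi with ⟨h, -⟩ | ⟨-, h⟩
      · exact h
      · omega
    obtain ⟨l, hl⟩ := hassoc _ τ.2 hd hi
    refine ⟨hd, fun n hn => ?_⟩
    rw [hl]
    have : l n = 1 := by
      have hle : N ≤ l.ker := Subgroup.commutator_le.2 fun u _ v _ => by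
        rw [MonoidHom.mem_ker, map_commutatorElement, commutatorElement_eq_one_iff_mul_comm, mul_comm]
      exact MonoidHom.mem_ker.1 (hle hn)
    simp [this]
  rw [deg_mul hχc hψc, hχd, hψd] at hsum
  have hmsum : ∑ τ, m τ = b := by
    have h : ∑ τ : Cfsg.IrrCharacter G, m τ * deg (τ : G → ℂ) = (∑ τ, m τ) * a := by
      rw [Finset.sum_mul]
      refine Finset.sum_congr rfl fun τ _ => ?_
      by_cases e : m τ = 0
      · simp [e]
      · rw [(hres τ e).1]
    rw [h, mul_comm] at hsum
    exact (Nat.eq_of_mul_eq_mul_right (by omega) hsum).symm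
  have hvan : ∀ n ∈ N, n ≠ 1 → χ n = 0 := by
    intro n hn hn1
    have h := congrFun hm n
    rw [Pi.mul_apply, Finset.sum_congr rfl (g := fun τ => (m τ : ℂ) * χ n) fun τ _ => by
      by_cases e : m τ = 0
      · simp [e]
      · rw [(hres τ e).2 n hn], ← Finset.sum_mul, ← Nat.cast_sum, hmsum] at h
    by_contra h0
    refine hn1 (hfaith ψ hψ (by omega) n ?_)
    rw [IsCharacter.apply_one_eq_deg hψc, hψd]
    have h2 : χ n * (ψ n - b) = 0 := by linear_combination h
    exact sub_eq_zero.1 ((mul_eq_zero.1 h2).resolve_left h0)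
  have hinner1 : Cfsg.classInner (fun n : N => χ n) (fun _ : N => (1 : ℂ)) ≠ 0 := by
    rw [classInner_def, Finset.sum_eq_single (1 : N)]
    · simp [IsCharacter.apply_one_eq_deg hχc, hχd]
      omega
    · intro n _ hn
      rw [hvan n n.2 (fun e => hn (Subtype.ext e)), zero_mul]
    · simp
  obtain ⟨e, -, hes⟩ := restrict_eq_mult_of_invariant N hχ isIrrCharacter_one
    (fun g => funext fun n => rfl) hinner1
  obtain ⟨n, hn, hn1⟩ := (Subgroup.ne_bot_iff_exists_ne_one.1 hne : ∃ x : N, x ≠ 1) |>.imp fun x hx => And.intro x.2 hx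
  have h1 := congrFun hes n
  have h2 := congrFun hes 1
  simp only [Pi.smul_apply, OneMemClass.coe_one] at h1 h2
  rw [hvan n hn (fun e => hn1 (Subtype.ext e))] at h1
  rw [IsCharacter.apply_one_eq_deg hχc, hχd] at h2
  rw [← h1] at h2
  norm_cast at h2
  omega

end Cfsg.Lib.Chars
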