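import Mathlib
import Cfsg.Agent.Chars.DegreePerfect
import Cfsg.Agent.S4456

/-!
# At most three character degrees give derived length at most three
-/

set_option autoImplicit false
set_option linter.unusedSectionVars false

namespace Cfsg.Lib.Chars

open scoped ComplexConjugate commutatorElement

universe u

variable {G : Type u} [Group G] [Fintype G]

theorem derived_quotient_le (K : Subgroup G) [K.Normal] {n : ℕ} (h : derivedSeries (G ⧸ K) n = ⊥) :
    derivedSeries G n ≤ K := by
  have h1 := map_derivedSeries_eq (QuotientGroup.mk'_surjective K) n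
  rw [h, Subgroup.map_eq_bot_iff, QuotientGroup.ker_mk'] at h1
  exact h1

theorem irr_quotient (K : Subgroup G) [K.Normal] [Fintype (G ⧸ K)] {χ : G ⧸ K → ℂ}
    (hχ : Cfsg.IsIrrCharacter (G ⧸ K) χ) :
    Cfsg.IsIrrCharacter G (fun g => χ (QuotientGroup.mk' K g)) ∧
      deg (fun g => χ (QuotientGroup.mk' K g)) = deg χ ∧
      ∀ k ∈ K, χ (QuotientGroup.mk' K k) = χ (QuotientGroup.mk' K 1) := by
  have h := IsIrrCharacter.comp_surjective hχ (QuotientGroup.mk' K) (QuotientGroup.mk'_surjective K)
  refine ⟨h, ?_, fun k hk => ?_⟩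
  · apply Nat.cast_injective (R := ℂ)
    rw [← IsCharacter.apply_one_eq_deg (isCharacter_of_irr h), map_one,
      ← IsCharacter.apply_one_eq_deg (isCharacter_of_irr hχ)]
  · rw [map_one, QuotientGroup.mk'_apply, (QuotientGroup.eq_one_iff k).2 hk]

/-- The induction hypothesis. -/
def SmallerThree (G : Type u) [Group G] : Prop :=
  ∀ (H : Type u) [Group H] [Fintype H], Nat.card H < Nat.card G → ∀ a b : ℕ,
    (∀ χ : H → ℂ, Cfsg.IsIrrCharacter H χ → deg χ = 1 ∨ deg χ = a ∨ deg χ = b) → derivedSeries H 3 = ⊥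

theorem mult_of_ordCompl {q m t d : ℕ} (hq : q.Prime) {k : ℕ} (hm : m ∣ q ^ k) (ht : ¬ q ∣ t) (hd : d = m * t) :
    t = ordCompl[q] d := by
  obtain ⟨i, -, rfl⟩ := (Nat.dvd_prime_pow hq).1 hm
  rw [hd, Nat.ordCompl_mul, Nat.ordCompl_self_pow hq, one_mul, Nat.factorization_eq_zero_of_not_dvd ht, pow_zero, Nat.div_one]

/-- The case of a prime dividing both nonlinear degrees. -/
theorem common_prime (IH : SmallerThree G) (q a b : ℕ) (hq : q.Prime) (hqa : q ∣ a) (hqb : q ∣ b)
    (hcd : ∀ χ : G → ℂ, Cfsg.IsIrrCharacter G χ → deg χ = 1 ∨ deg χ = a ∨ deg χ = b)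
    (hne : ∃ χ : G → ℂ, Cfsg.IsIrrCharacter G χ ∧ deg χ ≠ 1)
    (hv : ordCompl[q] b = 1 → ordCompl[q] a = 1) : derivedSeries G 3 = ⊥ := by
  classical
  obtain ⟨L, hLn, hLc, k, hk⟩ := Cfsg.Agent.S4456.result (G := G) q hq fun χ h => by
    rw [charDegree_eq_deg χ.2] at h ⊢
    rcases hcd _ χ.2 with h1 | h1 | h1
    · exact absurd h1 h
    · rwa [h1]
    · rwa [h1]
  letI : Fintype L := Fintype.ofFinite L
  set u := ordCompl[q] a with hu
  set v := ordCompl[q] b with hv'
  have hqθ : ∀ θ : L → ℂ, Cfsg.IsIrrCharacter L θ → ¬ q ∣ deg θ := fun θ hθ h =>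
    hq.coprime_iff_not_dvd.1 hLc.symm (h.trans (IsIrrCharacter.deg_dvd hθ))
  have hcdL : ∀ θ : L → ℂ, Cfsg.IsIrrCharacter L θ → deg θ = 1 ∨ deg θ = u ∨ deg θ = v := by
    intro θ hθ
    obtain ⟨χ, hχ, hc⟩ := exists_over L hθ
    obtain ⟨m, hm, hmd⟩ := deg_over L hχ hθ hc
    rcases hcd χ hχ with h | h | h
    · exact Or.inl (Nat.eq_one_of_mul_eq_one_left (hm ▸ h))
    · exact Or.inr (Or.inl (mult_of_ordCompl hq (hk ▸ hmd) (hqθ θ hθ) (h ▸ hm)))
    · exact Or.inr (Or.inr (mult_of_ordCompl hq (hk ▸ hmd) (hqθ θ hθ) (h ▸ hm)))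
  -- degrees of the characters trivial on a subgroup with linear characters of `L` below
  set D : Subgroup G := (commutator L).map L.subtype with hD
  haveI : D.Normal := by
    haveI := hLn
    exact inferInstance
  have hDL : D ≤ L := Subgroup.map_subtype_le _
  have hlinD : ∀ χ : G → ℂ, Cfsg.IsIrrCharacter G χ → (∀ d ∈ D, χ d = χ 1) → deg χ ∣ q ^ k := by
    intro χ hχ hχD
    have hc := isCharacter_of_irr hχ
    obtain ⟨χ', hχ', hχeq⟩ := exists_factor (QuotientGroup.mk' D) (QuotientGroup.mk'_surjective D) hc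
      (fun d hd => by rw [QuotientGroup.ker_mk'] at hd; exact hχD d hd)
    letI : Fintype (G ⧸ D) := Fintype.ofFinite _
    have hirr' : Cfsg.IsIrrCharacter (G ⧸ D) χ' :=
      IsIrrCharacter.descend hχ' (QuotientGroup.mk' D) (QuotientGroup.mk'_surjective D) (hχeq ▸ hχ)
    haveI := hLn
    haveI : (L.map (QuotientGroup.mk' D)).Normal :=
      Subgroup.Normal.map inferInstance _ (QuotientGroup.mk'_surjective D)
    letI : Fintype (L.map (QuotientGroup.mk' D)) := Fintype.ofFinite _
    obtain ⟨θ, hθ, hθc⟩ := exists_constituent (L.map (QuotientGroup.mk' D)) hχ'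
      (IsIrrCharacter.apply_one_ne_zero hirr')
    obtain ⟨m, hm, hmd⟩ := deg_over _ hirr' hθ hθc
    have hθ1 := irr_deg_one_of_comm (G := L.map (QuotientGroup.mk' D)) (by
      rintro ⟨_, x, hx, rfl⟩ ⟨_, y, hy, rfl⟩
      apply Subtype.ext
      change QuotientGroup.mk' D x * QuotientGroup.mk' D y = QuotientGroup.mk' D y * QuotientGroup.mk' D x
      rw [← commutatorElement_eq_one_iff_mul_comm, ← map_commutatorElement, QuotientGroup.mk'_apply,
        QuotientGroup.eq_one_iff]
      exact ⟨⁅(⟨x, hx⟩ : L), ⟨y, hy⟩⁆, Subgroup.commutator_mem_commutator (Subgroup.mem_top _) (Subgroup.mem_top _),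
        map_commutatorElement L.subtype _ _⟩) hθ
    have hd1 : deg θ = 1 := Nat.cast_injective (R := ℂ) (by
      rw [← IsCharacter.apply_one_eq_deg (isCharacter_of_irr hθ), hθ1, Nat.cast_one])
    have hd : deg χ = deg χ' := Nat.cast_injective (R := ℂ) (by
      rw [← IsCharacter.apply_one_eq_deg hc, congrFun hχeq 1, map_one,
        ← IsCharacter.apply_one_eq_deg (isCharacter_of_irr hirr')])
    rw [hd, hm, hd1, mul_one, ← hk]
    refine hmd.trans ?_
    exact Subgroup.index_map_dvd L (QuotientGroup.mk'_surjective D)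
  have hqpow : ∀ d : ℕ, d ∣ q ^ k → ordCompl[q] d = 1 := fun d hd => by
    obtain ⟨i, -, rfl⟩ := (Nat.dvd_prime_pow hq).1 hd
    exact Nat.ordCompl_self_pow hq
  by_cases hu1 : u = 1
  · by_cases hv1 : v = 1
    · -- the normal subgroup is abelian and the group is monomial
      have hLab : ∀ x ∈ L, ∀ y ∈ L, x * y = y * x := fun x hx y hy => congrArg Subtype.val
        (mul_comm_of_all_linear (G := L) (fun θ => by
          rw [irr_apply_one_eq_deg]
          rcases hcdL _ θ.2 with h | h | h
          · rw [h, Nat.cast_one]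
          · rw [h, hu1, Nat.cast_one]
          · rw [h, hv1, Nat.cast_one]) ⟨x, hx⟩ ⟨y, hy⟩)
      haveI := hLn
      haveI := Fact.mk hq
      have hQ : IsPGroup q (G ⧸ L) := IsPGroup.of_card (n := k) (by rw [← hk]; rfl)
      haveI : Group.IsNilpotent (G ⧸ L) := hQ.isNilpotent
      have hmono := fun χ hχ => isMonomial_abelian_nilpotent _ G rfl L hLab inferInstance χ hχ
      rw [eq_bot_iff]
      intro g hg
      rw [Subgroup.mem_bot]
      refine isConj_one_right.mp ((isConj_iff_forall_irr 1 g).mpr fun χ => ?_)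
      symm
      have hlin : ∀ φ : G → ℂ, Cfsg.IsIrrCharacter G φ → deg φ = 1 → ∀ d ∈ commutator G, φ d = φ 1 := by
        intro φ hφ h1 d hd
        obtain ⟨f, rfl⟩ := exists_hom_of_deg_one (isCharacter_of_irr hφ)
          (by rw [IsCharacter.apply_one_eq_deg (isCharacter_of_irr hφ), h1, Nat.cast_one])
        have hle : commutator G ≤ f.ker := Subgroup.commutator_le.2 fun x _ y _ => by
          rw [MonoidHom.mem_ker, map_commutatorElement, commutatorElement_eq_one_iff_mul_comm, mul_comm]
        simp [MonoidHom.mem_ker.1 (hle hd)]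
      have hmin : ∀ φ : G → ℂ, Cfsg.IsIrrCharacter G φ → deg φ ≤ min a b →
          ∀ d ∈ derivedSeries G 2, φ d = φ 1 := by
        intro φ hφ hle
        rw [derivedSeries_succ, derivedSeries_one]
        refine taketa_step hφ (hmono φ hφ) (commutator G) fun τ hτ hlt => hlin τ hτ ?_
        rcases hcd τ hτ with h | h | h
        · exact h
        · omega
        · omega
      by_cases hle : deg (χ : G → ℂ) ≤ min a b
      · exact hmin _ χ.2 hle g (derivedSeries_antitone G (show 2 ≤ 3 by norm_num) hg)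
      · rw [derivedSeries_succ] at hg
        refine taketa_step χ.2 (hmono _ χ.2) (derivedSeries G 2) (fun τ hτ hlt d hd => ?_) g hg
        rcases hcd τ hτ with h | h | h
        · exact hlin τ hτ h d (by
            rw [← derivedSeries_one]; exact derivedSeries_antitone G (show 1 ≤ 2 by norm_num) hd)
        · refine hmin τ hτ ?_ d hd
          rcases hcd _ χ.2 with h' | h' | h' <;> omega
        · refine hmin τ hτ ?_ d hd
          rcases hcd _ χ.2 with h' | h' | h' <;> omega
    · -- exactly one degree is a power of `q`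
      have h2 : derivedSeries L 2 = ⊥ := derived_two v fun θ hθ => by
        rcases hcdL θ hθ with h | h | h
        · exact Or.inl h
        · exact Or.inl (h.trans hu1)
        · exact Or.inr h
      letI : Fintype (G ⧸ D) := Fintype.ofFinite _
      have hQ : derivedSeries (G ⧸ D) 2 = ⊥ := derived_two a fun χ hχ => by
        obtain ⟨hi, hd, hK⟩ := irr_quotient D hχ
        rw [← hd]
        rcases hcd _ hi with h | h | h
        · exact Or.inl h
        · exact Or.inr h
        · exact absurd (hqpow _ (h ▸ hlinD _ hi hK)) hv1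
      rw [eq_bot_iff, derivedSeries_succ]
      refine (Subgroup.commutator_mono (derived_quotient_le D hQ) (derived_quotient_le D hQ)).trans ?_
      rw [hD, ← Subgroup.map_commutator]
      rw [derivedSeries_succ, derivedSeries_one] at h2
      rw [h2, Subgroup.map_bot]
  · -- neither degree is a power of `q`
    have hv1 : v ≠ 1 := fun h => hu1 (hv h)
    letI : Fintype (G ⧸ D) := Fintype.ofFinite _
    have hQ : derivedSeries (G ⧸ D) 1 = ⊥ := derived_one fun χ hχ => by
      obtain ⟨hi, hd, hK⟩ := irr_quotient D hχ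
      rw [← hd]
      rcases hcd _ hi with h | h | h
      · exact h
      · exact absurd (hqpow _ (h ▸ hlinD _ hi hK)) hu1
      · exact absurd (hqpow _ (h ▸ hlinD _ hi hK)) hv1
    have hlt : Nat.card L < Nat.card G := by
      refine lt_of_le_of_ne (Nat.le_of_dvd Nat.card_pos L.card_subgroup_dvd_card) fun h => ?_
      obtain ⟨χ, hχ, hd⟩ := hne
      have hqd : q ∣ deg χ := by
        rcases hcd χ hχ with h1 | h1 | h1
        · exact absurd h1 hd
        · rwa [h1]
        · rwa [h1]
      exact hq.coprime_iff_not_dvd.1 (h ▸ hLc).symm (hqd.trans (IsIrrCharacter.deg_dvd hχ))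
    have h3 : derivedSeries L 3 = ⊥ := IH L hlt u v hcdL
    rw [eq_bot_iff]
    calc derivedSeries G 3 ≤ derivedSeries G (1 + 2) := le_rfl
      _ = ⁅derivedSeries G (1 + 1), derivedSeries G (1 + 1)⁆ := derivedSeries_succ G 2
      _ ≤ ⁅(derivedSeries L 2).map L.subtype, (derivedSeries L 2).map L.subtype⁆ := by
          have hle : derivedSeries G (1 + 1) ≤ (derivedSeries L 2).map L.subtype := by
            rw [derivedSeries_succ G 1, derivedSeries_succ L 1, derivedSeries_one, derivedSeries_one, Subgroup.map_commutator]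
            have hG : commutator G ≤ (commutator L).map L.subtype := by
              rw [← derivedSeries_one]; exact derived_quotient_le D hQ
            exact Subgroup.commutator_mono hG hG
          exact Subgroup.commutator_mono hle hle
      _ = (derivedSeries L 3).map L.subtype := by rw [derivedSeries_succ L 2, Subgroup.map_commutator]
      _ ≤ ⊥ := by rw [h3, Subgroup.map_bot]

/-- Linear twists with a small inertia group. -/
theorem exists_twist (N K : Subgroup G) [N.Normal] [K.Normal] [Fintype N] (r : ℕ) (hr : r.Prime) (hKN : K ≤ N)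
    (hexp : ∀ n ∈ N, n ^ r ∈ K) (hcomm : ∀ n ∈ N, ∀ n' ∈ N, ⁅n, n'⁆ ∈ K)
    (hfpf : ∀ g ∉ N, ∀ n ∈ N, ∃ x ∈ N, n⁻¹ * ⁅g, x⁆ ∈ K) (hidx : N.index ≤ K.relIndex N)
    {ψ : N → ℂ} (hψ : Cfsg.IsIrrCharacter N ψ) (hdψ : ¬ r ∣ deg ψ) :
    ∃ χ : G → ℂ, Cfsg.IsIrrCharacter G χ ∧ deg χ = N.index * deg ψ := by
  classical
  set K' := K.subgroupOf N
  haveI : K'.Normal := inferInstance
  letI : CommGroup (N ⧸ K') :=
    { (inferInstance : Group (N ⧸ K')) with
      mul_comm := fun x y => by
        obtain ⟨x, rfl⟩ := QuotientGroup.mk_surjective x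
        obtain ⟨y, rfl⟩ := QuotientGroup.mk_surjective y
        rw [← QuotientGroup.mk_mul, ← QuotientGroup.mk_mul, QuotientGroup.eq, Subgroup.mem_subgroupOf]
        have e : ((x * y)⁻¹ * (y * x) : N) = ⁅y⁻¹, x⁻¹⁆ := by rw [commutatorElement_def]; group
        rw [e]
        exact hcomm _ (y⁻¹).2 _ (x⁻¹).2 }
  let lift : ((N ⧸ K') →* ℂˣ) → (N →* ℂˣ) := fun l => l.comp (QuotientGroup.mk' K')
  have hlift : Function.Injective lift := fun l l' h => by
    apply MonoidHom.ext
    intro x
    obtain ⟨x, rfl⟩ := QuotientGroup.mk_surjective x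
    exact DFunLike.congr_fun h x
  haveI : Finite ((N ⧸ K') →* ℂˣ) := by infer_instance
  letI : Fintype ((N ⧸ K') →* ℂˣ) := Fintype.ofFinite _
  have hcard : Fintype.card ((N ⧸ K') →* ℂˣ) = K.relIndex N := by
    rw [← Nat.card_eq_fintype_card, CommGroup.card_monoidHom_of_hasEnoughRootsOfUnity]
    rfl
  set d := deg ψ with hd
  have hψd : ψ 1 = (d : ℂ) := IsCharacter.apply_one_eq_deg (isCharacter_of_irr hψ)
  let tw : ((N ⧸ K') →* ℂˣ) → N → ℂ := fun l n => (lift l n : ℂ) * ψ n
  have htw : ∀ l, Cfsg.IsIrrCharacter N (tw l) := fun l => IsIrrCharacter.mul_linear hψ (lift l)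
  -- each element outside fixes at most one twist
  have huniq : ∀ g ∉ N, ∀ l l', conjN N g (tw l) = tw l → conjN N g (tw l') = tw l' → l = l' := by
    intro g hg l l' hl hl'
    obtain ⟨δ, hδ⟩ := detChar_is_hom (isCharacter_of_irr hψ)
    have hgψ : Cfsg.IsCharacter N (conjN N g ψ) := IsCharacter.conjN (isCharacter_of_irr hψ) g
    obtain ⟨δ', hδ'⟩ := detChar_is_hom hgψ
    let cg : N →* N :=
      { toFun := fun n => ⟨g * n * g⁻¹, Subgroup.Normal.conj_mem inferInstance _ n.2 g⟩
        map_one' := Subtype.ext (by simp)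
        map_mul' := fun x y => Subtype.ext (by simp [mul_assoc]) }
    have key : ∀ l, conjN N g (tw l) = tw l →
        ∀ n, (lift l (cg n)) ^ d * δ' n = (lift l n) ^ d * δ n := by
      intro l hl n
      have e1 : conjN N g (tw l) = (fun n => (((lift l).comp cg) n : ℂ)) * conjN N g ψ := rfl
      have h1 := detChar_linear_mul ((lift l).comp cg) hgψ (d := d) (by simp [conjN]; exact hψd)
      have h2 := detChar_linear_mul (lift l) (isCharacter_of_irr hψ) (d := d) hψd
      rw [← e1, hl, hδ'] at h1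
      have h3 := congrFun (h1.symm.trans (h2.trans (by rw [hδ]))) n
      apply Units.ext
      simpa using h3
    set ν := (lift l / lift l') ^ d with hν
    have hfix : ∀ n, ν (cg n) = ν n := by
      intro n
      have h1 := key l hl n
      have h2 := key l' hl' n
      simp only [hν, MonoidHom.pow_apply, MonoidHom.div_apply, div_pow]
      rw [div_eq_div_iff_mul_eq_mul]
      have : (lift l (cg n)) ^ d * (lift l' n) ^ d * (δ' n * δ n) =
          (lift l n) ^ d * (lift l' (cg n)) ^ d * (δ' n * δ n) := by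
        calc _ = ((lift l (cg n)) ^ d * δ' n) * ((lift l' n) ^ d * δ n) := mul_mul_mul_comm _ _ _ _
          _ = ((lift l n) ^ d * δ n) * ((lift l' (cg n)) ^ d * δ' n) := by rw [h1, ← h2]
          _ = _ := by rw [mul_mul_mul_comm, mul_comm (δ n)]
      exact mul_right_cancel this
    have hνK : ∀ n : N, (n : G) ∈ K → ν n = 1 := fun n hn => by
      have e : ∀ l, lift l n = 1 := fun l => by
        show l (QuotientGroup.mk' K' n) = 1
        rw [QuotientGroup.mk'_apply, (QuotientGroup.eq_one_iff n).2 (Subgroup.mem_subgroupOf.2 hn), map_one]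
      simp [hν, e]
    have hν1 : ν = 1 := by
      ext n
      obtain ⟨x, hx, hxn⟩ := hfpf g hg n n.2
      have h1 : ν (n⁻¹ * (cg ⟨x, hx⟩ * ⟨x, hx⟩⁻¹)) = 1 := hνK _ (by
        simp only [Subgroup.coe_mul, Subgroup.coe_inv]
        rw [show ((cg ⟨x, hx⟩ : N) : G) = g * x * g⁻¹ from rfl]
        simpa [commutatorElement_def] using hxn)
      rw [map_mul, map_mul, map_inv, map_inv, hfix, mul_inv_cancel, mul_one, inv_eq_one] at h1
      rw [h1, MonoidHom.one_apply]
    apply hlift
    have hr1 : (lift l / lift l') ^ r = 1 := by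
      ext n
      have e : ∀ l, (lift l n) ^ r = 1 := fun l => by
        rw [← map_pow]
        show l (QuotientGroup.mk' K' (n ^ r)) = 1
        rw [QuotientGroup.mk'_apply, (QuotientGroup.eq_one_iff _).2 (Subgroup.mem_subgroupOf.2 (by simpa using hexp n n.2)),
          map_one]
      simp [div_pow, e]
    ext n
    have h1 : ((lift l / lift l') n) ^ r = 1 := DFunLike.congr_fun hr1 n
    have h2 : ((lift l / lift l') n) ^ d = 1 := DFunLike.congr_fun hν1 n
    have h3 := (pow_gcd_eq_one (m := r) (n := d)).mpr ⟨h1, h2⟩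
    rw [(hr.coprime_iff_not_dvd.2 hdψ : Nat.gcd r d = 1), pow_one, MonoidHom.div_apply, div_eq_one] at h3
    rw [h3]
  -- a twist with inertia group `N`
  obtain ⟨l, hl⟩ : ∃ l, ∀ g ∉ N, conjN N g (tw l) ≠ tw l := by
    by_contra hno
    push Not at hno
    choose gf hgN hgfix using hno
    letI : Fintype (G ⧸ N) := Fintype.ofFinite _
    let F : ((N ⧸ K') →* ℂˣ) → {c : G ⧸ N // c ≠ 1} := fun l =>
      ⟨QuotientGroup.mk' N (gf l), fun h => hgN l ((QuotientGroup.eq_one_iff _).1 h)⟩
    have hF : Function.Injective F := by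
      intro l l' h
      have h' : QuotientGroup.mk' N (gf l) = QuotientGroup.mk' N (gf l') := congrArg Subtype.val h
      rw [QuotientGroup.mk'_apply, QuotientGroup.mk'_apply, QuotientGroup.eq] at h'
      refine huniq (gf l) (hgN l) l l' (hgfix l) ?_
      set n := (gf l)⁻¹ * gf l'
      have e : gf l' = gf l * n := by simp [n]
      have h1 := hgfix l'
      rw [e, conjN_mul, conjN_of_mem (isClassFunction_isChar (IsCharacter.conjN (isCharacter_of_irr (htw l')) _))
        (⟨n, h'⟩ : N)] at h1
      exact h1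
    have h1 := Fintype.card_le_of_injective F hF
    rw [hcard, Fintype.card_subtype_compl, Fintype.card_subtype_eq, ← Nat.card_eq_fintype_card] at h1
    have h2 : Nat.card (G ⧸ N) = N.index := rfl
    have h3 : 0 < N.index := Nat.pos_of_ne_zero Subgroup.index_ne_zero_of_finite
    omega
  have hI : inertia N (tw l) = N := le_antisymm (fun g hg => by_contra fun h => hl g h (mem_inertia.1 hg))
    (le_inertia (isClassFunction_isChar (isCharacter_of_irr (htw l))))
  obtain ⟨χ, hχ, hc⟩ := exists_over N (htw l)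
  have h1 := congrFun (clifford N hχ (htw l) hc) 1
  obtain ⟨ψ', hψ', h2, h3⟩ := exists_constituent_over N le_rfl (isCharacter_of_irr hχ) hc
  obtain ⟨hind, -, -⟩ := clifford_correspondence (htw l) N hI.symm le_rfl hχ hψ' h2 h3
  have heq : ψ' = tw l := by
    have h4 := classInner_irrChar hψ' (htw l)
    by_contra e
    rw [if_neg e] at h4
    exact h3 h4
  refine ⟨χ, hχ, ?_⟩
  apply Nat.cast_injective (R := ℂ)
  rw [← IsCharacter.apply_one_eq_deg (isCharacter_of_irr hχ), ← hind, indFun_one, heq]
  simp [tw, hψd]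

end Cfsg.Lib.Chars
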