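import Mathlib
import Cfsg.Agent.Chars.ThreeDegrees

/-!
# Three character degrees: the main theorem
-/

set_option autoImplicit false
set_option linter.unusedSectionVars false

namespace Cfsg.Lib.Chars

open scoped ComplexConjugate commutatorElement

universe u

variable {G : Type u} [Group G] [Fintype G]

/-- The structure of a group with an abelian unique minimal derived subgroup. -/
theorem minimal_derived (hne : commutator G ≠ ⊥) (hab : ∀ x ∈ commutator G, ∀ y ∈ commutator G, x * y = y * x)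
    (huniq : ∀ X : Subgroup G, X.Normal → X ≠ ⊥ → commutator G ≤ X) :
    ∃ r : ℕ, r.Prime ∧ (∀ x ∈ commutator G, x ^ r = 1) ∧
      (IsPGroup r G ∨
        ((∀ g ∉ commutator G, ∀ n ∈ commutator G, ∃ x ∈ commutator G, ⁅g, x⁆ = n) ∧
          commutator G ≠ ⊤ ∧ (commutator G).index < Nat.card (commutator G) ∧ ¬ r ∣ (commutator G).index)) := by
  classical
  set A := commutator G with hA
  have hcard : 1 < Nat.card A := A.one_lt_card_iff_ne_bot.2 hne
  obtain ⟨r, hr, hrA⟩ := Nat.exists_prime_and_dvd hcard.ne'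
  haveI := Fact.mk hr
  have hexp : ∀ x ∈ A, x ^ r = 1 := by
    let Y : Subgroup G :=
      { carrier := {x | x ∈ A ∧ x ^ r = 1}
        one_mem' := ⟨A.one_mem, one_pow r⟩
        mul_mem' := fun {x y} hx hy => ⟨A.mul_mem hx.1 hy.1, by
          rw [(show Commute x y from hab x hx.1 y hy.1).mul_pow, hx.2, hy.2, one_mul]⟩
        inv_mem' := fun {x} hx => ⟨A.inv_mem hx.1, by rw [inv_pow, hx.2, inv_one]⟩ }
    have hY : Y.Normal := ⟨fun x hx g => ⟨Subgroup.Normal.conj_mem inferInstance x hx.1 g, by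
      rw [conj_pow, hx.2, mul_one, mul_inv_cancel]⟩⟩
    obtain ⟨x, hx⟩ := exists_prime_orderOf_dvd_card' (G := A) r hrA
    have hxY : (x : G) ∈ Y := ⟨x.2, by
      rw [← Subgroup.coe_pow, ← hx, pow_orderOf_eq_one, Subgroup.coe_one]⟩
    have hYne : Y ≠ ⊥ := fun h => by
      rw [h, Subgroup.mem_bot, OneMemClass.coe_eq_one] at hxY
      rw [hxY, orderOf_one] at hx
      exact hr.one_lt.ne hx
    exact fun y hy => (huniq Y hY hYne hy).2
  refine ⟨r, hr, hexp, ?_⟩
  by_cases hcen : A ≤ Subgroup.center G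
  · left
    have hz : ∀ x : G, x ^ r ∈ Subgroup.center G := by
      intro x
      rw [Subgroup.mem_center_iff]
      intro y
      set c := ⁅x, y⁆ with hc
      have hcA : c ∈ A := Subgroup.commutator_mem_commutator (Subgroup.mem_top _) (Subgroup.mem_top _)
      have hconj : ∀ k : ℕ, x ^ k * y = c ^ k * (y * x ^ k) := by
        intro k
        induction k with
        | zero => simp
        | succ k ih =>
          have hcx : c ^ k * x = x * c ^ k := (Subgroup.mem_center_iff.1 ((Subgroup.center G).pow_mem (hcen hcA) k) x).symm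
          calc x ^ (k + 1) * y = x * (x ^ k * y) := by rw [pow_succ', mul_assoc]
            _ = x * c ^ k * (y * x ^ k) := by rw [ih, mul_assoc]
            _ = c ^ k * (x * y) * x ^ k := by rw [← hcx]; group
            _ = c ^ k * (c * (y * x)) * x ^ k := by rw [hc, commutatorElement_def]; group
            _ = c ^ (k + 1) * (y * x ^ (k + 1)) := by rw [pow_succ c, pow_succ' x]; group
      rw [hconj r, hexp c hcA, one_mul]
    have hzr : ∀ z ∈ Subgroup.center G, ∃ k : ℕ, z ^ r ^ k = 1 := by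
      intro z hz'
      obtain ⟨k, m, hm, hzm⟩ := Nat.exists_eq_pow_mul_and_not_dvd (orderOf_pos z).ne' r hr.ne_one
      refine ⟨k, ?_⟩
      by_contra hne'
      set w := z ^ r ^ k with hw
      have hwm : w ^ m = 1 := by rw [hw, ← pow_mul, ← hzm, pow_orderOf_eq_one]
      have hwc : w ∈ Subgroup.center G := (Subgroup.center G).pow_mem hz' _
      have hWn : (Subgroup.zpowers w).Normal := ⟨fun x hx g => by
        have : x ∈ Subgroup.center G := Subgroup.zpowers_le.2 hwc hx
        rwa [Subgroup.mem_center_iff.1 this g, mul_inv_cancel_right]⟩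
      obtain ⟨a, ha⟩ := Subgroup.ne_bot_iff_exists_ne_one.1 hne
      have haw : (a : G) ∈ Subgroup.zpowers w := huniq _ hWn (by simpa using hne') a.2
      obtain ⟨i, hi⟩ := Subgroup.mem_zpowers_iff.1 haw
      have h1 : (a : G) ^ m = 1 := by
        rw [← hi, ← zpow_natCast, ← zpow_mul, mul_comm, zpow_mul, zpow_natCast, hwm, one_zpow]
      have h2 := (pow_gcd_eq_one (m := r) (n := m)).mpr ⟨hexp a a.2, h1⟩
      rw [(hr.coprime_iff_not_dvd.2 hm : Nat.gcd r m = 1), pow_one] at h2
      exact ha (OneMemClass.coe_eq_one.1 h2)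
    intro x
    obtain ⟨k, hk⟩ := hzr _ (hz x)
    exact ⟨k + 1, by rw [pow_succ', pow_mul, hk]⟩
  · right
    set C := Subgroup.centralizer (A : Set G)
    have hAC : A ≤ C := fun x hx => Subgroup.mem_centralizer_iff.2 fun y hy => hab y hy x hx
    -- outside the centralizer the commutator map is bijective
    have hbij : ∀ g ∉ C, (∀ a ∈ A, g * a = a * g → a = 1) ∧ ∀ n ∈ A, ∃ x ∈ A, ⁅g, x⁆ = n := by
      intro g hg
      have hinj : ∀ a ∈ A, g * a = a * g → a = 1 := by
        let Z := A ⊓ Subgroup.centralizer {g}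
        have hZ : Z.Normal := by
          refine ⟨fun a ha x => ⟨Subgroup.Normal.conj_mem inferInstance a ha.1 x, ?_⟩⟩
          refine Subgroup.mem_centralizer_singleton_iff.2 ?_
          have h1 := Subgroup.mem_centralizer_singleton_iff.1 ha.2
          set c := ⁅g⁻¹, x⁻¹⁆ with hc
          have hcA : c ∈ A := Subgroup.commutator_mem_commutator (Subgroup.mem_top _) (Subgroup.mem_top _)
          have hxg : x⁻¹ * g * x = g * c := by rw [hc, commutatorElement_def]; group
          have h2 : x⁻¹ * g * x * a = a * (x⁻¹ * g * x) := by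
            rw [hxg, mul_assoc, hab c hcA a ha.1, ← mul_assoc, ← h1, mul_assoc]
          calc x * a * x⁻¹ * g = x * (a * (x⁻¹ * g * x)) * x⁻¹ := by group
            _ = x * (x⁻¹ * g * x * a) * x⁻¹ := by rw [h2]
            _ = g * (x * a * x⁻¹) := by group
        intro a ha hga
        by_contra ha1
        have haZ : a ∈ Z := ⟨ha, Subgroup.mem_centralizer_singleton_iff.2 hga.symm⟩
        have hle := huniq Z hZ fun h => ha1 (by rwa [h, Subgroup.mem_bot] at haZ)
        exact hg (Subgroup.mem_centralizer_iff.2 fun y hy =>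
          (Subgroup.mem_centralizer_singleton_iff.1 (hle hy).2))
      refine ⟨hinj, ?_⟩
      let F : A → A := fun a => ⟨⁅g, (a : G)⁆, Subgroup.commutator_mem_commutator (Subgroup.mem_top _) (Subgroup.mem_top _)⟩
      have hF : Function.Injective F := by
        intro a b h
        have h' : g * a * g⁻¹ * (a : G)⁻¹ = g * b * g⁻¹ * (b : G)⁻¹ := by
          simpa [F, commutatorElement_def] using congrArg Subtype.val h
        have h'' : g * ((b : G)⁻¹ * a) * g⁻¹ = (b : G)⁻¹ * a := by
          have e : g * ((b : G)⁻¹ * a) * g⁻¹ = (g * (b : G) * g⁻¹)⁻¹ * (g * a * g⁻¹) := by group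
          have e1 : g * a * g⁻¹ = g * b * g⁻¹ * (b : G)⁻¹ * a := by rw [← h']; group
          rw [e, e1]; group
        have := hinj _ (A.mul_mem (A.inv_mem b.2) a.2) (mul_inv_eq_iff_eq_mul.1 h'')
        exact Subtype.ext (inv_mul_eq_one.1 this).symm
      intro n hn
      obtain ⟨x, hx⟩ := (Finite.injective_iff_surjective.1 hF) ⟨n, hn⟩
      exact ⟨x, x.2, congrArg Subtype.val hx⟩
    obtain ⟨g, hg⟩ : ∃ g, g ∉ C := by
      by_contra h
      push Not at h
      exact hcen fun a ha => Subgroup.mem_center_iff.2 fun x => (Subgroup.mem_centralizer_iff.1 (h x) a ha).symm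
    obtain ⟨hginj, hgsurj⟩ := hbij g hg
    have hcomp : ∀ x : G, ∃ a ∈ A, g * (a⁻¹ * x) = a⁻¹ * x * g := by
      intro x
      obtain ⟨a, ha, hax⟩ := hgsurj ⁅g, x⁆ (Subgroup.commutator_mem_commutator (Subgroup.mem_top _) (Subgroup.mem_top _))
      refine ⟨a, ha, ?_⟩
      simp only [commutatorElement_def] at hax
      have e1 : g * a * g⁻¹ = g * x * g⁻¹ * x⁻¹ * a := by rw [← hax]; group
      rw [← mul_inv_eq_iff_eq_mul]
      calc g * (a⁻¹ * x) * g⁻¹ = (g * a * g⁻¹)⁻¹ * (g * x * g⁻¹) := by group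
        _ = a⁻¹ * x := by rw [e1]; group
    have hHab : ∀ u v : G, g * u = u * g → g * v = v * g → u * v = v * u := by
      intro u v hu hv
      rw [← commutatorElement_eq_one_iff_mul_comm]
      refine hginj _ (Subgroup.commutator_mem_commutator (Subgroup.mem_top _) (Subgroup.mem_top _)) ?_
      have hu' : Commute g u := hu
      have hv' : Commute g v := hv
      rw [commutatorElement_def]
      exact (((hu'.mul_right hv').mul_right hu'.inv_right).mul_right hv'.inv_right).eq
    have hCA : C = A := by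
      refine le_antisymm (fun x hx => ?_) hAC
      obtain ⟨a, ha, hxa⟩ := hcomp x
      have hh : a⁻¹ * x ∈ Subgroup.center G := by
        rw [Subgroup.mem_center_iff]
        intro y
        obtain ⟨b, hb, hyb⟩ := hcomp y
        have h1 : b * (a⁻¹ * x) = a⁻¹ * x * b :=
          Subgroup.mem_centralizer_iff.1 (C.mul_mem (hAC (A.inv_mem ha)) hx) b hb
        have h2 := hHab _ _ hxa hyb
        calc y * (a⁻¹ * x) = b * ((b⁻¹ * y) * (a⁻¹ * x)) := by group
          _ = b * (a⁻¹ * x) * (b⁻¹ * y) := by rw [← h2]; group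
          _ = a⁻¹ * x * y := by rw [h1]; group
      by_cases hz : Subgroup.center G = ⊥
      · rw [hz, Subgroup.mem_bot, inv_mul_eq_one] at hh
        exact hh ▸ ha
      · exact absurd (huniq _ inferInstance hz) hcen
    refine ⟨fun x hx => (hbij x (hCA ▸ hx)).2, fun h => hg (hAC (h ▸ Subgroup.mem_top g)), ?_, ?_⟩
    · -- the complement acts without fixed points
      obtain ⟨a₀, ha₀⟩ := Subgroup.ne_bot_iff_exists_ne_one.1 hne
      haveI : A.Normal := inferInstance
      have hrep : ∀ c : G ⧸ A, ∃ h : G, g * h = h * g ∧ QuotientGroup.mk' A h = c := by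
        intro c
        obtain ⟨x, rfl⟩ := QuotientGroup.mk'_surjective A c
        obtain ⟨a, ha, hxa⟩ := hcomp x
        refine ⟨a⁻¹ * x, hxa, ?_⟩
        rw [map_mul, QuotientGroup.mk'_apply, (QuotientGroup.eq_one_iff _).2 (A.inv_mem ha), one_mul]
      choose h hh hhc using hrep
      let F : G ⧸ A → {a : A // a ≠ 1} := fun c =>
        ⟨⟨h c * a₀ * (h c)⁻¹, Subgroup.Normal.conj_mem inferInstance _ a₀.2 _⟩, fun e => ha₀ (Subtype.ext (conj_eq_one_iff.1 (congrArg Subtype.val e)))⟩
      have hF : Function.Injective F := by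
        intro c c' e
        have e' : h c * a₀ * (h c)⁻¹ = h c' * a₀ * (h c')⁻¹ :=
          congrArg Subtype.val (congrArg Subtype.val e)
        have hk : (h c')⁻¹ * h c ∈ A := by
          by_contra hk
          refine ha₀ (Subtype.ext ((hbij _ (hCA ▸ hk)).1 _ a₀.2 ?_))
          calc (h c')⁻¹ * h c * a₀ = (h c')⁻¹ * (h c * a₀ * (h c)⁻¹) * h c := by group
            _ = (a₀ : G) * ((h c')⁻¹ * h c) := by rw [e']; group
        rw [← hhc c, ← hhc c', QuotientGroup.mk'_apply, QuotientGroup.mk'_apply, QuotientGroup.eq]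
        simpa using A.inv_mem hk
      haveI : Fintype A := Fintype.ofFinite A
      have h1 := Nat.card_le_card_of_injective F hF
      have h2 : Nat.card {a : A // a ≠ 1} = Nat.card A - 1 := by
        rw [Nat.card_eq_fintype_card, Nat.card_eq_fintype_card, Fintype.card_subtype_compl, Fintype.card_subtype_eq]
      have h3 : Nat.card (G ⧸ A) = A.index := rfl
      omega
    · intro hri
      haveI : A.Normal := inferInstance
      obtain ⟨c, hc⟩ := exists_prime_orderOf_dvd_card' (G := G ⧸ A) r hri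
      obtain ⟨x, rfl⟩ := QuotientGroup.mk_surjective c
      obtain ⟨k, hk⟩ := Nat.exists_eq_pow_mul_and_not_dvd (orderOf_pos x).ne' r hr.ne_one
      obtain ⟨m, hm, hxm⟩ := hk
      -- the part of `r`-power order still lies outside
      set y := x ^ m with hy
      have hyA : y ∉ A := by
        intro h
        have h1 : (QuotientGroup.mk x : G ⧸ A) ^ m = 1 := by
          rw [← QuotientGroup.mk_pow, QuotientGroup.eq_one_iff]; exact h
        exact hm (hc ▸ orderOf_dvd_of_pow_eq_one h1)
      have hyC : y ∉ C := hCA ▸ hyA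
      have hyp : IsPGroup r (Subgroup.zpowers y) := by
        refine IsPGroup.iff_card.2 ?_
        rw [Nat.card_zpowers]
        obtain ⟨i, -, hi⟩ := (Nat.dvd_prime_pow hr).1 (orderOf_dvd_of_pow_eq_one (x := y) (n := r ^ k) (by
          rw [hy, ← pow_mul, mul_comm, ← hxm, pow_orderOf_eq_one]))
        exact ⟨i, hi⟩
      letI : MulAction (Subgroup.zpowers y) A :=
        MulAction.compHom A ((MulAut.conjNormal (H := A)).comp (Subgroup.zpowers y).subtype)
      have hfp := hyp.card_modEq_card_fixedPoints A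
      have hone : Nat.card (MulAction.fixedPoints (Subgroup.zpowers y) A) = 1 := by
        rw [Nat.card_eq_one_iff_unique]
        refine ⟨⟨fun a b => ?_⟩, ⟨⟨1, fun z => by simp [MulAction.compHom_smul_def]⟩⟩⟩
        have key : ∀ a : MulAction.fixedPoints (Subgroup.zpowers y) A, ((a.1 : A) : G) = 1 := by
          intro a
          have := congrArg Subtype.val (a.2 ⟨y, Subgroup.mem_zpowers y⟩)
          change y * ((a.1 : A) : G) * y⁻¹ = _ at this
          exact (hbij y hyC).1 _ a.1.2 (mul_inv_eq_iff_eq_mul.1 this)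
        exact Subtype.ext (Subtype.ext ((key a).trans (key b).symm))
      rw [hone] at hfp
      have hpA : IsPGroup r A := fun a => ⟨1, Subtype.ext (by simpa using hexp a a.2)⟩
      obtain ⟨i, hi⟩ := IsPGroup.iff_card.1 hpA
      rw [hi] at hfp hcard
      rcases Nat.eq_zero_or_pos i with h0 | h0
      · simp [h0] at hcard
      · have h1 : r ^ i % r = 0 := Nat.mod_eq_zero_of_dvd (dvd_pow_self r h0.ne') |>.symm ▸ rfl
        rw [Nat.ModEq, h1, Nat.mod_eq_of_lt hr.one_lt] at hfp
        exact one_ne_zero hfp.symm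

/-- The case of coprime degrees. -/
theorem coprime_case (a b : ℕ) (ha : 1 < a) (hab : a < b) (hcop : a.Coprime b)
    (hcd : ∀ χ : G → ℂ, Cfsg.IsIrrCharacter G χ → deg χ = 1 ∨ deg χ = a ∨ deg χ = b)
    (hexa : ∃ χ : G → ℂ, Cfsg.IsIrrCharacter G χ ∧ deg χ = a)
    (hexb : ∃ χ : G → ℂ, Cfsg.IsIrrCharacter G χ ∧ deg χ = b) : derivedSeries G 3 = ⊥ := by
  classical
  have hGne : commutator G ≠ ⊥ := by
    intro h
    obtain ⟨χ, hχ, hd⟩ := hexa
    have h1 := irr_deg_one_of_comm (fun x y : G => by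
      rw [← commutatorElement_eq_one_iff_mul_comm, ← Subgroup.mem_bot, ← h]
      exact Subgroup.commutator_mem_commutator (Subgroup.mem_top _) (Subgroup.mem_top _)) hχ
    rw [IsCharacter.apply_one_eq_deg (isCharacter_of_irr hχ), hd] at h1
    have : a = 1 := by exact_mod_cast h1
    omega
  obtain ⟨K, -, hK⟩ := Finite.exists_le_maximal (p := fun K : Subgroup G => K.Normal ∧ ¬ commutator G ≤ K)
    (a := ⊥) ⟨inferInstance, fun h => hGne (le_bot_iff.1 h)⟩
  obtain ⟨hKn, hKG⟩ := hK.prop
  haveI := hKn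
  letI : Fintype (G ⧸ K) := Fintype.ofFinite _
  set π := QuotientGroup.mk' K with hπ
  have hπs : Function.Surjective π := QuotientGroup.mk'_surjective K
  have hmapG : (commutator G).map π = commutator (G ⧸ K) := by
    rw [← derivedSeries_one, ← derivedSeries_one, map_derivedSeries_eq hπs]
  have hQne : commutator (G ⧸ K) ≠ ⊥ := fun h => hKG (by
    rw [← derivedSeries_one]
    exact derived_quotient_le K (by rw [derivedSeries_one]; exact h))
  have huniq : ∀ X : Subgroup (G ⧸ K), X.Normal → X ≠ ⊥ → commutator (G ⧸ K) ≤ X := by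
    intro X hX hXne
    haveI := hX
    rw [← hmapG, Subgroup.map_le_iff_le_comap]
    by_contra h
    have hle : K ≤ X.comap π := fun k hk => by
      rw [Subgroup.mem_comap, hπ, QuotientGroup.mk'_apply, (QuotientGroup.eq_one_iff k).2 hk]
      exact X.one_mem
    have h1 : X.comap π ≤ K := hK.le_of_ge ⟨inferInstance, h⟩ hle
    refine hXne (le_bot_iff.1 fun x hx => ?_)
    obtain ⟨y, rfl⟩ := hπs x
    rw [Subgroup.mem_bot, hπ, QuotientGroup.mk'_apply, QuotientGroup.eq_one_iff]
    exact h1 hx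
  have hcdQ : ∀ χ : G ⧸ K → ℂ, Cfsg.IsIrrCharacter (G ⧸ K) χ → deg χ = 1 ∨ deg χ = a ∨ deg χ = b :=
    fun χ hχ => by
      obtain ⟨hi, hd, -⟩ := irr_quotient K hχ
      rw [← hd]; exact hcd _ hi
  by_cases habq : ∀ x ∈ commutator (G ⧸ K), ∀ y ∈ commutator (G ⧸ K), x * y = y * x
  swap
  · exfalso
    refine not_perfect_three a b ha hab hcop hcdQ hQne ?_ huniq
    refine le_antisymm (Subgroup.commutator_le_self _) (huniq _ inferInstance fun h => habq fun x hx y hy => ?_)
    rw [← commutatorElement_eq_one_iff_mul_comm, ← Subgroup.mem_bot, ← h]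
    exact Subgroup.commutator_mem_commutator hx hy
  obtain ⟨r, hr, hexp, hcase⟩ := minimal_derived hQne habq huniq
  haveI := Fact.mk hr
  rcases hcase with hp | ⟨hfpf, -, hlt, hrn⟩
  · -- a quotient of prime power order
    exfalso
    obtain ⟨χ₀', hχ₀', hd0⟩ : ∃ χ : G ⧸ K → ℂ, Cfsg.IsIrrCharacter (G ⧸ K) χ ∧ deg χ ≠ 1 := by
      by_contra h
      push Not at h
      exact hQne (by rw [← derivedSeries_one]; exact derived_one h)
    obtain ⟨hi0, hd0', hK0⟩ := irr_quotient K hχ₀'
    set χ₀ : G → ℂ := fun g => χ₀' (QuotientGroup.mk' K g)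
    obtain ⟨k, hk⟩ := IsPGroup.iff_card.1 hp
    have hidx : K.index = r ^ k := hk
    have hr0 : r ∣ deg χ₀ := by
      obtain ⟨i, -, hi⟩ := (Nat.dvd_prime_pow hr).1 (hidx ▸ deg_dvd_index_of_le_ker hi0 K hK0)
      rcases Nat.eq_zero_or_pos i with h | h
      · exact absurd (by rw [← hd0', hi, h, pow_zero]) hd0
      · exact hi ▸ dvd_pow_self r h.ne'
    obtain ⟨χ, hχ, hrd, hd2⟩ : ∃ χ : G → ℂ, Cfsg.IsIrrCharacter G χ ∧ ¬ r ∣ deg χ ∧ deg χ ≠ 1 := by
      obtain ⟨χa, hχa, hda⟩ := hexa
      obtain ⟨χb, hχb, hdb⟩ := hexb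
      by_cases hra : r ∣ a
      · exact ⟨χb, hχb, fun h => hr.ne_one (Nat.eq_one_of_dvd_coprimes hcop hra (hdb ▸ h)), by omega⟩
      · exact ⟨χa, hχa, hda ▸ hra, by omega⟩
    letI : Fintype K := Fintype.ofFinite K
    obtain ⟨θ, hθ, hθc⟩ := exists_constituent K (isCharacter_of_irr hχ) (IsIrrCharacter.apply_one_ne_zero hχ)
    obtain ⟨m, hm, hmd⟩ := deg_over K hχ hθ hθc
    have hm1 : m = 1 := by
      obtain ⟨i, -, rfl⟩ := (Nat.dvd_prime_pow hr).1 (hidx ▸ hmd)
      rcases Nat.eq_zero_or_pos i with h | h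
      · rw [h, pow_zero]
      · exact absurd (hm ▸ dvd_mul_of_dvd_left (dvd_pow_self r h.ne') _) hrd
    rw [hm1, one_mul] at hm
    have hres : (fun n : K => χ n) = θ := eq_of_inner_ne_zero_of_deg (IsCharacter.restrict (isCharacter_of_irr hχ) K)
      hθ hθc (by
        rw [IsCharacter.apply_one_eq_deg (isCharacter_of_irr hθ), ← hm, ← IsCharacter.apply_one_eq_deg (isCharacter_of_irr hχ)]
        simp)
    have hg := gallagher K (φ := fun _ : K => (1 : ℂ)) isIrrCharacter_one (fun g => rfl) hχ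
      (by
        have e : ((fun _ : K => (1 : ℂ)) * fun n : K => χ n) = θ := by rw [hres]; funext n; simp
        rw [e]; exact hθ)
    have hmem := hg.mapsTo (x := χ₀) ⟨hi0, by
      rw [frobenius_reciprocity K _ (isClassFunction_isChar (isCharacter_of_irr hi0)),
        show (fun x : K => χ₀ x) = (deg χ₀ : ℂ) • fun _ : K => (1 : ℂ) from funext fun x => by
          rw [Pi.smul_apply, smul_eq_mul, mul_one, ← IsCharacter.apply_one_eq_deg (isCharacter_of_irr hi0)]
          exact hK0 x x.2,
        classInner_smul_right, classInner_self_irr isIrrCharacter_one, mul_one, Complex.conj_natCast]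
      exact_mod_cast (deg_irr_pos ⟨χ₀, hi0⟩).ne'⟩
    have hprod : deg (χ₀ * χ) = deg χ₀ * deg χ := deg_mul (isCharacter_of_irr hi0) (isCharacter_of_irr hχ)
    have h0 : deg χ₀ ≠ 1 := fun h => hd0 (hd0' ▸ h)
    have hne2 : deg χ₀ ≠ deg χ := fun h => hrd (h ▸ hr0)
    rcases hcd _ hi0 with e0 | e0 | e0 <;> rcases hcd _ hχ with e1 | e1 | e1 <;>
      rcases hcd _ hmem.1 with e | e | e <;>
      first
        | exact h0 e0
        | exact hd2 e1
        | exact hne2 (e0.trans e1.symm)
        | (rw [hprod, e0, e1] at e; nlinarith)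
  · -- the Frobenius case
    set N := (commutator (G ⧸ K)).comap π with hN
    haveI : N.Normal := inferInstance
    letI : Fintype N := Fintype.ofFinite N
    have hKN : K ≤ N := fun k hk => by
      rw [hN, Subgroup.mem_comap, hπ, QuotientGroup.mk'_apply, (QuotientGroup.eq_one_iff k).2 hk]
      exact Subgroup.one_mem _
    have hmk : ∀ x : G, π x = 1 ↔ x ∈ K := fun x => QuotientGroup.eq_one_iff x
    have hidxN : N.index = (commutator (G ⧸ K)).index := Subgroup.index_comap_of_surjective _ hπs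
    have hrel : K.relIndex N = Nat.card (commutator (G ⧸ K)) := by
      have h := Subgroup.relIndex_comap (H := (⊥ : Subgroup (G ⧸ K))) π N
      rw [MonoidHom.comap_bot, hπ, QuotientGroup.ker_mk', Subgroup.relIndex_bot_left] at h
      rw [h, hN, Subgroup.map_comap_eq_self_of_surjective hπs]
    have htwist : ∀ ψ : N → ℂ, Cfsg.IsIrrCharacter N ψ → ¬ r ∣ deg ψ →
        ∃ χ : G → ℂ, Cfsg.IsIrrCharacter G χ ∧ deg χ = N.index * deg ψ := by
      intro ψ hψ hd
      refine exists_twist N K r hr hKN (fun n hn => ?_) (fun n hn n' hn' => ?_) (fun g hg n hn => ?_)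
        (hidxN ▸ hrel ▸ hlt.le) hψ hd
      · rw [← hmk, map_pow]; exact hexp _ hn
      · rw [← hmk, map_commutatorElement, commutatorElement_eq_one_iff_mul_comm]; exact habq _ hn _ hn'
      · obtain ⟨x, hx, hxn⟩ := hfpf (π g) hg (π n) hn
        obtain ⟨y, rfl⟩ := hπs x
        refine ⟨y, hx, ?_⟩
        rw [← hmk, map_mul, map_inv, map_commutatorElement, hxn, inv_mul_cancel]
    -- the index is one of the degrees
    have hone : deg (fun _ : N => (1 : ℂ)) = 1 := Nat.cast_injective (R := ℂ) (by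
      rw [← IsCharacter.apply_one_eq_deg isCharacter_one, Nat.cast_one])
    obtain ⟨χf, hχf, hdf⟩ := htwist _ isIrrCharacter_one (by rw [hone]; exact hr.not_dvd_one)
    rw [hone, mul_one] at hdf
    have hf1 : N.index ≠ 1 := by
      rw [hidxN, Ne, Subgroup.index_eq_one]
      intro h
      haveI : IsMulCommutative (G ⧸ K) := ⟨⟨fun x y => habq x (h ▸ Subgroup.mem_top x) y (h ▸ Subgroup.mem_top y)⟩⟩
      exact hQne (by
        rw [commutator_def, Subgroup.commutator_eq_bot_iff_le_centralizer]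
        intro x _
        rw [Subgroup.mem_centralizer_iff]
        exact fun y _ => IsMulCommutative.is_comm.comm y x)
    obtain ⟨f, c, hfc, hfcop, hfN, hcdG⟩ : ∃ f c : ℕ, 1 < f ∧ f.Coprime c ∧ N.index = f ∧
        ∀ χ : G → ℂ, Cfsg.IsIrrCharacter G χ → deg χ = 1 ∨ deg χ = f ∨ deg χ = c := by
      rcases hcd χf hχf with h | h | h
      · exact absurd (hdf.symm.trans h) hf1
      · exact ⟨a, b, ha, hcop, hdf.symm.trans h, hcd⟩
      · exact ⟨b, a, by omega, hcop.symm, hdf.symm.trans h, fun χ hχ => (hcd χ hχ).imp_right Or.symm⟩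
    have hcdN : ∀ ψ : N → ℂ, Cfsg.IsIrrCharacter N ψ → deg ψ = 1 ∨ deg ψ = c := by
      intro ψ hψ
      by_cases hrψ : r ∣ deg ψ
      · obtain ⟨χ, hχ, hc⟩ := exists_over N hψ
        obtain ⟨m, hm, hmd⟩ := deg_over N hχ hψ hc
        have hrχ : r ∣ deg χ := hm ▸ dvd_mul_of_dvd_right hrψ m
        rcases hcdG χ hχ with h | h | h
        · exact absurd (h ▸ hrχ) hr.not_dvd_one
        · exact absurd (h ▸ hrχ) (hfN ▸ hidxN ▸ hrn)
        · refine Or.inr ?_
          have hm1 : m = 1 := Nat.eq_one_of_dvd_coprimes hfcop (hfN ▸ hmd) (h ▸ hm ▸ dvd_mul_right m _)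
          rw [← h, hm, hm1, one_mul]
      · obtain ⟨χ, hχ, hd⟩ := htwist ψ hψ hrψ
        refine Or.inl ?_
        rw [hfN] at hd
        rcases hcdG χ hχ with h | h | h
        · exact Nat.eq_one_of_mul_eq_one_left (hd.symm.trans h)
        · exact Nat.eq_of_mul_eq_mul_left (by omega) (hd.symm.trans (h.trans (mul_one f).symm))
        · have h1 : f = 1 := Nat.eq_one_of_dvd_coprimes hfcop dvd_rfl (h ▸ hd ▸ dvd_mul_right f _)
          omega
    have h2 := derived_two c hcdN
    have hGN : derivedSeries G 1 ≤ N := by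
      rw [derivedSeries_one, hN, ← Subgroup.map_le_iff_le_comap, hmapG]
    exact le_bot_iff.1 ((derivedSeries_le_map N hGN 2).trans (by rw [h2, Subgroup.map_bot]))

/-- **At most three degrees: derived length at most three.** -/
theorem derived_three : ∀ (n : ℕ) (G : Type u) [Group G] [Fintype G], Nat.card G = n → ∀ a b : ℕ,
    (∀ χ : G → ℂ, Cfsg.IsIrrCharacter G χ → deg χ = 1 ∨ deg χ = a ∨ deg χ = b) → derivedSeries G 3 = ⊥ := by
  intro n
  induction n using Nat.strong_induction_on with
  | _ n ih =>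
  intro G _ _ hn a b hcd
  classical
  by_cases hexa : a ≠ 1 ∧ ∃ χ : G → ℂ, Cfsg.IsIrrCharacter G χ ∧ deg χ = a
  swap
  · refine derivedSeries_eq_bot_of_le (derived_two b fun χ hχ => ?_) (by norm_num)
    rcases hcd χ hχ with h | h | h
    · exact Or.inl h
    · exact Or.inl (by by_contra hne; exact hexa ⟨h ▸ hne, χ, hχ, h⟩)
    · exact Or.inr h
  by_cases hexb : b ≠ 1 ∧ ∃ χ : G → ℂ, Cfsg.IsIrrCharacter G χ ∧ deg χ = b
  swap
  · refine derivedSeries_eq_bot_of_le (derived_two a fun χ hχ => ?_) (by norm_num)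
    rcases hcd χ hχ with h | h | h
    · exact Or.inl h
    · exact Or.inr h
    · exact Or.inl (by by_contra hne; exact hexb ⟨h ▸ hne, χ, hχ, h⟩)
  by_cases hab : a = b
  · exact derivedSeries_eq_bot_of_le (derived_two a fun χ hχ => (hcd χ hχ).imp_right
      fun h => h.elim id (fun h => h.trans hab.symm)) (by norm_num)
  obtain ⟨ha1, hxa⟩ := hexa
  obtain ⟨hb1, hxb⟩ := hexb
  have ha : 1 < a := by
    obtain ⟨χ, hχ, h⟩ := hxa
    have := deg_irr_pos (⟨χ, hχ⟩ : Cfsg.IrrCharacter G)
    simp only at this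
    omega
  have hb : 1 < b := by
    obtain ⟨χ, hχ, h⟩ := hxb
    have := deg_irr_pos (⟨χ, hχ⟩ : Cfsg.IrrCharacter G)
    simp only at this
    omega
  have hcd' : ∀ χ : G → ℂ, Cfsg.IsIrrCharacter G χ → deg χ = 1 ∨ deg χ = b ∨ deg χ = a :=
    fun χ hχ => (hcd χ hχ).imp_right Or.symm
  by_cases hcop : a.Coprime b
  · rcases lt_or_gt_of_ne hab with h | h
    · exact coprime_case a b ha h hcop hcd hxa hxb
    · exact coprime_case b a hb h hcop.symm hcd' hxb hxa
  · obtain ⟨q, hq, hqa, hqb⟩ := Nat.Prime.not_coprime_iff_dvd.1 hcop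
    have IH : SmallerThree G := fun H _ _ hlt a' b' h => ih _ (hn ▸ hlt) H rfl a' b' h
    obtain ⟨χ, hχ, hd⟩ := hxa
    by_cases hv : ordCompl[q] b = 1 → ordCompl[q] a = 1
    · exact common_prime IH q a b hq hqa hqb hcd ⟨χ, hχ, by omega⟩ hv
    · exact common_prime IH q b a hq hqb hqa hcd' ⟨χ, hχ, by omega⟩ fun h => by tauto

end Cfsg.Lib.Chars
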