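import Mathlib
import Cfsg.Agent.Chars.Galois

/-!
# Equality of fields of values through the automorphisms fixing them
-/

set_option autoImplicit false
set_option linter.style.haveILetI false

namespace Cfsg.Lib.Chars

theorem fixed_adjoin {S : Set ℂ} {σ : ℂ ≃+* ℂ} (h : ∀ s ∈ S, σ s = s) :
    ∀ y ∈ IntermediateField.adjoin ℚ S, σ y = y := by
  intro y hy
  induction hy using IntermediateField.adjoin_induction with
  | mem y hy => exact h y hy
  | algebraMap q => exact map_ratCast σ q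
  | add y w _ _ h1 h2 => rw [map_add, h1, h2]
  | inv y _ h1 => rw [map_inv₀, h1]
  | mul y w _ _ h1 h2 => rw [map_mul, h1, h2]

/-- An element of the cyclotomic field fixed by every automorphism fixing `S` lies in the field
generated by `S`. -/
theorem mem_adjoin_of_fixed {N : ℕ} [NeZero N] {S : Set ℂ} (hS : ∀ s ∈ S, s ∈ cycField N)
    {z : ℂ} (hz : z ∈ cycField N)
    (h : ∀ (σ : ℂ ≃+* ℂ) (k : ℕ), k.Coprime N → IsGalConj σ N k → (∀ s ∈ S, σ s = s) → σ z = z) :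
    z ∈ IntermediateField.adjoin ℚ S := by
  haveI := finiteDimensional_cycField N
  haveI := isGalois_cycField N
  have hle : IntermediateField.adjoin ℚ S ≤ cycField N := IntermediateField.adjoin_le_iff.2 hS
  suffices hmem : (⟨z, hz⟩ : cycField N) ∈ IntermediateField.restrict hle from
    (IntermediateField.mem_restrict hle _).1 hmem
  rw [← IsGalois.fixedField_fixingSubgroup (h := isGalois_cycField N) (IntermediateField.restrict hle)]
  rintro ⟨τ, hτ⟩
  obtain ⟨σ, hσ⟩ := exists_extend_auto _ τ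
  obtain ⟨k, hk, hg⟩ := exists_galConj_of_auto τ σ hσ
  apply Subtype.ext
  show ((τ ⟨z, hz⟩ : cycField N) : ℂ) = z
  refine ((hσ ⟨z, hz⟩).symm.trans ?_)
  refine h σ k hk hg fun s hs => ?_
  have h1 := (IntermediateField.mem_fixingSubgroup_iff _ τ).1 hτ ⟨s, hS s hs⟩
    ((IntermediateField.mem_restrict hle _).2 (IntermediateField.subset_adjoin ℚ S hs))
  exact (hσ ⟨s, hS s hs⟩).trans (congrArg Subtype.val h1)

/-- Two sets in a cyclotomic field generate the same field if and only if the same automorphisms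
fix them. -/
theorem adjoin_eq_iff_fixed {N : ℕ} [NeZero N] {S T : Set ℂ} (hS : ∀ s ∈ S, s ∈ cycField N)
    (hT : ∀ t ∈ T, t ∈ cycField N) :
    IntermediateField.adjoin ℚ S = IntermediateField.adjoin ℚ T ↔
      ∀ (σ : ℂ ≃+* ℂ) (k : ℕ), k.Coprime N → IsGalConj σ N k →
        ((∀ s ∈ S, σ s = s) ↔ ∀ t ∈ T, σ t = t) := by
  refine ⟨fun h σ k _ _ => ⟨fun hf t ht => ?_, fun hf s hs => ?_⟩, fun h => le_antisymm ?_ ?_⟩
  · exact fixed_adjoin hf t (h ▸ IntermediateField.subset_adjoin ℚ T ht)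
  · exact fixed_adjoin hf s (h ▸ IntermediateField.subset_adjoin ℚ S hs)
  · exact IntermediateField.adjoin_le_iff.2 fun s hs =>
      mem_adjoin_of_fixed hT (hS s hs) fun σ k hk hg hf => (h σ k hk hg).2 hf s hs
  · exact IntermediateField.adjoin_le_iff.2 fun t ht =>
      mem_adjoin_of_fixed hS (hT t ht) fun σ k hk hg hf => (h σ k hk hg).1 hf t ht

/-- The automorphisms fixing `ζ + ζ⁻¹`. -/
theorem fixes_add_inv_iff {m u : ℕ} {ζ : ℂ} (hm : 0 < m) (hζ : IsPrimitiveRoot ζ m)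
    {σ : ℂ ≃+* ℂ} (hσ : σ ζ = ζ ^ u) :
    σ (ζ + ζ⁻¹) = ζ + ζ⁻¹ ↔ u ≡ 1 [MOD m] ∨ u ≡ m - 1 [MOD m] := by
  have hx : ζ ≠ 0 := hζ.ne_zero hm.ne'
  have hu : ζ ^ u ≠ 0 := pow_ne_zero _ hx
  have hmod : ∀ v, (u ≡ v [MOD m] ↔ ζ ^ u = ζ ^ v) := fun v => by
    rw [(hζ.isOfFinOrder hm.ne').pow_eq_pow_iff_modEq, ← hζ.eq_orderOf]
  have hlast : ζ ^ (m - 1) = ζ⁻¹ :=
    eq_inv_of_mul_eq_one_left (by rw [← pow_succ, Nat.sub_add_cancel hm, hζ.pow_eq_one])
  rw [hmod, hmod, pow_one, hlast, map_add, map_inv₀, hσ]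
  constructor
  · intro h
    have h1 : (ζ ^ u - ζ) * (ζ ^ u * ζ - 1) = 0 := by
      field_simp at h
      linear_combination h
    rcases mul_eq_zero.1 h1 with h | h
    · exact Or.inl (sub_eq_zero.1 h)
    · exact Or.inr (eq_inv_of_mul_eq_one_left (sub_eq_zero.1 h))
  · rintro (h | h) <;> rw [h]
    rw [inv_inv, add_comm]

/-- The automorphisms fixing `ζ - ζ⁻¹`. -/
theorem fixes_sub_inv_iff {m u : ℕ} {ζ : ℂ} (hm : 0 < m) (hζ : IsPrimitiveRoot ζ (m * 2))
    {σ : ℂ ≃+* ℂ} (hσ : σ ζ = ζ ^ u) :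
    σ (ζ - ζ⁻¹) = ζ - ζ⁻¹ ↔ u ≡ 1 [MOD m * 2] ∨ u ≡ m - 1 [MOD m * 2] := by
  have hm2 : m * 2 ≠ 0 := by omega
  have hx : ζ ≠ 0 := hζ.ne_zero hm2
  have hu : ζ ^ u ≠ 0 := pow_ne_zero _ hx
  have hmod : ∀ v, (u ≡ v [MOD m * 2] ↔ ζ ^ u = ζ ^ v) := fun v => by
    rw [(hζ.isOfFinOrder hm2).pow_eq_pow_iff_modEq, ← hζ.eq_orderOf]
  have hneg : ζ ^ m = -1 :=
    (hζ.pow (by omega) rfl).eq_neg_one_of_two_right
  have hlast : ζ ^ (m - 1) = -ζ⁻¹ := by
    have h1 : ζ ^ (m - 1) * ζ = -1 := by rw [← pow_succ, Nat.sub_add_cancel hm, hneg]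
    field_simp
    linear_combination h1
  rw [hmod, hmod, pow_one, hlast, map_sub, map_inv₀, hσ]
  constructor
  · intro h
    have h1 : (ζ ^ u - ζ) * (ζ ^ u * ζ + 1) = 0 := by
      field_simp at h
      linear_combination h
    rcases mul_eq_zero.1 h1 with h | h
    · exact Or.inl (sub_eq_zero.1 h)
    · refine Or.inr ?_
      field_simp
      linear_combination h
  · rintro (h | h) <;> rw [h]
    rw [inv_neg, inv_inv]; ring

end Cfsg.Lib.Chars
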