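import Mathlib
import Cfsg.Agent.Chars.ThreeDegreesMain
import Cfsg.Agent.Chars.Burnside
import Cfsg.Agent.Blocks.Feit3
import Cfsg.Agent.S4441

/-!
# Groups whose nonlinear character degrees are primes
-/

set_option autoImplicit false
set_option linter.unusedSectionVars false

namespace Cfsg.Lib.Chars

open scoped ComplexConjugate commutatorElement

universe u

/-- No simple nonabelian group has all nonlinear degrees prime. -/
theorem comm_of_simple_prime_degrees (G : Type u) [Group G] [Fintype G] [IsSimpleGroup G]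
    (h : ∀ χ : G → ℂ, Cfsg.IsIrrCharacter G χ → deg χ = 1 ∨ (deg χ).Prime) : ∀ x y : G, x * y = y * x := by
  classical
  by_contra hab
  have hcenter : Subgroup.center G = ⊥ :=
    (IsSimpleGroup.eq_bot_or_eq_top_of_normal (Subgroup.center G) inferInstance).resolve_right fun h =>
      hab fun x y => (Subgroup.mem_center_iff.1 (h ▸ Subgroup.mem_top x : x ∈ Subgroup.center G) y).symm
  have hhom : ∀ f : G →* ℂˣ, f = 1 := fun f => by
    rcases IsSimpleGroup.eq_bot_or_eq_top_of_normal f.ker inferInstance with h | h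
    · exact absurd (fun x y => (MonoidHom.ker_eq_bot_iff f).1 h (by rw [map_mul, map_mul, mul_comm])) hab
    · exact MonoidHom.ker_eq_top_iff.1 h
  have hlin : ∀ χ : G → ℂ, Cfsg.IsIrrCharacter G χ → deg χ = 1 → χ = fun _ => 1 := fun χ hχ hd => by
    obtain ⟨f, rfl⟩ := exists_hom_of_deg_one (isCharacter_of_irr hχ)
      (by rw [IsCharacter.apply_one_eq_deg (isCharacter_of_irr hχ), hd, Nat.cast_one])
    simp [hhom f]
  have hinj : ∀ {n : ℕ} (ρ : Representation ℂ G (Fin n → ℂ)), deg ρ.character ≠ 1 →
      Cfsg.IsIrrCharacter G ρ.character → Function.Injective ρ := by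
    intro n ρ hd hirr
    refine (MonoidHom.ker_eq_bot_iff ρ).1 ?_
    refine (IsSimpleGroup.eq_bot_or_eq_top_of_normal ρ.ker inferInstance).resolve_right fun h => hd ?_
    have h1 : deg ρ.character ∣ (⊤ : Subgroup G).index := deg_dvd_index_of_le_ker hirr ⊤ fun a _ => by
      rw [Representation.character, Representation.character, show ρ a = 1 from (h ▸ Subgroup.mem_top a : a ∈ ρ.ker),
        map_one ρ]
    rwa [Subgroup.index_top, Nat.dvd_one] at h1
  -- no character of degree two
  have hno2 : ∀ χ : G → ℂ, Cfsg.IsIrrCharacter G χ → deg χ ≠ 2 := by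
    intro χ hχ h2
    have hdvd := IsIrrCharacter.deg_dvd hχ
    rw [h2] at hdvd
    haveI := Fact.mk Nat.prime_two
    obtain ⟨t, ht⟩ := exists_prime_orderOf_dvd_card' (G := G) 2 hdvd
    have hχ' := hχ
    obtain ⟨n, ρ, hρ, rfl⟩ := hχ
    haveI := hρ
    have hn : n = 2 := by rw [← h2, deg_character, Module.finrank_fin_fun]
    subst hn
    have hdet : LinearMap.det (ρ t) = 1 := by
      obtain ⟨f, hf⟩ := detChar_is_hom (isCharacter_of_irr hχ')
      have := congrFun hf t
      rw [detChar_character ρ t] at this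
      rw [this, hhom f, MonoidHom.one_apply, Units.val_one]
    set A := LinearMap.toMatrix' (ρ t) with hA
    have hAdet : A.det = 1 := by rw [hA, LinearMap.det_toMatrix', hdet]
    have hAA : A * A = 1 := by
      have h2t : t ^ 2 = 1 := (congrArg (t ^ ·) ht).symm.trans (pow_orderOf_eq_one t)
      rw [hA, ← LinearMap.toMatrix'_mul, ← map_mul, ← sq, h2t, map_one ρ, LinearMap.toMatrix'_one]
    have hadj : A.adjugate = A := by
      calc A.adjugate = A.adjugate * (A * A) := by rw [hAA, mul_one]
        _ = (A.adjugate * A) * A := by rw [mul_assoc]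
        _ = A := by rw [Matrix.adjugate_mul, hAdet, one_smul, one_mul]
    rw [Matrix.adjugate_fin_two] at hadj
    have e00 := congrFun (congrFun hadj 0) 0
    have e01 := congrFun (congrFun hadj 0) 1
    have e10 := congrFun (congrFun hadj 1) 0
    simp at e00 e01 e10
    have e01' : A 0 1 = 0 := by linear_combination (-1/2 : ℂ) * e01
    have e10' : A 1 0 = 0 := by linear_combination (-1/2 : ℂ) * e10
    have hAc : A = A 0 0 • (1 : Matrix (Fin 2) (Fin 2) ℂ) := by
      ext i j
      fin_cases i <;> fin_cases j <;> simp [e00, e01', e10']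
    have hs : ρ t = A 0 0 • LinearMap.id := by
      apply LinearMap.toMatrix'.injective
      rw [map_smul, LinearMap.toMatrix'_id]
      exact hAc
    have ht' : t ∈ Subgroup.center G := by
      rw [Subgroup.mem_center_iff]
      intro x
      apply hinj ρ (by omega) hχ'
      rw [map_mul, map_mul, hs]
      ext v
      simp
    rw [hcenter, Subgroup.mem_bot] at ht'
    rw [ht', orderOf_one] at ht
    omega
  -- the largest degree
  set D : Finset ℕ := Finset.univ.image fun χ : Cfsg.IrrCharacter G => deg (χ : G → ℂ) with hD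
  obtain ⟨χ₁, hχ₁⟩ : ∃ χ : Cfsg.IrrCharacter G, deg (χ : G → ℂ) ≠ 1 := by
    by_contra hno
    push Not at hno
    exact hab fun x y => mul_comm_of_all_linear (fun χ => by rw [irr_apply_one_eq_deg, hno χ, Nat.cast_one]) x y
  have hDne : D.Nonempty := ⟨_, Finset.mem_image_of_mem _ (Finset.mem_univ χ₁)⟩
  obtain ⟨⟨χ, hχ⟩, -, hmax⟩ := Finset.exists_max_image (Finset.univ : Finset (Cfsg.IrrCharacter G))
    (fun φ : Cfsg.IrrCharacter G => deg (φ : G → ℂ)) ⟨χ₁, Finset.mem_univ _⟩
  set p := deg χ with hp
  have hpp : p.Prime := by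
    refine (h χ hχ).resolve_left fun h1 => ?_
    have h2 : deg (χ₁ : G → ℂ) ≤ p := hmax χ₁ (Finset.mem_univ _)
    have h3 := deg_irr_pos χ₁
    omega
  haveI := Fact.mk hpp
  have hp2 : p ≠ 2 := hno2 χ hχ
  have hpG : p ∣ Nat.card G := IsIrrCharacter.deg_dvd hχ
  obtain ⟨P⟩ := (inferInstance : Nonempty (Sylow p G))
  haveI : Fintype (P : Subgroup G) := Fintype.ofFinite _
  have hχc := isCharacter_of_irr hχ
  obtain ⟨n, ρ, hρ, hρχ⟩ := id hχ
  haveI := hρ
  have hρinj : Function.Injective ρ := hinj ρ (by rw [hρχ, ← hp]; exact hpp.ne_one) (hρχ ▸ hχ)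
  -- the character vanishes on central elements of the Sylow subgroup
  have hvan : ∀ z : (P : Subgroup G), z ∈ Subgroup.center (P : Subgroup G) → z ≠ 1 → χ (z : G) = 0 := by
    intro z hz hz1
    have hle : (P : Subgroup G) ≤ Subgroup.centralizer ({(z : G)} : Set G) := fun x hx => by
      rw [Subgroup.mem_centralizer_singleton_iff]
      exact congrArg Subtype.val (Subgroup.mem_center_iff.mp hz ⟨x, hx⟩)
    have hcop : (deg χ).Coprime (Nat.card {x : G // IsConj (z : G) x}) := by
      rw [← hp, hpp.coprime_iff_not_dvd, card_isConj]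
      exact fun h => P.not_dvd_index (h.trans (Subgroup.index_dvd_of_le hle))
    refine (burnside_zero_or_max hχ _ hcop).resolve_right fun hnorm => ?_
    rw [← hρχ, ρ.char_one, Complex.natCast_re] at hnorm
    obtain ⟨ω, hω, -⟩ := scalar_of_norm_character_eq ρ _ hnorm
    have hzc : (z : G) ∈ Subgroup.center G := by
      rw [Subgroup.mem_center_iff]
      intro x
      apply hρinj
      rw [map_mul, map_mul, hω]
      ext v
      simp
    rw [hcenter, Subgroup.mem_bot] at hzc
    exact hz1 (Subtype.ext hzc)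
  -- the Sylow subgroup is abelian
  have hPab : ∀ x y : (P : Subgroup G), x * y = y * x := by
    obtain ⟨m, hm, hinner, hsum⟩ := exists_degree_decomp (IsCharacter.restrict hχc (P : Subgroup G))
    have hdegres : deg (fun x : (P : Subgroup G) => χ x) = p := by
      apply Nat.cast_injective (R := ℂ)
      rw [← IsCharacter.apply_one_eq_deg (IsCharacter.restrict hχc _)]
      exact IsCharacter.apply_one_eq_deg hχc
    by_cases hall : ∀ θ : Cfsg.IrrCharacter (P : Subgroup G), m θ ≠ 0 → deg (θ : ↥(P : Subgroup G) → ℂ) = 1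
    · intro x y
      rw [← commutatorElement_eq_one_iff_mul_comm]
      have hc : χ ((⁅x, y⁆ : (P : Subgroup G)) : G) = χ 1 := by
        have h1 := congrFun hm ⁅x, y⁆
        have h2 := congrFun hm 1
        simp only [OneMemClass.coe_one] at h2
        rw [h1, h2]
        refine Finset.sum_congr rfl fun θ _ => ?_
        by_cases e : m θ = 0
        · simp [e]
        · obtain ⟨f, hf⟩ := exists_hom_of_deg_one (isCharacter_of_irr θ.2)
            (by rw [irr_apply_one_eq_deg, hall θ e, Nat.cast_one])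
          simp [hf, commutatorElement_def, mul_comm]
      apply Subtype.ext
      rw [OneMemClass.coe_one]
      apply hρinj
      rw [map_one]
      refine (eq_id_of_character_eq_finrank ρ _).1 ?_
      rw [hρχ, hc, ← hρχ, ρ.char_one]
    · exfalso
      push Not at hall
      obtain ⟨θ, hθm, hθd⟩ := hall
      have hpd : p ∣ deg (θ : ↥(P : Subgroup G) → ℂ) := by
        obtain ⟨i, hi⟩ := IsPGroup.iff_card.1 P.isPGroup'
        obtain ⟨j, -, hj⟩ := (Nat.dvd_prime_pow hpp).1 (hi ▸ IsIrrCharacter.deg_dvd θ.2)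
        rcases Nat.eq_zero_or_pos j with h0 | h0
        · exact absurd (by rw [hj, h0, pow_zero]) hθd
        · exact hj ▸ dvd_pow_self p h0.ne'
      have hle := (constituent_le (IsCharacter.restrict hχc _) θ.2 (by rw [hinner]; exact_mod_cast hθm))
      rw [hdegres] at hle
      have hge := Nat.le_of_dvd (deg_irr_pos θ) hpd
      have heq := hle.2 hge
      obtain ⟨z, hz1⟩ : ∃ z : Subgroup.center (P : Subgroup G), z ≠ 1 := by
        have hPnt : Nontrivial (P : Subgroup G) := by
          rw [← Finite.one_lt_card_iff_nontrivial, P.card_eq_multiplicity]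
          exact Nat.one_lt_pow ((hpp.factorization_pos_of_dvd Nat.card_pos.ne' hpG).ne') hpp.one_lt
        haveI := P.isPGroup'.center_nontrivial
        exact exists_ne 1
      have hv := hvan z.1 z.2 (fun e => hz1 (Subtype.ext e))
      have h3 : (θ : ↥(P : Subgroup G) → ℂ) z.1 = χ ((z.1 : (P : Subgroup G)) : G) := by rw [← heq]
      obtain ⟨k, σ, hσ, hσθ⟩ := θ.2
      haveI := hσ
      obtain ⟨c, hc⟩ := schur_scalar σ (σ z.1) fun g v => by
        rw [← Module.End.mul_apply, ← map_mul, ← Subgroup.mem_center_iff.1 z.2 g, map_mul, Module.End.mul_apply]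
      have hc0 : c ≠ 0 := by
        intro e
        have h4 : σ z.1 * σ z.1⁻¹ = 1 := by rw [← map_mul, mul_inv_cancel, map_one]
        rw [hc, e, zero_smul, zero_mul] at h4
        haveI := nontrivial_of_irreducible σ
        exact zero_ne_one h4
      rw [← hσθ, Representation.character, hc, map_smul, LinearMap.trace_id, smul_eq_mul, hv, mul_eq_zero] at h3
      rcases h3 with h3 | h3
      · exact hc0 h3
      · exact (finrank_pos_of_irreducible σ).ne' (by exact_mod_cast h3)
  have hPp : Nat.card (P : Subgroup G) = p := by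
    obtain ⟨c, hc⟩ := IsCharacter.exists_mult (IsCharacter.restrict hχc (P : Subgroup G))
      (isIrrCharacter_one (G := (P : Subgroup G)))
    rw [classInner_def, Finset.sum_eq_single (1 : (P : Subgroup G)), map_one, mul_one, OneMemClass.coe_one,
      IsCharacter.apply_one_eq_deg hχc, ← hp, inv_mul_eq_iff_eq_mul₀ (by exact_mod_cast Nat.card_pos.ne')] at hc
    · have hdvd : Nat.card (P : Subgroup G) ∣ p := ⟨c, by exact_mod_cast hc⟩
      refine ((Nat.dvd_prime hpp).1 hdvd).resolve_left ?_
      rw [P.card_eq_multiplicity]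
      exact (Nat.one_lt_pow ((hpp.factorization_pos_of_dvd Nat.card_pos.ne' hpG).ne') hpp.one_lt).ne'
    · intro x _ hx
      rw [hvan x (Subgroup.mem_center_iff.2 fun y => hPab y x) hx, zero_mul]
    · simp
  -- the normalizer centralizes
  obtain ⟨M, hM⟩ := Cfsg.Lib.Blocks.exists_isPModular hpp
  obtain ⟨X, Y, -, -, hX, -, εX, ε, hXp, -⟩ := Cfsg.Agent.S4441.result p M hM hp2 P hPp _ rfl
  have hXsub : ∀ φ ∈ X, φ = (⟨fun _ => 1, isIrrCharacter_one⟩ : Cfsg.IrrCharacter G) := by
    intro φ hφ
    obtain ⟨hε, hmod, -⟩ := hXp φ hφ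
    refine Subtype.ext (hlin _ φ.2 ((h _ φ.2).resolve_right fun hq => ?_))
    rw [charDegree_eq_deg φ.2] at hmod
    set q := deg (φ : G → ℂ) with hqd
    have hqp : q ≤ p := hmax φ (Finset.mem_univ _)
    have hq2 : q ≠ 2 := hno2 _ φ.2
    rw [Int.modEq_iff_dvd] at hmod
    rcases hε with e | e
    · rw [e] at hmod
      have hd : (p : ℤ) ∣ ((q - 1 : ℕ) : ℤ) := by
        rw [Nat.cast_sub hq.one_le]
        simpa using dvd_neg.2 hmod
      have := Nat.le_of_dvd (by have := hq.two_le; omega) (Int.natCast_dvd_natCast.1 hd)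
      have := hq.two_le; omega
    · rw [e] at hmod
      have hd : (p : ℤ) ∣ ((q + 1 : ℕ) : ℤ) := by
        push_cast
        have := dvd_neg.2 hmod
        simpa [neg_sub, sub_neg_eq_add] using this
      have hle := Nat.le_of_dvd (Nat.succ_pos q) (Int.natCast_dvd_natCast.1 hd)
      rcases Nat.lt_or_ge q p with hlt | hge
      · have hpq : q + 1 = p := by omega
        obtain ⟨u, hu⟩ := hq.odd_of_ne_two hq2
        obtain ⟨v, hv⟩ := hpp.odd_of_ne_two hp2
        omega
      · have hpq : q = p := by omega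
        rw [hpq] at hd
        have h2 := (Nat.dvd_add_right (dvd_refl p)).1 (Int.natCast_dvd_natCast.1 hd)
        exact hpp.not_dvd_one h2
  have he : Nat.card X ≤ 1 := by
    haveI : Subsingleton X := ⟨fun a b => Subtype.ext ((hXsub a a.2).trans (hXsub b b.2).symm)⟩
    exact Finite.card_le_one_iff_subsingleton.2 inferInstance
  rw [hX] at he
  have hNC : Subgroup.normalizer ((P : Subgroup G) : Set G) ≤ Subgroup.centralizer ((P : Subgroup G) : Set G) := by
    rw [← Subgroup.relIndex_eq_one]
    have : (Subgroup.centralizer ((P : Subgroup G) : Set G)).relIndex (Subgroup.normalizer ((P : Subgroup G) : Set G)) ≠ 0 :=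
      Subgroup.index_ne_zero_of_finite
    omega
  have hK := MonoidHom.ker_transferSylow_isComplement' P hNC
  rcases IsSimpleGroup.eq_bot_or_eq_top_of_normal (MonoidHom.transferSylow P hNC).ker inferInstance with e | e
  · rw [e] at hK
    have hPtop : (P : Subgroup G) = ⊤ := Subgroup.isComplement'_bot_left.1 hK
    exact hab fun x y => congrArg Subtype.val (hPab ⟨x, hPtop ▸ Subgroup.mem_top x⟩ ⟨y, hPtop ▸ Subgroup.mem_top y⟩)
  · rw [e] at hK
    have hPbot : (P : Subgroup G) = ⊥ := Subgroup.isComplement'_top_left.1 hK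
    rw [hPbot, Subgroup.card_bot] at hPp
    exact hpp.one_lt.ne hPp

/-- Degrees of constituents divide. -/
theorem deg_dvd_over {G : Type u} [Group G] [Fintype G] (N : Subgroup G) [N.Normal] [Fintype N] {θ : N → ℂ}
    (hθ : Cfsg.IsIrrCharacter N θ) : ∃ χ : G → ℂ, Cfsg.IsIrrCharacter G χ ∧ deg θ ∣ deg χ := by
  obtain ⟨χ, hχ, hc⟩ := exists_over N hθ
  obtain ⟨m, hm, -⟩ := deg_over N hχ hθ hc
  exact ⟨χ, hχ, hm ▸ dvd_mul_left _ m⟩

/-- **Prime degrees: solvable.** -/
theorem isSolvable_prime_degrees : ∀ (n : ℕ) (G : Type u) [Group G] [Fintype G], Nat.card G = n →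
    (∀ χ : G → ℂ, Cfsg.IsIrrCharacter G χ → deg χ = 1 ∨ (deg χ).Prime) → Group.IsSolvable G := by
  intro n
  induction n using Nat.strong_induction_on with
  | _ n ih =>
  intro G _ _ hn h
  classical
  rcases subsingleton_or_nontrivial G with hsub | hnt
  · infer_instance
  by_cases hsimple : IsSimpleGroup G
  · exact Group.isSolvable_of_comm (comm_of_simple_prime_degrees G h)
  obtain ⟨H, hH, hbot, htop⟩ : ∃ H : Subgroup G, H.Normal ∧ H ≠ ⊥ ∧ H ≠ ⊤ := by
    by_contra h'
    push Not at h'
    exact hsimple ⟨fun H hH => or_iff_not_imp_left.mpr (h' H hH)⟩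
  letI : Fintype H := Fintype.ofFinite H
  letI : Fintype (G ⧸ H) := Fintype.ofFinite _
  have hlt1 : Nat.card H < n := by
    rw [← hn]
    exact lt_of_le_of_ne (Subgroup.card_le_card_group H) fun e => htop (Subgroup.eq_top_of_card_eq H e)
  have hlt2 : Nat.card (G ⧸ H) < n := by
    rw [← hn, Subgroup.card_eq_card_quotient_mul_card_subgroup H]
    exact lt_mul_of_one_lt_right Nat.card_pos ((Subgroup.one_lt_card_iff_ne_bot H).mpr hbot)
  have := ih _ hlt1 H rfl fun θ hθ => by
    obtain ⟨χ, hχ, hd⟩ := deg_dvd_over H hθ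
    rcases h χ hχ with h1 | h1
    · exact Or.inl (Nat.dvd_one.1 (h1 ▸ hd))
    · rcases (Nat.dvd_prime h1).1 hd with h2 | h2
      · exact Or.inl h2
      · exact Or.inr (h2 ▸ h1)
  have := ih _ hlt2 (G ⧸ H) rfl fun θ hθ => by
    obtain ⟨hi, hd, -⟩ := irr_quotient H hθ
    rw [← hd]; exact h _ hi
  exact Group.isSolvable_of_ker_le_range (G' := H) H.subtype (QuotientGroup.mk' H) (by simp)

end Cfsg.Lib.Chars
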