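import Cfsg.Agent.Chars.Extraspecial
import Cfsg.Agent.Chars.Values
import Cfsg.Agent.PGroups.Basic
import Mathlib

/-!
# The subgroup of elements central modulo a kernel, and the degree of a character vanishing off it
-/

set_option linter.unusedSectionVars false

namespace Cfsg.Lib.Chars

open scoped ComplexConjugate commutatorElement

universe u

variable {P : Type u} [Group P] [Finite P]

/-- The elements that are central modulo `K`. -/
def centralMod (K : Subgroup P) [K.Normal] : Subgroup P :=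
  (Subgroup.center (P ⧸ K)).comap (QuotientGroup.mk' K)

instance centralMod_normal (K : Subgroup P) [K.Normal] : (centralMod K).Normal :=
  inferInstanceAs ((Subgroup.center (P ⧸ K)).comap (QuotientGroup.mk' K)).Normal

theorem mem_centralMod {K : Subgroup P} [K.Normal] {g : P} :
    g ∈ centralMod K ↔ ∀ h : P, ⁅g, h⁆ ∈ K := by
  rw [centralMod, Subgroup.mem_comap, Subgroup.mem_center_iff]
  constructor
  · intro H h
    rw [← QuotientGroup.eq_one_iff, ← QuotientGroup.mk'_apply, map_commutatorElement,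
      commutatorElement_eq_one_iff_mul_comm]
    exact (H _).symm
  · intro H q
    obtain ⟨h, rfl⟩ := QuotientGroup.mk'_surjective K q
    have := (QuotientGroup.eq_one_iff _).2 (H h)
    rw [← QuotientGroup.mk'_apply, map_commutatorElement,
      commutatorElement_eq_one_iff_mul_comm] at this
    exact this.symm

theorem le_centralMod (K : Subgroup P) [K.Normal] : K ≤ centralMod K := fun k hk => by
  rw [centralMod, Subgroup.mem_comap, QuotientGroup.mk'_apply, (QuotientGroup.eq_one_iff k).2 hk]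
  exact one_mem _

theorem centralMod_mono {K L : Subgroup P} [K.Normal] [L.Normal] (h : L ≤ K) :
    centralMod L ≤ centralMod K := fun _ hg =>
  mem_centralMod.2 fun x => h (mem_centralMod.1 hg x)

variable {χ : P → ℂ}

theorem scalar_mul (hχ : Cfsg.IsIrrCharacter P χ) {K : Subgroup P} [K.Normal]
    (hK : ∀ k ∈ K, χ k = χ 1) {g : P} (hg : g ∈ centralMod K) (x : P) :
    χ (g * x) * χ 1 = χ g * χ x := by
  obtain ⟨χ', hχ', hfac⟩ := exists_factor (QuotientGroup.mk' K) (QuotientGroup.mk'_surjective _)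
    (isCharacter_of_irr hχ) (fun k hk => hK k (by rwa [QuotientGroup.ker_mk'] at hk))
  have hirr : Cfsg.IsIrrCharacter (P ⧸ K) χ' :=
    IsIrrCharacter.descend hχ' (QuotientGroup.mk' K) (QuotientGroup.mk'_surjective _) (hfac ▸ hχ)
  have h := center_mul_of_irr hirr (z := QuotientGroup.mk' K g) hg (QuotientGroup.mk' K x)
  rw [← map_mul, ← map_one (QuotientGroup.mk' K)] at h
  subst hfac
  exact h

theorem conj_mul_self (hχ : Cfsg.IsIrrCharacter P χ) {K : Subgroup P} [K.Normal]
    (hK : ∀ k ∈ K, χ k = χ 1) {g : P} (hg : g ∈ centralMod K) :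
    χ g * conj (χ g) = (deg χ : ℂ) * deg χ := by
  have h := scalar_mul hχ hK hg g⁻¹
  rw [mul_inv_cancel, IsCharacter.conj_inv (isCharacter_of_irr hχ),
    IsCharacter.apply_one_eq_deg (isCharacter_of_irr hχ)] at h
  exact h.symm

/-- A commutator acting as a nontrivial scalar forces the value zero. -/
theorem eq_zero_of_commutator (hχ : Cfsg.IsIrrCharacter P χ) {K : Subgroup P} [K.Normal]
    (hK : ∀ k ∈ K, χ k = χ 1) {g h : P} (hc : ⁅h, g⁆ ∈ centralMod K) (hne : χ ⁅h, g⁆ ≠ χ 1) :
    χ g = 0 := by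
  have h1 := scalar_mul hχ hK hc g
  rw [show ⁅h, g⁆ * g = h * g * h⁻¹ by simp [commutatorElement_def],
    isClassFunction_isChar (isCharacter_of_irr hχ) g h] at h1
  have h2 : (χ 1 - χ ⁅h, g⁆) * χ g = 0 := by rw [sub_mul, ← h1]; ring
  exact (mul_eq_zero.1 h2).resolve_left (sub_ne_zero.2 (Ne.symm hne))

theorem deg_sq_mul_card_le (hχ : Cfsg.IsIrrCharacter P χ) (H : Subgroup P)
    (hH : ∀ h ∈ H, χ h * conj (χ h) = (deg χ : ℂ) * deg χ) :
    deg χ ^ 2 * Nat.card H ≤ Nat.card P := by
  classical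
  haveI := Fintype.ofFinite P
  have h := classInner_self_irr hχ
  rw [classInner_self, Complex.ofReal_eq_one,
    inv_mul_eq_one₀ (Nat.cast_ne_zero.2 Nat.card_pos.ne')] at h
  have hle : ∑ g ∈ Finset.univ.filter (fun g => g ∈ H), ‖χ g‖ ^ 2 ≤ ∑ g : P, ‖χ g‖ ^ 2 :=
    Finset.sum_le_sum_of_subset_of_nonneg (Finset.subset_univ _) fun _ _ _ => by positivity
  rw [← h, Finset.sum_congr rfl (g := fun _ => ((deg χ ^ 2 : ℕ) : ℝ)) fun g hg => by
    have := hH g (Finset.mem_filter.1 hg).2
    rw [Complex.mul_conj, Complex.normSq_eq_norm_sq, ← Nat.cast_mul] at this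
    rw [pow_two (deg χ)]
    exact_mod_cast this, Finset.sum_const, nsmul_eq_mul, ← Fintype.card_subtype,
    ← Nat.card_eq_fintype_card, mul_comm] at hle
  exact_mod_cast hle

theorem deg_sq_mul_card_eq (hχ : Cfsg.IsIrrCharacter P χ) (H : Subgroup P)
    (hH : ∀ h ∈ H, χ h * conj (χ h) = (deg χ : ℂ) * deg χ) (hout : ∀ g ∉ H, χ g = 0) :
    deg χ ^ 2 * Nat.card H = Nat.card P := by
  classical
  haveI := Fintype.ofFinite P
  have h := classInner_self_irr hχ
  rw [classInner_self, Complex.ofReal_eq_one,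
    inv_mul_eq_one₀ (Nat.cast_ne_zero.2 Nat.card_pos.ne'),
    ← Finset.sum_subset (Finset.subset_univ (Finset.univ.filter (fun g => g ∈ H)))
      (fun g _ hg => by
        rw [hout g (fun hh => hg (Finset.mem_filter.2 ⟨Finset.mem_univ g, hh⟩)), norm_zero]
        norm_num),
    Finset.sum_congr rfl (g := fun _ => ((deg χ ^ 2 : ℕ) : ℝ)) fun g hg => by
      have := hH g (Finset.mem_filter.1 hg).2
      rw [Complex.mul_conj, Complex.normSq_eq_norm_sq, ← Nat.cast_mul] at this
      rw [pow_two (deg χ)]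
      exact_mod_cast this, Finset.sum_const, nsmul_eq_mul, ← Fintype.card_subtype,
    ← Nat.card_eq_fintype_card, mul_comm] at h
  exact_mod_cast h.symm

/-- If commutators act as scalars, then the degree squared is the index of the scalar subgroup. -/
theorem deg_sq_of_commutator_le (hχ : Cfsg.IsIrrCharacter P χ) {K : Subgroup P} [K.Normal]
    (hK : ∀ k, χ k = χ 1 ↔ k ∈ K) (hc : commutator P ≤ centralMod K) :
    deg χ ^ 2 * Nat.card (centralMod K) = Nat.card P := by
  refine deg_sq_mul_card_eq hχ _ (fun g hg => conj_mul_self hχ (fun k hk => (hK k).2 hk) hg)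
    fun g hg => ?_
  rw [mem_centralMod] at hg
  push Not at hg
  obtain ⟨h, hh⟩ := hg
  refine eq_zero_of_commutator hχ (fun k hk => (hK k).2 hk) (h := h)
    (hc (Subgroup.commutator_mem_commutator (Subgroup.mem_top h) (Subgroup.mem_top g))) fun e => hh ?_
  have := (hK _).1 e
  rw [← commutatorElement_inv]
  exact K.inv_mem this

/-- The scalar subgroup of an irreducible character is cyclic modulo the kernel. -/
theorem exists_generator_centralMod (hχ : Cfsg.IsIrrCharacter P χ) {K : Subgroup P} [K.Normal]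
    (hK : ∀ k, χ k = χ 1 ↔ k ∈ K) :
    ∃ z ∈ centralMod K, ∀ g ∈ centralMod K, ∃ i : ℕ, (z ^ i)⁻¹ * g ∈ K := by
  have hd : χ 1 ≠ 0 := IsIrrCharacter.apply_one_ne_zero hχ
  let f : centralMod K →* ℂ :=
    { toFun := fun g => χ (g : P) / χ 1
      map_one' := div_self hd
      map_mul' := fun a b => by
        show χ ((a : P) * b) / χ 1 = χ a / χ 1 * (χ b / χ 1)
        rw [div_mul_div_comm, ← scalar_mul hχ (fun k hk => (hK k).2 hk) a.2 b,
          mul_div_mul_right _ _ hd] }
  haveI : Finite f.toHomUnits.range :=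
    Finite.of_surjective f.toHomUnits.rangeRestrict f.toHomUnits.rangeRestrict_surjective
  haveI : IsCyclic f.toHomUnits.range := isCyclic_of_subgroup_isDomain
    (f := (Units.coeHom ℂ).comp f.toHomUnits.range.subtype)
    (by intro a b h; exact Subtype.ext (Units.ext h))
  obtain ⟨⟨_, z, rfl⟩, hgen⟩ := IsCyclic.exists_monoid_generator (α := f.toHomUnits.range)
  refine ⟨z, z.2, fun g hg => ?_⟩
  obtain ⟨i, hi⟩ := Submonoid.mem_powers_iff _ _ |>.1 (hgen ⟨f.toHomUnits ⟨g, hg⟩, ⟨g, hg⟩, rfl⟩)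
  refine ⟨i, (hK _).1 ?_⟩
  have h1 : f.toHomUnits (z ^ i) = f.toHomUnits ⟨g, hg⟩ := by
    rw [map_pow]; exact congrArg Subtype.val hi
  have h2 : f ((z ^ i)⁻¹ * ⟨g, hg⟩) = 1 := by
    have : f.toHomUnits ((z ^ i)⁻¹ * ⟨g, hg⟩) = 1 := by rw [map_mul, map_inv, h1, inv_mul_cancel]
    simpa using congrArg Units.val this
  exact (div_eq_one_iff_eq hd).1 h2

/-- An irreducible character separating an element from a normal subgroup. -/
theorem exists_irr_separating (L : Subgroup P) [L.Normal] {m : P} (hm : m ∉ L) :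
    ∃ χ : Cfsg.IrrCharacter P, (∀ l ∈ L, (χ : P → ℂ) l = (χ : P → ℂ) 1) ∧
      (χ : P → ℂ) m ≠ (χ : P → ℂ) 1 := by
  have h : ¬ IsConj (QuotientGroup.mk' L m) 1 := fun h =>
    hm ((QuotientGroup.eq_one_iff m).1 (isConj_one_left.1 h))
  rw [isConj_iff_forall_irr] at h
  push Not at h
  obtain ⟨χ', hχ'⟩ := h
  refine ⟨⟨fun x => (χ' : P ⧸ L → ℂ) (QuotientGroup.mk' L x),
    IsIrrCharacter.comp_surjective χ'.2 _ (QuotientGroup.mk'_surjective L)⟩, fun l hl => ?_, ?_⟩
  · show (χ' : P ⧸ L → ℂ) (QuotientGroup.mk' L l) = (χ' : P ⧸ L → ℂ) (QuotientGroup.mk' L 1)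
    rw [map_one, show QuotientGroup.mk' L l = 1 from (QuotientGroup.eq_one_iff l).2 hl]
  · show (χ' : P ⧸ L → ℂ) (QuotientGroup.mk' L m) ≠ (χ' : P ⧸ L → ℂ) (QuotientGroup.mk' L 1)
    rwa [map_one]

end Cfsg.Lib.Chars
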