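import Mathlib
import Cfsg.Agent.Chars.DegreeTools
import Cfsg.Agent.Chars.ScalarVanish
import Cfsg.Agent.Chars.PrimeDegrees

/-!
# Groups whose character degrees are bounded

Tools for the theorem that a group with all degrees at most `b` has an abelian subgroup of index
at most `(b!)²`.
-/

set_option autoImplicit false
set_option linter.unusedSectionVars false

namespace Cfsg.Lib.Chars

open scoped ComplexConjugate commutatorElement

universe u

/-- All irreducible character degrees are at most `b`. -/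
def DegLE (G : Type u) [Group G] (b : ℕ) : Prop :=
  ∀ χ : G → ℂ, Cfsg.IsIrrCharacter G χ → deg χ ≤ b

variable {G : Type u} [Group G] [Fintype G]

theorem deg_restrict {χ : G → ℂ} (hχ : Cfsg.IsCharacter G χ) (H : Subgroup G) [Fintype H] :
    deg (fun x : H => χ x) = deg χ := by
  apply Nat.cast_injective (R := ℂ)
  rw [← IsCharacter.apply_one_eq_deg (IsCharacter.restrict hχ H), ← IsCharacter.apply_one_eq_deg hχ]
  rfl

theorem norm_irr_le {χ : G → ℂ} (hχ : Cfsg.IsIrrCharacter G χ) (g : G) : ‖χ g‖ ≤ (deg χ : ℝ) := by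
  obtain ⟨n, ρ, -, rfl⟩ := hχ
  rw [deg_character]
  exact norm_character_le ρ g

theorem DegLE.subgroup {b : ℕ} (hb : DegLE G b) (H : Subgroup G) [Fintype H] : DegLE H b := by
  intro ψ hψ
  obtain ⟨χ, hχ, hc⟩ := exists_constituent_ind H hψ
  have hle := (constituent_le (IsCharacter.restrict (isCharacter_of_irr hχ) H) hψ hc).1
  rw [deg_restrict (isCharacter_of_irr hχ)] at hle
  exact hle.trans (hb χ hχ)

theorem DegLE.quotient {b : ℕ} (hb : DegLE G b) {Q : Type u} [Group Q] [Fintype Q] (π : G →* Q)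
    (hπ : Function.Surjective π) : DegLE Q b := by
  intro ψ hψ
  have h := IsIrrCharacter.comp_surjective hψ π hπ
  have e : deg (fun x => ψ (π x)) = deg ψ := Nat.cast_injective (R := ℂ) (by
    rw [← IsCharacter.apply_one_eq_deg (isCharacter_of_irr h), ← IsCharacter.apply_one_eq_deg (isCharacter_of_irr hψ),
      map_one])
  exact e ▸ hb _ h

/-- A character of largest degree of a subgroup is a restriction. -/
theorem restrict_eq_of_top_degree {b : ℕ} (hb : DegLE G b) (H : Subgroup G) [Fintype H] {ψ : H → ℂ}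
    (hψ : Cfsg.IsIrrCharacter H ψ) (hd : deg ψ = b) {χ : G → ℂ} (hχ : Cfsg.IsIrrCharacter G χ)
    (hc : Cfsg.classInner (fun x : H => χ x) ψ ≠ 0) : (fun x : H => χ x) = ψ := by
  refine (constituent_le (IsCharacter.restrict (isCharacter_of_irr hχ) H) hψ hc).2 ?_
  rw [deg_restrict (isCharacter_of_irr hχ), hd]
  exact hb χ hχ

/-- A character of largest degree of a subgroup vanishes outside the core. -/
theorem vanish_outside_core {b : ℕ} (hb : DegLE G b) (H : Subgroup G) [Fintype H] {ψ : H → ℂ}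
    (hψ : Cfsg.IsIrrCharacter H ψ) (hd : deg ψ = b) (h : H) (hne : ψ h ≠ 0) :
    (h : G) ∈ H.normalCore := by
  classical
  obtain ⟨m, hm, hinner, -⟩ := exists_degree_decomp (IsCharacter.indFun (G := G) (isCharacter_of_irr hψ))
  have hres : ∀ φ : Cfsg.IrrCharacter G, m φ ≠ 0 → (fun x : H => (φ : G → ℂ) x) = ψ := fun φ hφ => by
    refine restrict_eq_of_top_degree hb H hψ hd φ.2 fun h0 => hφ ?_
    have h1 := hinner φ
    rw [frobenius_reciprocity H ψ (isClassFunction_irr φ), ← classInner_conj_symm, h0, map_zero] at h1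
    exact_mod_cast h1.symm
  have hval : ∀ x : H, Cfsg.indFun H ψ (x : G) = (∑ φ, (m φ : ℂ)) * ψ x := fun x => by
    rw [congrFun hm (x : G), Finset.sum_mul]
    refine Finset.sum_congr rfl fun φ _ => ?_
    by_cases hφ : m φ = 0
    · simp [hφ]
    · rw [← congrFun (hres φ hφ) x]
  have hsum : ∑ φ, (m φ : ℂ) = (H.index : ℂ) := by
    have h1 := hval 1
    rw [Subgroup.coe_one, indFun_one] at h1
    exact (mul_right_cancel₀ (IsIrrCharacter.apply_one_ne_zero hψ) h1).symm
  obtain ⟨φ₀, hφ₀⟩ : ∃ φ, m φ ≠ 0 := by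
    by_contra h0
    push Not at h0
    simp only [h0, Nat.cast_zero, Finset.sum_const_zero] at hsum
    exact H.index_ne_zero_of_finite (by exact_mod_cast hsum.symm)
  have hext : ∀ x : G, Cfsg.extendByZero H ψ (x⁻¹ * h * x) = if x⁻¹ * h * x ∈ H then ψ h else 0 := by
    intro x
    split_ifs with hx
    · rw [extendByZero_mem ψ hx, ← congrFun (hres φ₀ hφ₀) ⟨_, hx⟩, ← congrFun (hres φ₀ hφ₀) h]
      simpa using isClassFunction_irr φ₀ (h : G) x⁻¹
    · rw [extendByZero_not_mem _ hx]
  have h1 := hval h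
  rw [hsum, indFun_apply, Finset.sum_congr rfl (fun x _ => hext x), ← Finset.sum_filter, Finset.sum_const,
    nsmul_eq_mul, inv_mul_eq_iff_eq_mul₀ (by exact_mod_cast Nat.card_pos.ne'), ← mul_assoc, ← Nat.cast_mul,
    Subgroup.card_mul_index, Nat.card_eq_fintype_card] at h1
  have h2 := mul_right_cancel₀ hne h1
  have hall : (Finset.univ.filter fun x : G => x⁻¹ * h * x ∈ H) = Finset.univ := by
    rw [← Finset.card_eq_iff_eq_univ]
    exact_mod_cast h2
  intro g
  have := Finset.mem_univ g⁻¹
  rw [← hall, Finset.mem_filter] at this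
  simpa using this.2

/-- Second moment of a character vanishing outside a subgroup. -/
theorem card_le_of_vanish {χ : G → ℂ} (hχ : Cfsg.IsIrrCharacter G χ) (N : Subgroup G)
    (h : ∀ g, χ g ≠ 0 → g ∈ N) : Nat.card G ≤ Nat.card N * deg χ ^ 2 := by
  classical
  have h1 := classInner_self_irr hχ
  rw [classInner_self, Complex.ofReal_eq_one, inv_mul_eq_one₀ (Nat.cast_ne_zero.2 Nat.card_pos.ne')] at h1
  have h2 : ∑ g : G, ‖χ g‖ ^ 2 ≤ ∑ _g ∈ Finset.univ.filter (fun g => g ∈ N), ((deg χ : ℝ)) ^ 2 := by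
    rw [← Finset.sum_filter_add_sum_filter_not Finset.univ (fun g => g ∈ N),
      Finset.sum_eq_zero (s := Finset.univ.filter (fun g => ¬ g ∈ N)) fun g hg => by
        rw [not_not.1 fun h0 => (Finset.mem_filter.1 hg).2 (h g h0), norm_zero]
        norm_num, add_zero]
    exact Finset.sum_le_sum fun g _ => pow_le_pow_left₀ (norm_nonneg _) (norm_irr_le hχ g) 2
  rw [← h1, Finset.sum_const, nsmul_eq_mul, ← Fintype.card_subtype, ← Nat.card_eq_fintype_card] at h2
  exact_mod_cast h2

/-- The trace of an element of order two with trivial determinant. -/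
theorem involution_value {n : ℕ} (ρ : Representation ℂ G (Fin n → ℂ)) {t : G} (ht : t ^ 2 = 1)
    (hdet : LinearMap.det (ρ t) = 1) :
    ∃ c : ℕ, 2 * c ≤ n ∧ ρ.character t = (n : ℂ) - 4 * c := by
  classical
  have hpm : ∀ z ∈ eigs ρ t, z = 1 ∨ z = -1 := fun z hz => by
    have := pow_eq_one_of_mem_eigs ρ ht hz
    exact sq_eq_one_iff.1 this
  have hs : ∀ s : Multiset ℂ, (∀ z ∈ s, z = 1 ∨ z = -1) →
      ∃ a b : ℕ, a + b = Multiset.card s ∧ s.sum = (a : ℂ) - b ∧ s.prod = (-1) ^ b := by
    intro s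
    induction s using Multiset.induction with
    | empty => exact fun _ => ⟨0, 0, by simp, by simp, by simp⟩
    | cons z s ih =>
      intro h
      obtain ⟨a, b, h1, h2, h3⟩ := ih fun w hw => h w (Multiset.mem_cons_of_mem hw)
      rcases h z (Multiset.mem_cons_self z s) with rfl | rfl
      · refine ⟨a + 1, b, by rw [Multiset.card_cons]; omega, ?_, ?_⟩
        · rw [Multiset.sum_cons, h2]; push_cast; ring
        · rw [Multiset.prod_cons, h3, one_mul]
      · refine ⟨a, b + 1, by rw [Multiset.card_cons]; omega, ?_, ?_⟩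
        · rw [Multiset.sum_cons, h2]; push_cast; ring
        · rw [Multiset.prod_cons, h3, pow_succ, mul_comm]
  obtain ⟨a, b, h1, h2, h3⟩ := hs _ hpm
  rw [card_eigs, Module.finrank_fin_fun] at h1
  have hb : Even b := by
    rw [← neg_one_pow_eq_one_iff_even (R := ℂ) (by norm_num), ← h3, ← hdet,
      Module.End.det_eq_prod_roots_charpoly_of_splits (IsAlgClosed.splits _)]
    rfl
  obtain ⟨c, rfl⟩ := hb
  refine ⟨c, by omega, ?_⟩
  rw [character_eq_sum_eigs, h2, ← h1]
  push_cast
  ring

/-- A simple group with all degrees at most four is abelian. -/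
theorem comm_of_simple_degLE_four [IsSimpleGroup G] (h : DegLE G 4) : ∀ x y : G, x * y = y * x := by
  classical
  by_contra hab
  have hcenter : Subgroup.center G = ⊥ :=
    (IsSimpleGroup.eq_bot_or_eq_top_of_normal (Subgroup.center G) inferInstance).resolve_right fun h =>
      hab fun x y => (Subgroup.mem_center_iff.1 (h ▸ Subgroup.mem_top x : x ∈ Subgroup.center G) y).symm
  have hhom : ∀ f : G →* ℂˣ, f = 1 := fun f => by
    rcases IsSimpleGroup.eq_bot_or_eq_top_of_normal f.ker inferInstance with h | h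
    · exact absurd (fun x y => (MonoidHom.ker_eq_bot_iff f).1 h (by rw [map_mul, map_mul, mul_comm])) hab
    · exact MonoidHom.ker_eq_top_iff.1 h
  have hlin : ∀ χ : Cfsg.IrrCharacter G, deg (χ : G → ℂ) = 1 → (χ : G → ℂ) = fun _ => 1 := fun χ hd => by
    obtain ⟨f, hf⟩ := exists_hom_of_deg_one (isCharacter_of_irr χ.2)
      (by rw [IsCharacter.apply_one_eq_deg (isCharacter_of_irr χ.2), hd, Nat.cast_one])
    rw [hf]
    simp [hhom f]
  have hdets : ∀ {n : ℕ} (ρ : Representation ℂ G (Fin n → ℂ)) (g : G), LinearMap.det (ρ g) = 1 := by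
    intro n ρ g
    exact congrArg Units.val (DFunLike.congr_fun
      (hhom ((Units.map (LinearMap.det (A := ℂ) (M := Fin n → ℂ))).comp ρ.toHomUnits)) g)
  let one : Cfsg.IrrCharacter G := ⟨fun _ => 1, isIrrCharacter_one⟩
  -- a nontrivial irreducible character
  obtain ⟨χ₁, hχ₁⟩ : ∃ χ : Cfsg.IrrCharacter G, deg (χ : G → ℂ) ≠ 1 := by
    by_contra h0
    push Not at h0
    exact hab fun x y => mul_comm_of_all_linear (fun χ => by rw [irr_apply_one_eq_deg, h0 χ, Nat.cast_one]) x y
  -- the order is even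
  have h2G : 2 ∣ Nat.card G := by
    by_contra hodd
    have h3 : ∀ χ : Cfsg.IrrCharacter G, deg (χ : G → ℂ) = 1 ∨ deg (χ : G → ℂ) = 3 := fun χ => by
      have h1 := deg_irr_pos χ
      have h4 := h _ χ.2
      have hd := IsIrrCharacter.deg_dvd χ.2
      generalize deg (χ : G → ℂ) = d at h1 h4 hd
      interval_cases d
      · left; rfl
      · exact absurd hd hodd
      · right; rfl
      · exact absurd ((show 2 ∣ 4 by norm_num).trans hd) hodd
    have h3G : 3 ∣ Nat.card G := (h3 χ₁).resolve_left hχ₁ ▸ IsIrrCharacter.deg_dvd χ₁.2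
    rw [← sum_deg_sq_nat, ← Finset.add_sum_erase _ _ (Finset.mem_univ one)] at h3G
    have h3r : 3 ∣ ∑ χ ∈ Finset.univ.erase one, deg (χ : G → ℂ) ^ 2 := Finset.dvd_sum fun χ hχ => by
      rcases h3 χ with h1 | h1
      · exact absurd (Subtype.ext (hlin χ h1) : χ = one) (Finset.ne_of_mem_erase hχ)
      · rw [h1]; norm_num
    have h1 : deg (one : G → ℂ) = 1 := Nat.cast_injective (R := ℂ) (by
      rw [← irr_apply_one_eq_deg one, Nat.cast_one])
    rw [h1, one_pow] at h3G
    omega
  haveI := Fact.mk Nat.prime_two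
  obtain ⟨t, ht⟩ := exists_prime_orderOf_dvd_card' (G := G) 2 h2G
  have ht2 : t ^ 2 = 1 := ht ▸ pow_orderOf_eq_one t
  have ht1 : t ≠ 1 := fun e => by rw [e, orderOf_one] at ht; omega
  have hnorm : ∀ χ : Cfsg.IrrCharacter G, deg (χ : G → ℂ) ≠ 1 → ‖(χ : G → ℂ) t‖ ≠ (deg (χ : G → ℂ) : ℝ) := by
    intro χ hd hn
    obtain ⟨n, ρ, hρ, hρc⟩ := χ.2
    rw [← hρc, deg_character] at hn hd
    obtain ⟨ω, hω, -⟩ := scalar_of_norm_character_eq ρ t hn
    have hker : ρ.ker = ⊥ := by
      refine (IsSimpleGroup.eq_bot_or_eq_top_of_normal ρ.ker inferInstance).resolve_right fun htop => hd ?_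
      have h1 := deg_dvd_index_of_le_ker (hρc ▸ χ.2) (⊤ : Subgroup G) fun a _ => by
        rw [Representation.character, Representation.character, show ρ a = 1 from (htop ▸ Subgroup.mem_top a : a ∈ ρ.ker),
          map_one ρ]
      rw [Subgroup.index_top, Nat.dvd_one, deg_character] at h1
      exact h1
    have : t ∈ Subgroup.center G := by
      rw [Subgroup.mem_center_iff]
      intro x
      apply (MonoidHom.ker_eq_bot_iff ρ).1 hker
      rw [map_mul, map_mul, hω]
      ext v
      simp
    rw [hcenter, Subgroup.mem_bot] at this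
    exact ht1 this
  have hdiv : ∀ χ ∈ Finset.univ.erase one, ∃ k : ℤ, (χ : G → ℂ) 1 * conj ((χ : G → ℂ) t) = 3 * (k : ℂ) := by
    intro χ hχ
    have hd1 : deg (χ : G → ℂ) ≠ 1 := fun h1 => Finset.ne_of_mem_erase hχ (Subtype.ext (hlin χ h1))
    have hn := hnorm χ hd1
    have h4 := h _ χ.2
    have h0 := deg_irr_pos χ
    obtain ⟨n, ρ, hρ, hρc⟩ := id χ.2
    obtain ⟨c, hc, hval⟩ := involution_value ρ ht2 (hdets ρ t)
    have hdn : deg (χ : G → ℂ) = n := by rw [← hρc, deg_character, Module.finrank_fin_fun]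
    rw [hρc] at hval
    rw [irr_apply_one_eq_deg, hval, hdn, map_sub, map_mul, Complex.conj_natCast, Complex.conj_natCast, map_ofNat]
    rw [hdn, hval] at hn
    rw [hdn] at hd1 h4 h0
    have hc2 : c ≤ 2 := by omega
    interval_cases n <;> interval_cases c <;> first
      | omega
      | (refine ⟨-1, ?_⟩; norm_num; done)
      | (refine ⟨0, ?_⟩; norm_num; done)
      | (exfalso; apply hn; norm_num; done)
  have horth := second_orthogonality (1 : G) t
  rw [if_neg (fun hc => ht1 (isConj_one_right.1 hc)), ← Finset.add_sum_erase _ _ (Finset.mem_univ one)] at horth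
  choose! k hk using hdiv
  rw [Finset.sum_congr rfl hk, ← Finset.mul_sum, ← Int.cast_sum] at horth
  have h1 : (1 : ℂ) * conj (1 : ℂ) + 3 * ((∑ χ ∈ Finset.univ.erase one, k χ : ℤ) : ℂ) = 0 := horth
  rw [map_one, one_mul] at h1
  have h5 : (1 : ℤ) + 3 * (∑ χ ∈ Finset.univ.erase one, k χ) = 0 := by exact_mod_cast h1
  omega

/-- Degrees at most four force solvability. -/
theorem isSolvable_of_degLE_four : ∀ (n : ℕ) (G : Type u) [Group G] [Fintype G], Nat.card G = n →
    DegLE G 4 → Group.IsSolvable G := by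
  intro n
  induction n using Nat.strong_induction_on with
  | _ n ih =>
  intro G _ _ hn hG
  classical
  by_cases hN : ∃ N : Subgroup G, N.Normal ∧ N ≠ ⊥ ∧ N ≠ ⊤
  · obtain ⟨N, hNn, hbot, htop⟩ := hN
    haveI := hNn
    haveI hNs : Group.IsSolvable N := by
      letI : Fintype N := Fintype.ofFinite _
      exact ih _ (hn ▸ lt_of_le_of_ne (Subgroup.card_le_card_group N) fun e => htop (Subgroup.eq_top_of_card_eq N e))
        N rfl (hG.subgroup N)
    haveI hQs : Group.IsSolvable (G ⧸ N) := by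
      letI : Fintype (G ⧸ N) := Fintype.ofFinite _
      refine ih _ ?_ (G ⧸ N) rfl (hG.quotient _ (QuotientGroup.mk'_surjective N))
      rw [← hn, Subgroup.card_eq_card_quotient_mul_card_subgroup N]
      exact lt_mul_of_one_lt_right Nat.card_pos (N.one_lt_card_iff_ne_bot.2 hbot)
    exact Group.isSolvable_of_ker_le_range (G' := N) N.subtype (QuotientGroup.mk' N) (by simp)
  · by_cases hnt : Nontrivial G
    · haveI : IsSimpleGroup G :=
        { eq_bot_or_eq_top_of_normal := fun N hN' => by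
            by_contra h0
            push Not at h0
            exact hN ⟨N, hN', h0.1, h0.2⟩ }
      exact Group.isSolvable_of_comm (comm_of_simple_degLE_four hG)
    · haveI := not_nontrivial_iff_subsingleton.1 hnt
      infer_instance

end Cfsg.Lib.Chars
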