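import Mathlib
import Cfsg.Agent.Chars.Perm
import Cfsg.Agent.Chars.DegreeTools
import Cfsg.Agent.Chars.LargestDegreeTools

/-!
# All degrees smaller than `p`

If every irreducible character degree is smaller than the prime `p`, the number of Sylow
`p`-subgroups is one, and they are abelian.
-/

set_option autoImplicit false
set_option linter.unusedSectionVars false

namespace Cfsg.Lib.Chars

open scoped ComplexConjugate

universe u

variable {G : Type u} [Group G] [Fintype G]

/-- The norm of a permutation character is the number of orbits on pairs. -/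
theorem classInner_permChar_self (X : Type u) [MulAction G X] [Finite X] :
    Cfsg.classInner (permChar G X) (permChar G X) =
      (Nat.card (MulAction.orbitRel.Quotient G (X × X)) : ℂ) := by
  classical
  rw [← classInner_permChar_one (G := G) (X × X), classInner_def, classInner_def]
  congr 1
  refine Finset.sum_congr rfl fun g _ => ?_
  rw [map_one, mul_one]
  show (Nat.card (MulAction.fixedBy X g) : ℂ) * conj (Nat.card (MulAction.fixedBy X g) : ℂ) =
    (Nat.card (MulAction.fixedBy (X × X) g) : ℂ)
  rw [Complex.conj_natCast, ← Nat.cast_mul, ← Nat.card_prod]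
  congr 1
  refine Nat.card_congr
    { toFun := fun y => ⟨(y.1.1, y.2.1), Prod.ext y.1.2 y.2.2⟩
      invFun := fun y => (⟨y.1.1, congrArg Prod.fst y.2⟩, ⟨y.1.2, congrArg Prod.snd y.2⟩)
      left_inv := fun _ => rfl
      right_inv := fun _ => rfl }

/-- All degrees below `p` give a unique Sylow `p`-subgroup. -/
theorem sylow_normal_of_degree_lt {p : ℕ} [hp : Fact p.Prime] (h : ∀ χ : G → ℂ, Cfsg.IsIrrCharacter G χ → deg χ < p)
    (P : Sylow p G) : (P : Subgroup G).Normal := by
  classical
  let X := Sylow p G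
  haveI : Fintype X := Fintype.ofFinite X
  set n := Nat.card X with hn
  have hπ := isCharacter_permChar (G := G) X
  obtain ⟨m, hm, hinner, -⟩ := exists_degree_decomp hπ
  let one : Cfsg.IrrCharacter G := ⟨fun _ => 1, isIrrCharacter_one⟩
  haveI : MulAction.IsPretransitive G X := inferInstance
  have hm1 : m one = 1 := by
    apply Nat.cast_injective (R := ℂ)
    rw [← hinner one]
    show Cfsg.classInner (permChar G X) (fun _ => 1) = _
    rw [classInner_permChar_one, Nat.cast_inj]
    haveI : Subsingleton (MulAction.orbitRel.Quotient G X) := ⟨fun a b => by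
      induction a using Quotient.inductionOn with
      | _ x =>
        induction b using Quotient.inductionOn with
        | _ y =>
          obtain ⟨g, hg⟩ := MulAction.exists_smul_eq G y x
          exact Quotient.sound ⟨g, hg⟩⟩
    haveI : Nonempty (MulAction.orbitRel.Quotient G X) := ⟨⟦P⟧⟩
    exact Nat.card_eq_one_iff_unique.2 ⟨inferInstance, inferInstance⟩
  have hone : (one : G → ℂ) 1 = 1 := rfl
  have hdeg : n = ∑ φ : Cfsg.IrrCharacter G, m φ * deg (φ : G → ℂ) := by
    apply Nat.cast_injective (R := ℂ)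
    have h1 : permChar G X 1 = (n : ℂ) := by
      show (Nat.card (MulAction.fixedBy X (1 : G)) : ℂ) = n
      rw [hn]
      congr 1
      exact Nat.card_congr (Equiv.subtypeUnivEquiv fun x => one_smul G x)
    rw [← h1, congrFun hm 1]
    push_cast
    simp [irr_apply_one_eq_deg]
  -- the orbits of `P`
  set N := Nat.card (MulAction.orbitRel.Quotient (P : Subgroup G) X) with hN
  have hnorm : ∑ φ : Cfsg.IrrCharacter G, m φ * m φ ≤ N := by
    have h1 := classInner_permChar_self (G := G) X
    have hF : permChar G X = ∑ φ : Cfsg.IrrCharacter G, (m φ : ℂ) • (φ : G → ℂ) := by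
      rw [hm]; funext g; simp [Finset.sum_apply]
    rw [hF, classInner_self_decomp] at h1
    simp only [Complex.conj_natCast] at h1
    have h2 : ∑ φ : Cfsg.IrrCharacter G, m φ * m φ = Nat.card (MulAction.orbitRel.Quotient G (X × X)) := by
      exact_mod_cast h1
    rw [h2, hN]
    let f : MulAction.orbitRel.Quotient (P : Subgroup G) X → MulAction.orbitRel.Quotient G (X × X) :=
      Quotient.map' (fun x => (P, x)) fun a b hab => by
        obtain ⟨g, hg⟩ := hab
        refine ⟨(g : G), Prod.ext ?_ hg⟩
        show (g : G) • P = P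
        exact Sylow.smul_eq_iff_mem_normalizer.2 (Subgroup.le_normalizer g.2)
    refine Nat.card_le_card_of_surjective f fun q => ?_
    induction q using Quotient.inductionOn with
    | _ y =>
      obtain ⟨g, hg⟩ := MulAction.exists_smul_eq G y.1 P
      exact ⟨Quotient.mk'' (g • y.2), Quotient.sound ⟨g, Prod.ext hg rfl⟩⟩
  have horb : (N - 1) * p + 1 ≤ n := by
    have hfix : ∀ Q : X, (∀ g : (P : Subgroup G), g • Q = Q) → Q = P := fun Q hQ => by
      refine Sylow.ext ?_
      have hPN : (P : Subgroup G) ≤ Subgroup.normalizer ((Q : Subgroup G) : Set G) := fun g hg =>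
        Sylow.smul_eq_iff_mem_normalizer.1 (hQ ⟨g, hg⟩)
      exact ((P.isPGroup'.to_sup_of_normal_right' Q.isPGroup' hPN) |> fun hPQ =>
        (P.3 hPQ le_sup_left) ▸ (Q.3 hPQ le_sup_right).symm)
    let orb : X → MulAction.orbitRel.Quotient (P : Subgroup G) X := Quotient.mk''
    haveI : Fintype (MulAction.orbitRel.Quotient (P : Subgroup G) X) := Fintype.ofFinite _
    have hsum : n = ∑ q : MulAction.orbitRel.Quotient (P : Subgroup G) X, Nat.card q.orbit := by
      rw [hn, Nat.card_congr (MulAction.selfEquivSigmaOrbits' (P : Subgroup G) X), Nat.card_sigma]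
    rw [hsum, ← Finset.add_sum_erase _ _ (Finset.mem_univ (orb P))]
    have hone' : 1 ≤ Nat.card (orb P).orbit := by
      haveI : Nonempty (orb P).orbit := ⟨⟨P, MulAction.orbitRel.Quotient.mem_orbit.2 rfl⟩⟩
      exact Nat.card_pos
    have hbig : ∀ q ∈ Finset.univ.erase (orb P), p ≤ Nat.card q.orbit := by
      intro q hq
      induction q using Quotient.inductionOn' with
      | _ Q =>
        rw [MulAction.orbitRel.Quotient.orbit_mk]
        obtain ⟨k, hk⟩ := P.isPGroup'.card_orbit Q
        rcases Nat.eq_zero_or_pos k with h0 | h0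
        · exfalso
          rw [h0, pow_zero, Nat.card_eq_one_iff_unique] at hk
          haveI := hk.1
          refine (Finset.ne_of_mem_erase hq) (congrArg orb (hfix Q fun g => ?_))
          exact congrArg Subtype.val (Subsingleton.elim
            (⟨g • Q, MulAction.mem_orbit Q g⟩ : MulAction.orbit (P : Subgroup G) Q) ⟨Q, MulAction.mem_orbit_self Q⟩)
        · rw [hk]; exact Nat.le_self_pow h0.ne' p
    have h3 := Finset.card_nsmul_le_sum _ _ p hbig
    rw [Finset.card_erase_of_mem (Finset.mem_univ _), Finset.card_univ, ← Nat.card_eq_fintype_card, ← hN,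
      smul_eq_mul] at h3
    omega
  rw [← Finset.add_sum_erase _ _ (Finset.mem_univ one), hm1] at hdeg hnorm
  have hd1 : deg (one : G → ℂ) = 1 := Nat.cast_injective (R := ℂ) (by
    rw [← irr_apply_one_eq_deg one, Nat.cast_one, hone])
  rw [hd1] at hdeg
  have hle : ∑ φ ∈ Finset.univ.erase one, m φ * deg (φ : G → ℂ) ≤ (p - 1) * ∑ φ ∈ Finset.univ.erase one, m φ * m φ := by
    rw [Finset.mul_sum]
    refine Finset.sum_le_sum fun φ _ => ?_
    have h1 : deg (φ : G → ℂ) ≤ p - 1 := by have := h _ φ.2; omega
    calc m φ * deg (φ : G → ℂ) ≤ (m φ * m φ) * (p - 1) := Nat.mul_le_mul (Nat.le_mul_self _) h1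
      _ = _ := mul_comm _ _
  set S₁ := ∑ φ ∈ Finset.univ.erase one, m φ * deg (φ : G → ℂ)
  set S₂ := ∑ φ ∈ Finset.univ.erase one, m φ * m φ
  have hp1 : 1 ≤ p := hp.out.one_le
  have h4 : S₂ ≤ N - 1 := by omega
  have h5 : (N - 1) * p ≤ (p - 1) * (N - 1) := by
    have := hle.trans (Nat.mul_le_mul_left _ h4)
    omega
  have h6 : N - 1 = 0 := by
    rcases Nat.eq_zero_or_pos (N - 1) with h0 | h0
    · exact h0
    · rw [mul_comm (p - 1)] at h5
      have := Nat.le_of_mul_le_mul_left h5 h0
      omega
  have hn1 : n = 1 := by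
    have : S₂ = 0 := by omega
    rw [this, mul_zero] at hle
    omega
  haveI : Subsingleton (Sylow p G) := (Nat.card_eq_one_iff_unique.1 hn1).1
  exact Sylow.normal_of_subsingleton P

/-- All degrees below `p`: the Sylow `p`-subgroups are abelian. -/
theorem sylow_comm_of_degree_lt {p : ℕ} [hp : Fact p.Prime] (h : ∀ χ : G → ℂ, Cfsg.IsIrrCharacter G χ → deg χ < p)
    (P : Sylow p G) : ∀ x y : (P : Subgroup G), x * y = y * x := by
  classical
  letI : Fintype (P : Subgroup G) := Fintype.ofFinite _
  have hb : DegLE G (p - 1) := fun χ hχ => by have := h χ hχ; omega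
  intro x y
  refine mul_comm_of_all_linear (fun χ => ?_) x y
  rw [irr_apply_one_eq_deg]
  have h1 := hb.subgroup _ _ χ.2
  obtain ⟨j, hj⟩ := IsPGroup.iff_card.1 P.isPGroup'
  obtain ⟨i, -, hi⟩ := (Nat.dvd_prime_pow hp.out).1 (hj ▸ IsIrrCharacter.deg_dvd χ.2)
  have h2 := hp.out.two_le
  rcases Nat.eq_zero_or_pos i with h0 | h0
  · rw [hi, h0, pow_zero, Nat.cast_one]
  · have h3 : p ≤ p ^ i := Nat.le_self_pow h0.ne' p
    omega

end Cfsg.Lib.Chars
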