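import Cfsg.Agent.Chars.Galois
import Cfsg.Agent.Chars.Count

/-!
# Values of characters of `p'`-degree at `p`-elements, and a norm inequality
-/

namespace Cfsg.Lib.Chars

open scoped ComplexConjugate

universe u

variable {G : Type u} [Group G]

/-- Frobenius congruence for finite sums. -/
theorem exists_sum_pow_prime_pow {R : Type*} [CommRing R] {ι : Type*} (p : ℕ) (hp : p.Prime)
    (a : ℕ) (f : ι → R) (s : Finset ι) :
    ∃ r, (∑ i ∈ s, f i) ^ p ^ a = ∑ i ∈ s, f i ^ p ^ a + (p : R) * r := by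
  classical
  induction s using Finset.induction_on with
  | empty => exact ⟨0, by simp [hp.ne_zero]⟩
  | insert i s hi ih =>
    obtain ⟨r, hr⟩ := ih
    obtain ⟨r', hr'⟩ := exists_add_pow_prime_pow_eq hp (x := f i) (y := ∑ j ∈ s, f j) (n := a)
    refine ⟨r + f i * (∑ j ∈ s, f j) * r', ?_⟩
    rw [Finset.sum_insert hi, hr', hr, Finset.sum_insert hi]
    ring

/-- A character of degree prime to `p` vanishes at no `p`-element. -/
theorem apply_ne_zero_of_not_dvd [Finite G] {χ : G → ℂ} (hχ : Cfsg.IsCharacter G χ) {p a : ℕ}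
    (hp : p.Prime) {g : G} (hg : g ^ p ^ a = 1) (hdeg : ¬ p ∣ deg χ) : χ g ≠ 0 := by
  intro h0
  obtain ⟨ι, _, c, z, hz, h⟩ := IsCharacter.exists_cyclic_decomp hχ g
  have hz' : ∀ i, z i ^ p ^ a = 1 := fun i => by
    obtain ⟨d, hd⟩ := orderOf_dvd_of_pow_eq_one hg
    rw [hd, pow_mul, hz, one_pow]
  have hzint : ∀ i, IsIntegral ℤ (z i) := fun i =>
    isIntegral_of_pow_eq_one (pow_pos hp.pos a) (hz' i)
  let w : ι → integralClosure ℤ ℂ := fun i => (c i : integralClosure ℤ ℂ) * ⟨z i, hzint i⟩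
  let v : ι → integralClosure ℤ ℂ := fun i => (c i : integralClosure ℤ ℂ)
  obtain ⟨r, hr⟩ := exists_sum_pow_prime_pow p hp a w Finset.univ
  obtain ⟨r', hr'⟩ := exists_sum_pow_prime_pow p hp a v Finset.univ
  have hwv : ∀ i, w i ^ p ^ a = v i ^ p ^ a := fun i => Subtype.ext (by
    simp [w, v, mul_pow, hz' i])
  simp only [hwv] at hr
  have hdiff := congrArg (fun x : integralClosure ℤ ℂ => (x : ℂ))
    (show (∑ i, v i) ^ p ^ a = (∑ i, w i) ^ p ^ a + (p : integralClosure ℤ ℂ) * (r' - r) by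
      rw [hr, hr']; ring)
  have hw : ((∑ i, w i : integralClosure ℤ ℂ) : ℂ) = 0 := by
    rw [← h0, ← pow_one g, h 1]
    simp [w]
  have hv : ((∑ i, v i : integralClosure ℤ ℂ) : ℂ) = (deg χ : ℂ) := by
    rw [← IsCharacter.apply_one_eq_deg hχ, ← pow_zero g, h 0]
    simp [v]
  simp only [Subalgebra.coe_pow, Subalgebra.coe_add, Subalgebra.coe_mul, hw, hv,
    zero_pow (pow_pos hp.pos a).ne', zero_add] at hdiff
  have hint : IsIntegral ℤ (((deg χ ^ p ^ a : ℕ) : ℂ) / (p : ℂ)) := by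
    rw [Nat.cast_pow, hdiff]
    have : (p : ℂ) ≠ 0 := Nat.cast_ne_zero.mpr hp.ne_zero
    rw [show (((p : integralClosure ℤ ℂ) : ℂ)) = (p : ℂ) by simp, mul_div_cancel_left₀ _ this]
    exact (r' - r).2
  exact hdeg (hp.dvd_of_dvd_pow (dvd_of_isIntegral_div hp.ne_zero hint))

/-- If a character value and all its conjugates are nonzero then the squared absolute values of
the conjugates average at least `1`, with equality only if all are `1`. -/
theorem card_units_le_sum_norm_sq [Finite G] {m : ℕ} [NeZero m] {χ : G → ℂ}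
    (hχ : Cfsg.IsCharacter G χ) {g : G} (hg : orderOf g ∣ m)
    (hne : ∀ k : (ZMod m)ˣ, χ (g ^ (k : ZMod m).val) ≠ 0) :
    (Fintype.card (ZMod m)ˣ : ℝ) ≤ ∑ k : (ZMod m)ˣ, ‖χ (g ^ (k : ZMod m).val)‖ ^ 2 ∧
      ((Fintype.card (ZMod m)ˣ : ℝ) = ∑ k : (ZMod m)ˣ, ‖χ (g ^ (k : ZMod m).val)‖ ^ 2 →
        ∀ k : (ZMod m)ˣ, ‖χ (g ^ (k : ZMod m).val)‖ = 1) := by
  classical
  set y := ∏ k : (ZMod m)ˣ, χ (g ^ (k : ZMod m).val) with hy
  have hord : ∀ n : ℕ, orderOf (g ^ n) ∣ m := fun n =>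
    (orderOf_dvd_of_pow_eq_one (by rw [← pow_mul, mul_comm, pow_mul, pow_orderOf_eq_one, one_pow])).trans hg
  have hymem : y ∈ cycField m := prod_mem fun k _ => IsCharacter.mem_cycField hχ (hord _)
  have hyint : IsIntegral ℤ y := IsIntegral.prod _ fun k _ => IsCharacter.isIntegral hχ _
  obtain ⟨q, hq⟩ := rat_of_galConj_fixed hymem fun σ j hj hσ => by
    rw [hy, map_prod]
    refine Fintype.prod_equiv (Equiv.mulRight (ZMod.unitOfCoprime j hj)) _ _ fun k => ?_
    rw [IsGalConj.apply_character hσ hχ (hord _), ← pow_mul]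
    congr 1
    rw [pow_eq_pow_iff_modEq]
    refine Nat.ModEq.of_dvd hg ((ZMod.natCast_eq_natCast_iff' _ _ _).mp ?_ : _ % m = _ % m)
    simp
  obtain ⟨z, hz⟩ := int_of_isIntegral_rat (q := q) (hq ▸ hyint)
  have hz0 : z ≠ 0 := fun h => by
    have : y ≠ 0 := Finset.prod_ne_zero_iff.mpr fun k _ => hne k
    apply this
    rw [hq, hz, h]
    simp
  have h1 : 1 ≤ ‖y‖ ^ 2 := by
    rw [hq, hz, Rat.cast_intCast, Complex.norm_intCast]
    exact one_le_pow₀ (by exact_mod_cast Int.one_le_abs hz0)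
  set x : (ZMod m)ˣ → ℝ := fun k => ‖χ (g ^ (k : ZMod m).val)‖ ^ 2 with hx
  have hxpos : ∀ k, 0 < x k := fun k => pow_pos (norm_pos_iff.mpr (hne k)) 2
  have hlog : 0 ≤ ∑ k, Real.log (x k) := by
    rw [← Real.log_prod (fun k _ => (hxpos k).ne')]
    refine Real.log_nonneg ?_
    rwa [hx, Finset.prod_pow, ← norm_prod]
  have hle : ∑ k, Real.log (x k) ≤ ∑ k, (x k - 1) :=
    Finset.sum_le_sum fun k _ => Real.log_le_sub_one_of_pos (hxpos k)
  rw [Finset.sum_sub_distrib, Finset.sum_const, Finset.card_univ, nsmul_one] at hle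
  refine ⟨by linarith, fun heq k => ?_⟩
  by_contra hk
  have hlt : ∑ k, Real.log (x k) < ∑ k, (x k - 1) := by
    refine Finset.sum_lt_sum (fun k _ => Real.log_le_sub_one_of_pos (hxpos k))
      ⟨k, Finset.mem_univ k, Real.log_lt_sub_one_of_pos (hxpos k) fun h => hk ?_⟩
    exact (pow_eq_one_iff_of_nonneg (norm_nonneg _) two_ne_zero).mp h
  rw [Finset.sum_sub_distrib, Finset.sum_const, Finset.card_univ, nsmul_one] at hlt
  linarith

end Cfsg.Lib.Chars
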