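import Mathlib
import Cfsg.Prelude.Def_Characters

/-!
# Complex representations of finite groups: unitarity, Maschke, Schur
-/

namespace Cfsg.Lib.Chars

open scoped ComplexConjugate
open Module

universe u v w

variable {G : Type u} [Group G]
variable {V : Type v} [AddCommGroup V] [Module ℂ V]
variable {W : Type w} [AddCommGroup W] [Module ℂ W]

/-- Transport a representation along a linear equivalence. -/
noncomputable def repConj (ρ : Representation ℂ G V) (e : V ≃ₗ[ℂ] W) : Representation ℂ G W where
  toFun g := e.conj (ρ g)
  map_one' := by ext; simp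
  map_mul' g h := by ext; simp

theorem repConj_apply (ρ : Representation ℂ G V) (e : V ≃ₗ[ℂ] W) (g : G) :
    repConj ρ e g = e.conj (ρ g) := rfl

/-- The tautological equivalence with a transported representation. -/
noncomputable def repConjEquiv (ρ : Representation ℂ G V) (e : V ≃ₗ[ℂ] W) :
    ρ.Equiv (repConj ρ e) :=
  Representation.Equiv.mk e fun g => by ext; simp [repConj]

theorem character_repConj (ρ : Representation ℂ G V) (e : V ≃ₗ[ℂ] W) :
    (repConj ρ e).character = ρ.character :=
  (Representation.char_iso (repConjEquiv ρ e)).symm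

/-- Equivalent representations have isomorphic lattices of subrepresentations. -/
noncomputable def subrepOrderIso {ρ : Representation ℂ G V} {σ : Representation ℂ G W}
    (φ : ρ.Equiv σ) : Subrepresentation ρ ≃o Subrepresentation σ where
  toFun S :=
    { toSubmodule := S.toSubmodule.comap φ.symm.toLinearMap
      apply_mem_toSubmodule := fun g v hv => by
        have := S.apply_mem_toSubmodule g hv
        have h2 : φ.symm (σ g v) = ρ g (φ.symm v) := Representation.IntertwiningMap.isIntertwining _ _ φ.symm.toIntertwiningMap g v
        simpa [Submodule.mem_comap, h2] using this }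
  invFun S :=
    { toSubmodule := S.toSubmodule.comap φ.toLinearMap
      apply_mem_toSubmodule := fun g v hv => by
        have := S.apply_mem_toSubmodule g hv
        have h2 : φ (ρ g v) = σ g (φ v) := Representation.IntertwiningMap.isIntertwining _ _ φ.toIntertwiningMap g v
        simpa [Submodule.mem_comap, h2] using this }
  left_inv S := by
    apply Subrepresentation.toSubmodule_injective
    ext x
    simp [Submodule.mem_comap]
  right_inv S := by
    apply Subrepresentation.toSubmodule_injective
    ext x
    simp [Submodule.mem_comap]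
  map_rel_iff' := by
    intro S T
    constructor
    · intro h x hx
      have hx' : φ.symm (φ x) ∈ S.toSubmodule := by rw [φ.symm_apply_apply]; exact hx
      have := h (show φ x ∈ S.toSubmodule.comap φ.symm.toLinearMap from hx')
      have h3 : φ.symm (φ x) ∈ T.toSubmodule := this
      rwa [φ.symm_apply_apply] at h3
    · intro h x hx
      exact h hx

theorem isIrreducible_of_equiv {ρ : Representation ℂ G V} {σ : Representation ℂ G W}
    (φ : ρ.Equiv σ) [ρ.IsIrreducible] : σ.IsIrreducible :=
  (OrderIso.isSimpleOrder_iff (subrepOrderIso φ)).mp ‹ρ.IsIrreducible›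

/-- A coordinate model of a finite-dimensional representation. -/
noncomputable def finModel [FiniteDimensional ℂ V] (ρ : Representation ℂ G V) :
    Representation ℂ G (Fin (finrank ℂ V) → ℂ) :=
  repConj ρ (Module.finBasis ℂ V).equivFun

theorem character_finModel [FiniteDimensional ℂ V] (ρ : Representation ℂ G V) :
    (finModel ρ).character = ρ.character :=
  character_repConj _ _

theorem isIrreducible_finModel [FiniteDimensional ℂ V] (ρ : Representation ℂ G V)
    [ρ.IsIrreducible] : (finModel ρ).IsIrreducible :=
  isIrreducible_of_equiv (repConjEquiv ρ _)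

theorem isCharacter_character [FiniteDimensional ℂ V] (ρ : Representation ℂ G V) :
    Cfsg.IsCharacter G ρ.character :=
  ⟨_, finModel ρ, character_finModel ρ⟩

theorem isIrrCharacter_character [FiniteDimensional ℂ V] (ρ : Representation ℂ G V)
    [ρ.IsIrreducible] : Cfsg.IsIrrCharacter G ρ.character :=
  ⟨_, finModel ρ, isIrreducible_finModel ρ, character_finModel ρ⟩

/-- The space of an irreducible representation is non-trivial. -/
theorem nontrivial_of_irreducible (ρ : Representation ℂ G V) [ρ.IsIrreducible] : Nontrivial V := by
  by_contra h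
  rw [not_nontrivial_iff_subsingleton] at h
  have : (⊥ : Subrepresentation ρ) = ⊤ := by
    apply Subrepresentation.toSubmodule_injective
    ext x
    simp [Subsingleton.elim x 0]
  exact bot_ne_top this

theorem finrank_pos_of_irreducible [FiniteDimensional ℂ V] (ρ : Representation ℂ G V)
    [ρ.IsIrreducible] : 0 < finrank ℂ V :=
  haveI := nontrivial_of_irreducible ρ
  finrank_pos

/-- Every irreducible representation of a finite group is finite-dimensional. -/
theorem finiteDimensional_of_irreducible [Finite G] (ρ : Representation ℂ G V) [ρ.IsIrreducible] :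
    FiniteDimensional ℂ V := by
  have := nontrivial_of_irreducible ρ
  obtain ⟨v, hv⟩ := exists_ne (0 : V)
  let S : Subrepresentation ρ :=
    { toSubmodule := Submodule.span ℂ (Set.range fun g : G => ρ g v)
      apply_mem_toSubmodule := fun g w hw => by
        have : Submodule.span ℂ (Set.range fun g : G => ρ g v) ≤
            (Submodule.span ℂ (Set.range fun g : G => ρ g v)).comap (ρ g) := by
          rw [Submodule.span_le]
          rintro _ ⟨h, rfl⟩
          apply Submodule.subset_span
          exact ⟨g * h, by simp⟩
        exact this hw }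
  have hS : S = ⊤ := (IsSimpleOrder.eq_bot_or_eq_top S).resolve_left fun h => hv (by
    have : v ∈ S.toSubmodule := Submodule.subset_span ⟨1, by simp⟩
    rw [h] at this
    exact (Submodule.mem_bot ℂ).mp this)
  have hfin : Submodule.FG (⊤ : Submodule ℂ V) := by
    have h2 : S.toSubmodule = ⊤ := congrArg Subrepresentation.toSubmodule hS
    rw [← h2]
    exact Submodule.fg_span (Set.finite_range _)
  exact Module.finite_def.mpr hfin

/-- Schur's lemma: an endomorphism commuting with an irreducible representation is a scalar. -/
theorem schur_scalar [FiniteDimensional ℂ V] (ρ : Representation ℂ G V) [ρ.IsIrreducible]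
    (T : V →ₗ[ℂ] V) (hT : ∀ g v, T (ρ g v) = ρ g (T v)) :
    ∃ c : ℂ, T = c • LinearMap.id := by
  have := nontrivial_of_irreducible ρ
  obtain ⟨c, hc⟩ := Module.End.exists_eigenvalue T
  let S : Subrepresentation ρ :=
    { toSubmodule := Module.End.eigenspace T c
      apply_mem_toSubmodule := fun g v hv => by
        rw [Module.End.mem_eigenspace_iff] at hv ⊢
        rw [hT, hv, map_smul] }
  have hS : S = ⊤ := (IsSimpleOrder.eq_bot_or_eq_top S).resolve_left fun h =>
    hc (congrArg Subrepresentation.toSubmodule h)
  refine ⟨c, LinearMap.ext fun v => ?_⟩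
  have : v ∈ S.toSubmodule := by rw [hS]; exact Submodule.mem_top
  exact Module.End.mem_eigenspace_iff.mp this

/-- Maschke: every subrepresentation has a complement. -/
theorem exists_isCompl_subrep [Finite G] (ρ : Representation ℂ G V) (S : Subrepresentation ρ) :
    ∃ T : Subrepresentation ρ, IsCompl S.toSubmodule T.toSubmodule := by
  have : NeZero (Nat.card G : ℂ) := ⟨by exact_mod_cast Nat.card_pos.ne'⟩
  obtain ⟨T, hT⟩ := exists_isCompl S
  refine ⟨T, ?_⟩
  constructor
  · rw [disjoint_iff]
    have h := congrArg Subrepresentation.toSubmodule hT.inf_eq_bot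
    rw [Subrepresentation.toSubmodule_inf] at h
    exact h
  · rw [codisjoint_iff]
    have h := congrArg Subrepresentation.toSubmodule hT.sup_eq_top
    rw [Subrepresentation.toSubmodule_sup] at h
    exact h

/-- A representation is the product of two complementary subrepresentations. -/
noncomputable def prodComplEquiv (ρ : Representation ℂ G V) (S T : Subrepresentation ρ)
    (h : IsCompl S.toSubmodule T.toSubmodule) :
    (S.toRepresentation.prod T.toRepresentation).Equiv ρ :=
  Representation.Equiv.mk (Submodule.prodEquivOfIsCompl _ _ h) fun g => by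
    apply LinearMap.ext
    rintro ⟨x, y⟩
    simp only [LinearMap.comp_apply, LinearEquiv.coe_coe, Representation.prod_apply_apply,
      Submodule.coe_prodEquivOfIsCompl', map_add]
    rfl

theorem character_prod [FiniteDimensional ℂ V] [FiniteDimensional ℂ W]
    (ρ : Representation ℂ G V) (σ : Representation ℂ G W) :
    (ρ.prod σ).character = ρ.character + σ.character := by
  funext g
  exact LinearMap.trace_prodMap' (ρ g) (σ g)

theorem character_compl [FiniteDimensional ℂ V] (ρ : Representation ℂ G V)
    (S T : Subrepresentation ρ) (h : IsCompl S.toSubmodule T.toSubmodule) :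
    ρ.character = S.toRepresentation.character + T.toRepresentation.character := by
  rw [← Representation.char_iso (prodComplEquiv ρ S T h), character_prod]

/-- Induction over finite-dimensional representations: the irreducible case, the zero case,
and the case of a splitting into two proper subrepresentations. -/
theorem rep_induction [Finite G]
    {P : ∀ (V : Type v) [AddCommGroup V] [Module ℂ V] [FiniteDimensional ℂ V],
      Representation ℂ G V → Prop}
    (hzero : ∀ (V : Type v) [AddCommGroup V] [Module ℂ V] [FiniteDimensional ℂ V]
      (ρ : Representation ℂ G V), Subsingleton V → P V ρ)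
    (hirr : ∀ (V : Type v) [AddCommGroup V] [Module ℂ V] [FiniteDimensional ℂ V]
      (ρ : Representation ℂ G V), ρ.IsIrreducible → P V ρ)
    (hsum : ∀ (V : Type v) [AddCommGroup V] [Module ℂ V] [FiniteDimensional ℂ V]
      (ρ : Representation ℂ G V) (S T : Subrepresentation ρ),
      IsCompl S.toSubmodule T.toSubmodule →
      P _ S.toRepresentation → P _ T.toRepresentation → P V ρ)
    (V : Type v) [AddCommGroup V] [Module ℂ V] [FiniteDimensional ℂ V]
    (ρ : Representation ℂ G V) : P V ρ := by
  suffices key : ∀ (n : ℕ) (V : Type v) [AddCommGroup V] [Module ℂ V] [FiniteDimensional ℂ V]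
      (ρ : Representation ℂ G V), finrank ℂ V = n → P V ρ from key _ V ρ rfl
  intro n
  induction n using Nat.strong_induction_on with
  | _ n ih =>
    intro V _ _ _ ρ hn
    by_cases hirr' : ρ.IsIrreducible
    · exact hirr V ρ hirr'
    rcases subsingleton_or_nontrivial V with hV | hV
    · exact hzero V ρ hV
    have : Nontrivial (Subrepresentation ρ) := by
      refine ⟨⊥, ⊤, fun h => ?_⟩
      have h2 : (⊥ : Submodule ℂ V) = ⊤ := congrArg Subrepresentation.toSubmodule h
      exact bot_ne_top h2
    have hex : ∃ S : Subrepresentation ρ, S ≠ ⊥ ∧ S ≠ ⊤ := by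
      by_contra hcon
      push Not at hcon
      exact hirr' ⟨fun S => or_iff_not_imp_left.mpr (hcon S)⟩
    obtain ⟨S, hS0, hS1⟩ := hex
    obtain ⟨T, hT⟩ := exists_isCompl_subrep ρ S
    have hdim := Submodule.finrank_add_eq_of_isCompl hT
    have hSpos : 0 < finrank ℂ S.toSubmodule := by
      rw [Nat.pos_iff_ne_zero]
      intro h0
      exact hS0 (Subrepresentation.toSubmodule_injective (Submodule.finrank_eq_zero.mp h0))
    have hSlt : finrank ℂ S.toSubmodule < finrank ℂ V := by
      apply Submodule.finrank_lt
      intro h
      exact hS1 (Subrepresentation.toSubmodule_injective h)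
    exact hsum V ρ S T hT (ih _ (by omega) _ _ rfl) (ih _ (by omega) _ _ rfl)

section Finite

variable [Finite G]

open scoped ComplexOrder in
open Matrix in
/-- `χ g⁻¹` is the complex conjugate of `χ g`. -/
theorem character_inv [FiniteDimensional ℂ V] (ρ : Representation ℂ G V) (g : G) :
    ρ.character g⁻¹ = conj (ρ.character g) := by
  classical
  have := Fintype.ofFinite G
  let b := Module.finBasis ℂ V
  let A : G → Matrix (Fin (finrank ℂ V)) (Fin (finrank ℂ V)) ℂ :=
    fun x => LinearMap.toMatrix b b (ρ x)
  have hA1 : A 1 = 1 := by simp [A, LinearMap.toMatrix_one]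
  have hmul : ∀ x y, A (x * y) = A x * A y := fun x y => by
    simp [A, map_mul, LinearMap.toMatrix_mul]
  have htr : ∀ x, ρ.character x = (A x).trace := fun x => by
    simp [Representation.character, A, LinearMap.trace_eq_matrix_trace ℂ b]
  set P := ∑ x : G, (A x)ᴴ * A x with hP
  have hPpd : P.PosDef := by
    refine Matrix.posDef_sum Finset.univ_nonempty fun x _ => ?_
    apply Matrix.PosDef.conjTranspose_mul_self
    apply Matrix.mulVec_injective_of_isUnit
    exact IsUnit.of_mul_eq_one (A x⁻¹) (by rw [← hmul, mul_inv_cancel, hA1])
  have hinv : (A g)ᴴ * P * A g = P := by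
    rw [hP, Finset.mul_sum, Finset.sum_mul]
    refine Fintype.sum_equiv (Equiv.mulRight g) _ _ fun x => ?_
    simp [hmul, Matrix.mul_assoc]
  have hu : IsUnit P := hPpd.isUnit
  have hAg : A g * A g⁻¹ = 1 := by rw [← hmul, mul_inv_cancel, hA1]
  have h2 : (A g)ᴴ * P = P * A g⁻¹ := by
    calc (A g)ᴴ * P = (A g)ᴴ * P * (A g * A g⁻¹) := by rw [hAg, mul_one]
      _ = P * A g⁻¹ := by rw [← mul_assoc, hinv]
  obtain ⟨Q, hQ⟩ := hu
  have h3 : A g⁻¹ = (↑Q⁻¹ : Matrix _ _ ℂ) * ((A g)ᴴ * P) := by
    rw [h2, ← mul_assoc, ← hQ, Units.inv_mul, one_mul]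
  rw [htr, htr, h3, Matrix.trace_mul_comm, Matrix.mul_assoc, ← hQ, Units.mul_inv, mul_one,
    Matrix.trace_conjTranspose]
  rfl

end Finite

end Cfsg.Lib.Chars
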