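import Cfsg.Agent.Chars.Gallagher
import Cfsg.Agent.Chars.Galois

/-!
# Induction from a normal subgroup with abelian quotient
-/

namespace Cfsg.Lib.Chars

open scoped ComplexConjugate

universe u

variable {G : Type u} [Group G] [Fintype G] (N : Subgroup G) [N.Normal] [Fintype N]

/-- Two irreducible characters over the same invariant character have the same degree when the
quotient is abelian. -/
theorem deg_eq_of_abelian_quotient (hab : ∀ x y : G, x * y * x⁻¹ * y⁻¹ ∈ N) {θ : N → ℂ}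
    (hθ : Cfsg.IsIrrCharacter N θ) {χ₀ χ : G → ℂ} (hχ₀ : Cfsg.IsIrrCharacter G χ₀)
    (hχ : Cfsg.IsIrrCharacter G χ) {e₀ e : ℕ} (he₀ : e₀ ≠ 0) (he : e ≠ 0)
    (h₀ : (fun n : N => χ₀ n) = (e₀ : ℂ) • θ) (h : (fun n : N => χ n) = (e : ℂ) • θ) :
    χ 1 = χ₀ 1 := by
  classical
  have := Fintype.ofFinite (G ⧸ N)
  set π := QuotientGroup.mk' N with hπ
  have hπs : Function.Surjective π := QuotientGroup.mk'_surjective N
  have hQ : ∀ a b : G ⧸ N, a * b = b * a := by
    intro a b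
    obtain ⟨x, rfl⟩ := hπs a
    obtain ⟨y, rfl⟩ := hπs b
    rw [← map_mul, ← map_mul]
    refine QuotientGroup.eq.mpr ?_
    simpa [mul_assoc] using hab y⁻¹ x⁻¹
  have hsum : ∀ g : G, ∑ l : Cfsg.IrrCharacter (G ⧸ N), (l : G ⧸ N → ℂ) (π g) =
      if g ∈ N then (Nat.card (G ⧸ N) : ℂ) else 0 := by
    intro g
    have h1 := sum_deg_mul (π g)
    simp only [irr_deg_one_of_comm hQ (Subtype.prop _), one_mul] at h1
    rw [h1]
    exact if_congr (QuotientGroup.eq_one_iff g) rfl rfl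
  have hone : ∑ n : N, θ n * conj (θ n) = (Nat.card N : ℂ) := by
    have h1 := classInner_self_irr hθ
    rw [classInner_def] at h1
    have : (Nat.card N : ℂ) ≠ 0 := by exact_mod_cast Nat.card_pos.ne'
    field_simp at h1
    exact h1
  have htot : ∑ l : Cfsg.IrrCharacter (G ⧸ N),
      Cfsg.classInner (fun g => (l : G ⧸ N → ℂ) (π g) * χ₀ g) χ ≠ 0 := by
    simp only [classInner_def]
    rw [← Finset.mul_sum, Finset.sum_comm]
    refine mul_ne_zero (inv_ne_zero (by exact_mod_cast Nat.card_pos.ne')) ?_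
    have h1 : ∀ g : G, ∑ l : Cfsg.IrrCharacter (G ⧸ N),
        (l : G ⧸ N → ℂ) (π g) * χ₀ g * conj (χ g) =
        if g ∈ N then (Nat.card (G ⧸ N) : ℂ) * (χ₀ g * conj (χ g)) else 0 := fun g => by
      simp only [mul_assoc]
      rw [← Finset.sum_mul, hsum g, ite_mul, zero_mul]
    rw [Finset.sum_congr rfl fun g _ => h1 g, ← Finset.sum_filter,
      Finset.sum_subtype (p := fun g => g ∈ N) _ (fun g => by simp)]
    rw [Finset.sum_congr rfl (g := fun n : N =>
      (Nat.card (G ⧸ N) : ℂ) * ((e₀ : ℂ) * e) * (θ n * conj (θ n))) fun n _ => by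
        rw [show χ₀ n = ((e₀ : ℂ) • θ) n from congrFun h₀ n,
          show χ n = ((e : ℂ) • θ) n from congrFun h n]
        simp only [Pi.smul_apply, smul_eq_mul, map_mul, Complex.conj_natCast]
        ring]
    rw [← Finset.mul_sum, hone]
    exact mul_ne_zero (mul_ne_zero (by exact_mod_cast Nat.card_pos.ne')
      (mul_ne_zero (by exact_mod_cast he₀) (by exact_mod_cast he)))
      (by exact_mod_cast Nat.card_pos.ne')
  obtain ⟨l, -, hl⟩ := Finset.exists_ne_zero_of_sum_ne_zero htot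
  obtain ⟨f, hf⟩ := exists_hom_of_deg_one (isCharacter_of_irr l.2) (irr_deg_one_of_comm hQ l.2)
  have hirr : Cfsg.IsIrrCharacter G (fun g => (l : G ⧸ N → ℂ) (π g) * χ₀ g) := by
    rw [hf]
    exact IsIrrCharacter.mul_linear hχ₀ (f.comp π)
  have heq : (fun g => (l : G ⧸ N → ℂ) (π g) * χ₀ g) = χ := by
    by_contra hne
    rw [classInner_irrChar hirr hχ, if_neg hne] at hl
    exact hl rfl
  rw [← congrFun heq 1]
  simp [irr_deg_one_of_comm hQ l.2]

/-- Induction of an invariant character when the quotient is abelian. -/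
theorem indFun_abelian_quotient (hab : ∀ x y : G, x * y * x⁻¹ * y⁻¹ ∈ N) {θ : N → ℂ}
    (hθ : Cfsg.IsIrrCharacter N θ) (hinv : ∀ g : G, conjN N g θ = θ) :
    ∃ (e : ℕ) (C : Finset (G → ℂ)), 0 < e ∧ (∀ χ ∈ C, Cfsg.IsIrrCharacter G χ) ∧
      e ^ 2 * C.card = N.index ∧ Cfsg.indFun N θ = (e : ℂ) • ∑ χ ∈ C, χ ∧
      (∀ χ ∈ C, (fun n : N => χ n) = (e : ℂ) • θ) ∧
      ∀ χ : G → ℂ, Cfsg.IsIrrCharacter G χ →
        Cfsg.classInner (fun n : N => χ n) θ ≠ 0 → χ ∈ C := by
  classical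
  obtain ⟨χ₀, hχ₀, hc₀⟩ := exists_over N hθ
  obtain ⟨e, he, hres₀⟩ := restrict_eq_mult_of_invariant N hχ₀ hθ hinv hc₀
  have hres : ∀ χ : Cfsg.IrrCharacter G,
      Cfsg.classInner (fun n : N => (χ : G → ℂ) n) θ ≠ 0 →
      (fun n : N => (χ : G → ℂ) n) = (e : ℂ) • θ := by
    intro χ hc
    obtain ⟨f, hf, hres⟩ := restrict_eq_mult_of_invariant N χ.2 hθ hinv hc
    have h1 := deg_eq_of_abelian_quotient N hab hθ hχ₀ χ.2 he.ne' hf.ne' hres₀ hres
    rw [show (χ : G → ℂ) 1 = ((f : ℂ) • θ) 1 from congrFun hres 1,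
      show χ₀ 1 = ((e : ℂ) • θ) 1 from congrFun hres₀ 1] at h1
    have h2 : (f : ℂ) = (e : ℂ) :=
      mul_right_cancel₀ (IsIrrCharacter.apply_one_ne_zero hθ) h1
    rw [← h2]
    exact hres
  set S := Finset.univ.filter (fun χ : Cfsg.IrrCharacter G =>
    Cfsg.classInner (fun n : N => (χ : G → ℂ) n) θ ≠ 0) with hS
  set cf : Cfsg.IrrCharacter G → ℕ := fun χ => if χ ∈ S then e else 0 with hcf
  have hcoef : ∀ χ : Cfsg.IrrCharacter G,
      Cfsg.classInner (Cfsg.indFun N θ) (χ : G → ℂ) = (cf χ : ℂ) := by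
    intro χ
    rw [frobenius_reciprocity N θ (isClassFunction_irr χ), ← classInner_conj_symm]
    by_cases hc : Cfsg.classInner (fun n : N => (χ : G → ℂ) n) θ = 0
    · simp [hcf, hS, hc]
    · rw [hres χ hc, classInner_smul_left, classInner_self_irr hθ, mul_one, Complex.conj_natCast]
      simp [hcf, hS, hc]
  have hexp : Cfsg.indFun N θ = ∑ χ : Cfsg.IrrCharacter G, cf χ • (χ : G → ℂ) := by
    rw [classFunction_expand (isClassFunction_indFun N θ)]
    exact Finset.sum_congr rfl fun χ _ => by rw [hcoef χ, Nat.cast_smul_eq_nsmul]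
  refine ⟨e, S.image Subtype.val, he, ?_, ?_, ?_, ?_, ?_⟩
  · rintro χ hχ
    obtain ⟨χ', -, rfl⟩ := Finset.mem_image.mp hχ
    exact χ'.2
  · have h1 := classInner_indFun_self_of_invariant N hθ hinv
    rw [hexp] at h1
    simp only [← Nat.cast_smul_eq_nsmul ℂ] at h1
    rw [classInner_self_decomp] at h1
    have h2 : ((∑ χ : Cfsg.IrrCharacter G, cf χ * cf χ : ℕ) : ℂ) = (N.index : ℂ) := by
      rw [← h1]
      push_cast
      simp [Complex.conj_natCast]
    rw [← Nat.cast_injective h2, Finset.card_image_of_injective _ Subtype.val_injective]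
    simp only [hcf, ite_mul, zero_mul, mul_ite, mul_zero]
    rw [← Finset.sum_filter]
    simp [Finset.filter_filter, sq, mul_comm]
  · rw [hexp, Finset.sum_image fun a _ b _ h => Subtype.ext h, Finset.smul_sum]
    simp only [hcf, ite_smul, zero_smul]
    rw [← Finset.sum_filter, Finset.filter_mem_eq_inter, Finset.univ_inter]
    exact Finset.sum_congr rfl fun χ _ => (Nat.cast_smul_eq_nsmul ℂ e _).symm
  · rintro χ hχ
    obtain ⟨χ', hχ', rfl⟩ := Finset.mem_image.mp hχ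
    exact hres χ' (Finset.mem_filter.mp hχ').2
  · intro χ hχ hc
    exact Finset.mem_image.mpr ⟨⟨χ, hχ⟩, Finset.mem_filter.mpr ⟨Finset.mem_univ _, hc⟩, rfl⟩

/-- An invariant character extends when the index is prime to the order of the subgroup. -/
theorem exists_extension_of_coprime_index {θ : N → ℂ} (hθ : Cfsg.IsIrrCharacter N θ)
    (hinv : ∀ g : G, conjN N g θ = θ) (hcop : (Nat.card N).Coprime N.index) :
    ∃ χ : G → ℂ, Cfsg.IsIrrCharacter G χ ∧ ∀ n : N, χ n = θ n := by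
  obtain ⟨δ, hδ⟩ := detChar_is_hom (isCharacter_of_irr hθ)
  have h1 : Cfsg.detOrder θ ∣ Nat.card N := by
    rw [Cfsg.detOrder, hδ, orderOf_linear δ]
    refine orderOf_dvd_of_pow_eq_one ?_
    ext n
    rw [MonoidHom.pow_apply, ← map_pow, pow_card_eq_one', map_one, MonoidHom.one_apply]
  have h2 : deg θ ∣ Nat.card N := IsIrrCharacter.deg_dvd hθ
  obtain ⟨χ, ⟨hχ, hres, -⟩, -⟩ := exists_canonical_extension N hθ hinv
    (IsCharacter.apply_one_eq_deg (isCharacter_of_irr hθ))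
    (Nat.Coprime.mul_right (hcop.symm.coprime_dvd_right h1) (hcop.symm.coprime_dvd_right h2))
  exact ⟨χ, hχ, hres⟩

end Cfsg.Lib.Chars
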