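import Cfsg.Agent.Chars.Extension
import Cfsg.Prelude.Def_CharExt

/-!
# Criteria for extending an invariant irreducible character
-/

namespace Cfsg.Lib.Chars

open scoped ComplexConjugate
open Module

universe u v

variable {G : Type u} [Group G] [Finite G] (N : Subgroup G) [hN : N.Normal]
variable {V : Type v} [AddCommGroup V] [Module ℂ V] [FiniteDimensional ℂ V]
variable (ρ : Representation ℂ N V) [ρ.IsIrreducible]

theorem exists_scalar_of_ker (e : twGroup N ρ) (he : twProj N ρ e = 1) :
    ∃ c : ℂˣ, twNat N ρ e = (c : ℂ) • 1 := by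
  obtain ⟨c, hc, h⟩ := exists_scalar_of_mem N ρ e (he ▸ N.one_mem)
  refine ⟨Units.mk0 c hc, ?_⟩
  rw [h, show (⟨twProj N ρ e, he ▸ N.one_mem⟩ : N) = 1 from Subtype.ext he, map_one]
  rfl

include ρ in
theorem smul_one_injective {c c' : ℂˣ}
    (h : (c : ℂ) • (1 : Module.End ℂ V) = (c' : ℂ) • 1) : c = c' := by
  have := nontrivial_of_irreducible ρ
  obtain ⟨v, hv⟩ := exists_ne (0 : V)
  exact Units.ext (smul_left_injective ℂ hv (by simpa using LinearMap.congr_fun h v))

/-- The scalar attached to an element of the kernel of the projection. -/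
noncomputable def twScalar : (twProj N ρ).ker →* ℂˣ where
  toFun e := (exists_scalar_of_ker N ρ e e.2).choose
  map_one' := smul_one_injective N ρ (by
    rw [← (exists_scalar_of_ker N ρ (1 : (twProj N ρ).ker) (1 : (twProj N ρ).ker).2).choose_spec,
      Units.val_one, one_smul, OneMemClass.coe_one, map_one])
  map_mul' a b := smul_one_injective N ρ (by
    have ha := (exists_scalar_of_ker N ρ a a.2).choose_spec
    have hb := (exists_scalar_of_ker N ρ b b.2).choose_spec
    have hab := (exists_scalar_of_ker N ρ (a * b : (twProj N ρ).ker) (a * b).2).choose_spec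
    refine hab.symm.trans ((map_mul (twNat N ρ) _ _).trans ?_)
    refine (congrArg₂ (· * ·) ha hb).trans ?_
    rw [smul_mul_smul_comm, one_mul, Units.val_mul])

theorem twScalar_spec (e : (twProj N ρ).ker) :
    twNat N ρ e = (twScalar N ρ e : ℂ) • 1 :=
  (exists_scalar_of_ker N ρ e e.2).choose_spec

/-- The `a`-th power of the scalar extends to a homomorphism trivial on `N`. -/
def HasSplit (a : ℤ) : Prop :=
  ∃ r : twGroup N ρ →* ℂˣ, (∀ n : N, r (twIncl N ρ n) = 1) ∧
    ∀ e : (twProj N ρ).ker, r e = twScalar N ρ e ^ a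

/-- The exponents that split form a subgroup of `ℤ`. -/
def splitExponents : AddSubgroup ℤ where
  carrier := {a | HasSplit N ρ a}
  zero_mem' := ⟨1, fun _ => rfl, fun e => (zpow_zero _).symm⟩
  add_mem' := fun {a b} ⟨r, h1, h2⟩ ⟨r', h1', h2'⟩ => ⟨r * r', fun n => by
    rw [MonoidHom.mul_apply, h1, h1', one_mul], fun e => by
    rw [MonoidHom.mul_apply, h2, h2', zpow_add]⟩
  neg_mem' := fun {a} ⟨r, h1, h2⟩ => ⟨r⁻¹, fun n => by
    rw [MonoidHom.inv_apply, h1, inv_one], fun e => by
    rw [MonoidHom.inv_apply, h2, zpow_neg]⟩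

theorem hasSplit_card_ker : HasSplit N ρ (Nat.card (twProj N ρ).ker : ℤ) :=
  ⟨1, fun _ => rfl, fun e => by
    rw [zpow_natCast, ← map_pow, pow_card_eq_one', map_one, MonoidHom.one_apply]⟩

/-- Divisibility criterion for splitting. -/
theorem hasSplit_one_of_forall_prime
    (h : ∀ p : ℕ, p.Prime → p ∣ Nat.card (twProj N ρ).ker →
      ∃ a : ℕ, ¬ p ∣ a ∧ HasSplit N ρ (a : ℤ)) : HasSplit N ρ 1 := by
  obtain ⟨d, hd⟩ := Int.subgroup_cyclic (splitExponents N ρ)
  have hmem : ∀ a, HasSplit N ρ a → d ∣ a := fun a ha => by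
    have h1 : a ∈ AddSubgroup.closure ({d} : Set ℤ) := hd ▸ (ha : a ∈ splitExponents N ρ)
    obtain ⟨k, hk⟩ := AddSubgroup.mem_closure_singleton.mp h1
    exact ⟨k, by rw [← hk, smul_eq_mul, mul_comm]⟩
  have hd1 : d.natAbs = 1 := by
    by_contra hne
    obtain ⟨p, hp, hpd⟩ := Nat.exists_prime_and_dvd hne
    have hpk : p ∣ Nat.card (twProj N ρ).ker :=
      hpd.trans (by simpa using Int.natAbs_dvd_natAbs.mpr (hmem _ (hasSplit_card_ker N ρ)))
    obtain ⟨a, hpa, ha⟩ := h p hp hpk
    exact hpa (hpd.trans (by simpa using Int.natAbs_dvd_natAbs.mpr (hmem _ ha)))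
  have h2 : (1 : ℤ) ∈ AddSubgroup.closure ({d} : Set ℤ) := by
    rw [AddSubgroup.mem_closure_singleton]
    exact ⟨d, by rw [smul_eq_mul, ← Int.natAbs_mul_self (a := d), hd1]; rfl⟩
  rw [← hd] at h2
  exact h2

theorem exists_extension_of_hasSplit (hinv : ∀ g : G, conjN N g ρ.character = ρ.character)
    (h : HasSplit N ρ 1) : ∃ R : Representation ℂ G V, ∀ n : N, R (n : G) = ρ n := by
  obtain ⟨r, h1, h2⟩ := h
  refine exists_extension_rep N ρ hinv r h1 fun e he => ?_
  rw [show (r e : ℂˣ) = twScalar N ρ ⟨e, he⟩ ^ (1 : ℤ) from h2 ⟨e, he⟩, zpow_one]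
  exact twScalar_spec N ρ ⟨e, he⟩

/-- An extension to an intermediate subgroup gives the splitting exponent `[G : P]`. -/
theorem hasSplit_of_subgroup (hinv : ∀ g : G, conjN N g ρ.character = ρ.character)
    (P : Subgroup G) (hNP : N ≤ P) (R : Representation ℂ P V)
    (hR : ∀ n : N, R ⟨n, hNP n.2⟩ = ρ n) : HasSplit N ρ (P.index : ℤ) := by
  classical
  let RU : P →* (Module.End ℂ V)ˣ := MonoidHom.toHomUnits R
  have htw : ∀ x : P, Twists N ρ (x : G) (RU x : Module.End ℂ V) := by
    intro x n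
    show R x * ρ n = ρ _ * R x
    rw [← hR n, ← hR, ← map_mul, ← map_mul]
    congr 1
    apply Subtype.ext
    simp
  let EP : Subgroup (twGroup N ρ) := P.comap (twProj N ρ)
  have hex : ∀ e : EP, ∃ c : ℂˣ, twNat N ρ e = (c : ℂ) • R ⟨twProj N ρ e, e.2⟩ := by
    intro e
    obtain ⟨c, hc, h⟩ := twists_unique N ρ (htw ⟨twProj N ρ e, e.2⟩) (e : twGroup N ρ).2.1
    exact ⟨Units.mk0 c hc, h⟩
  choose c hc using hex
  have := nontrivial_of_irreducible ρ
  have huniq : ∀ (x : P) (a b : ℂˣ), (a : ℂ) • R x = (b : ℂ) • R x → a = b := by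
    intro x a b h
    obtain ⟨v, hv⟩ := exists_ne (0 : V)
    have hne : R x v ≠ 0 := fun h0 => hv (by
      have h1 : R x⁻¹ (R x v) = v := R.inv_self_apply x v
      rw [h0, map_zero] at h1
      exact h1.symm)
    exact Units.ext (smul_left_injective ℂ hne (by simpa using LinearMap.congr_fun h v))
  have hcx : ∀ (e : EP) (x : P), (x : G) = twProj N ρ e → twNat N ρ e = (c e : ℂ) • R x := by
    intro e x hx
    rw [hc e]
    congr 2
    exact Subtype.ext hx.symm
  let φ : EP →* ℂˣ :=
    { toFun := c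
      map_one' := huniq 1 _ _ (by
        rw [← hcx 1 1 (by simp), Units.val_one, one_smul, map_one R]
        exact map_one (twNat N ρ))
      map_mul' := fun a b => huniq (⟨twProj N ρ a, a.2⟩ * ⟨twProj N ρ b, b.2⟩) _ _ (by
        rw [← hcx (a * b) _ (by simp), Units.val_mul, map_mul R, ← smul_mul_smul_comm, ← hc a, ← hc b]
        exact map_mul (twNat N ρ) _ _) }
  have hφι : ∀ (n : N) (h : twIncl N ρ n ∈ EP), φ ⟨twIncl N ρ n, h⟩ = 1 := by
    intro n h
    refine huniq ⟨twProj N ρ (twIncl N ρ n), h⟩ _ _ ?_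
    show (c _ : ℂ) • _ = _
    rw [← hc, Units.val_one, one_smul, twNat_twIncl, ← hR n]
    rfl
  refine ⟨φ.transfer, fun n => ?_, fun e => ?_⟩
  · have := Fintype.ofFinite (Quotient (MulAction.orbitRel (Subgroup.zpowers (twIncl N ρ n)) (twGroup N ρ ⧸ EP)))
    rw [MonoidHom.transfer_eq_prod_quotient_orbitRel_zpowers_quot]
    refine Finset.prod_eq_one fun q _ => ?_
    set g₀ := q.out.out
    set k := Function.minimalPeriod (twIncl N ρ n • ·) q.out
    obtain ⟨m, hm⟩ : ∃ m : N, g₀⁻¹ * twIncl N ρ n ^ k * g₀ = twIncl N ρ m := by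
      rw [← map_pow]
      have h := twIncl_conj N ρ g₀⁻¹ (n ^ k)
      rw [inv_inv] at h
      exact ⟨_, h⟩
    have hmem : twIncl N ρ m ∈ EP := by
      show twProj N ρ (twIncl N ρ m) ∈ P
      rw [twProj_twIncl]
      exact hNP m.2
    rw [← hφι m hmem]
    congr 1
    exact Subtype.ext hm
  · have hcentral : ∀ g₀ : twGroup N ρ, g₀⁻¹ * (e : twGroup N ρ) * g₀ = e := by
      intro g₀
      apply Subtype.ext
      have he1 : (e : twGroup N ρ).1.1 = 1 := e.2
      have he2 : ((e : twGroup N ρ).1.2 : Module.End ℂ V) = (twScalar N ρ e : ℂ) • 1 :=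
        twScalar_spec N ρ e
      refine Prod.ext ?_ (Units.ext ?_)
      · show g₀.1.1⁻¹ * (e : twGroup N ρ).1.1 * g₀.1.1 = _
        rw [he1]; simp
      · show (↑(g₀.1.2⁻¹) : Module.End ℂ V) * ((e : twGroup N ρ).1.2 : Module.End ℂ V) *
          (g₀.1.2 : Module.End ℂ V) = _
        rw [he2, mul_smul_comm, mul_one, smul_mul_assoc, Units.inv_mul]
    have hpow : ∀ (g₀ : twGroup N ρ) (k : ℕ),
        g₀⁻¹ * (e : twGroup N ρ) ^ k * g₀ = (e : twGroup N ρ) ^ k := by
      intro g₀ k
      have := conj_pow (i := k) (a := g₀⁻¹) (b := (e : twGroup N ρ))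
      rw [inv_inv, hcentral g₀] at this
      exact this.symm
    rw [MonoidHom.transfer_eq_pow φ _ fun k g₀ _ => hpow g₀ k]
    have hidx : EP.index = P.index :=
      Subgroup.index_comap_of_surjective _ (twProj_surjective N ρ hinv)
    have he : (e : twGroup N ρ) ∈ EP := by
      show twProj N ρ e ∈ P
      rw [show twProj N ρ e = 1 from e.2]
      exact P.one_mem
    have hφe : φ ⟨e, he⟩ = twScalar N ρ e := by
      refine smul_one_injective N ρ ?_
      rw [← twScalar_spec]
      show (c ⟨e, he⟩ : ℂ) • 1 = _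
      rw [hc ⟨e, he⟩]
      congr 1
      rw [show (⟨twProj N ρ e, he⟩ : P) = 1 from Subtype.ext e.2, map_one]
    rw [← hidx, zpow_natCast, ← hφe, ← map_pow]
    congr 1

theorem hasSplit_index (hinv : ∀ g : G, conjN N g ρ.character = ρ.character) :
    HasSplit N ρ (N.index : ℤ) :=
  hasSplit_of_subgroup N ρ hinv N le_rfl ρ fun _ => rfl

/-- A linear character extending the determinant gives the splitting exponent `dim`. -/
theorem hasSplit_finrank (μ : G →* ℂˣ) (hμ : ∀ n : N, (μ n : ℂ) = LinearMap.det (ρ n)) :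
    HasSplit N ρ (finrank ℂ V : ℤ) := by
  let D : twGroup N ρ →* ℂˣ :=
    (Units.map (LinearMap.det (A := ℂ) (M := V))).comp ((MonoidHom.snd G _).comp (twGroup N ρ).subtype)
  refine ⟨D * (μ.comp (twProj N ρ))⁻¹, fun n => ?_, fun e => ?_⟩
  · rw [MonoidHom.mul_apply, MonoidHom.inv_apply, mul_inv_eq_one]
    apply Units.ext
    show LinearMap.det (ρ n) = (μ (n : G) : ℂ)
    rw [hμ]
  · rw [MonoidHom.mul_apply, MonoidHom.inv_apply,
      show μ.comp (twProj N ρ) e = 1 from (congrArg μ e.2).trans (map_one μ), inv_one, mul_one]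
    apply Units.ext
    show LinearMap.det ((e : twGroup N ρ).1.2 : Module.End ℂ V) = _
    rw [show ((e : twGroup N ρ).1.2 : Module.End ℂ V) = (twScalar N ρ e : ℂ) • 1 from
      twScalar_spec N ρ e, LinearMap.det_smul, map_one, mul_one, zpow_natCast, Units.val_pow_eq_pow_val]

/-- Cyclic quotient: the scalar splits. -/
theorem hasSplit_one_of_cyclic (hcyc : IsCyclic (G ⧸ N)) : HasSplit N ρ 1 := by
  classical
  let I : Subgroup (twGroup N ρ) := (twIncl N ρ).range
  have : I.Normal := ⟨by
    rintro _ ⟨n, rfl⟩ g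
    exact ⟨_, (twIncl_conj N ρ g n).symm⟩⟩
  let f : twGroup N ρ ⧸ I →* G ⧸ N :=
    QuotientGroup.lift I ((QuotientGroup.mk' N).comp (twProj N ρ)) (by
      rintro _ ⟨n, rfl⟩
      show QuotientGroup.mk' N (twProj N ρ (twIncl N ρ n)) = 1
      rw [twProj_twIncl]
      exact (QuotientGroup.eq_one_iff _).mpr n.2)
  have hf : f.ker ≤ Subgroup.center _ := by
    intro x hx
    obtain ⟨a, rfl⟩ := QuotientGroup.mk'_surjective I x
    have ha : twProj N ρ a ∈ N := (QuotientGroup.eq_one_iff _).mp hx
    obtain ⟨c, hc, hac⟩ := exists_scalar_of_mem N ρ a ha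
    rw [Subgroup.mem_center_iff]
    intro y
    obtain ⟨b, rfl⟩ := QuotientGroup.mk'_surjective I y
    set n : N := ⟨twProj N ρ a, ha⟩
    set z : twGroup N ρ := a * (twIncl N ρ n)⁻¹ with hz
    have hza : QuotientGroup.mk' I a = QuotientGroup.mk' I z := by
      rw [hz, map_mul, map_inv,
        show QuotientGroup.mk' I (twIncl N ρ n) = 1 from (QuotientGroup.eq_one_iff _).mpr ⟨n, rfl⟩,
        inv_one, mul_one]
    have hcomm : b * z = z * b := by
      have hz1 : twProj N ρ z = 1 := by rw [hz, map_mul, map_inv, twProj_twIncl, mul_inv_cancel]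
      obtain ⟨c', hc'⟩ := exists_scalar_of_ker N ρ z hz1
      apply Subtype.ext
      refine Prod.ext ?_ (Units.ext ?_)
      · show b.1.1 * z.1.1 = z.1.1 * b.1.1
        rw [show z.1.1 = 1 from hz1]; simp
      · show (b.1.2 : Module.End ℂ V) * (z.1.2 : Module.End ℂ V) = (z.1.2 : Module.End ℂ V) * b.1.2
        rw [show (z.1.2 : Module.End ℂ V) = (c' : ℂ) • 1 from hc']
        simp
    rw [hza, ← map_mul, ← map_mul, hcomm]
  let cg : CommGroup (twGroup N ρ ⧸ I) := { mul_comm := commutative_of_cyclic_center_quotient f hf }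
  let ι' : (twProj N ρ).ker →* twGroup N ρ ⧸ I :=
    (QuotientGroup.mk' I).comp (twProj N ρ).ker.subtype
  have hinj : Function.Injective ι' := by
    rw [injective_iff_map_eq_one]
    intro e he
    obtain ⟨n, hn⟩ := (QuotientGroup.eq_one_iff _).mp he
    have h1 : (n : G) = 1 := by
      rw [← twProj_twIncl N ρ n, hn]
      exact e.2
    apply Subtype.ext
    rw [show ((e : (twProj N ρ).ker) : twGroup N ρ) = twIncl N ρ n from hn.symm,
      show n = 1 from Subtype.ext h1, map_one]
    rfl
  let κ : ι'.range →* ℂˣ := (twScalar N ρ).comp (MonoidHom.ofInjective hinj).symm.toMonoidHom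
  obtain ⟨ψ, hψ⟩ := MonoidHom.domRestrict_surjective ℂ ι'.range κ
  refine ⟨ψ.comp (QuotientGroup.mk' I), fun n => ?_, fun e => ?_⟩
  · rw [MonoidHom.comp_apply,
      show QuotientGroup.mk' I (twIncl N ρ n) = 1 from (QuotientGroup.eq_one_iff _).mpr ⟨n, rfl⟩,
      map_one]
  · rw [zpow_one]
    have h := DFunLike.congr_fun hψ (MonoidHom.ofInjective hinj e)
    rw [show κ (MonoidHom.ofInjective hinj e) = twScalar N ρ e from
      congrArg (twScalar N ρ) ((MonoidHom.ofInjective hinj).symm_apply_apply e)] at h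
    exact h

omit [Finite G] in
/-- The determinant character computed from any realisation. -/
theorem detChar_character {H : Type u} [Group H] [Finite H] (R : Representation ℂ H V) (x : H) :
    Cfsg.detChar R.character x = LinearMap.det (R x) := by
  classical
  have h : Cfsg.IsCharacter H R.character := isCharacter_character R
  unfold Cfsg.detChar
  rw [dif_pos h]
  have hspec := Classical.choose_spec (Classical.choose_spec h)
  obtain ⟨φ⟩ := nonempty_equiv_of_character_eq _ _ _ R hspec
  show LinearMap.det _ = LinearMap.det (R x)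
  rw [← φ.conj_apply_self x]
  exact (LinearMap.det_conj _ φ.toLinearEquiv).symm

/-- The character version: extension from a representation extending `ρ`. -/
theorem exists_irr_ext_of_rep (R : Representation ℂ G V) (hR : ∀ n : N, R (n : G) = ρ n) :
    Cfsg.IsIrrCharacter G R.character ∧ ∀ n : N, R.character n = ρ.character n := by
  refine ⟨?_, fun n => by rw [Representation.character, Representation.character, hR]⟩
  have : R.IsIrreducible := by
    have := nontrivial_of_irreducible ρ
    have : Nontrivial (Subrepresentation R) := by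
      refine ⟨⊥, ⊤, fun h' => ?_⟩
      have h2 : (⊥ : Submodule ℂ V) = ⊤ := congrArg Subrepresentation.toSubmodule h'
      exact bot_ne_top h2
    refine ⟨fun S => ?_⟩
    let S' : Subrepresentation ρ := ⟨S.toSubmodule, fun n v hv => hR n ▸ S.apply_mem_toSubmodule _ hv⟩
    rcases IsSimpleOrder.eq_bot_or_eq_top S' with h | h
    · exact Or.inl (Subrepresentation.toSubmodule_injective (congrArg Subrepresentation.toSubmodule h :))
    · exact Or.inr (Subrepresentation.toSubmodule_injective (congrArg Subrepresentation.toSubmodule h :))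
  exact isIrrCharacter_character R

omit [Finite G] hN in
/-- A character extending `ρ.character` is afforded by a representation extending `ρ`. -/
theorem exists_rep_extending [Finite N] {H : Type u} [Group H] (i : N →* H) {η : H → ℂ}
    (hη : Cfsg.IsCharacter H η) (hres : ∀ n : N, η (i n) = ρ.character n) :
    ∃ R : Representation ℂ H V, (∀ n : N, R (i n) = ρ n) ∧ R.character = η := by
  obtain ⟨m, σ, rfl⟩ := hη
  let σN : Representation ℂ N (Fin m → ℂ) := σ.comp i
  have hc : σN.character = ρ.character := funext hres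
  obtain ⟨φ⟩ := nonempty_equiv_of_character_eq _ _ σN ρ hc
  exact ⟨repConj σ φ.toLinearEquiv, fun n => φ.conj_apply_self n, character_repConj σ _⟩

/-- A linear character extending the determinant, from an extension. -/
theorem exists_det_extension (R : Representation ℂ G V) (hR : ∀ n : N, R (n : G) = ρ n) :
    ∃ μ : G → ℂ, Cfsg.IsCharacter G μ ∧ μ 1 = 1 ∧
      ∀ n : N, μ n = Cfsg.detChar ρ.character n := by
  let f : G →* ℂˣ := (Units.map (LinearMap.det (A := ℂ) (M := V))).comp (MonoidHom.toHomUnits R)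
  refine ⟨fun g => (f g : ℂ), isCharacter_of_irr (isIrrCharacter_linear f), by simp, fun n => ?_⟩
  rw [detChar_character ρ n]
  show LinearMap.det (R (n : G)) = _
  rw [hR]

/-- Coprime criterion: the determinant extends, and degree and index are coprime. -/
theorem exists_extension_of_det (hinv : ∀ g : G, conjN N g ρ.character = ρ.character)
    {μ : G → ℂ} (hμ : Cfsg.IsCharacter G μ) (hμ1 : μ 1 = 1)
    (hμN : ∀ n : N, μ n = Cfsg.detChar ρ.character n) (hcop : Nat.Coprime N.index (finrank ℂ V)) :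
    ∃ R : Representation ℂ G V, ∀ n : N, R (n : G) = ρ n := by
  obtain ⟨f, hf⟩ := exists_hom_of_deg_one hμ hμ1
  have hdet : ∀ n : N, (f (n : G) : ℂ) = LinearMap.det (ρ n) := fun n => by
    rw [← detChar_character ρ n, ← hμN n, hf]
  refine exists_extension_of_hasSplit N ρ hinv ?_
  have h := (splitExponents N ρ).add_mem
    ((splitExponents N ρ).zsmul_mem (hasSplit_index N ρ hinv) (Nat.gcdA N.index (finrank ℂ V)))
    ((splitExponents N ρ).zsmul_mem (hasSplit_finrank N ρ f hdet) (Nat.gcdB N.index (finrank ℂ V)))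
  have hb := Nat.gcd_eq_gcd_ab N.index (finrank ℂ V)
  rw [show Nat.gcd N.index (finrank ℂ V) = 1 from hcop] at hb
  rw [smul_eq_mul, smul_eq_mul, mul_comm _ (N.index : ℤ), mul_comm _ (finrank ℂ V : ℤ),
    ← hb, Nat.cast_one] at h
  exact h

end Cfsg.Lib.Chars
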