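import Cfsg.Agent.Chars.Core
import Cfsg.Agent.Chars.Count

/-!
# The Frobenius-Schur indicator
-/

namespace Cfsg.Lib.Chars

open scoped ComplexConjugate
open Module Matrix

universe u

variable {G : Type u} [Group G]

/-- The matrix form of a coordinate representation. -/
noncomputable def matRep {d : ℕ} (ρ : Representation ℂ G (Fin d → ℂ)) :
    G →* Matrix (Fin d) (Fin d) ℂ :=
  (LinearMap.toMatrixAlgEquiv' (R := ℂ) (n := Fin d)).toAlgHom.toMonoidHom.comp ρ

theorem matRep_mulVec {d : ℕ} (ρ : Representation ℂ G (Fin d → ℂ)) (g : G) (v : Fin d → ℂ) :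
    matRep ρ g *ᵥ v = ρ g v :=
  LinearMap.toMatrix'_mulVec _ _

theorem character_matRep {d : ℕ} (ρ : Representation ℂ G (Fin d → ℂ)) (g : G) :
    ρ.character g = (matRep ρ g).trace := by
  rw [Representation.character, LinearMap.trace_eq_matrix_trace ℂ (Pi.basisFun ℂ (Fin d)),
    LinearMap.toMatrix_eq_toMatrix']
  rfl

/-- A bilinear form fixed by the representation. -/
def IsInvForm {d : ℕ} (ρ : Representation ℂ G (Fin d → ℂ)) (M : Matrix (Fin d) (Fin d) ℂ) : Prop :=
  ∀ s, matRep ρ s * M * (matRep ρ s)ᵀ = M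

theorem IsInvForm.injective {d : ℕ} {ρ : Representation ℂ G (Fin d → ℂ)} [ρ.IsIrreducible]
    {M : Matrix (Fin d) (Fin d) ℂ} (h : IsInvForm ρ M) (h0 : M ≠ 0) :
    Function.Injective (M *ᵥ ·) := by
  let S : Subrepresentation ρ :=
    ⟨LinearMap.range (Matrix.toLin' M), fun g v hv => by
      obtain ⟨w, rfl⟩ := hv
      refine ⟨(matRep ρ g⁻¹)ᵀ *ᵥ w, ?_⟩
      simp only [Matrix.toLin'_apply, Matrix.mulVec_mulVec]
      have h1 : M * (matRep ρ g⁻¹)ᵀ = matRep ρ g * M := by
        calc M * (matRep ρ g⁻¹)ᵀ = matRep ρ g * (matRep ρ g⁻¹ * M * (matRep ρ g⁻¹)ᵀ) := by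
              rw [← mul_assoc, ← mul_assoc, ← map_mul, mul_inv_cancel, map_one, one_mul]
          _ = _ := by rw [h g⁻¹]
      rw [h1, ← Matrix.mulVec_mulVec, matRep_mulVec]⟩
  have hS : S.toSubmodule = ⊤ := by
    rcases IsSimpleOrder.eq_bot_or_eq_top S with hb | hb
    · refine absurd ?_ h0
      have hb' : LinearMap.range (Matrix.toLin' M) = ⊥ := congrArg Subrepresentation.toSubmodule hb
      rw [LinearMap.range_eq_bot] at hb'
      exact Matrix.toLin'.injective (hb'.trans (map_zero _).symm)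
    · exact congrArg Subrepresentation.toSubmodule hb
  have hs : Function.Surjective (Matrix.toLin' M) := LinearMap.range_eq_top.mp hS
  exact (LinearMap.injective_iff_surjective.mpr hs : Function.Injective (Matrix.toLin' M))

theorem IsInvForm.eq_smul {d : ℕ} {ρ : Representation ℂ G (Fin d → ℂ)} [ρ.IsIrreducible]
    {M N : Matrix (Fin d) (Fin d) ℂ} (hM : IsInvForm ρ M) (h0 : M ≠ 0) (hN : IsInvForm ρ N) :
    ∃ c : ℂ, N = c • M := by
  have := nontrivial_of_irreducible ρ
  have hinj := hM.injective h0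
  have hu : IsUnit M := Matrix.mulVec_injective_iff_isUnit.mp hinj
  obtain ⟨c, hc⟩ := Module.End.exists_eigenvalue (Matrix.toLin' (N * M⁻¹))
  obtain ⟨v, hv⟩ := hc.exists_hasEigenvector
  refine ⟨c, ?_⟩
  by_contra hne
  have hD : IsInvForm ρ (N - c • M) := fun s => by
    rw [Matrix.mul_sub, Matrix.sub_mul, hN s, Matrix.mul_smul, Matrix.smul_mul, hM s]
  have hdinj := hD.injective (sub_ne_zero.mpr hne)
  have h1 : (N - c • M) *ᵥ (M⁻¹ *ᵥ v) = 0 := by
    rw [Matrix.sub_mulVec, Matrix.mulVec_mulVec, Matrix.smul_mulVec, Matrix.mulVec_mulVec,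
      Matrix.mul_nonsing_inv _ ((Matrix.isUnit_iff_isUnit_det M).mp hu), Matrix.one_mulVec,
      sub_eq_zero]
    exact hv.apply_eq_smul
  have h2 : M⁻¹ *ᵥ v = 0 := hdinj (h1.trans (Matrix.mulVec_zero _).symm)
  refine hv.2 ?_
  have h3 := congrArg (M *ᵥ ·) h2
  simp only [Matrix.mulVec_mulVec, Matrix.mul_nonsing_inv _ ((Matrix.isUnit_iff_isUnit_det M).mp hu),
    Matrix.one_mulVec, Matrix.mulVec_zero] at h3
  exact h3

variable [Fintype G]

/-- Averaging of forms. -/
noncomputable def avgForm {d : ℕ} (ρ : Representation ℂ G (Fin d → ℂ))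
    (M : Matrix (Fin d) (Fin d) ℂ) : Matrix (Fin d) (Fin d) ℂ :=
  (Nat.card G : ℂ)⁻¹ • ∑ s, matRep ρ s * M * (matRep ρ s)ᵀ

theorem isInvForm_avg {d : ℕ} (ρ : Representation ℂ G (Fin d → ℂ))
    (M : Matrix (Fin d) (Fin d) ℂ) : IsInvForm ρ (avgForm ρ M) := fun t => by
  have key : ∀ (A : G →* Matrix (Fin d) (Fin d) ℂ) (c : ℂ),
      A t * (c • ∑ s, A s * M * (A s)ᵀ) * (A t)ᵀ = c • ∑ s, A s * M * (A s)ᵀ := fun A c => by
    rw [Matrix.mul_smul, Matrix.smul_mul, Matrix.mul_sum, Matrix.sum_mul]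
    congr 1
    rw [← Equiv.sum_comp (Equiv.mulLeft t) (fun s => A s * M * (A s)ᵀ)]
    refine Finset.sum_congr rfl fun s _ => ?_
    simp only [Equiv.coe_mulLeft, map_mul, Matrix.transpose_mul, Matrix.mul_assoc]
  exact key (matRep ρ) _

theorem avgForm_of_inv {d : ℕ} {ρ : Representation ℂ G (Fin d → ℂ)} {M : Matrix (Fin d) (Fin d) ℂ}
    (h : IsInvForm ρ M) : avgForm ρ M = M := by
  rw [avgForm, Finset.sum_congr rfl fun s _ => h s, Finset.sum_const, Finset.card_univ,
    ← Nat.cast_smul_eq_nsmul ℂ, smul_smul, Nat.card_eq_fintype_card,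
    inv_mul_cancel₀ (by exact_mod_cast Fintype.card_ne_zero), one_smul]

theorem avgForm_single {d : ℕ} (ρ : Representation ℂ G (Fin d → ℂ)) (a b i k : Fin d) :
    avgForm ρ (Matrix.single a b 1) i k =
      (Nat.card G : ℂ)⁻¹ * ∑ s, matRep ρ s i a * matRep ρ s k b := by
  rw [avgForm, Matrix.smul_apply, Matrix.sum_apply, smul_eq_mul]
  congr 1
  refine Finset.sum_congr rfl fun s _ => ?_
  simp [Matrix.mul_apply, Matrix.single_apply, Matrix.transpose_apply, ite_and]

theorem avgForm_eq_sum {d : ℕ} (ρ : Representation ℂ G (Fin d → ℂ)) (M : Matrix (Fin d) (Fin d) ℂ)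
    (a b : Fin d) : avgForm ρ M a b =
      ∑ i, ∑ j, M i j * avgForm ρ (Matrix.single i j 1) a b := by
  simp only [avgForm_single]
  rw [avgForm, Matrix.smul_apply, Matrix.sum_apply, smul_eq_mul, Finset.mul_sum]
  have h : ∀ s, (matRep ρ s * M * (matRep ρ s)ᵀ) a b =
      ∑ i, ∑ j, M i j * (matRep ρ s a i * matRep ρ s b j) := fun s => by
    rw [Matrix.mul_apply, Finset.sum_comm]
    refine Finset.sum_congr rfl fun j _ => ?_
    rw [Matrix.mul_apply, Finset.sum_mul]
    exact Finset.sum_congr rfl fun i _ => by rw [Matrix.transpose_apply]; ring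
  simp only [h, Finset.mul_sum]
  rw [Finset.sum_comm]
  refine Finset.sum_congr rfl fun i _ => ?_
  rw [Finset.sum_comm]
  exact Finset.sum_congr rfl fun j _ => Finset.sum_congr rfl fun s _ => by ring

theorem indicator_eq {d : ℕ} (ρ : Representation ℂ G (Fin d → ℂ)) :
    (Nat.card G : ℂ)⁻¹ * ∑ s, ρ.character (s * s) =
      ∑ i, ∑ j, avgForm ρ (Matrix.single j i 1) i j := by
  simp only [avgForm_single, ← Finset.mul_sum]
  congr 1
  conv_rhs =>
    enter [2, i]
    rw [Finset.sum_comm]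
  rw [Finset.sum_comm]
  refine Finset.sum_congr rfl fun s _ => ?_
  rw [character_matRep, map_mul, Matrix.trace]
  simp [Matrix.mul_apply]

theorem sq_eq {d : ℕ} (ρ : Representation ℂ G (Fin d → ℂ)) :
    (Nat.card G : ℂ)⁻¹ * ∑ s, ρ.character s * ρ.character s =
      ∑ i, ∑ j, avgForm ρ (Matrix.single i j 1) i j := by
  simp only [avgForm_single, ← Finset.mul_sum]
  congr 1
  conv_rhs =>
    enter [2, i]
    rw [Finset.sum_comm]
  rw [Finset.sum_comm]
  refine Finset.sum_congr rfl fun s _ => ?_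
  rw [character_matRep, Matrix.trace, Finset.sum_mul_sum]
  simp

/-- The trichotomy, with parity. -/
theorem indicator_trichotomy {d : ℕ} (ρ : Representation ℂ G (Fin d → ℂ)) [ρ.IsIrreducible] :
    ((Nat.card G : ℂ)⁻¹ * ∑ s, ρ.character (s * s) = 0 ∧
      (Nat.card G : ℂ)⁻¹ * ∑ s, ρ.character s * ρ.character s = 0) ∨
    ((Nat.card G : ℂ)⁻¹ * ∑ s, ρ.character s * ρ.character s = 1 ∧
      ((Nat.card G : ℂ)⁻¹ * ∑ s, ρ.character (s * s) = 1 ∨
        ((Nat.card G : ℂ)⁻¹ * ∑ s, ρ.character (s * s) = -1 ∧ Even d))) := by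
  by_cases h : ∃ M, IsInvForm ρ M ∧ M ≠ 0
  · obtain ⟨M, hM, hM0⟩ := h
    right
    have hT : IsInvForm ρ Mᵀ := fun s => by
      have := congrArg Matrix.transpose (hM s)
      rwa [Matrix.transpose_mul, Matrix.transpose_mul, Matrix.transpose_transpose, ← mul_assoc] at this
    choose c hc using fun i j : Fin d => hM.eq_smul hM0 (isInvForm_avg ρ (Matrix.single i j 1))
    have expand : ∀ X a b, avgForm ρ X a b = (∑ i, ∑ j, X i j * c i j) * M a b := fun X a b => by
      rw [avgForm_eq_sum, Finset.sum_mul]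
      refine Finset.sum_congr rfl fun i _ => ?_
      rw [Finset.sum_mul]
      refine Finset.sum_congr rfl fun j _ => ?_
      rw [hc, Matrix.smul_apply, smul_eq_mul, mul_assoc]
    obtain ⟨a, b, hab⟩ : ∃ a b, M a b ≠ 0 := by
      by_contra h0; push Not at h0; exact hM0 (Matrix.ext h0)
    have hsq : (Nat.card G : ℂ)⁻¹ * ∑ s, ρ.character s * ρ.character s = 1 := by
      have h1 := expand M a b
      rw [avgForm_of_inv hM] at h1
      rw [sq_eq, Finset.sum_congr rfl fun i _ => Finset.sum_congr rfl fun j _ => by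
        rw [hc i j, Matrix.smul_apply, smul_eq_mul, mul_comm]]
      exact mul_right_cancel₀ hab (h1.symm.trans (one_mul _).symm)
    set ν := (Nat.card G : ℂ)⁻¹ * ∑ s, ρ.character (s * s) with hν
    have hνM : Mᵀ = ν • M := by
      ext x y
      conv_lhs => rw [← avgForm_of_inv hT]
      rw [Matrix.smul_apply, smul_eq_mul, expand, hν, indicator_eq]
      congr 1
      rw [Finset.sum_comm]
      refine Finset.sum_congr rfl fun i _ => Finset.sum_congr rfl fun j _ => ?_
      rw [hc, Matrix.smul_apply, smul_eq_mul, Matrix.transpose_apply, mul_comm]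
    have hν2 : ν * ν = 1 := by
      have h2 := congrArg Matrix.transpose hνM
      rw [Matrix.transpose_transpose, Matrix.transpose_smul, hνM, smul_smul] at h2
      have h3 := congrFun (congrFun h2 a) b
      rw [Matrix.smul_apply, smul_eq_mul] at h3
      exact mul_right_cancel₀ hab (h3.symm.trans (one_mul _).symm)
    refine ⟨hsq, ?_⟩
    rcases mul_self_eq_one_iff.mp hν2 with h1 | h1
    · exact Or.inl h1
    · refine Or.inr ⟨h1, ?_⟩
      by_contra hodd
      have hdet : IsUnit M.det :=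
        (Matrix.isUnit_iff_isUnit_det M).mp (Matrix.mulVec_injective_iff_isUnit.mp (hM.injective hM0))
      have h2 := congrArg Matrix.det hνM
      rw [Matrix.det_transpose, Matrix.det_smul, h1, Fintype.card_fin,
        (Nat.not_even_iff_odd.mp hodd).neg_one_pow, neg_one_mul] at h2
      exact hdet.ne_zero (CharZero.eq_neg_self_iff.mp h2)
  · push Not at h
    left
    have h0 : ∀ X, avgForm ρ X = 0 := fun X => h _ (isInvForm_avg ρ X)
    constructor
    · rw [indicator_eq]; simp [h0]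
    · rw [sq_eq]; simp [h0]

/-- The indicator of an irreducible character. -/
theorem indicator_irr {χ : G → ℂ} (hχ : Cfsg.IsIrrCharacter G χ) :
    ((∃ s, (χ s).im ≠ 0) ∧ (Nat.card G : ℂ)⁻¹ * ∑ s, χ (s * s) = 0) ∨
    ((∀ s, (χ s).im = 0) ∧ ((Nat.card G : ℂ)⁻¹ * ∑ s, χ (s * s) = 1 ∨
      ((Nat.card G : ℂ)⁻¹ * ∑ s, χ (s * s) = -1 ∧ ∀ d : ℕ, χ 1 = d → Even d))) := by
  classical
  have hn := classInner_self_irr hχ
  have hconj := IsIrrCharacter.conjugate hχ
  have horth := classInner_irrChar hχ hconj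
  rw [classInner_def] at horth
  simp only [Complex.conj_conj] at horth
  have hreal : (χ = fun g => conj (χ g)) ↔ ∀ s, (χ s).im = 0 := by
    rw [funext_iff]
    exact forall_congr' fun s => eq_comm.trans Complex.conj_eq_iff_im
  obtain ⟨d, ρ, hρ, rfl⟩ := hχ
  rcases indicator_trichotomy ρ with ⟨h1, h2⟩ | ⟨h1, h2⟩
  · left
    refine ⟨?_, h1⟩
    by_contra hc
    push Not at hc
    rw [h2, if_pos (hreal.mpr hc)] at horth
    exact zero_ne_one horth
  · right
    refine ⟨hreal.mp ?_, h2.imp_right fun ⟨ha, hb⟩ => ⟨ha, fun e he => ?_⟩⟩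
    · by_contra hne
      rw [h1, if_neg hne] at horth
      exact one_ne_zero horth
    · rw [ρ.char_one, Module.finrank_fin_fun] at he
      exact (Nat.cast_injective he : d = e) ▸ hb

end Cfsg.Lib.Chars
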