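import Mathlib
import Cfsg.Agent.Chars.Galois

/-!
# Galois automorphisms fixing a field of values
-/

set_option autoImplicit false
set_option linter.style.haveILetI false

namespace Cfsg.Lib.Chars

open Module

/-- The exponents of the automorphisms of the cyclotomic field fixing a set of values form a
subgroup of index equal to the degree of the field generated by the values. -/
theorem exists_fixing_units {n : ℕ} [NeZero n] (S : Set ℂ) (hS : ∀ z ∈ S, z ∈ cycField n) :
    ∃ U : Subgroup (ZMod n)ˣ, U.index = finrank ℚ (IntermediateField.adjoin ℚ S) ∧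
      ∀ u ∈ U, ∃ σ : ℂ ≃+* ℂ, IsGalConj σ n (u : ZMod n).val ∧ ∀ z ∈ S, σ z = z := by
  haveI := finiteDimensional_cycField n
  haveI := isGalois_cycField n
  have hle : IntermediateField.adjoin ℚ S ≤ cycField n := IntermediateField.adjoin_le_iff.2 hS
  set F : IntermediateField ℚ (cycField n) := IntermediateField.restrict hle with hF
  set ζ : cycField n := ⟨zetaC n, IntermediateField.mem_adjoin_simple_self ℚ _⟩ with hζdef
  have hζ : IsPrimitiveRoot ζ n :=
    IsPrimitiveRoot.of_map_of_injective (f := (cycField n).val) (isPrimitiveRoot_zetaC n)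
      (cycField n).val.injective
  let φ := hζ.autToPow ℚ
  have hφ : Function.Injective φ := hζ.autToPow_injective ℚ
  refine ⟨F.fixingSubgroup.map φ, ?_, ?_⟩
  · have hfin : finrank ℚ F = finrank ℚ (IntermediateField.adjoin ℚ S) :=
      (IntermediateField.restrictAlgEquiv hle).toLinearEquiv.finrank_eq.symm
    have hcardU : Nat.card (F.fixingSubgroup.map φ) = finrank F (cycField n) := by
      rw [Subgroup.card_map_of_injective hφ, IsGalois.card_fixingSubgroup_eq_finrank]
    have htot : Nat.card (ZMod n)ˣ = finrank ℚ (cycField n) := by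
      rw [IsCyclotomicExtension.finrank (cycField n) (Polynomial.cyclotomic.irreducible_rat (NeZero.pos n)),
        Nat.card_eq_fintype_card, ZMod.card_units_eq_totient]
    have h1 := (F.fixingSubgroup.map φ).card_mul_index
    rw [htot, hcardU, ← Module.finrank_mul_finrank ℚ F (cycField n), mul_comm (finrank ℚ F)] at h1
    rw [← hfin]
    exact Nat.eq_of_mul_eq_mul_left Module.finrank_pos h1
  · rintro _ ⟨τ, hτ, rfl⟩
    obtain ⟨σ, hσ⟩ := exists_extend_auto (cycField n) τ
    refine ⟨σ, fun z hz => ?_, fun z hz => ?_⟩
    · obtain ⟨i, -, rfl⟩ := (isPrimitiveRoot_zetaC n).eq_pow_of_pow_eq_one hz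
      have h1 : σ (zetaC n) = zetaC n ^ ((φ τ : (ZMod n)ˣ) : ZMod n).val := by
        have h2 := hσ ζ
        rw [← hζ.autToPow_spec ℚ τ, SubmonoidClass.coe_pow] at h2
        exact h2
      rw [map_pow, h1, ← pow_mul, ← pow_mul, mul_comm]
    · have hzF : (⟨z, hS z hz⟩ : cycField n) ∈ F :=
        (IntermediateField.mem_restrict hle _).2 (IntermediateField.subset_adjoin ℚ S hz)
      have h1 := (IntermediateField.mem_fixingSubgroup_iff F τ).1 hτ _ hzF
      rw [show σ z = σ ((⟨z, hS z hz⟩ : cycField n) : ℂ) from rfl, hσ, h1]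

end Cfsg.Lib.Chars

namespace Cfsg.Lib.Chars

open Module

/-- As `exists_fixing_units`, with the converse: the exponents fixing the values form a subgroup
whose index is the degree of the field of values. -/
theorem exists_fixing_units_iff {n : ℕ} [NeZero n] (S : Set ℂ) (hS : ∀ z ∈ S, z ∈ cycField n) :
    ∃ U : Subgroup (ZMod n)ˣ, U.index = finrank ℚ (IntermediateField.adjoin ℚ S) ∧
      ∀ u : (ZMod n)ˣ, u ∈ U ↔
        ∀ σ : ℂ ≃+* ℂ, IsGalConj σ n (u : ZMod n).val → ∀ z ∈ S, σ z = z := by
  haveI := finiteDimensional_cycField n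
  haveI := isGalois_cycField n
  obtain ⟨U, hUi, hU⟩ := exists_fixing_units S hS
  refine ⟨U, hUi, fun u => ⟨fun hu σ hσ z hz => ?_, fun h => ?_⟩⟩
  · obtain ⟨τ, hτ, hfix⟩ := hU u hu
    have hag : ∀ x : cycField n, σ (x : ℂ) = τ (x : ℂ) := by
      rintro ⟨x, hx⟩
      induction hx using IntermediateField.adjoin_induction with
      | mem y hy =>
        obtain rfl := Set.mem_singleton_iff.1 hy
        show σ (zetaC n) = τ (zetaC n)
        rw [hσ _ (isPrimitiveRoot_zetaC n).pow_eq_one, hτ _ (isPrimitiveRoot_zetaC n).pow_eq_one]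
      | algebraMap q => exact (map_ratCast σ q).trans (map_ratCast τ q).symm
      | add y w _ _ h1 h2 =>
        show σ (y + w) = τ (y + w)
        rw [map_add, map_add]; exact congrArg₂ _ h1 h2
      | inv y _ h1 =>
        show σ y⁻¹ = τ y⁻¹
        rw [map_inv₀, map_inv₀]; exact congrArg _ h1
      | mul y w _ _ h1 h2 =>
        show σ (y * w) = τ (y * w)
        rw [map_mul, map_mul]; exact congrArg₂ _ h1 h2
    exact (hag ⟨z, hS z hz⟩).trans (hfix z hz)
  · -- the subgroup together with `u` still fixes the values, so it is no larger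
    set V : Subgroup (ZMod n)ˣ := U ⊔ Subgroup.zpowers u with hV
    have hle : IntermediateField.adjoin ℚ S ≤ cycField n := IntermediateField.adjoin_le_iff.2 hS
    set F : IntermediateField ℚ (cycField n) := IntermediateField.restrict hle with hF
    set ζ : cycField n := ⟨zetaC n, IntermediateField.mem_adjoin_simple_self ℚ _⟩ with hζdef
    have hζ : IsPrimitiveRoot ζ n :=
      IsPrimitiveRoot.of_map_of_injective (f := (cycField n).val) (isPrimitiveRoot_zetaC n)
        (cycField n).val.injective
    let φ := hζ.autToPow ℚ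
    have hφ : Function.Injective φ := hζ.autToPow_injective ℚ
    have htot : Nat.card (ZMod n)ˣ = finrank ℚ (cycField n) := by
      rw [IsCyclotomicExtension.finrank (cycField n)
        (Polynomial.cyclotomic.irreducible_rat (NeZero.pos n)),
        Nat.card_eq_fintype_card, ZMod.card_units_eq_totient]
    have hsurj : Function.Surjective φ := (Function.Injective.bijective_of_nat_card_le hφ (le_of_eq
      (by rw [htot, IsGalois.card_aut_eq_finrank]))).2
    set W : Subgroup (ZMod n)ˣ := F.fixingSubgroup.map φ with hW
    have huW : u ∈ W := by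
      obtain ⟨τ, rfl⟩ := hsurj u
      refine Subgroup.mem_map_of_mem φ ((IntermediateField.mem_fixingSubgroup_iff F τ).2 ?_)
      obtain ⟨σ, hσ⟩ := exists_extend_auto (cycField n) τ
      have hg : IsGalConj σ n ((φ τ : (ZMod n)ˣ) : ZMod n).val := by
        intro z hz
        obtain ⟨i, -, rfl⟩ := (isPrimitiveRoot_zetaC n).eq_pow_of_pow_eq_one hz
        have h2 := hσ ζ
        rw [← hζ.autToPow_spec ℚ τ, SubmonoidClass.coe_pow] at h2
        rw [map_pow, show σ (zetaC n) = zetaC n ^ ((φ τ : (ZMod n)ˣ) : ZMod n).val from h2,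
          ← pow_mul, ← pow_mul, mul_comm]
      have hfix := h σ hg
      intro x hx
      have hx' : (x : ℂ) ∈ IntermediateField.adjoin ℚ S := (IntermediateField.mem_restrict hle x).1 hx
      have hall : ∀ y ∈ IntermediateField.adjoin ℚ S, σ y = y := by
        intro y hy
        induction hy using IntermediateField.adjoin_induction with
        | mem y hy => exact hfix y hy
        | algebraMap q => exact map_ratCast σ q
        | add y w _ _ h1 h2 => rw [map_add, h1, h2]
        | inv y _ h1 => rw [map_inv₀, h1]
        | mul y w _ _ h1 h2 => rw [map_mul, h1, h2]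
      exact Subtype.ext ((hσ x).symm.trans (hall _ hx'))
    have hUW : U ≤ W := by
      intro v hv
      obtain ⟨σ', hσ', hfix'⟩ := hU v hv
      obtain ⟨τ, rfl⟩ := hsurj v
      refine Subgroup.mem_map_of_mem φ ((IntermediateField.mem_fixingSubgroup_iff F τ).2 ?_)
      intro x hx
      have hx' : (x : ℂ) ∈ IntermediateField.adjoin ℚ S := (IntermediateField.mem_restrict hle x).1 hx
      obtain ⟨σ, hσ⟩ := exists_extend_auto (cycField n) τ
      have hall : ∀ y ∈ IntermediateField.adjoin ℚ S, σ' y = y := by
        intro y hy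
        induction hy using IntermediateField.adjoin_induction with
        | mem y hy => exact hfix' y hy
        | algebraMap q => exact map_ratCast σ' q
        | add y w _ _ h1 h2 => rw [map_add, h1, h2]
        | inv y _ h1 => rw [map_inv₀, h1]
        | mul y w _ _ h1 h2 => rw [map_mul, h1, h2]
      have hag : ∀ x : cycField n, σ' (x : ℂ) = ((τ x : cycField n) : ℂ) := by
        rintro ⟨y, hy⟩
        rw [← hσ]
        induction hy using IntermediateField.adjoin_induction with
        | mem y hy =>
          obtain rfl := Set.mem_singleton_iff.1 hy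
          have h2 := hσ ζ
          rw [← hζ.autToPow_spec ℚ τ, SubmonoidClass.coe_pow] at h2
          rw [hσ' _ (isPrimitiveRoot_zetaC n).pow_eq_one]
          exact h2.symm
        | algebraMap q => exact (map_ratCast σ' q).trans (map_ratCast σ q).symm
        | add y w _ _ h1 h2 =>
          show σ' (y + w) = σ (y + w)
          rw [map_add, map_add]; exact congrArg₂ _ h1 h2
        | inv y _ h1 =>
          show σ' y⁻¹ = σ y⁻¹
          rw [map_inv₀, map_inv₀]; exact congrArg _ h1
        | mul y w _ _ h1 h2 =>
          show σ' (y * w) = σ (y * w)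
          rw [map_mul, map_mul]; exact congrArg₂ _ h1 h2
      exact Subtype.ext ((hag x).symm.trans (hall _ hx'))
    have hWi : W.index = finrank ℚ (IntermediateField.adjoin ℚ S) := by
      have hcardU : Nat.card W = finrank F (cycField n) := by
        rw [hW, Subgroup.card_map_of_injective hφ, IsGalois.card_fixingSubgroup_eq_finrank]
      have h1 := W.card_mul_index
      rw [htot, hcardU, ← Module.finrank_mul_finrank ℚ F (cycField n), mul_comm (finrank ℚ F)] at h1
      rw [← (IntermediateField.restrictAlgEquiv hle).toLinearEquiv.finrank_eq.symm]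
      exact Nat.eq_of_mul_eq_mul_left Module.finrank_pos h1
    have heq : U = W := Subgroup.eq_of_le_of_card_ge hUW (by
      have h1 := U.card_mul_index
      have h2 := W.card_mul_index
      rw [hUi, ← hWi] at h1
      rw [← h2] at h1
      exact (Nat.eq_of_mul_eq_mul_right
        (Nat.pos_of_ne_zero Subgroup.index_ne_zero_of_finite) h1).ge)
    exact heq ▸ huW

end Cfsg.Lib.Chars
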