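import Cfsg.Agent.Chars.Frob
import Cfsg.Agent.Chars.AbelianInertia
import Cfsg.Agent.Coprime.SchurZassenhaus
import Cfsg.Agent.Coprime.Action

/-!
# Classes and characters fixed by a coprime element
-/

set_option linter.unusedSectionVars false
set_option linter.style.haveILetI false

namespace Cfsg.Lib.Chars

open Subgroup Cfsg.Lib.Coprime

universe u

variable {L : Type u} [Group L] [Finite L]

theorem exists_conj_fixed (K : Subgroup L) [K.Normal] {y : L}
    (hcop : (Nat.card K).Coprime (orderOf y)) (k : K) (c : K)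
    (h : y * k * y⁻¹ = (c * k * c⁻¹ : K)) :
    ∃ n ∈ K, y * (n⁻¹ * k * n) * y⁻¹ = n⁻¹ * k * n := by
  set z : L := (c : L)⁻¹ * y with hz
  have hzk : z * k * z⁻¹ = k := by
    rw [hz]
    rw [show ((c * k * c⁻¹ : K) : L) = (c : L) * k * (c : L)⁻¹ by simp] at h
    calc (c : L)⁻¹ * y * k * ((c : L)⁻¹ * y)⁻¹ = (c : L)⁻¹ * (y * k * y⁻¹) * c := by group
      _ = k := by rw [h]; group
  set π := QuotientGroup.mk' K with hπ
  have hπz : π z = π y := by
    rw [hz, map_mul, map_inv, show π (c : L) = 1 from (QuotientGroup.eq_one_iff _).mpr c.2, inv_one, one_mul]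
  obtain ⟨e, he1, he0⟩ : ∃ e : ℕ, (∃ a, e = 1 + a * orderOf y ∨ e + a * orderOf y = 1) ∧
      Nat.card K ∣ e := by
    obtain ⟨e, he⟩ := Nat.chineseRemainder hcop.symm 1 0
    refine ⟨e, ?_, (Nat.modEq_zero_iff_dvd).mp he.2⟩
    rcases Nat.lt_or_ge e 1 with h0 | h1
    · obtain ⟨a, ha⟩ := (Nat.modEq_iff_dvd' (by omega : e ≤ 1)).mp he.1
      exact ⟨a, Or.inr (by rw [mul_comm] at ha; omega)⟩
    · obtain ⟨a, ha⟩ := (Nat.modEq_iff_dvd' h1).mp he.1.symm
      exact ⟨a, Or.inl (by rw [mul_comm] at ha; omega)⟩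
  have hπze : π (z ^ e) = π y := by
    rw [map_pow, hπz]
    have hy1 : ∀ a : ℕ, (π y) ^ (a * orderOf y) = 1 := fun a => by
      rw [← map_pow, mul_comm, pow_mul, pow_orderOf_eq_one, one_pow, map_one]
    obtain ⟨a, ha | ha⟩ := he1
    · rw [ha, pow_add, pow_one, hy1, mul_one]
    · have h1 := hy1 a
      rcases Nat.eq_zero_or_pos e with rfl | he
      · rw [zero_add] at ha
        rw [ha, pow_one] at h1
        rw [h1, pow_zero]
      · rw [show e = 1 by omega, pow_one]
  have hzm : z ^ orderOf y ∈ K := by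
    rw [← QuotientGroup.eq_one_iff, QuotientGroup.mk_pow]
    show (π z) ^ orderOf y = 1
    rw [hπz, ← map_pow, pow_orderOf_eq_one, map_one]
  have hzo : (z ^ e) ^ orderOf y = 1 := by
    obtain ⟨a, ha⟩ := he0
    rw [← pow_mul, mul_comm, pow_mul, ha, pow_mul,
      orderOf_dvd_iff_pow_eq_one.mp (Subgroup.orderOf_dvd_natCard K hzm), one_pow]
  have hle : zpowers (z ^ e) ≤ K ⊔ zpowers y := by
    rw [zpowers_le, show z ^ e = (z ^ e * y⁻¹) * y by group]
    refine mul_mem (mem_sup_left ?_) (mem_sup_right (mem_zpowers y))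
    rw [← QuotientGroup.eq_one_iff]
    show π (z ^ e * y⁻¹) = 1
    rw [map_mul, hπze, map_inv, mul_inv_cancel]
  obtain ⟨n, hn, hconj⟩ := exists_conj_le_of_coprime (N := K) (H := zpowers y) (L := zpowers (z ^ e))
    le_normalizer_of_normal (by rwa [Nat.card_zpowers]) (Or.inr inferInstance) hle (by
      rw [Nat.card_zpowers]
      exact hcop.coprime_dvd_right (orderOf_dvd_of_pow_eq_one hzo))
  obtain ⟨i, hi⟩ := mem_zpowers_iff.mp (mem_conjMap.mp (hconj (mem_zpowers (z ^ e))))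
  have hyi : y ^ i = y := by
    have h1 : y ^ i * y⁻¹ ∈ K := by
      rw [← QuotientGroup.eq_one_iff]
      show π (y ^ i * y⁻¹) = 1
      rw [hi, map_mul, map_mul, map_mul, hπze, show π n = 1 from (QuotientGroup.eq_one_iff n).mpr hn,
        map_inv, map_inv, show π n = 1 from (QuotientGroup.eq_one_iff n).mpr hn]
      group
    refine mul_inv_eq_one.mp (eq_one_of_coprime (H := zpowers y) (by rwa [Nat.card_zpowers]) h1
      (mul_mem (zpow_mem (mem_zpowers y) i) (inv_mem (mem_zpowers y))))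
  rw [hyi] at hi
  have hzek : z ^ e * k * (z ^ e)⁻¹ = k := by
    have hcm : Commute z (k : L) := mul_inv_eq_iff_eq_mul.mp hzk
    rw [(hcm.pow_left e).eq, mul_inv_cancel_right]
  refine ⟨n, hn, ?_⟩
  rw [hi]
  calc n⁻¹ * z ^ e * n * (n⁻¹ * (k : L) * n) * (n⁻¹ * z ^ e * n)⁻¹
      = n⁻¹ * (z ^ e * k * (z ^ e)⁻¹) * n := by group
    _ = n⁻¹ * k * n := by rw [hzek]

/-- fixed classes of a normal subgroup under a coprime element with abelian fixed points -/
theorem card_fixed_classes (K W : Subgroup L) [K.Normal] {y : L}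
    (hcop : (Nat.card K).Coprime (orderOf y)) (hWK : W ≤ K)
    (hW : K ⊓ centralizer ({y} : Set L) = W) (hab : ∀ a ∈ W, ∀ b ∈ W, a * b = b * a) :
    Nat.card {C : ConjClasses K //
      ConjClasses.map (MulEquiv.toMonoidHom (MulAut.conjNormal y : MulAut K)) C = C} = Nat.card W := by
  have hyW : ∀ w ∈ W, y * w * y⁻¹ = w := fun w hw => by
    rw [← mem_centralizer_singleton_iff.mp (hW.ge hw).2, mul_inv_cancel_right]
  let f : W → {C : ConjClasses K //
      ConjClasses.map (MulEquiv.toMonoidHom (MulAut.conjNormal y : MulAut K)) C = C} := fun w =>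
    ⟨ConjClasses.mk ⟨w, hWK w.2⟩, congrArg ConjClasses.mk (Subtype.ext (hyW w w.2))⟩
  refine (Nat.card_congr (Equiv.ofBijective f ⟨?_, ?_⟩)).symm
  · intro w w' hww
    obtain ⟨c, hc⟩ := isConj_iff.mp (ConjClasses.mk_eq_mk_iff_isConj.mp (congrArg Subtype.val hww))
    have hc' : (c : L) * w * (c : L)⁻¹ = w' := congrArg Subtype.val hc
    set D := K ⊓ centralizer ({(w : L)} : Set L)
    have hcy : ∀ a ∈ zpowers y, a * (w : L) * a⁻¹ = w ∧ a * (w' : L) * a⁻¹ = w' := by
      have key : ∀ u ∈ W, zpowers y ≤ centralizer ({u} : Set L) := fun u hu => by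
        rw [zpowers_le, mem_centralizer_singleton_iff]
        exact (mem_centralizer_singleton_iff.mp (hW.ge hu).2).symm
      intro a ha
      constructor
      · rw [mem_centralizer_singleton_iff.mp (key w w.2 ha), mul_inv_cancel_right]
      · rw [mem_centralizer_singleton_iff.mp (key w' w'.2 ha), mul_inv_cancel_right]
    have hnorm : zpowers y ≤ normalizer (D : Set L) := by
      refine le_normalizer_inf le_normalizer_of_normal (le_trans ?_ le_normalizer)
      intro a ha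
      exact mem_centralizer_singleton_iff.mpr (mul_inv_eq_iff_eq_mul.mp (hcy a ha).1)
    obtain ⟨d, hd, hdc⟩ := exists_fixed_in_coset (A := zpowers y) (D := D) (k := (c : L)) hnorm
      (by
        rw [Nat.card_zpowers]
        exact (hcop.coprime_dvd_left (card_dvd_of_le inf_le_left)).symm) (Or.inl inferInstance) fun a ha => by
      refine Subgroup.mem_inf.mpr ⟨?_, ?_⟩
      · rw [show (c : L)⁻¹ * a * c * a⁻¹ = (c : L)⁻¹ * (a * c * a⁻¹) by group]
        exact mul_mem (inv_mem c.2) ((inferInstance : K.Normal).conj_mem c c.2 a)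
      · refine mem_centralizer_singleton_iff.mpr ?_
        obtain ⟨h1, h2⟩ := hcy a ha
        have e1 : Commute a (w : L) := mul_inv_eq_iff_eq_mul.mp h1
        have e2 : Commute a (w' : L) := mul_inv_eq_iff_eq_mul.mp h2
        calc (c : L)⁻¹ * a * c * a⁻¹ * w = (c : L)⁻¹ * a * c * (a⁻¹ * w) := by group
          _ = (c : L)⁻¹ * a * c * (w * a⁻¹) := by rw [e1.inv_left.eq]
          _ = (c : L)⁻¹ * a * (c * w * (c : L)⁻¹) * c * a⁻¹ := by group
          _ = (c : L)⁻¹ * (a * w') * c * a⁻¹ := by rw [hc']; group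
          _ = (c : L)⁻¹ * (w' * a) * c * a⁻¹ := by rw [e2.eq]
          _ = (c : L)⁻¹ * (c * w * (c : L)⁻¹) * a * c * a⁻¹ := by rw [hc']; group
          _ = w * ((c : L)⁻¹ * a * c * a⁻¹) := by group
    have hcd : (c : L) * d ∈ W := hW.le ⟨mul_mem c.2 hd.1,
      mem_centralizer_singleton_iff.mpr (mem_centralizer_iff.mp hdc y (mem_zpowers y)).symm⟩
    apply Subtype.ext
    have h3 := hab _ hcd w w.2
    have hdw : d * (w : L) = w * d := mem_centralizer_singleton_iff.mp hd.2
    calc (w : L) = (c : L) * d * w * ((c : L) * d)⁻¹ := by rw [h3, mul_inv_cancel_right]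
      _ = (c : L) * (d * w) * d⁻¹ * (c : L)⁻¹ := by group
      _ = (c : L) * w * (c : L)⁻¹ := by rw [hdw]; group
      _ = w' := hc'
  · rintro ⟨C, hC⟩
    obtain ⟨k, rfl⟩ := ConjClasses.exists_rep C
    obtain ⟨c, hc⟩ := isConj_iff.mp (ConjClasses.mk_eq_mk_iff_isConj.mp hC).symm
    obtain ⟨n, hn, hfix⟩ := exists_conj_fixed K hcop k c (congrArg Subtype.val hc.symm)
    have hk : n⁻¹ * (k : L) * n ∈ K := mul_mem (mul_mem (inv_mem hn) k.2) hn
    refine ⟨⟨n⁻¹ * k * n, hW.le ⟨hk,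
      mem_centralizer_singleton_iff.mpr (mul_inv_eq_iff_eq_mul.mp hfix).symm⟩⟩, Subtype.ext ?_⟩
    refine ConjClasses.mk_eq_mk_iff_isConj.mpr (isConj_iff.mpr ⟨⟨n, hn⟩, Subtype.ext ?_⟩)
    show n * (n⁻¹ * (k : L) * n) * n⁻¹ = k
    group

theorem card_fixed_irr (K W : Subgroup L) [K.Normal] {y : L}
    (hcop : (Nat.card K).Coprime (orderOf y)) (hWK : W ≤ K)
    (hW : K ⊓ centralizer ({y} : Set L) = W) (hab : ∀ a ∈ W, ∀ b ∈ W, a * b = b * a) :
    Nat.card {θ : Cfsg.IrrCharacter K // conjN K y (θ : K → ℂ) = θ} = Nat.card W := by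
  rw [card_fixed_irr_conjN, card_fixed_classes K W hcop hWK hW hab]

end Cfsg.Lib.Chars
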