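import Cfsg.Agent.Chars.IrrTools
import Cfsg.Agent.Coprime.Hall

/-!
# Berger's theorem: quasiprimitive characters of solvable groups are primitive
-/

namespace Cfsg.Lib.Chars

open scoped ComplexConjugate
open Module

universe u v

/-- The group theory behind a core-free maximal subgroup of a solvable group. -/
theorem berger_groups {Q : Type u} [Group Q] [Finite Q] (hsol : Group.IsSolvable Q) (A : Subgroup Q)
    (hA : IsCoatom A) (hcore : ∀ N : Subgroup Q, N.Normal → N ≤ A → N = ⊥) :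
    ∃ (M : Subgroup Q) (p : ℕ), M.Normal ∧ p.Prime ∧ IsPGroup p M ∧ M ≠ ⊥ ∧ M ⊓ A = ⊥ ∧ M ⊔ A = ⊤ ∧
      (∀ m ∈ M, ∀ m' ∈ M, m * m' = m' * m) ∧
      (∀ a ∈ A, (∀ m ∈ M, a * m = m * a) → a = 1) ∧
      (A = ⊥ ∨ ∃ (S : Subgroup Q) (r : ℕ), r.Prime ∧ r ≠ p ∧ IsPGroup r S ∧ S ≠ ⊥ ∧ S ≤ A ∧
        ∀ a ∈ A, ∀ s ∈ S, a * s * a⁻¹ ∈ S) := by
  classical
  have := hsol
  have htop : (⊤ : Subgroup Q) ≠ ⊥ := fun h => hA.1 (eq_top_iff.mpr (h ▸ bot_le))
  obtain ⟨M, -, hMn, hMb, hmin⟩ := Coprime.exists_minimal_normal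
    (inferInstance : (⊤ : Subgroup Q).Normal) htop
  obtain ⟨hcomm, p, hp, hMp, -⟩ :=
    Coprime.minimal_normal_solvable (inferInstance : Group.IsSolvable M) hMb hmin
  have hMc : ∀ m ∈ M, ∀ m' ∈ M, m * m' = m' * m := fun m hm m' hm' =>
    congrArg Subtype.val (hcomm.is_comm.comm ⟨m, hm⟩ ⟨m', hm'⟩)
  have hsup : M ⊔ A = ⊤ := hA.2 _ (lt_of_le_of_ne le_sup_right fun h => hMb
    (hcore M hMn (h ▸ le_sup_left)))
  -- anything centralised by `M` and normalised by `A` is normal
  have hnorm : ∀ X : Subgroup Q, (∀ m ∈ M, ∀ x ∈ X, m * x * m⁻¹ ∈ X) →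
      (∀ a ∈ A, ∀ x ∈ X, a * x * a⁻¹ ∈ X) → X.Normal := by
    intro X h1 h2
    refine ⟨fun x hx g => ?_⟩
    obtain ⟨m, hm, a, ha, rfl⟩ := Subgroup.mem_sup_of_normal_left.mp (hsup ▸ Subgroup.mem_top g)
    rw [show m * a * x * (m * a)⁻¹ = m * (a * x * a⁻¹) * m⁻¹ by group]
    exact h1 m hm _ (h2 a ha x hx)
  have hinf : M ⊓ A = ⊥ := by
    refine hcore _ (hnorm _ (fun m hm x hx => ?_) fun a ha x hx => ?_) inf_le_right
    · rw [hMc m hm x hx.1, mul_inv_cancel_right]; exact hx
    · exact ⟨hMn.conj_mem x hx.1 a, A.mul_mem (A.mul_mem ha hx.2) (A.inv_mem ha)⟩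
  have hcent : ∀ a ∈ A, (∀ m ∈ M, a * m = m * a) → a = 1 := by
    intro a ha hca
    have h := hcore (A ⊓ Subgroup.centralizer (M : Set Q)) (hnorm _ (fun m hm x hx => ?_)
      fun b hb x hx => ?_) inf_le_left
    · have hmem : a ∈ A ⊓ Subgroup.centralizer (M : Set Q) :=
        ⟨ha, Subgroup.mem_centralizer_iff.mpr fun m hm => (hca m hm).symm⟩
      rwa [h, Subgroup.mem_bot] at hmem
    · rw [Subgroup.mem_centralizer_iff.mp hx.2 m hm, mul_inv_cancel_right]; exact hx
    · refine ⟨A.mul_mem (A.mul_mem hb hx.1) (A.inv_mem hb), Subgroup.mem_centralizer_iff.mpr fun m hm => ?_⟩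
      have hc' := Subgroup.mem_centralizer_iff.mp hx.2 (b⁻¹ * m * b)
        (by simpa using hMn.conj_mem m hm b⁻¹)
      calc m * (b * x * b⁻¹) = b * ((b⁻¹ * m * b) * x) * b⁻¹ := by group
        _ = b * x * b⁻¹ * m := by rw [hc']; group
  refine ⟨M, p, hMn, hp, hMp, hMb, hinf, hsup, hMc, hcent, ?_⟩
  by_cases hAb : A = ⊥
  · exact Or.inl hAb
  right
  have hA' : (⊤ : Subgroup A) ≠ ⊥ := fun h => hAb (by
    rw [Subgroup.eq_bot_iff_forall]
    intro a ha
    have : (⟨a, ha⟩ : A) ∈ (⊤ : Subgroup A) := Subgroup.mem_top _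
    rw [h, Subgroup.mem_bot] at this
    exact congrArg Subtype.val this)
  obtain ⟨S₀, -, hSn, hSb, hSmin⟩ := Coprime.exists_minimal_normal
    (inferInstance : (⊤ : Subgroup A).Normal) hA'
  obtain ⟨-, r, hr, hSr, -⟩ :=
    Coprime.minimal_normal_solvable (inferInstance : Group.IsSolvable S₀) hSb hSmin
  set S := S₀.map A.subtype with hS
  have hSA : S ≤ A := Subgroup.map_subtype_le _
  have hSne : S ≠ ⊥ := fun h => hSb ((Subgroup.map_eq_bot_iff_of_injective _ A.subtype_injective).mp h)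
  have hSA' : ∀ a ∈ A, ∀ s ∈ S, a * s * a⁻¹ ∈ S := by
    rintro a ha _ ⟨s, hs, rfl⟩
    exact ⟨⟨a, ha⟩ * s * (⟨a, ha⟩ : A)⁻¹, hSn.conj_mem s hs _, rfl⟩
  have hSr' : IsPGroup r S := hSr.map A.subtype
  refine ⟨S, r, hr, ?_, hSr', hSne, hSA, hSA'⟩
  rintro rfl
  -- a `p`-group acting on a `p`-group has a fixed point
  set F := M ⊓ Subgroup.centralizer (S : Set Q) with hF
  have hFn : F.Normal := by
    refine hnorm F (fun m hm x hx => ?_) fun a ha x hx => ?_
    · rw [hMc m hm x hx.1, mul_inv_cancel_right]; exact hx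
    · refine ⟨hMn.conj_mem x hx.1 a, Subgroup.mem_centralizer_iff.mpr fun s hs => ?_⟩
      have hc' := Subgroup.mem_centralizer_iff.mp hx.2 (a⁻¹ * s * a)
        (by simpa using hSA' a⁻¹ (A.inv_mem ha) s hs)
      calc s * (a * x * a⁻¹) = a * ((a⁻¹ * s * a) * x) * a⁻¹ := by group
        _ = a * x * a⁻¹ * s := by rw [hc']; group
  rcases hmin F hFn inf_le_left with hFb | hFM
  · have : Fact r.Prime := ⟨hp⟩
    let _ : MulAction S M :=
      { smul := fun s m => ⟨(s : Q) * m * (s : Q)⁻¹, hMn.conj_mem _ m.2 _⟩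
        one_smul := fun m => by
          apply Subtype.ext
          show ((1 : S) : Q) * m * ((1 : S) : Q)⁻¹ = m
          simp
        mul_smul := fun s t m => by
          apply Subtype.ext
          show ((s * t : S) : Q) * m * ((s * t : S) : Q)⁻¹ = s * (t * (m : Q) * (t : Q)⁻¹) * (s : Q)⁻¹
          simp [mul_assoc] }
    have hdvd : r ∣ Nat.card M := by
      obtain ⟨j, hj⟩ := IsPGroup.iff_card.mp hMp
      have h1 := M.one_lt_card_iff_ne_bot.mpr hMb
      cases j with
      | zero => rw [hj, pow_zero] at h1; exact absurd h1 (lt_irrefl _)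
      | succ j => exact hj ▸ dvd_pow_self r j.succ_ne_zero
    have hfix : (1 : M) ∈ MulAction.fixedPoints S M := fun s => Subtype.ext (by
      show (s : Q) * ((1 : M) : Q) * (s : Q)⁻¹ = _
      simp)
    obtain ⟨m, hm, hm1⟩ := hSr'.exists_fixed_point_of_prime_dvd_card_of_fixed_point M hdvd hfix
    have hmem : (m : Q) ∈ F := ⟨m.2, Subgroup.mem_centralizer_iff.mpr fun s hs =>
      mul_inv_eq_iff_eq_mul.mp (congrArg (fun t : M => (t : Q)) (hm ⟨s, hs⟩))⟩
    rw [hFb, Subgroup.mem_bot] at hmem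
    exact hm1 (Subtype.ext hmem).symm
  · refine hSne ((Subgroup.eq_bot_iff_forall _).mpr fun s hs => hcent s (hSA hs) fun m hm => ?_)
    exact Subgroup.mem_centralizer_iff.mp ((hFM.ge hm).2) s hs

variable {G : Type u} [Group G]

theorem norm_character_of_scalar [Finite G] {V : Type v} [AddCommGroup V] [Module ℂ V]
    [FiniteDimensional ℂ V] [Nontrivial V] (ρ : Representation ℂ G V) {g : G} {c : ℂ}
    (h : ρ g = c • LinearMap.id) : ‖ρ.character g‖ = (finrank ℂ V : ℝ) := by
  obtain ⟨v, hv⟩ := exists_ne (0 : V)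
  have hd : ρ g ^ orderOf g = 1 := by rw [← map_pow, pow_orderOf_eq_one, map_one]
  rw [h, show (LinearMap.id : V →ₗ[ℂ] V) = (1 : Module.End ℂ V) from rfl, smul_pow, one_pow] at hd
  have hc : c ^ orderOf g = 1 := smul_left_injective ℂ hv (by simpa using LinearMap.congr_fun hd v)
  rw [Representation.character, h, map_smul, LinearMap.trace_id, smul_eq_mul, norm_mul,
    Complex.norm_natCast, Complex.norm_eq_one_of_pow_eq_one hc (orderOf_pos g).ne', one_mul]

/-- An irreducible character all whose values have maximal modulus is linear. -/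
theorem deg_one_of_norm_eq [Finite G] {f : G → ℂ} (hf : Cfsg.IsIrrCharacter G f)
    (h : ∀ g, ‖f g‖ = (deg f : ℝ)) : deg f = 1 := by
  have := Fintype.ofFinite G
  have h1 := classInner_self_irr hf
  rw [classInner_def, inv_mul_eq_iff_eq_mul₀ (by exact_mod_cast Nat.card_pos.ne'), mul_one] at h1
  simp only [Complex.mul_conj, Complex.normSq_eq_norm_sq, h] at h1
  rw [Finset.sum_const, Finset.card_univ, nsmul_eq_mul, ← Nat.card_eq_fintype_card] at h1
  have h2 : Nat.card G * (deg f * deg f) = Nat.card G * 1 := by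
    rw [mul_one]
    apply Nat.cast_injective (R := ℂ)
    push_cast at h1 ⊢
    linear_combination h1
  have := Nat.eq_of_mul_eq_mul_left Nat.card_pos h2
  exact (mul_eq_one.mp this).1

/-- A constituent inherits a maximal value. -/
theorem eq_mul_of_constituent [Fintype G] {f τ : G → ℂ} (hf : Cfsg.IsCharacter G f)
    (hτ : Cfsg.IsIrrCharacter G τ) (hne : Cfsg.classInner f τ ≠ 0) {g : G} {ω : ℂ} (hω : ‖ω‖ = 1)
    (h : f g = f 1 * ω) : τ g = τ 1 * ω := by
  classical
  obtain ⟨m, hm⟩ := IsCharacter.exists_decomp hf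
  have hm0 : m ⟨τ, hτ⟩ ≠ 0 := fun h0 => hne (by
    rw [hm]
    simp only [← Nat.cast_smul_eq_nsmul ℂ]
    rw [classInner_irrSum (fun ψ => (m ψ : ℂ)) ⟨τ, hτ⟩, h0, Nat.cast_zero])
  have hωω : ω * conj ω = 1 := by
    rw [Complex.mul_conj, Complex.normSq_eq_norm_sq, hω]; norm_num
  rw [hm] at h
  simp only [← Nat.cast_smul_eq_nsmul ℂ, Finset.sum_apply, Pi.smul_apply, smul_eq_mul, irr_apply_one_eq_deg] at h
  have h2 : ∑ χ : Cfsg.IrrCharacter G, (m χ : ℂ) * ((χ : G → ℂ) g * conj ω) =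
      ∑ χ : Cfsg.IrrCharacter G, (m χ : ℂ) * (deg (χ : G → ℂ) : ℂ) := by
    have h' := congrArg (· * conj ω) h
    simp only [Finset.sum_mul] at h'
    rw [Finset.sum_congr rfl fun χ _ => (mul_assoc ((m χ : ℂ)) ((χ : G → ℂ) g) (conj ω)).symm, h']
    exact Finset.sum_congr rfl fun χ _ => by rw [mul_assoc _ ω, hωω, mul_one]
  have hb : ∀ χ : Cfsg.IrrCharacter G, ‖(χ : G → ℂ) g * conj ω‖ ≤ (deg (χ : G → ℂ) : ℝ) := fun χ => by
    rw [norm_mul, Complex.norm_conj, hω, mul_one]
    refine (IsCharacter.norm_le (isCharacter_of_irr χ.2) g).trans (le_of_eq ?_)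
    simp [irr_apply_one_eq_deg]
  have h3 := congrArg Complex.re h2
  simp only [Complex.re_sum, Complex.mul_re, Complex.natCast_re, Complex.natCast_im, zero_mul,
    sub_zero] at h3
  have h4 := (Finset.sum_eq_sum_iff_of_le fun χ _ => mul_le_mul_of_nonneg_left
    ((Complex.re_le_norm _).trans (hb χ)) (Nat.cast_nonneg (m χ))).mp
      (by simpa only [Complex.mul_re] using h3) ⟨τ, hτ⟩ (Finset.mem_univ _)
  have h5 : (τ g * conj ω).re = (deg τ : ℝ) := mul_left_cancel₀ (by exact_mod_cast hm0) h4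
  have hz : τ g * conj ω = (deg τ : ℂ) := by
    have hn : ‖τ g * conj ω‖ ≤ (deg τ : ℝ) := hb ⟨τ, hτ⟩
    have him : (τ g * conj ω).im = 0 := by
      have h6 := Complex.sq_norm (τ g * conj ω)
      rw [Complex.normSq_apply, h5] at h6
      nlinarith [norm_nonneg (τ g * conj ω), mul_self_nonneg (τ g * conj ω).im]
    exact Complex.ext (by rw [h5]; simp) (by rw [him]; simp)
  rw [IsCharacter.apply_one_eq_deg (isCharacter_of_irr hτ), ← hz]
  linear_combination (-(τ g)) * hωω

theorem indFun_conj [Fintype G] (H : Subgroup G) (θ : H → ℂ) :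
    Cfsg.indFun H (fun x => conj (θ x)) = fun g => conj (Cfsg.indFun H θ g) := by
  funext g
  rw [indFun_apply, indFun_apply, map_mul, map_inv₀, map_natCast, map_sum]
  congr 1
  refine Finset.sum_congr rfl fun x _ => ?_
  by_cases h : x⁻¹ * g * x ∈ H
  · rw [extendByZero_mem _ h, extendByZero_mem _ h]
  · rw [extendByZero_not_mem _ h, extendByZero_not_mem _ h, map_zero]

variable [Fintype G] (L : Subgroup G) [L.Normal]

set_option maxHeartbeats 1600000 in
/-- The key step: linear scalars on `L`, core of `H` equal to `L`. -/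
theorem berger_core (hsol : Group.IsSolvable (G ⧸ L)) {χ : G → ℂ} (hχ : Cfsg.IsIrrCharacter G χ)
    (lam : L →* ℂˣ) (hL : ∀ l : L, χ l = χ 1 * (lam l : ℂ))
    (hhom : ∀ M : Subgroup G, M.Normal → L ≤ M → Homog χ M)
    (H : Subgroup G) (hH : IsCoatom H) (hLH : L ≤ H)
    (hcore : ∀ N : Subgroup G, N.Normal → N ≤ H → N ≤ L)
    {ψ : H → ℂ} (hψc : Cfsg.IsCharacter H ψ) (hind : Cfsg.indFun H ψ = χ)
    (IH : ∀ K : Subgroup G, K.Normal → L < K → ∀ J : Subgroup G, J ≠ ⊤ → K ≤ J →
      ∀ ξ : J → ℂ, Cfsg.IsCharacter J ξ → Cfsg.indFun J ξ ≠ χ) : False := by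
  classical
  set q := QuotientGroup.mk' L
  have hq : Function.Surjective q := QuotientGroup.mk'_surjective L
  have hqker : q.ker = L := QuotientGroup.ker_mk' L
  set A := H.map q with hA
  have hAH : A.comap q = H := Subgroup.comap_map_eq_self (hqker.le.trans hLH)
  have hAc : IsCoatom A := by
    refine ⟨fun h => hH.1 (by rw [← hAH, h, Subgroup.comap_top]), fun B hB => ?_⟩
    have hlt : H < B.comap q := hAH ▸ (Subgroup.comap_lt_comap_of_surjective hq).mpr hB
    have h2 := hH.2 _ hlt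
    rw [eq_top_iff]
    intro x _
    obtain ⟨y, rfl⟩ := hq x
    have : y ∈ B.comap q := h2 ▸ Subgroup.mem_top y
    exact this
  have hAcore : ∀ N : Subgroup (G ⧸ L), N.Normal → N ≤ A → N = ⊥ := by
    intro N hN hNA
    have h1 := hcore (N.comap q) (hN.comap q) (hAH ▸ Subgroup.comap_mono hNA)
    rw [Subgroup.eq_bot_iff_forall]
    intro x hx
    obtain ⟨y, rfl⟩ := hq x
    exact (QuotientGroup.eq_one_iff y).mpr (h1 hx)
  obtain ⟨M, p, hMn, hp, hMp, hMb, hinf, hsup, hMc, hcent, hcase⟩ :=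
    berger_groups hsol A hAc hAcore
  set K := M.comap q with hK
  have hKn : K.Normal := hMn.comap q
  have hLK : L ≤ K := fun l hl => by
    show q l ∈ M
    rw [show q l = 1 from (QuotientGroup.eq_one_iff l).mpr hl]
    exact M.one_mem
  have hLK' : L < K := lt_of_le_of_ne hLK fun h => hMb (by
    rw [Subgroup.eq_bot_iff_forall]
    intro x hx
    obtain ⟨y, rfl⟩ := hq x
    exact (QuotientGroup.eq_one_iff y).mpr (h.ge hx))
  have hKH : ∀ x ∈ K, x ∈ H → x ∈ L := fun x hx hxH => by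
    have : q x ∈ M ⊓ A := ⟨hx, Subgroup.mem_map_of_mem q hxH⟩
    rw [hinf, Subgroup.mem_bot] at this
    exact (QuotientGroup.eq_one_iff x).mp this
  have hKHsup : ∀ g : G, ∃ k ∈ K, ∃ h ∈ H, g = k * h := by
    intro g
    obtain ⟨m, hm, a, ha, hma⟩ := Subgroup.mem_sup_of_normal_left.mp (hsup ▸ Subgroup.mem_top (q g))
    obtain ⟨h, hh, rfl⟩ := Subgroup.mem_map.mp ha
    refine ⟨g * h⁻¹, ?_, h, hh, by group⟩
    show q (g * h⁻¹) ∈ M
    rw [map_mul, map_inv, ← hma, mul_inv_cancel_right]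
    exact hm
  have hidx : H.index = Nat.card M := by
    rw [← hAH, Subgroup.index_comap_of_surjective _ hq]
    refine Nat.eq_of_mul_eq_mul_left (Nat.card_pos (α := A)) ?_
    rw [A.card_mul_index, ← (Subgroup.isComplement'_of_disjoint_and_mul_eq_univ (disjoint_iff.mpr hinf)
      (by rw [← Subgroup.normal_mul M A, hsup, Subgroup.coe_top])).card_mul_card, mul_comm]
  have hKcard : Nat.card K = Nat.card L * Nat.card M := Coprime.card_comap_mk' M
  have := Fintype.ofFinite L
  have := Fintype.ofFinite K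
  have := Fintype.ofFinite H
  have hχc := isCharacter_of_irr hχ
  have hψ : Cfsg.IsIrrCharacter H ψ := irr_of_indFun_irr H hψc (by rw [hind]; exact hχ)
  have hlam1 : ∀ l : L, ‖(lam l : ℂ)‖ = 1 := fun l =>
    Complex.norm_eq_one_of_pow_eq_one (n := Nat.card L)
      (by rw [← Units.val_pow_eq_pow_val, ← map_pow, pow_card_eq_one', map_one, Units.val_one])
      Nat.card_pos.ne'
  have hψL : ∀ l : L, ψ ⟨l, hLH l.2⟩ = ψ 1 * (lam l : ℂ) := fun l => by
    refine eq_mul_of_constituent (IsCharacter.restrict hχc H) hψ ?_ (hlam1 l) (hL l)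
    rw [← frobenius_reciprocity' H ψ (isClassFunction_isChar hχc), hind, classInner_self_irr hχ]
    exact one_ne_zero
  -- the character `θ` of `K`
  obtain ⟨θ, f, hθ, hres⟩ := hhom K hKn hLK
  have hres' : ∀ k : K, χ k = (f : ℂ) * θ k := fun k => congrFun hres k
  have hf0 : (f : ℂ) ≠ 0 := fun h0 => IsIrrCharacter.apply_one_ne_zero hχ (by
    rw [show χ 1 = χ ((1 : K) : G) from rfl, hres', h0, zero_mul])
  have hinv : ∀ g : G, conjN K g θ = θ := fun g => funext fun k => by
    have := isClassFunction_isChar hχc k g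
    rw [hres' k] at this
    exact mul_left_cancel₀ hf0 ((hres' ⟨g * k * g⁻¹, hKn.conj_mem k k.2 g⟩).symm.trans this)
  have hvan : ∀ k : K, (k : G) ∉ L → θ k = 0 := fun k hk => by
    have h0 : χ k = 0 := by
      rw [← hind]
      refine indFun_eq_zero_of_forall H ψ _ fun x hx => hk ?_
      have h1 : x⁻¹ * (k : G) * x ∈ L := hKH _ (by simpa using hKn.conj_mem k k.2 x⁻¹) hx
      simpa [mul_assoc] using (inferInstance : L.Normal).conj_mem _ h1 x
    rw [hres' k] at h0
    exact (mul_eq_zero.mp h0).resolve_left hf0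
  set c := deg θ with hc
  have hθ1 : θ 1 = (c : ℂ) := IsCharacter.apply_one_eq_deg (isCharacter_of_irr hθ)
  have hθL : ∀ (l : L), θ ⟨l, hLK l.2⟩ = (c : ℂ) * (lam l : ℂ) := fun l => by
    refine mul_left_cancel₀ hf0 ?_
    rw [← hres', hL l, show χ 1 = χ ((1 : K) : G) from rfl, hres', hθ1, mul_assoc]
  have hP : c * c = Nat.card M := by
    have h1 := classInner_self_irr hθ
    rw [classInner_def, inv_mul_eq_iff_eq_mul₀ (by exact_mod_cast Nat.card_pos.ne'), mul_one,
      ← Finset.sum_filter_of_ne (p := fun k : K => (k : G) ∈ L) (fun k _ hne => by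
        by_contra hk
        exact hne (by rw [hvan k hk, zero_mul])),
      Finset.sum_congr rfl (g := fun _ => ((c : ℂ) * c)) (fun k hk => by
        have hk' : (k : G) ∈ L := (Finset.mem_filter.mp hk).2
        have e : θ k = (c : ℂ) * (lam ⟨k, hk'⟩ : ℂ) := hθL ⟨k, hk'⟩
        have hh : (lam ⟨k, hk'⟩ : ℂ) * conj (lam ⟨k, hk'⟩ : ℂ) = 1 := by
          rw [Complex.mul_conj, Complex.normSq_eq_norm_sq, hlam1]; norm_num
        rw [e, map_mul, Complex.conj_natCast]
        linear_combination ((c : ℂ) * c) * hh),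
      Finset.sum_const, nsmul_eq_mul, ← Fintype.card_subtype, ← Nat.card_eq_fintype_card,
      show Nat.card {x : K // (x : G) ∈ L} = Nat.card L from
        Nat.card_congr (Subgroup.subgroupOfEquivOfLe hLK).toEquiv, hKcard] at h1
    have h2 : Nat.card L * (c * c) = Nat.card L * Nat.card M := by exact_mod_cast h1
    exact Nat.eq_of_mul_eq_mul_left Nat.card_pos h2
  obtain ⟨d, ρ, hρ, hρc⟩ := hθ
  have hd : (finrank ℂ (Fin d → ℂ) : ℂ) = (c : ℂ) := by rw [← hθ1, ← hρc, ρ.char_one]
  have hd' : finrank ℂ (Fin d → ℂ) = c := by exact_mod_cast hd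
  have hinv' : ∀ g : G, conjN K g ρ.character = ρ.character := by rw [hρc]; exact hinv
  -- the intertwiner group
  set G2 := twGroup K ρ
  have := Fintype.ofFinite G2
  set π := twProj K ρ
  have hπ : Function.Surjective π := twProj_surjective K ρ hinv'
  set η : G2 → ℂ := (twNat K ρ).character with hηdef
  have hηinc : ∀ k : K, η (twIncl K ρ k) = θ k := fun k => by
    rw [← hρc]; rfl
  have hη : Cfsg.IsIrrCharacter G2 η := irr_of_comp_irr (isCharacter_character _) (twIncl K ρ)
    (by simp only [hηinc]; exact ⟨d, ρ, hρ, hρc⟩)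
  have hη1 : η 1 = (c : ℂ) := by rw [hηdef, (twNat K ρ).char_one, hd]
  set H2 := H.comap π with hH2
  set K' := (twIncl K ρ).range with hK'
  have : K'.Normal := ⟨by rintro _ ⟨k, rfl⟩ g; exact ⟨_, (twIncl_conj K ρ g k).symm⟩⟩
  set mkK := QuotientGroup.mk' K'
  have := Fintype.ofFinite (G2 ⧸ K')
  have := Fintype.ofFinite H2
  set F : H2 →* G2 ⧸ K' := mkK.comp H2.subtype with hF
  have hFs : Function.Surjective F := by
    intro x
    obtain ⟨g, rfl⟩ := QuotientGroup.mk'_surjective K' x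
    obtain ⟨k, hk, h, hh, hgk⟩ := hKHsup (π g)
    refine ⟨⟨(twIncl K ρ ⟨k, hk⟩)⁻¹ * g, ?_⟩, ?_⟩
    · show π ((twIncl K ρ ⟨k, hk⟩)⁻¹ * g) ∈ H
      rw [map_mul, map_inv, show π (twIncl K ρ ⟨k, hk⟩) = k from rfl, hgk, inv_mul_cancel_left]
      exact hh
    · show mkK ((twIncl K ρ ⟨k, hk⟩)⁻¹ * g) = mkK g
      rw [map_mul, map_inv, show mkK (twIncl K ρ ⟨k, hk⟩) = 1 from
        (QuotientGroup.eq_one_iff _).mpr ⟨_, rfl⟩, inv_one, one_mul]
  set ψ2 : H2 → ℂ := fun x => ψ ⟨π x, x.2⟩ with hψ2def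
  have hψ2 : Cfsg.IsCharacter H2 ψ2 := IsCharacter.comp_hom hψc (π.subgroupComap H)
  set ηH : H2 → ℂ := fun x => η x with hηHdef
  have hηHc : Cfsg.IsCharacter H2 ηH := IsCharacter.restrict (isCharacter_of_irr hη) H2
  have hFker : ∀ x : H2, x ∈ F.ker → ∃ l : L, (x : G2) = twIncl K ρ ⟨l, hLK l.2⟩ ∧ π x = l := by
    intro x hx
    obtain ⟨k, hk⟩ := (QuotientGroup.eq_one_iff (x : G2)).mp hx
    have h1 : π x = k := by rw [← hk]; rfl
    have hkL : (k : G) ∈ L := hKH k k.2 (by rw [← h1]; exact x.2)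
    exact ⟨⟨k, hkL⟩, hk.symm, h1⟩
  obtain ⟨b', hb', hb⟩ := exists_factor F hFs
    (IsCharacter.mul (IsCharacter.conjugate hηHc) hψ2) (fun x hx => by
      obtain ⟨l, hl, hl'⟩ := hFker x hx
      have hh : (lam l : ℂ) * conj (lam l : ℂ) = 1 := by
        rw [Complex.mul_conj, Complex.normSq_eq_norm_sq, hlam1]; norm_num
      have e1 : ηH x = (c : ℂ) * (lam l : ℂ) := by
        show η (x : G2) = _
        rw [hl, hηinc, hθL]
      have e2 : ψ2 x = ψ 1 * (lam l : ℂ) := by
        rw [← hψL l]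
        exact congrArg ψ (Subtype.ext hl')
      have e3 : ψ2 1 = ψ 1 := congrArg ψ (Subtype.ext (map_one π))
      simp only [Pi.mul_apply, e1, e2, e3]
      rw [show ηH 1 = (c : ℂ) from hη1, map_mul, Complex.conj_natCast]
      linear_combination ((c : ℂ) * ψ 1) * hh)
  set bh : G2 → ℂ := fun g => b' (mkK g) with hbh
  have hbhc : Cfsg.IsCharacter G2 bh := IsCharacter.comp_hom hb' mkK
  have hbres : ∀ x : H2, bh x = conj (ηH x) * ψ2 x := fun x => (congrFun hb x).symm
  have hindH2 : Cfsg.indFun H2 ψ2 = fun g => χ (π g) := by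
    funext g
    rw [← hind]
    exact indFun_comap π hπ H ψ g
  have hχ2 : Cfsg.IsIrrCharacter G2 (fun g => χ (π g)) := IsIrrCharacter.comp_surjective hχ π hπ
  have hprod : η * bh = fun g => χ (π g) := by
    refine eq_of_inner_ne_zero_of_deg (IsCharacter.mul (isCharacter_of_irr hη) hbhc) hχ2 ?_ ?_
    · rw [← hindH2, ← classInner_conj_symm, frobenius_reciprocity H2 ψ2
        (isClassFunction_isChar (IsCharacter.mul (isCharacter_of_irr hη) hbhc)), classInner_def,
        map_ne_zero]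
      refine mul_ne_zero (inv_ne_zero (by exact_mod_cast Nat.card_pos.ne')) ?_
      have e : ∀ x : H2, ψ2 x * conj ((η * bh) x) =
          (((‖ηH x‖ ^ 2 * ‖ψ2 x‖ ^ 2) : ℝ) : ℂ) := fun x => by
        rw [Pi.mul_apply, hbres, map_mul, map_mul, Complex.conj_conj]
        push_cast
        rw [← Complex.mul_conj', ← Complex.mul_conj']
        show _ = η (x : G2) * conj (η x) * _
        ring
      rw [Finset.sum_congr rfl fun x _ => e x, ← Complex.ofReal_sum, Complex.ofReal_ne_zero]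
      refine (lt_of_lt_of_le ?_ (Finset.single_le_sum (fun x _ => by positivity)
        (Finset.mem_univ (1 : H2)))).ne'
      have h1 : ψ2 1 ≠ 0 := by
        rw [show ψ2 1 = ψ 1 from congrArg ψ (Subtype.ext (map_one π))]
        exact IsIrrCharacter.apply_one_ne_zero hψ
      have h2 : ηH 1 ≠ 0 := fun h0 => IsIrrCharacter.apply_one_ne_zero hη h0
      have := norm_pos_iff.mpr h1
      have := norm_pos_iff.mpr h2
      positivity
    · have e : bh 1 = conj (c : ℂ) * ψ 1 := by
        have h := hbres 1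
        rw [OneMemClass.coe_one] at h
        rw [h, show ηH 1 = (c : ℂ) from hη1]
        exact congrArg _ (congrArg ψ (Subtype.ext (map_one π)))
      rw [Pi.mul_apply, hη1, e, Complex.conj_natCast, map_one, ← hind, indFun_one, hidx, ← hP]
      push_cast
      ring
  have hbhirr : Cfsg.IsIrrCharacter G2 bh :=
    irr_of_mul_irr (isCharacter_of_irr hη) hbhc (by rw [hprod]; exact hχ2)
  have hb'irr : Cfsg.IsIrrCharacter (G2 ⧸ K') b' := irr_of_comp_irr hb' mkK hbhirr
  have hbirr : Cfsg.IsIrrCharacter H2 ((fun x => conj (ηH x)) * ψ2) := by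
    rw [hb]; exact IsIrrCharacter.comp_surjective hb'irr F hFs
  have hηH : Cfsg.IsIrrCharacter H2 ηH := by
    rw [mul_comm] at hbirr
    simpa using IsIrrCharacter.conjugate (irr_of_mul_irr hψ2 (IsCharacter.conjugate hηHc) hbirr)
  have hdegη : deg ηH = c := by
    apply Nat.cast_injective (R := ℂ)
    rw [← IsCharacter.apply_one_eq_deg hηHc]
    exact hη1
  -- elements over `L` are scalars
  have := nontrivial_of_irreducible ρ
  have hscalL : ∀ z : G2, π z ∈ L → ∃ a : ℂ, twNat K ρ z = a • LinearMap.id := by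
    intro z hz
    obtain ⟨s, -, hs⟩ := exists_scalar_of_mem K ρ z (hLK hz)
    have hn : ‖ρ.character ⟨π z, hLK hz⟩‖ = (finrank ℂ (Fin d → ℂ) : ℝ) := by
      rw [hρc, hθL ⟨π z, hz⟩, norm_mul, hlam1, mul_one, Complex.norm_natCast, hd']
    obtain ⟨ω, hω, -⟩ := scalar_of_norm_character_eq ρ _ hn
    exact ⟨s * ω, by rw [hs, hω, smul_smul]⟩
  have hnormL : ∀ z : G2, π z ∈ L → ‖η z‖ = (c : ℝ) := fun z hz => by
    obtain ⟨a, ha⟩ := hscalL z hz
    rw [hηdef, norm_character_of_scalar (twNat K ρ) ha, hd']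
  rcases hcase with hAb | ⟨S, r, hr, hrp, hSr, hSne, hSA, hSn⟩
  · -- `H = L`
    have hHL : ∀ x ∈ H, x ∈ L := fun x hx => by
      have : q x ∈ A := Subgroup.mem_map_of_mem q hx
      rw [hAb, Subgroup.mem_bot] at this
      exact (QuotientGroup.eq_one_iff x).mp this
    have hc1 := deg_one_of_norm_eq hηH fun x => by
      rw [hdegη]; exact hnormL x (hHL _ x.2)
    rw [hdegη] at hc1
    rw [hc1, one_mul] at hP
    exact hMb (Subgroup.card_eq_one.mp hP.symm)
  · set Ψ : H2 →* G ⧸ L := q.comp (π.comp H2.subtype) with hΨ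
    set N := S.comap Ψ with hN
    have hNn : N.Normal := ⟨fun x hx y => by
      show Ψ (y * x * y⁻¹) ∈ S
      rw [map_mul, map_mul, map_inv]
      exact hSn _ (Subgroup.mem_map_of_mem q y.2) _ hx⟩
    have := Fintype.ofFinite N
    obtain ⟨ζ, hζ, hζc⟩ := exists_constituent N hηHc (IsIrrCharacter.apply_one_ne_zero hηH)
    set T := inertia N ζ with hT
    have := Fintype.ofFinite T
    have hNT : N ≤ T := le_inertia (isClassFunction_isChar (isCharacter_of_irr hζ))
    have hTne : T ≠ ⊤ := by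
      intro htop
      obtain ⟨a, ha0, ha⟩ := restrict_eq_mult_of_invariant N hηH hζ
        (fun g => (show g ∈ T by rw [htop]; exact Subgroup.mem_top g)) hζc
      have hca : c = a * deg ζ := by
        apply Nat.cast_injective (R := ℂ)
        push_cast
        rw [← IsCharacter.apply_one_eq_deg (isCharacter_of_irr hζ), ← hη1]
        exact congrFun ha 1
      -- `ζ` is linear
      obtain ⟨n, σ, hσ, hσc⟩ := hζ
      let R : N →* G ⧸ L := Ψ.comp N.subtype
      have hdegζ : deg ζ = finrank ℂ (Fin n → ℂ) := by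
        apply Nat.cast_injective (R := ℂ)
        rw [← IsCharacter.apply_one_eq_deg ⟨n, σ, hσc⟩, ← hσc, σ.char_one]
      have hscal : ∀ z ∈ R.ker, ∃ b : ℂ, σ z = b • LinearMap.id := by
        intro z hz
        have hzL : π ((z : H2) : G2) ∈ L := (QuotientGroup.eq_one_iff _).mp hz
        have h1 := hnormL _ hzL
        rw [show η ((z : H2) : G2) = (a : ℂ) * ζ z from congrFun ha z, norm_mul,
          Complex.norm_natCast, hca, Nat.cast_mul] at h1
        have h2 := mul_left_cancel₀ (by exact_mod_cast ha0.ne') h1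
        rw [hdegζ, ← hσc] at h2
        obtain ⟨ω, hω, -⟩ := scalar_of_norm_character_eq σ z h2
        exact ⟨ω, hω⟩
      have hdvd : deg ζ ∣ Nat.card S := by
        refine hdegζ ▸ (finrank_dvd_index_of_scalar σ R.ker hscal).trans ?_
        rw [Subgroup.index_ker]
        refine Subgroup.card_dvd_of_le ?_
        rintro _ ⟨z, rfl⟩
        exact z.2
      have hζ1 : deg ζ = 1 := by
        by_contra hne
        obtain ⟨s, hs, hsd⟩ := Nat.exists_prime_and_dvd hne
        have : Fact p.Prime := ⟨hp⟩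
        have : Fact r.Prime := ⟨hr⟩
        obtain ⟨i, hi⟩ := IsPGroup.iff_card.mp hMp
        obtain ⟨j, hj⟩ := IsPGroup.iff_card.mp hSr
        have h1 : s = r := (Nat.prime_dvd_prime_iff_eq hs hr).mp
          (hs.dvd_of_dvd_pow (hj ▸ hsd.trans hdvd))
        have h2 : s = p := (Nat.prime_dvd_prime_iff_eq hs hp).mp
          (hs.dvd_of_dvd_pow (hi ▸ hP ▸ Dvd.dvd.mul_right (hca ▸ hsd.trans (Dvd.intro_left a rfl)) c))
        exact hrp (h1.symm.trans h2)
      apply hSne
      rw [Subgroup.eq_bot_iff_forall]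
      intro s hs
      obtain ⟨x, hx, rfl⟩ := Subgroup.mem_map.mp (hSA hs)
      obtain ⟨z, hz⟩ := hπ x
      have hzH : z ∈ H2 := by show π z ∈ H; rw [hz]; exact hx
      have hzN : (⟨z, hzH⟩ : H2) ∈ N := by
        show q (π z) ∈ S
        rw [hz]; exact hs
      obtain ⟨g, hg⟩ := exists_hom_of_deg_one ⟨n, σ, hσc⟩
        (by rw [IsCharacter.apply_one_eq_deg ⟨n, σ, hσc⟩, hζ1, Nat.cast_one])
      have hnz : ‖η z‖ = (c : ℝ) := by
        rw [show η z = (a : ℂ) * ζ ⟨⟨z, hzH⟩, hzN⟩ from congrFun ha ⟨⟨z, hzH⟩, hzN⟩, hg, norm_mul,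
          Complex.norm_natCast, hca, hζ1, mul_one,
          Complex.norm_eq_one_of_pow_eq_one (n := Nat.card N) (by
            rw [← Units.val_pow_eq_pow_val, ← map_pow, pow_card_eq_one', map_one, Units.val_one])
            Nat.card_pos.ne', mul_one]
      rw [hηdef, ← hd'] at hnz
      obtain ⟨ω, hω, hω1⟩ := scalar_of_norm_character_eq (twNat K ρ) z hnz
      refine hcent _ (hSA hs) fun m hm => ?_
      obtain ⟨k, rfl⟩ := hq m
      have htw := twists_twNat K ρ z ⟨k, hm⟩
      rw [hω, smul_mul_assoc, mul_smul_comm] at htw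
      have hω0 : ω ≠ 0 := fun h0 => by
        rw [h0, zero_smul] at hω
        have h2 : twNat K ρ z⁻¹ * twNat K ρ z = 1 := by rw [← map_mul, inv_mul_cancel, map_one]
        rw [hω, mul_zero] at h2
        exact zero_ne_one h2
      have htw2 : ρ ⟨k, hm⟩ = ρ ⟨π z * k * (π z)⁻¹, hKn.conj_mem k hm _⟩ := by
        have h2 := smul_right_injective _ hω0 htw
        rw [show (LinearMap.id : Module.End ℂ (Fin d → ℂ)) = 1 from rfl, one_mul, mul_one] at h2
        exact h2
      have hu : π z * k * (π z)⁻¹ * k⁻¹ ∈ L := by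
        by_contra hu
        have h3 : θ (⟨π z * k * (π z)⁻¹, hKn.conj_mem k hm _⟩ * (⟨k, hm⟩ : K)⁻¹) = 0 := hvan _ hu
        rw [← hρc, Representation.character, map_mul, ← htw2, ← map_mul, mul_inv_cancel, map_one,
          LinearMap.trace_one, hd, Nat.cast_eq_zero] at h3
        rw [h3, mul_zero] at hP
        exact Nat.card_pos.ne hP
      rw [← mul_inv_eq_one]
      have h4 : q (π z * k * (π z)⁻¹ * k⁻¹) = 1 := (QuotientGroup.eq_one_iff _).mpr hu
      rw [hz, map_mul, map_mul, map_mul, map_inv, map_inv] at h4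
      calc q x * q k * (q k * q x)⁻¹ = q x * q k * (q x)⁻¹ * (q k)⁻¹ := by group
        _ = 1 := h4
    obtain ⟨η₀, hη₀, h1, h2⟩ := exists_constituent_over T hNT hηHc hζc
    obtain ⟨hηT, -, -⟩ := clifford_correspondence hζ T rfl hNT hηH hη₀ h1 h2
    have hη₀c := isCharacter_of_irr hη₀
    have hbT : Cfsg.indFun T ((fun x => conj (η₀ x)) * fun x : T => ψ2 x) = fun x => b' (F x) := by
      rw [indFun_mul_restrict T _ (isClassFunction_isChar hψ2), indFun_conj, hηT]
      exact hb
    have hkerT : F.ker ≤ T := fun x hx => hNT (by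
      obtain ⟨l, -, hl⟩ := hFker x hx
      show q (π x) ∈ S
      rw [show q (π x) = 1 from (QuotientGroup.eq_one_iff _).mpr (hl ▸ l.2)]
      exact S.one_mem)
    set T' := T.map F with hT'
    obtain ⟨b₀, hb₀, hb₀ind⟩ := exists_descend_indFun F hFs T hkerT
      (IsCharacter.mul (IsCharacter.conjugate hη₀c) (IsCharacter.restrict hψ2 T)) hbT
    set J2 := T'.comap mkK with hJ2
    have := Fintype.ofFinite J2
    have hJind : Cfsg.indFun J2 ((fun x : J2 => b₀ ⟨mkK x, x.2⟩) * fun x : J2 => η x) =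
        fun g => χ (π g) := by
      rw [indFun_mul_restrict J2 _ (isClassFunction_isChar (isCharacter_of_irr hη)), ← hprod,
        mul_comm η bh]
      congr 1
      funext g
      rw [hbh, ← hb₀ind]
      exact indFun_comap mkK (QuotientGroup.mk'_surjective K') T' b₀ g
    have hπker : π.ker ≤ J2 := fun z hz => by
      have hz1 : π z = 1 := hz
      have hzH : z ∈ H2 := by show π z ∈ H; rw [hz1]; exact H.one_mem
      show mkK z ∈ T'
      refine ⟨⟨z, hzH⟩, hNT ?_, rfl⟩
      show q (π z) ∈ S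
      rw [hz1, map_one]; exact S.one_mem
    obtain ⟨ξ, hξ, hξind⟩ := exists_descend_indFun π hπ J2 hπker
      (IsCharacter.mul (IsCharacter.comp_hom hb₀ (mkK.subgroupComap T'))
        (IsCharacter.restrict (isCharacter_of_irr hη) J2)) hJind
    refine IH K hKn hLK' (J2.map π) (fun htop => hTne ?_) (fun k hk => ?_) ξ hξ hξind
    · have h1 : J2 = ⊤ := by
        rw [← Subgroup.comap_map_eq_self hπker, htop, Subgroup.comap_top]
      have h2 : T' = ⊤ := by
        rw [eq_top_iff]
        intro y _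
        obtain ⟨g, rfl⟩ := QuotientGroup.mk'_surjective K' y
        have : g ∈ J2 := h1 ▸ Subgroup.mem_top g
        exact this
      rw [← Subgroup.comap_map_eq_self hkerT, ← hT', h2, Subgroup.comap_top]
    · refine ⟨twIncl K ρ ⟨k, hk⟩, ?_, rfl⟩
      show mkK (twIncl K ρ ⟨k, hk⟩) ∈ T'
      rw [show mkK (twIncl K ρ ⟨k, hk⟩) = 1 from (QuotientGroup.eq_one_iff _).mpr ⟨_, rfl⟩]
      exact T'.one_mem

/-- An irreducible constituent of a homogeneous restriction restricts homogeneously. -/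
theorem restrict_constituent {φ : L → ℂ} (hφ : Cfsg.IsIrrCharacter L φ) {χ : G → ℂ}
    (hχ : Cfsg.IsCharacter G χ) {e : ℕ} (hres : (fun l : L => χ l) = (e : ℂ) • φ)
    (H : Subgroup G) [Fintype H] (hLH : L ≤ H) {ψ : H → ℂ} (hψ : Cfsg.IsIrrCharacter H ψ)
    (hne : Cfsg.classInner (fun h : H => χ h) ψ ≠ 0) :
    ∃ m : ℕ, ∀ l : L, ψ ⟨l, hLH l.2⟩ = (m : ℂ) * φ l := by
  classical
  have := Fintype.ofFinite L
  obtain ⟨a, ha⟩ := IsCharacter.exists_decomp (IsCharacter.restrict hχ H)
  have ha0 : a ⟨ψ, hψ⟩ ≠ 0 := fun h0 => hne (by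
    rw [ha]
    simp only [← Nat.cast_smul_eq_nsmul ℂ]
    rw [classInner_irrSum (fun t => (a t : ℂ)) ⟨ψ, hψ⟩, h0, Nat.cast_zero])
  obtain ⟨b, hb⟩ := IsCharacter.exists_decomp
    (IsCharacter.comp_hom (isCharacter_of_irr hψ) (Subgroup.inclusion hLH))
  have key : ∀ θ : Cfsg.IrrCharacter L, b θ ≠ 0 → (θ : L → ℂ) = φ := by
    intro θ hθ
    choose k hk using fun t : Cfsg.IrrCharacter H => IsCharacter.exists_mult
      (IsCharacter.comp_hom (isCharacter_of_irr t.2) (Subgroup.inclusion hLH)) θ.2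
    have h1 : (fun l : L => χ l) =
        ∑ t : Cfsg.IrrCharacter H, a t • fun l : L => (t : H → ℂ) (Subgroup.inclusion hLH l) := by
      funext l
      rw [show χ (l : G) = (fun h : H => χ h) (Subgroup.inclusion hLH l) from rfl, ha]
      simp [Finset.sum_apply]
    have h2 := congrArg (fun f => Cfsg.classInner f (θ : L → ℂ)) h1
    simp only [classInner_sum_left, classInner_nsmul_left, hk] at h2
    rw [hres, classInner_smul_left, classInner_irrChar hφ θ.2] at h2
    by_contra hne'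
    rw [if_neg (fun h => hne' h.symm), mul_zero] at h2
    have h3 : ∑ t : Cfsg.IrrCharacter H, a t * k t = 0 := by exact_mod_cast h2.symm
    have h4 := (mul_eq_zero.mp (Finset.sum_eq_zero_iff.mp h3 ⟨ψ, hψ⟩ (Finset.mem_univ _))).resolve_left ha0
    have h5 := hk ⟨ψ, hψ⟩
    rw [h4, hb] at h5
    simp only [← Nat.cast_smul_eq_nsmul ℂ] at h5
    rw [classInner_irrSum (fun t => (b t : ℂ)) θ] at h5
    exact hθ (by exact_mod_cast h5)
  refine ⟨∑ θ, b θ, fun l => ?_⟩
  rw [show ψ ⟨l, hLH l.2⟩ = (fun x : L => ψ (Subgroup.inclusion hLH x)) l from rfl, hb,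
    Finset.sum_apply, Nat.cast_sum, Finset.sum_mul]
  refine Finset.sum_congr rfl fun θ _ => ?_
  by_cases h : b θ = 0
  · simp [h]
  · rw [Pi.smul_apply, nsmul_eq_mul, key θ h]

/-- The homogeneous case reduces to linear scalars on `L`. -/
theorem berger_step (hsol : Group.IsSolvable (G ⧸ L)) {χ : G → ℂ}
    (hχ : Cfsg.IsIrrCharacter G χ) (hhom : ∀ M : Subgroup G, M.Normal → L ≤ M → Homog χ M)
    (H : Subgroup G) (hH : IsCoatom H) (hLH : L ≤ H)
    (hcore : ∀ N : Subgroup G, N.Normal → N ≤ H → N ≤ L)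
    {ψ : H → ℂ} (hψc : Cfsg.IsCharacter H ψ) [Fintype H] (hind : Cfsg.indFun H ψ = χ)
    (IH : ∀ (G' : Type u) [Group G'] [Fintype G'] (K : Subgroup G') [K.Normal],
      K.index < L.index → Group.IsSolvable (G' ⧸ K) → ∀ χ' : G' → ℂ, Cfsg.IsIrrCharacter G' χ' →
      (∀ M : Subgroup G', M.Normal → K ≤ M → Homog χ' M) →
      ∀ J : Subgroup G', J ≠ ⊤ → K ≤ J → ∀ ξ : J → ℂ, Cfsg.IsCharacter J ξ →
        Cfsg.indFun J ξ ≠ χ') : False := by
  classical
  have := Fintype.ofFinite L
  have hχc := isCharacter_of_irr hχ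
  obtain ⟨φ, e, hφ, hres⟩ := hhom L inferInstance le_rfl
  have hres' : ∀ l : L, χ l = (e : ℂ) * φ l := fun l => congrFun hres l
  have he0 : (e : ℂ) ≠ 0 := fun h0 => IsIrrCharacter.apply_one_ne_zero hχ (by
    rw [show χ 1 = χ ((1 : L) : G) from rfl, hres', h0, zero_mul])
  have hψ : Cfsg.IsIrrCharacter H ψ := irr_of_indFun_irr H hψc (by rw [hind]; exact hχ)
  obtain ⟨mψ, hmψ⟩ := restrict_constituent L hφ hχc hres H hLH hψ (by
    rw [← frobenius_reciprocity' H ψ (isClassFunction_isChar hχc), hind, classInner_self_irr hχ]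
    exact one_ne_zero)
  have hinv : ∀ g : G, conjN L g φ = φ := fun g => funext fun l => by
    have := isClassFunction_isChar hχc l g
    rw [hres' l] at this
    exact mul_left_cancel₀ he0
      ((hres' ⟨g * l * g⁻¹, Subgroup.Normal.conj_mem inferInstance _ l.2 g⟩).symm.trans this)
  obtain ⟨d, ρ, hρ, hρc⟩ := hφ
  have hinv' : ∀ g : G, conjN L g ρ.character = ρ.character := by rw [hρc]; exact hinv
  set G1 := twGroup L ρ
  have := Fintype.ofFinite G1
  set π := twProj L ρ
  have hπ : Function.Surjective π := twProj_surjective L ρ hinv'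
  set η : G1 → ℂ := (twNat L ρ).character with hηdef
  have hηinc : ∀ l : L, η (twIncl L ρ l) = φ l := fun l => by rw [← hρc]; rfl
  have hirrinc : ∀ (X : Type u) [Group X] [Finite X] (i : X →* G1) (j : L →* X),
      (∀ l, i (j l) = twIncl L ρ l) → Cfsg.IsIrrCharacter X (fun x => η (i x)) := by
    intro X _ _ i j hij
    refine irr_of_comp_irr (IsCharacter.comp_hom (isCharacter_character _) i) j ?_
    simp only [hij, hηinc]
    exact ⟨d, ρ, hρ, hρc⟩
  have hη : Cfsg.IsIrrCharacter G1 η := hirrinc G1 (MonoidHom.id _) (twIncl L ρ) fun _ => rfl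
  set L' := (twIncl L ρ).range with hL'
  have : L'.Normal := ⟨by rintro _ ⟨l, rfl⟩ g; exact ⟨_, (twIncl_conj L ρ g l).symm⟩⟩
  have := Fintype.ofFinite L'
  have hχ1 : Cfsg.IsIrrCharacter G1 (fun g => χ (π g)) := IsIrrCharacter.comp_surjective hχ π hπ
  obtain ⟨β, hβ, hβη, hβL⟩ := exists_factor_extension L' hη
    (hirrinc L' L'.subtype (twIncl L ρ).rangeRestrict fun _ => rfl) hχ1 (e := e) (by
      intro n
      obtain ⟨l, hl⟩ := n.2
      rw [← hl, hηinc]
      exact hres' l)
  have hβη' : ∀ g, χ (π g) = β g * η g := fun g => congrFun hβη g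
  set L1 := L.comap π with hL1
  have hL1n : L1.Normal := (inferInstance : L.Normal).comap π
  have hker1 : π.ker ≤ L1 := fun z hz => by show π z ∈ L; rw [MonoidHom.mem_ker.mp hz]; exact L.one_mem
  have hL'L1 : L' ≤ L1 := by rintro _ ⟨l, rfl⟩; exact l.2
  -- homogeneity
  have hhom1 : ∀ M : Subgroup G1, M.Normal → L1 ≤ M → Homog β M := by
    intro M hM hLM
    have := Fintype.ofFinite M
    have hMmap : (M.map π).Normal := hM.map π hπ
    obtain ⟨Θ, f, hΘ, hΘres⟩ := hhom (M.map π) hMmap (fun x hx => by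
      obtain ⟨z, rfl⟩ := hπ x
      exact Subgroup.mem_map_of_mem π (hLM hx))
    set Θ1 : M → ℂ := fun x => Θ (π.subgroupMap M x) with hΘ1
    have hΘ1i : Cfsg.IsIrrCharacter M Θ1 :=
      IsIrrCharacter.comp_surjective hΘ (π.subgroupMap M) (π.subgroupMap_surjective M)
    have hL'M : L' ≤ M := hL'L1.trans hLM
    set N := L'.subgroupOf M
    have := Fintype.ofFinite N
    have hηN : Cfsg.IsIrrCharacter N (fun n : N => η ((n : M) : G1)) :=
      hirrinc N (M.subtype.comp N.subtype)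
        (((twIncl L ρ).codRestrict M fun l => hL'M ⟨l, rfl⟩).codRestrict N fun l =>
          (show twIncl L ρ l ∈ L' from ⟨l, rfl⟩)) fun _ => rfl
    have hηM : Cfsg.IsIrrCharacter M (fun x : M => η x) :=
      hirrinc M M.subtype ((twIncl L ρ).codRestrict M fun l => hL'M ⟨l, rfl⟩) fun _ => rfl
    obtain ⟨a, ha⟩ := IsCharacter.exists_decomp (IsCharacter.restrict (isCharacter_of_irr hβ) M)
    have htriv : ∀ t : Cfsg.IrrCharacter M, a t ≠ 0 → ∀ n : N, (t : M → ℂ) n = (t : M → ℂ) 1 := by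
      intro t ht n
      have h := eq_mul_of_constituent (IsCharacter.restrict (isCharacter_of_irr hβ) M) t.2
        (g := (n : M)) (ω := 1) (by
          rw [ha]
          simp only [← Nat.cast_smul_eq_nsmul ℂ]
          rw [classInner_irrSum (fun t => (a t : ℂ)) t]
          exact_mod_cast ht) (by simp) (by
          rw [mul_one]
          exact hβL ⟨((n : M) : G1), n.2⟩)
      rwa [mul_one] at h
    have hsum : (f : ℂ) • Θ1 = ∑ t : Cfsg.IrrCharacter M, a t • ((t : M → ℂ) * fun x : M => η x) := by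
      funext x
      rw [Finset.sum_apply]
      refine ((congrFun hΘres (π.subgroupMap M x)).symm.trans (hβη' x)).trans ?_
      rw [show β (x : G1) = (fun y : M => β y) x from rfl, ha, Finset.sum_apply, Finset.sum_mul]
      exact Finset.sum_congr rfl fun t _ => by simp [mul_assoc]
    have hone : ∀ t : Cfsg.IrrCharacter M, a t ≠ 0 → (t : M → ℂ) * (fun x : M => η x) = Θ1 := by
      intro t ht
      have hirr := (gallagher_trivial N hηM hηN t.2 t.2 (htriv t ht) (htriv t ht)).1
      by_contra hne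
      have h1 := congrArg (fun F => Cfsg.classInner F ((t : M → ℂ) * fun x : M => η x)) hsum
      simp only [classInner_smul_left, classInner_irrChar hΘ1i hirr, if_neg (Ne.symm hne), mul_zero,
        classInner_sum_left, classInner_nsmul_left] at h1
      choose k hk using fun s : Cfsg.IrrCharacter M => classInner_char_nat
        (IsCharacter.mul (isCharacter_of_irr s.2) (isCharacter_of_irr hηM))
        (isCharacter_of_irr hirr)
      simp only [hk] at h1
      have h2 : ∑ s : Cfsg.IrrCharacter M, a s * k s = 0 := by exact_mod_cast h1.symm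
      have h3 := (mul_eq_zero.mp (Finset.sum_eq_zero_iff.mp h2 t (Finset.mem_univ _))).resolve_left ht
      have h4 := hk t
      rw [classInner_self_irr hirr, h3] at h4
      exact one_ne_zero (h4.trans Nat.cast_zero)
    obtain ⟨t₀, ht₀⟩ : ∃ t, a t ≠ 0 := by
      by_contra hno
      push Not at hno
      exact IsIrrCharacter.apply_one_ne_zero hβ (by
        rw [show β 1 = (fun y : M => β y) 1 from rfl, ha]; simp [hno, Finset.sum_apply])
    refine ⟨t₀, ∑ t, a t, t₀.2, ?_⟩
    rw [ha, Nat.cast_sum, Finset.sum_smul]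
    refine Finset.sum_congr rfl fun t _ => ?_
    by_cases h : a t = 0
    · simp [h]
    · rw [Nat.cast_smul_eq_nsmul, show (t : M → ℂ) = t₀ from
        (gallagher_trivial N hηM hηN t.2 t₀.2 (htriv t h) (htriv t₀ ht₀)).2
          ((hone t h).trans (hone t₀ ht₀).symm)]
  -- scalars on `L1`
  obtain ⟨θ, e', hθ, hθres⟩ := hhom1 L1 hL1n le_rfl
  have hθres' : ∀ z : L1, β z = (e' : ℂ) * θ z := fun z => congrFun hθres z
  have := nontrivial_of_irreducible ρ
  have hnormβ : ∀ z : L1, ‖β z‖ = ‖β 1‖ := by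
    intro z
    set k : G1 := (twIncl L ρ ⟨π z, z.2⟩)⁻¹ * z with hk
    have hk1 : π k = 1 := by
      rw [hk, map_mul, map_inv, show π (twIncl L ρ ⟨π z, z.2⟩) = π (z : G1) from rfl, inv_mul_cancel]
    obtain ⟨c, hc⟩ := exists_scalar_of_ker L ρ k hk1
    have hηk : ‖η k‖ = ‖η 1‖ := by
      rw [hηdef, norm_character_of_scalar (twNat L ρ) (c := (c : ℂ)) hc, (twNat L ρ).char_one,
        Complex.norm_natCast]
    obtain ⟨β', -, hβ'⟩ := exists_factor (QuotientGroup.mk' L') (QuotientGroup.mk'_surjective L')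
      (isCharacter_of_irr hβ) (fun x hx => by
        rw [QuotientGroup.ker_mk'] at hx
        exact hβL ⟨x, hx⟩)
    have hβk : β z = β k := by
      simp only [hβ']
      congr 1
      rw [hk, map_mul, map_inv, show QuotientGroup.mk' L' (twIncl L ρ ⟨π z, z.2⟩) = 1 from
        (QuotientGroup.eq_one_iff _).mpr ⟨_, rfl⟩, inv_one, one_mul]
    have h1 := hβη' k
    have h2 := hβη' 1
    rw [map_one] at h2
    rw [hk1, h2] at h1
    have h3 := congrArg norm h1
    rw [norm_mul, norm_mul, hηk] at h3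
    rw [hβk]
    exact (mul_right_cancel₀ (norm_ne_zero_iff.mpr (IsIrrCharacter.apply_one_ne_zero hη)) h3).symm
  have he' : (e' : ℂ) ≠ 0 := fun h0 => IsIrrCharacter.apply_one_ne_zero hβ (by
    rw [show β 1 = β ((1 : L1) : G1) from rfl, hθres', h0, zero_mul])
  have hθ1 := deg_one_of_norm_eq hθ fun z => by
    have h := hnormβ z
    rw [hθres' z, show β 1 = β ((1 : L1) : G1) from rfl, hθres' 1,
      IsCharacter.apply_one_eq_deg (isCharacter_of_irr hθ), norm_mul, norm_mul,
      Complex.norm_natCast (deg θ)] at h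
    exact mul_left_cancel₀ (norm_ne_zero_iff.mpr he') h
  obtain ⟨lam, hlam⟩ := exists_hom_of_deg_one (isCharacter_of_irr hθ)
    (by rw [IsCharacter.apply_one_eq_deg (isCharacter_of_irr hθ), hθ1, Nat.cast_one])
  have hL1' : ∀ z : L1, β z = β 1 * (lam z : ℂ) := fun z => by
    rw [hθres' z, show β 1 = β ((1 : L1) : G1) from rfl, hθres' 1, hlam]
    simp
  -- the inducing character
  set H1 := H.comap π with hH1
  have := Fintype.ofFinite H1
  set P : H1 →* H := π.subgroupComap H
  have hPs : Function.Surjective P := fun y => by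
    obtain ⟨z, hz⟩ := hπ y
    exact ⟨⟨z, by show π z ∈ H; rw [hz]; exact y.2⟩, Subtype.ext hz⟩
  have hψ1 : Cfsg.IsIrrCharacter H1 (fun x => ψ (P x)) := IsIrrCharacter.comp_surjective hψ P hPs
  have hL'H : L' ≤ H1 := fun x hx => hLH (hL'L1 hx)
  have := Fintype.ofFinite (L'.subgroupOf H1)
  obtain ⟨b, hb, hbη, hbL⟩ := exists_factor_extension (L'.subgroupOf H1)
    (η := fun x : H1 => η x)
    (hirrinc H1 H1.subtype ((twIncl L ρ).codRestrict H1 fun l => hL'H ⟨l, rfl⟩) fun _ => rfl)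
    (hirrinc (L'.subgroupOf H1) (H1.subtype.comp (L'.subgroupOf H1).subtype)
      (((twIncl L ρ).codRestrict H1 fun l => hL'H ⟨l, rfl⟩).codRestrict (L'.subgroupOf H1) fun l =>
        (show twIncl L ρ l ∈ L' from ⟨l, rfl⟩)) fun _ => rfl)
    hψ1 (e := mψ) (by
      intro n
      obtain ⟨l, hl⟩ := Subgroup.mem_subgroupOf.mp n.2
      have hP : P (n : H1) = ⟨(l : G), hLH l.2⟩ := Subtype.ext (by
        show π ((n : H1) : G1) = (l : G)
        rw [← hl]; rfl)
      rw [hP, hmψ l, ← hηinc l, hl])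
  have hbc := isCharacter_of_irr hb
  have hInd : Cfsg.indFun H1 b * η = β * η := by
    rw [← indFun_mul_restrict H1 b (isClassFunction_isChar (isCharacter_of_irr hη)), ← hbη, ← hβη]
    funext g
    rw [← hind]
    exact indFun_comap π hπ H ψ g
  have hIndirr : Cfsg.IsIrrCharacter G1 (Cfsg.indFun H1 b) :=
    irr_of_mul_irr (isCharacter_of_irr hη) (IsCharacter.indFun hbc) (by
      rw [mul_comm, hInd, ← hβη]; exact hχ1)
  have hIndβ : Cfsg.indFun H1 b = β := by
    refine (gallagher_trivial L' hη (hirrinc L' L'.subtype (twIncl L ρ).rangeRestrict fun _ => rfl)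
      hIndirr hβ (fun n => ?_) hβL).2 hInd
    rw [indFun_apply, indFun_apply]
    congr 1
    refine Finset.sum_congr rfl fun x _ => ?_
    have hn : x⁻¹ * (n : G1) * x ∈ L' := by
      simpa using (inferInstance : L'.Normal).conj_mem _ n.2 x⁻¹
    rw [extendByZero_mem _ (hL'H hn), extendByZero_mem _ (show x⁻¹ * 1 * x ∈ H1 by simp)]
    refine (hbL ⟨⟨_, hL'H hn⟩, hn⟩).trans (congrArg b (Subtype.ext ?_))
    simp
  have hH1c : IsCoatom H1 := by
    refine ⟨fun h => hH.1 ?_, fun B hB => ?_⟩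
    · rw [← Subgroup.map_comap_eq_self_of_surjective hπ H, ← hH1, h, Subgroup.map_top_of_surjective π hπ]
    · have hkB : π.ker ≤ B := fun z hz => hB.le (by
        show π z ∈ H; rw [MonoidHom.mem_ker.mp hz]; exact H.one_mem)
      have hle : H ≤ B.map π := by
        rw [← Subgroup.map_comap_eq_self_of_surjective hπ H]
        exact Subgroup.map_mono hB.le
      rcases eq_or_lt_of_le hle with h | h
      · exact absurd (by rw [← Subgroup.comap_map_eq_self hkB, ← h]) hB.ne
      · rw [← Subgroup.comap_map_eq_self hkB, hH.2 _ h, Subgroup.comap_top]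
  have hinj : Function.Injective (QuotientGroup.map L1 L π le_rfl) := by
    rw [injective_iff_map_eq_one]
    intro x hx
    obtain ⟨z, rfl⟩ := QuotientGroup.mk_surjective x
    rw [QuotientGroup.map_mk, QuotientGroup.eq_one_iff] at hx
    exact (QuotientGroup.eq_one_iff z).mpr hx
  have hsol1 : Group.IsSolvable (G1 ⧸ L1) := Group.isSolvable_of_isSolvable_injective hinj
  refine berger_core L1 hsol1 hβ lam hL1' hhom1 H1 hH1c (fun z hz => hLH hz) ?_ hbc hIndβ ?_
  · intro N hN hNH x hx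
    have h1 : N.map π ≤ H := Subgroup.map_le_iff_le_comap.mpr hNH
    exact hcore (N.map π) (hN.map π hπ) h1 (Subgroup.mem_map_of_mem π hx)
  · intro K hK hlt J hJ hKJ ξ hξ
    have hsolK : Group.IsSolvable (G1 ⧸ K) :=
      Group.isSolvable_of_surjective (f := QuotientGroup.map L1 K (MonoidHom.id G1) hlt.le)
        (fun x => by
          obtain ⟨z, rfl⟩ := QuotientGroup.mk_surjective x
          exact ⟨QuotientGroup.mk z, rfl⟩)
    refine IH G1 K ?_ hsolK β hβ (fun M hM hKM => hhom1 M hM (hlt.le.trans hKM)) J hJ hKJ ξ hξ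
    rw [← Subgroup.index_comap_of_surjective L hπ, ← hL1]
    exact Subgroup.index_strictAnti hlt

/-- Berger's theorem, relative to a normal subgroup with solvable quotient. -/
theorem berger (n : ℕ) : ∀ (G : Type u) [Group G] [Fintype G] (L : Subgroup G) [L.Normal],
    L.index = n → Group.IsSolvable (G ⧸ L) → ∀ χ : G → ℂ, Cfsg.IsIrrCharacter G χ →
    (∀ M : Subgroup G, M.Normal → L ≤ M → Homog χ M) →
    ∀ H : Subgroup G, H ≠ ⊤ → L ≤ H → ∀ ψ : H → ℂ, Cfsg.IsCharacter H ψ →
      Cfsg.indFun H ψ ≠ χ := by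
  induction n using Nat.strong_induction_on with
  | _ n ih =>
    intro G _ _ L hLn hidx hsol χ hχ hhom H hH hLH ψ hψ hind
    classical
    obtain ⟨H', hH', hHH'⟩ : ∃ H' : Subgroup G, IsCoatom H' ∧ H ≤ H' :=
      (eq_top_or_exists_le_coatom H).resolve_left hH
    have := Fintype.ofFinite H'
    set ψ' := Cfsg.indFun (H.subgroupOf H') (fun x => ψ ⟨(x : H'), Subgroup.mem_subgroupOf.mp x.2⟩)
    have hψ' : Cfsg.IsCharacter H' ψ' := IsCharacter.indFun
      (IsCharacter.comp_hom hψ (Subgroup.subgroupOfEquivOfLe hHH').toMonoidHom)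
    have hind' : Cfsg.indFun H' ψ' = χ := (indFun_trans H H' hHH' ψ).trans hind
    have hLc : L ≤ H'.normalCore := Subgroup.normal_le_normalCore.mpr (hLH.trans hHH')
    rcases eq_or_lt_of_le hLc with heq | hlt
    · refine berger_step L hsol hχ hhom H' hH' (hLH.trans hHH') (fun N hN hNH => ?_) hψ'
        hind' (fun G' _ _ K _ hK => ih _ (hidx ▸ hK) G' K rfl)
      rw [heq]
      exact Subgroup.normal_le_normalCore.mpr hNH
    · have hsol' : Group.IsSolvable (G ⧸ H'.normalCore) :=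
        Group.isSolvable_of_surjective (f := QuotientGroup.map L H'.normalCore (MonoidHom.id G) hlt.le)
          (fun x => by
            obtain ⟨z, rfl⟩ := QuotientGroup.mk_surjective x
            exact ⟨QuotientGroup.mk z, rfl⟩)
      exact ih _ (hidx ▸ Subgroup.index_strictAnti hlt) G H'.normalCore rfl hsol' χ hχ
        (fun M hM hM' => hhom M hM (hlt.le.trans hM')) H' hH'.1 (Subgroup.normalCore_le H') ψ' hψ' hind'

end Cfsg.Lib.Chars
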