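import Cfsg.Agent.Chars.AbelianInertia
import Cfsg.Agent.S1489

/-!
# Induction from a normal subgroup whose inertia quotient is abelian
-/

namespace Cfsg.Lib.Chars

universe u

variable {G : Type u} [Group G] [Fintype G]

theorem indFun_abelian_inertia (H T : Subgroup G) [hN : H.Normal] {θ : H → ℂ}
    (hθ : Cfsg.IsIrrCharacter H θ)
    (hT : ∀ g : G, g ∈ T ↔ ∀ h : H, θ ⟨g * h * g⁻¹, hN.conj_mem h h.2 g⟩ = θ h)
    (hab : ∀ x ∈ T, ∀ y ∈ T, x * y * x⁻¹ * y⁻¹ ∈ H) :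
    ∃ (e : ℕ) (C : Finset (G → ℂ)), 0 < e ∧ (∀ χ ∈ C, Cfsg.IsIrrCharacter G χ) ∧
      e ^ 2 * C.card = H.relIndex T ∧ Cfsg.indFun H θ = (e : ℂ) • ∑ χ ∈ C, χ ∧
      (∀ χ ∈ C, χ 1 = (T.index : ℂ) * e * θ 1) ∧ H ≤ T ∧
      ((Nat.card H).Coprime (H.relIndex T) → e = 1) := by
  classical
  have hHT : H ≤ T := fun x hx => (hT x).mpr fun h =>
    isClassFunction_isChar (isCharacter_of_irr hθ) h ⟨x, hx⟩
  have := Fintype.ofFinite T
  have := Fintype.ofFinite (H.subgroupOf T)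
  let θ' : H.subgroupOf T → ℂ := fun x => θ ⟨(x : T), Subgroup.mem_subgroupOf.mp x.2⟩
  have hθ' : Cfsg.IsIrrCharacter (H.subgroupOf T) θ' :=
    IsIrrCharacter.comp_mulEquiv hθ (Subgroup.subgroupOfEquivOfLe hHT)
  have hinv : ∀ g : T, conjN (H.subgroupOf T) g θ' = θ' := fun g => funext fun x =>
    (hT g).mp g.2 ⟨(x : T), Subgroup.mem_subgroupOf.mp x.2⟩
  obtain ⟨e, C, he, hC, hcard, hsum, hres, hall⟩ := indFun_abelian_quotient (H.subgroupOf T)
    (fun x y => Subgroup.mem_subgroupOf.mpr (hab x x.2 y y.2)) hθ' hinv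
  have hcoef : ∀ ψ ∈ C, Cfsg.classInner (Cfsg.indFun (H.subgroupOf T) θ') ψ ≠ 0 := by
    intro ψ hψ
    rw [frobenius_reciprocity (H.subgroupOf T) θ'
      (isClassFunction_isChar (isCharacter_of_irr (hC ψ hψ))), hres ψ hψ, classInner_smul_right,
      classInner_self_irr hθ', mul_one, Complex.conj_natCast]
    exact_mod_cast he.ne'
  have hinj : Set.InjOn (Cfsg.indFun T) (C : Set (T → ℂ)) := fun a ha b hb hab' =>
    (Cfsg.Agent.S1489.result H T θ hθ hT hHT a b (hC a ha) (hC b hb) (hcoef a ha)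
      (hcoef b hb)).2 hab'
  refine ⟨e, C.image (Cfsg.indFun T), he, ?_, ?_, ?_, ?_, hHT, ?_⟩
  · intro χ hχ
    obtain ⟨ψ, hψ, rfl⟩ := Finset.mem_image.mp hχ
    exact (Cfsg.Agent.S1489.result H T θ hθ hT hHT ψ ψ (hC ψ hψ) (hC ψ hψ) (hcoef ψ hψ)
      (hcoef ψ hψ)).1
  · rw [Finset.card_image_of_injOn hinj, hcard]
    rfl
  · rw [← indFun_trans H T hHT θ, hsum, indFun_smul, indFun_sum, Finset.sum_image hinj]
  · intro χ hχ
    obtain ⟨ψ, hψ, rfl⟩ := Finset.mem_image.mp hχ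
    rw [indFun_one, show ψ 1 = ((e : ℂ) • θ') 1 from congrFun (hres ψ hψ) 1]
    simp only [Pi.smul_apply, smul_eq_mul, θ', ← mul_assoc]
    congr 1
  · intro hcop
    obtain ⟨χ, hχ, hχr⟩ := exists_extension_of_coprime_index (H.subgroupOf T) hθ' hinv (by
      rw [Nat.card_congr (Subgroup.subgroupOfEquivOfLe hHT).toEquiv]
      exact hcop)
    have h1 : χ ∈ C := hall χ hχ (by
      rw [funext hχr, classInner_self_irr hθ']; exact one_ne_zero)
    have h2 := congrFun (hres χ h1) 1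
    simp only [hχr, Pi.smul_apply, smul_eq_mul] at h2
    have h3 : (1 : ℂ) = (e : ℂ) :=
      mul_right_cancel₀ (IsIrrCharacter.apply_one_ne_zero hθ') (by rw [one_mul]; exact h2)
    exact_mod_cast h3.symm

end Cfsg.Lib.Chars
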