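import Cfsg.Agent.Chars.StarSylow
import Cfsg.Agent.Chars.Count
import Cfsg.Agent.OddChar.Dual
import Cfsg.Agent.OddChar.Zassenhaus.Coherent

/-!
# Exceptional characters of an abelian trivial intersection subgroup

`A` is abelian and is the centraliser of each of its non-identity elements.  If the non-trivial
characters of `A` fall in at least two orbits under the normaliser, they give a family of
irreducible characters of `G` outside of which every character is constant on the non-identity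
elements of `A`, and which carries all but `e` of the column norm at such an element.
-/

set_option autoImplicit false
set_option linter.unusedSectionVars false
set_option linter.style.haveILetI false

namespace Cfsg.Lib.Chars.AbelianTI

open scoped ComplexConjugate
open Cfsg.Lib.Chars.StarTI Cfsg.Lib.Chars.StarSylow Cfsg.Lib.Dual

universe u

variable {G : Type u} [Group G] [Fintype G] {A : Subgroup G}

theorem setting (hC : ∀ a ∈ A, a ≠ 1 → Subgroup.centralizer ({a} : Set G) = A) :
    Setting A A (Subgroup.normalizer (A : Set G)) := by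
  have hcomm : ∀ a ∈ A, ∀ b ∈ A, a * b = b * a := by
    intro a ha b hb
    rcases eq_or_ne a 1 with rfl | h1
    · rw [one_mul, mul_one]
    · rw [← hC a ha h1, Subgroup.mem_centralizer_singleton_iff] at hb
      exact hb.symm
  have hnorm : ∀ n ∈ Subgroup.normalizer (A : Set G), ∀ y ∈ A, n * y * n⁻¹ ∈ A :=
    fun n hn y hy => (Subgroup.mem_normalizer_iff.1 hn y).1 hy
  refine ⟨le_rfl, Subgroup.le_normalizer, hcomm, ?_, fun g y hy hy1 hgy => ?_, hnorm, hnorm,
    fun n _ y hy hy1 hfix => ?_⟩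
  · rw [Subgroup.subgroupOf_self, Subgroup.index_top]; exact Nat.coprime_one_right _
  · have hz1 : g * y * g⁻¹ ≠ 1 := fun e => hy1 (conj_eq_one_iff.1 e)
    have hmem : ∀ w ∈ A, g * w * g⁻¹ ∈ A := by
      intro w hw
      rw [← hC _ hgy hz1, Subgroup.mem_centralizer_singleton_iff]
      calc g * w * g⁻¹ * (g * y * g⁻¹) = g * (w * y) * g⁻¹ := by group
        _ = g * (y * w) * g⁻¹ := by rw [hcomm y hy w hw]
        _ = g * y * g⁻¹ * (g * w * g⁻¹) := by group
    have hmap : A.map (MulAut.conj g).toMonoidHom = A :=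
      Subgroup.eq_of_le_of_card_ge (by rintro _ ⟨w, hw, rfl⟩; exact hmem w hw)
        (Nat.card_congr (A.equivMapOfInjective _ (MulAut.conj g).injective).toEquiv).le
    refine Subgroup.mem_normalizer_iff.2 fun z => ⟨hmem z, fun hz => ?_⟩
    rw [← hmap] at hz
    obtain ⟨w, hw, hwz⟩ := hz
    have h2 : g * w * g⁻¹ = g * z * g⁻¹ := hwz
    rwa [← mul_left_cancel (mul_right_cancel h2)]
  · rw [← hC y hy hy1, Subgroup.mem_centralizer_singleton_iff]
    calc n * y = n * y * n⁻¹ * n := by group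
      _ = y * n := by rw [hfix]

variable {N : Subgroup G} [Fintype A] [Fintype N] [Fintype (A →* ℂˣ)]

/-- The sum of a character over its orbit, as an average. -/
noncomputable def avg (h : Setting A A N) (α : A →* ℂˣ) (a : A) : ℂ :=
  (Nat.card A : ℂ)⁻¹ * ∑ n : N, (act h n α a : ℂ)

theorem avg_act (h : Setting A A N) (k : N) (α : A →* ℂˣ) (a : A) :
    avg h (act h k α) a = avg h α a := by
  unfold avg
  congr 1
  exact Fintype.sum_equiv (Equiv.mulLeft k) _ _ fun n => by rw [act_act]; rfl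

/-- An invariant sum over the non-trivial characters, orbit by orbit. -/
theorem sum_orbits [DecidableEq (A →* ℂˣ)] (h : Setting A A N) {ι : Type u} [Fintype ι]
    (r : ι → (A →* ℂˣ)) (hr1 : ∀ i, r i ≠ 1) (hsep : Function.Injective fun i => orb h (r i))
    (hcov : ∀ α : A →* ℂˣ, α ≠ 1 → ∃ i, orb h (r i) = orb h α)
    (f : (A →* ℂˣ) → ℂ) (hf : ∀ (n : N) (α : A →* ℂˣ), f (act h n α) = f α) :
    ∑ α ∈ Finset.univ.erase (1 : A →* ℂˣ), f α = ((A.subgroupOf N).index : ℂ) * ∑ i, f (r i) := by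
  classical
  have hset : Finset.univ.erase (1 : A →* ℂˣ) = Finset.univ.biUnion fun i => orb h (r i) := by
    ext α
    simp only [Finset.mem_erase, Finset.mem_univ, and_true, Finset.mem_biUnion, true_and]
    constructor
    · intro hα
      obtain ⟨i, hi⟩ := hcov α hα
      exact ⟨i, hi ▸ self_mem_orb h α⟩
    · rintro ⟨i, hi⟩ rfl
      obtain ⟨n, hn⟩ := (mem_orb h).1 hi
      exact hr1 i (act_injective h n (hn.trans (act_trivial h n).symm))
  rw [hset, Finset.sum_biUnion, Finset.mul_sum]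
  · refine Finset.sum_congr rfl fun i _ => ?_
    rw [Finset.sum_congr rfl (g := fun _ => f (r i)) fun α hα => by
      obtain ⟨n, rfl⟩ := (mem_orb h).1 hα; exact hf n (r i), Finset.sum_const, card_orb h (hr1 i),
      nsmul_eq_mul]
  · intro i _ j _ hij
    refine Finset.disjoint_left.2 fun α hi hj => hij (hsep ?_)
    obtain ⟨n, rfl⟩ := (mem_orb h).1 hi
    obtain ⟨k, hk⟩ := (mem_orb h).1 hj
    show orb h (r i) = orb h (r j)
    rw [← orb_act h n (r i), ← hk, orb_act]

theorem card_N (h : Setting A A N) :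
    (Fintype.card N : ℂ) = (Nat.card A : ℂ) * ((A.subgroupOf N).index : ℂ) := by
  rw [← Nat.card_eq_fintype_card, ← (A.subgroupOf N).card_mul_index,
    Nat.card_congr (Subgroup.subgroupOfEquivOfLe h.cle).toEquiv]
  push_cast; rfl

variable [DecidableEq (A →* ℂˣ)]

theorem sum_nontrivial (hcomm : ∀ a b : A, a * b = b * a) [DecidableEq A] (a : A) :
    ∑ α ∈ Finset.univ.erase (1 : A →* ℂˣ), (α a : ℂ) = (if a = 1 then (Nat.card A : ℂ) else 0) - 1 := by
  rw [Finset.sum_erase_eq_sub (Finset.mem_univ 1)]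
  congr 1
  split_ifs with ha
  · subst ha
    simp only [map_one, Units.val_one, Finset.sum_const, Finset.card_univ, nsmul_eq_mul, mul_one]
    rw [← card_hom hcomm, Nat.card_eq_fintype_card]
  · exact Cfsg.Lib.OddChar.Zassenhaus.sum_hom_apply hcomm ha

/-- The exceptional characters. -/
theorem exists_exceptional (hC : ∀ a ∈ A, a ≠ 1 → Subgroup.centralizer ({a} : Set G) = A) {e : ℕ}
    (he : (A.subgroupOf (Subgroup.normalizer (A : Set G))).index = e)
    (hn : 2 * e + 1 ≤ Nat.card A) :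
    ∃ X : Finset (Cfsg.IrrCharacter G), e * X.card + 1 = Nat.card A ∧
      (∀ χ ∈ X, ∀ χ' ∈ X, ∀ g : G, (∀ x : G, x⁻¹ * g * x ∈ A → x⁻¹ * g * x = 1) →
        (χ : G → ℂ) g = (χ' : G → ℂ) g) ∧
      (∀ χ, χ ∉ X → ∃ c : ℤ, ∀ a ∈ A, a ≠ 1 → (χ : G → ℂ) a = c) ∧
      (∀ χ ∈ X, ∀ c : ℂ, ∃ a ∈ A, a ≠ 1 ∧ (χ : G → ℂ) a ≠ c) ∧
      (∀ χ ∈ X, ∀ χ' ∈ X, χ ≠ χ' → ∃ a ∈ A, a ≠ 1 ∧ (χ : G → ℂ) a ≠ (χ' : G → ℂ) a) ∧
      (∀ a ∈ A, a ≠ 1 → (Nat.card A : ℝ) - e ≤ ∑ χ ∈ X, Complex.normSq ((χ : G → ℂ) a)) := by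
  classical
  set N := Subgroup.normalizer (A : Set G) with hN
  haveI : Fintype N := Fintype.ofFinite _
  have h : Setting A A N := setting hC
  have hcomm : ∀ a b : A, a * b = b * a := fun a b => Subtype.ext (h.central a a.2 b b.2)
  have hA0 : (Nat.card A : ℂ) ≠ 0 := by exact_mod_cast Nat.card_pos.ne'
  have hepos : 0 < e := he ▸ Nat.pos_of_ne_zero Subgroup.index_ne_zero_of_finite
  -- representatives of the orbits
  set O := (Finset.univ.erase (1 : A →* ℂˣ)).image (orb h) with hO
  choose r hr hro using fun o : O => Finset.mem_image.1 o.2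
  have hr1 : ∀ o, r o ≠ 1 := fun o => (Finset.mem_erase.1 (hr o)).1
  have hsep : Function.Injective fun o => orb h (r o) := fun o o' hoo =>
    Subtype.ext (by rw [← hro o, ← hro o']; exact hoo)
  have hcov : ∀ α : A →* ℂˣ, α ≠ 1 → ∃ o, orb h (r o) = orb h α := fun α hα =>
    ⟨⟨_, Finset.mem_image_of_mem _ (Finset.mem_erase.2 ⟨hα, Finset.mem_univ α⟩)⟩, hro _⟩
  have hsum := sum_orbits h r hr1 hsep hcov
  have hcount : e * Fintype.card O + 1 = Nat.card A := by
    have h1 := hsum (fun _ => 1) (fun _ _ => rfl)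
    simp only [Finset.sum_const, Finset.card_erase_of_mem (Finset.mem_univ _), Finset.card_univ,
      nsmul_eq_mul, mul_one, he] at h1
    rw [← card_hom hcomm, Nat.card_eq_fintype_card]
    have h2 : Fintype.card (A →* ℂˣ) - 1 = e * Fintype.card O := by exact_mod_cast h1
    have : 0 < Fintype.card (A →* ℂˣ) := Fintype.card_pos
    omega
  have hO2 : 2 ≤ Fintype.card O := Nat.le_of_mul_le_mul_left (by omega) hepos
  obtain ⟨o₀, o₁, ho01⟩ := Fintype.exists_pair_of_one_lt_card (show 1 < Fintype.card O by omega)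
  obtain ⟨a₁, ha₁, ha₁'⟩ : ∃ a ∈ A, a ≠ (1 : G) := A.ne_bot_iff_exists_ne_one.1
    (fun hb => by rw [hb, Subgroup.card_bot] at hn; omega) |> fun ⟨a, ha⟩ =>
      ⟨a, a.2, fun e' => ha (Subtype.ext e')⟩
  -- the star of differences
  have hcent : ∀ α : A →* ℂˣ, Cent h (ev α) α := fun α y c => by
    show (α ((⟨y, h.le y.2⟩ : A) * c) : ℂ) = (α y : ℂ) * (α c : ℂ)
    rw [map_mul, Units.val_mul]
  have hoff : ∀ α β : A →* ℂˣ, Off A A (ev α - ev β) := fun α β c hc => by
    rw [Subgroup.subgroupOf_self, Subgroup.index_top, pow_one] at hc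
    subst hc; simp [ev]
  have hap : ∀ o o', o ≠ o' → Apart h (r o) (r o') := fun o o' hne =>
    apart_of_orb_ne h fun e' => hne (hsep e')
  have hgram : ∀ i j, i ≠ o₀ → j ≠ o₀ →
      (i = j → Cfsg.classInner (Cfsg.indFun A (ev (r i) - ev (r o₀)))
        (Cfsg.indFun A (ev (r j) - ev (r o₀))) = 2) ∧
      (i ≠ j → Cfsg.classInner (Cfsg.indFun A (ev (r i) - ev (r o₀)))
        (Cfsg.indFun A (ev (r j) - ev (r o₀))) = 1) := by
    refine fun i j hi hj => ⟨fun hij => ?_, fun hij => ?_⟩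
    · subst hij
      exact norm_ind_pair h (isIrr_ev _) (isIrr_ev _) (hcent _) (hcent _) (hr1 i) (hr1 o₀)
        (hap i o₀ hi) (hoff _ _)
    · rw [inner_ind_ind h (hoff _ _) (hoff _ _), Finset.sum_congr rfl fun n _ =>
        show Cfsg.classInner (ev (r i) - ev (r o₀)) (cnj h n (ev (r j) - ev (r o₀))) =
          if (n : G) ∈ A then (1 : ℂ) else 0 by
        rw [inner_cnj_sub, inner_irr_cnj h (isIrr_ev _) (hcent (r o₀)) (hr1 o₀),
          inner_eq_zero (hcent _) (cent_cnj h n (hcent _)) ((hap i j hij) n).symm,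
          inner_eq_zero (hcent _) (cent_cnj h n (hcent _)) ((hap i o₀ hi) n).symm,
          inner_eq_zero (hcent _) (cent_cnj h n (hcent _)) ((hap o₀ j (Ne.symm hj)) n).symm]
        ring, sum_indicator h, inv_mul_cancel₀ hA0]
  obtain ⟨ε, hε, μ, hμirr, hμinj, hτ⟩ := exists_star o₀
    (fun i => Cfsg.indFun A (ev (r i) - ev (r o₀))) (by simp [indFun_zero])
    (fun i => IsGeneralizedCharacter.indFun
      ⟨_, _, isCharacter_of_irr (isIrr_ev (r i)), isCharacter_of_irr (isIrr_ev (r o₀)), rfl⟩)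
    (fun i => by rw [indFun_one]; simp [ev]) hgram
  have hε0 : ε ≠ 0 := by rcases hε with rfl | rfl <;> norm_num
  have hεε : ε * ε = 1 := by rcases hε with rfl | rfl <;> norm_num
  have hεc : conj ε = ε := by rcases hε with rfl | rfl <;> simp
  let μ' : O → Cfsg.IrrCharacter G := fun o => ⟨μ o, hμirr o⟩
  have hμ'inj : Function.Injective μ' := fun o o' hoo => hμinj (congrArg Subtype.val hoo)
  have hτ' : ∀ (i : O) (g : G), Cfsg.indFun A (ev (r i) - ev (r o₀)) g = ε * (μ i g - μ o₀ g) :=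
    fun i g => congrFun (hτ i) g
  -- multiplicities
  let M : Cfsg.IrrCharacter G → (A →* ℂˣ) → ℂ := fun χ α =>
    Cfsg.classInner (fun a : A => (χ : G → ℂ) a) (ev α)
  have hMnat : ∀ χ α, ∃ m : ℕ, M χ α = m := fun χ α =>
    classInner_char_nat (IsCharacter.restrict (isCharacter_of_irr χ.2) A)
      (isCharacter_of_irr (isIrr_ev α))
  have hMact : ∀ χ (n : N) α, M χ (act h n α) = M χ α := fun χ n α =>
    inner_res_cnj h n (isClassFunction_irr χ) (ev α)
  have hMdiff : ∀ χ i, M χ (r i) - M χ (r o₀) =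
      ε * ((if μ' i = χ then (1 : ℂ) else 0) - if μ' o₀ = χ then 1 else 0) := by
    intro χ i
    have h1 : Cfsg.classInner (Cfsg.indFun A (ev (r i) - ev (r o₀))) (χ : G → ℂ) =
        conj (M χ (r i)) - conj (M χ (r o₀)) := by
      rw [frobenius_reciprocity _ _ (isClassFunction_irr χ), classInner_sub_left]
      simp only [M, classInner_conj_symm]
    obtain ⟨m₁, hm₁⟩ := hMnat χ (r i)
    obtain ⟨m₂, hm₂⟩ := hMnat χ (r o₀)
    rw [hm₁, hm₂] at h1 ⊢
    rw [map_natCast, map_natCast] at h1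
    rw [← h1, hτ i, classInner_smul_left, classInner_sub_left,
      show μ i = (μ' i : G → ℂ) from rfl, show μ o₀ = (μ' o₀ : G → ℂ) from rfl,
      classInner_irrCharacter, classInner_irrCharacter]
  let B : Cfsg.IrrCharacter G → ℂ := fun χ => M χ (r o₀) - ε * if μ' o₀ = χ then 1 else 0
  have hMi : ∀ χ i, M χ (r i) = B χ + ε * if μ' i = χ then 1 else 0 := fun χ i => by
    linear_combination hMdiff χ i
  have hBint : ∀ χ, ∃ z : ℤ, M χ 1 - B χ = z := by
    intro χ
    obtain ⟨m₁, hm₁⟩ := hMnat χ 1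
    obtain ⟨m₂, hm₂⟩ := hMnat χ (r o₀)
    simp only [B, hm₁, hm₂]
    rcases hε with rfl | rfl <;> split_ifs
    · exact ⟨(m₁ : ℤ) - m₂ + 1, by push_cast; ring⟩
    · exact ⟨(m₁ : ℤ) - m₂, by push_cast; ring⟩
    · exact ⟨(m₁ : ℤ) - m₂ - 1, by push_cast; ring⟩
    · exact ⟨(m₁ : ℤ) - m₂, by push_cast; ring⟩
  choose z hz using hBint
  -- the orbit sums
  let S : O → A → ℂ := fun i a => avg h (r i) a
  have heC : (e : ℂ) ≠ 0 := by exact_mod_cast hepos.ne'
  have hNC : (Fintype.card N : ℂ) = (Nat.card A : ℂ) * e := by rw [card_N h, he]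
  have hinv : ∀ (F : (A →* ℂˣ) → ℂ), (∀ (n : N) α, F (act h n α) = F α) → ∀ a : A,
      ∑ α ∈ Finset.univ.erase (1 : A →* ℂˣ), F α * (α a : ℂ) = ∑ i, F (r i) * S i a := by
    intro F hF a
    have h1 : ∀ n : N, ∑ α ∈ Finset.univ.erase (1 : A →* ℂˣ), F α * (act h n α a : ℂ) =
        ∑ α ∈ Finset.univ.erase (1 : A →* ℂˣ), F α * (α a : ℂ) := fun n =>
      Finset.sum_nbij' (act h n) (act h n⁻¹)
        (fun α hα => Finset.mem_erase.2 ⟨fun e' => (Finset.mem_erase.1 hα).1
          (act_injective h n (e'.trans (act_trivial h n).symm)), Finset.mem_univ _⟩)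
        (fun α hα => Finset.mem_erase.2 ⟨fun e' => (Finset.mem_erase.1 hα).1
          (act_injective h _ (e'.trans (act_trivial h _).symm)), Finset.mem_univ _⟩)
        (fun α _ => by rw [act_act, mul_inv_cancel, act_one_elt])
        (fun α _ => by rw [act_act, inv_mul_cancel, act_one_elt])
        fun α _ => by rw [hF]
    have h2 := hsum (fun α => F α * avg h α a) (fun n α => by rw [hF, avg_act])
    rw [he] at h2
    have h3 : ∑ α ∈ Finset.univ.erase (1 : A →* ℂˣ), F α * avg h α a =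
        (Nat.card A : ℂ)⁻¹ * ((Fintype.card N : ℂ) *
          ∑ α ∈ Finset.univ.erase (1 : A →* ℂˣ), F α * (α a : ℂ)) := by
      rw [← nsmul_eq_mul, ← Finset.card_univ, ← Finset.sum_const, ← Finset.sum_congr rfl
        (fun n _ => h1 n), Finset.sum_comm, Finset.mul_sum]
      exact Finset.sum_congr rfl fun α _ => by rw [avg, ← Finset.mul_sum]; ring
    rw [h3, hNC] at h2
    field_simp at h2
    exact h2
  have hval : ∀ (χ : Cfsg.IrrCharacter G) (a : A), a ≠ 1 → (χ : G → ℂ) a =
      (z χ : ℂ) + ε * ∑ i, (if μ' i = χ then S i a else 0) := by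
    intro χ a ha
    have h1 := expand hcomm (fun b : A => (χ : G → ℂ) b) a
    rw [← Finset.add_sum_erase Finset.univ _ (Finset.mem_univ 1)] at h1
    simp only [ev, MonoidHom.one_apply, Units.val_one, mul_one] at h1
    have h2 : ∑ i, S i a = -1 := by
      have := hinv (fun _ => 1) (fun _ _ => rfl) a
      simp only [one_mul] at this
      rw [← this, sum_nontrivial hcomm, if_neg ha, zero_sub]
    rw [show ∑ α ∈ Finset.univ.erase (1 : A →* ℂˣ),
        Cfsg.classInner (fun b : A => (χ : G → ℂ) b) (ev α) * (α a : ℂ) =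
      ∑ i, M χ (r i) * S i a from hinv (M χ) (hMact χ) a,
      Finset.sum_congr rfl fun i _ => show M χ (r i) * S i a =
        B χ * S i a + ε * (if μ' i = χ then S i a else 0) by rw [hMi]; split_ifs <;> ring,
      Finset.sum_add_distrib, ← Finset.mul_sum, ← Finset.mul_sum, h2] at h1
    rw [h1, ← hz χ]
    show M χ 1 + _ = _
    ring
  have hvalμ : ∀ (i : O) (a : A), a ≠ 1 → μ i a = (z (μ' i) : ℂ) + ε * S i a := by
    intro i a ha
    rw [show μ i a = (μ' i : G → ℂ) a from rfl, hval (μ' i) a ha]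
    congr 2
    simp [hμ'inj.eq_iff]
  -- the constant is the same throughout the family
  have hzc : ∀ i, z (μ' i) = z (μ' o₀) := by
    intro i
    let a : A := ⟨a₁, ha₁⟩
    have ha : a ≠ 1 := fun e' => ha₁' (congrArg Subtype.val e')
    have h1 : ε * (μ i a - μ o₀ a) = S i a - S o₀ a := by
      rw [← hτ' i, indFun_apply_of_off h (hoff _ _) (c := a) (by
        rw [Subgroup.subgroupOf_self, Subgroup.index_top, pow_one]; exact ha)]
      simp only [S, avg, ← mul_sub, ← Finset.sum_sub_distrib]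
      rfl
    rw [hvalμ i a ha, hvalμ o₀ a ha] at h1
    have h2 : ε * ((z (μ' i) : ℂ) - z (μ' o₀)) = 0 := by
      linear_combination h1 - (S i a - S o₀ a) * hεε
    exact_mod_cast sub_eq_zero.1 ((mul_eq_zero.1 h2).resolve_left hε0)
  refine ⟨Finset.univ.image μ', ?_, ?_, fun χ hχ => ?_, ?_, ?_, fun a ha ha1 => ?_⟩
  · rw [Finset.card_image_of_injective _ hμ'inj, Finset.card_univ, hcount]
  · have hzero : ∀ i g, (∀ x : G, x⁻¹ * g * x ∈ A → x⁻¹ * g * x = 1) → μ i g = μ o₀ g := by
      intro i g hg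
      have h1 := hτ' i g
      rw [indFun_apply, Finset.sum_eq_zero (fun x _ => ?_), mul_zero] at h1
      · exact sub_eq_zero.1 ((mul_eq_zero.1 h1.symm).resolve_left hε0)
      · by_cases hm : x⁻¹ * g * x ∈ A
        · rw [extendByZero_mem _ hm,
            show (⟨x⁻¹ * g * x, hm⟩ : A) = 1 from Subtype.ext (hg x hm)]
          simp [ev]
        · exact extendByZero_not_mem _ hm
    intro χ hχ χ' hχ' g hg
    obtain ⟨i, -, rfl⟩ := Finset.mem_image.1 hχ
    obtain ⟨j, -, rfl⟩ := Finset.mem_image.1 hχ'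
    exact (hzero i g hg).trans (hzero j g hg).symm
  · refine ⟨z χ, fun a ha ha1 => ?_⟩
    have := hval χ ⟨a, ha⟩ (fun e' => ha1 (congrArg Subtype.val e'))
    rw [Finset.sum_eq_zero fun i _ => if_neg (fun e' : μ' i = χ => hχ (Finset.mem_image.2 ⟨i, Finset.mem_univ i, e'⟩)),
      mul_zero, add_zero] at this
    exact this
  · intro χ hχ c
    obtain ⟨i, -, rfl⟩ := Finset.mem_image.1 hχ
    by_contra hall
    push Not at hall
    have hM : ∀ α : A →* ℂˣ, α ≠ 1 →
        M (μ' i) α = (Nat.card A : ℂ)⁻¹ * ((μ' i : G → ℂ) 1 - c) := by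
      intro α hα
      simp only [M, classInner_def]
      congr 1
      have h1 : ∀ b : A, (μ' i : G → ℂ) b * conj (ev α b) =
          c * conj (α b : ℂ) + if b = 1 then (μ' i : G → ℂ) 1 - c else 0 := by
        intro b
        by_cases hb : b = 1
        · subst hb; simp [ev]
        · rw [hall b b.2 (fun e' => hb (Subtype.ext e')), if_neg hb, add_zero]; rfl
      rw [Finset.sum_congr rfl fun b _ => h1 b, Finset.sum_add_distrib, ← Finset.mul_sum,
        ← map_sum, show ∑ b : A, ((α b : ℂˣ) : ℂ) = 0 from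
          sum_hom_units_eq_zero ((Units.coeHom ℂ).comp α) fun h' => hα (MonoidHom.ext fun b =>
            Units.ext (DFunLike.congr_fun h' b))]
      simp
    obtain ⟨j, hj⟩ := Fintype.exists_ne_of_one_lt_card (show 1 < Fintype.card O by omega) i
    have h1 := hMi (μ' i) i
    have h2 := hMi (μ' i) j
    rw [hM _ (hr1 i), if_pos rfl] at h1
    rw [hM _ (hr1 j), if_neg fun e' => hj (hμ'inj e')] at h2
    exact hε0 (by linear_combination h2 - h1)
  · intro χ hχ χ' hχ' hne
    obtain ⟨i, -, rfl⟩ := Finset.mem_image.1 hχ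
    obtain ⟨j, -, rfl⟩ := Finset.mem_image.1 hχ'
    have hij : i ≠ j := fun e' => hne (by rw [e'])
    by_contra hall
    push Not at hall
    have heq : (fun a : A => (μ' i : G → ℂ) a) = fun a : A => (μ' j : G → ℂ) a := by
      funext a
      rcases eq_or_ne a 1 with rfl | ha
      · have h1 := hτ' i 1
        have h2 := hτ' j 1
        rw [indFun_one] at h1 h2
        simp only [Pi.sub_apply, ev, map_one, Units.val_one, sub_self, mul_zero] at h1 h2
        show μ i 1 = μ j 1
        rw [sub_eq_zero.1 ((mul_eq_zero.1 h1.symm).resolve_left hε0),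
          sub_eq_zero.1 ((mul_eq_zero.1 h2.symm).resolve_left hε0)]
      · exact hall a a.2 (fun e' => ha (Subtype.ext e'))
    have hM : ∀ α, M (μ' i) α = M (μ' j) α := fun α => by simp only [M, heq]
    have h1 := hM (r i)
    have h2 := hM (r j)
    rw [hMi, hMi, if_pos rfl, if_neg fun e' => hij (hμ'inj e')] at h1
    rw [hMi, hMi, if_neg fun e' => hij (hμ'inj e').symm, if_pos rfl] at h2
    exact hε0 (by linear_combination (h1 - h2) / 2)
  · let b : A := ⟨a, ha⟩
    have hb : b ≠ 1 := fun e' => ha1 (congrArg Subtype.val e')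
    have hS1 : ∑ i, S i b = -1 := by
      have := hinv (fun _ => 1) (fun _ _ => rfl) b
      simp only [one_mul] at this
      rw [← this, sum_nontrivial hcomm, if_neg hb, zero_sub]
    have hS2 : ∑ i, conj (S i b) * S i b = (Nat.card A : ℂ) - e := by
      rw [← hinv (fun α => conj (avg h α b)) (fun n α => by rw [avg_act]) b]
      have h1 : ∀ α : A →* ℂˣ, conj (avg h α b) * (α b : ℂ) = (Nat.card A : ℂ)⁻¹ *
          ∑ n : N, (α ((⟨n * b * (n : G)⁻¹, h.normP n n.2 b b.2⟩ : A)⁻¹ * b) : ℂ) := by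
        intro α
        rw [avg, map_mul, map_inv₀, map_natCast, map_sum, mul_assoc, Finset.sum_mul]
        congr 1
        refine Finset.sum_congr rfl fun n _ => ?_
        rw [map_mul, map_inv, Units.val_mul, Units.val_inv_eq_inv_val, ← conj_val, act_apply]
      rw [Finset.sum_congr rfl fun α _ => h1 α, ← Finset.mul_sum, Finset.sum_comm,
        Finset.sum_congr rfl fun n _ => sum_nontrivial hcomm _, Finset.sum_sub_distrib,
        Finset.sum_const, Finset.card_univ, nsmul_eq_mul, mul_one, hNC]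
      have h2 : ∀ n : N, ((⟨n * b * (n : G)⁻¹, h.normP n n.2 b b.2⟩ : A)⁻¹ * b = 1) ↔ (n : G) ∈ A := by
        intro n
        rw [inv_mul_eq_one, Subtype.ext_iff]
        refine ⟨h.fix n n.2 a ha ha1, fun hn' => ?_⟩
        show (n : G) * a * (n : G)⁻¹ = a
        rw [← h.central a ha n hn', mul_inv_cancel_right]
      rw [show (∑ n : N, if (⟨n * b * (n : G)⁻¹, h.normP n n.2 b b.2⟩ : A)⁻¹ * b = 1
          then (Nat.card A : ℂ) else 0) = (Nat.card A : ℂ) * ∑ n : N, if (n : G) ∈ A then (1 : ℂ) else 0 by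
        rw [Finset.mul_sum]
        exact Finset.sum_congr rfl fun n _ => by simp only [h2]; split_ifs <;> simp,
        sum_indicator h]
      field_simp
    set c : ℤ := z (μ' o₀) with hc
    have hsumC : ∑ χ ∈ Finset.univ.image μ', conj ((χ : G → ℂ) a) * (χ : G → ℂ) a =
        (Fintype.card O : ℂ) * c * c - 2 * ε * c + ((Nat.card A : ℂ) - e) := by
      rw [Finset.sum_image fun _ _ _ _ hh => hμ'inj hh,
        Finset.sum_congr rfl fun i _ => show conj ((μ' i : G → ℂ) a) * (μ' i : G → ℂ) a =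
          (c : ℂ) * c + ε * c * S i b + ε * c * conj (S i b) + conj (S i b) * S i b by
          rw [show (μ' i : G → ℂ) a = μ i b from rfl, hvalμ i b hb, hzc i, map_add, map_mul, hεc,
            map_intCast]
          linear_combination (conj (S i b) * S i b) * hεε]
      simp only [Finset.sum_add_distrib, ← Finset.mul_sum, ← map_sum, hS1, hS2, Finset.sum_const,
        Finset.card_univ, nsmul_eq_mul, map_neg, map_one]
      ring
    obtain ⟨s, hs, hs'⟩ : ∃ s : ℤ, (s = 1 ∨ s = -1) ∧ ε = (s : ℂ) := by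
      rcases hε with rfl | rfl
      · exact ⟨1, Or.inl rfl, by simp⟩
      · exact ⟨-1, Or.inr rfl, by simp⟩
    have hreal : ∑ χ ∈ Finset.univ.image μ', Complex.normSq ((χ : G → ℂ) a) =
        (((Fintype.card O : ℤ) * c * c - 2 * s * c : ℤ) : ℝ) + ((Nat.card A : ℝ) - e) := by
      apply Complex.ofReal_injective
      push_cast [Complex.normSq_eq_conj_mul_self]
      rw [hsumC, hs']
    rw [hreal]
    have hO2' : (2 : ℤ) ≤ Fintype.card O := by exact_mod_cast hO2
    have hcc : c ≤ c * c ∧ -c ≤ c * c := by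
      refine ⟨Int.le_self_sq c |>.trans (le_of_eq (sq c)), ?_⟩
      calc -c ≤ (-c) ^ 2 := Int.le_self_sq _
        _ = c * c := by ring
    have hnn : (0 : ℤ) ≤ (Fintype.card O : ℤ) * c * c - 2 * s * c := by
      rcases hs with rfl | rfl <;> nlinarith [hcc.1, hcc.2, mul_self_nonneg c]
    have hnn' : (0 : ℝ) ≤ (((Fintype.card O : ℤ) * c * c - 2 * s * c : ℤ) : ℝ) := by exact_mod_cast hnn
    linarith

end Cfsg.Lib.Chars.AbelianTI
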