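import Cfsg.Agent.Chars.Induced
import Cfsg.Agent.Chars.Galois

/-!
# Artin's induction theorem
-/

namespace Cfsg.Lib.Chars

universe u

variable {G : Type u} [Group G]

/-- `|G|` on the generators of a cyclic group, zero elsewhere. -/
noncomputable def artinFun (G : Type u) [Group G] : G → ℂ :=
  fun x => open Classical in if Subgroup.zpowers x = ⊤ then (Nat.card G : ℂ) else 0

theorem artin_identity [Fintype G] :
    (fun _ : G => (Nat.card G : ℂ)) =
      ∑ C : Subgroup G, Cfsg.indFun C (artinFun C) := by
  classical
  funext g
  simp only [Finset.sum_apply, indFun_apply]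
  have hterm : ∀ (C : Subgroup G) (x : G),
      Cfsg.extendByZero C (artinFun C) (x⁻¹ * g * x) =
        if Subgroup.zpowers (x⁻¹ * g * x) = C then (Nat.card C : ℂ) else 0 := by
    intro C x
    by_cases h : x⁻¹ * g * x ∈ C
    · rw [extendByZero_mem _ h]
      simp only [artinFun]
      refine if_congr ?_ rfl rfl
      rw [← (Subgroup.map_injective C.subtype_injective).eq_iff, MonoidHom.map_zpowers,
        ← MonoidHom.range_eq_map, Subgroup.range_subtype]
      rfl
    · rw [extendByZero_not_mem _ h, if_neg]
      intro h'
      exact h (h' ▸ Subgroup.mem_zpowers _)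
  simp only [hterm, Finset.mul_sum]
  rw [Finset.sum_comm]
  simp only [mul_ite, mul_zero, Finset.sum_ite_eq, Finset.mem_univ, if_true]
  have hne : ∀ x : G, (Nat.card (Subgroup.zpowers (x⁻¹ * g * x)) : ℂ) ≠ 0 := fun x =>
    Nat.cast_ne_zero.mpr Nat.card_pos.ne'
  rw [Finset.sum_congr rfl (fun x _ => inv_mul_cancel₀ (hne x)), Finset.sum_const, nsmul_one,
    Finset.card_univ, Nat.card_eq_fintype_card]

theorem isGeneralized_artinFun : ∀ (n : ℕ) (G : Type u) [Group G] [Fintype G],
    Nat.card G = n → Cfsg.IsGeneralizedCharacter G (artinFun G) := by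
  intro n
  induction n using Nat.strong_induction_on with
  | _ n ih =>
    intro G _ _ hn
    classical
    have h := artin_identity (G := G)
    rw [← Finset.add_sum_erase _ _ (Finset.mem_univ ⊤)] at h
    have hcls : Cfsg.IsClassFunction (⊤ : Subgroup G) (artinFun (⊤ : Subgroup G)) := by
      intro a b
      simp only [artinFun]
      refine if_congr ?_ rfl rfl
      have : Subgroup.zpowers (b * a * b⁻¹) =
          (Subgroup.zpowers a).map (MulAut.conj b).toMonoidHom := by
        rw [MonoidHom.map_zpowers]; rfl
      rw [this]
      refine ⟨fun h' => ?_, fun h' => ?_⟩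
      · exact Subgroup.map_injective (MulAut.conj b).injective
          (by rw [h', Subgroup.map_top_of_surjective _ (MulAut.conj b).surjective])
      · rw [h', Subgroup.map_top_of_surjective _ (MulAut.conj b).surjective]
    have htop : Cfsg.indFun (⊤ : Subgroup G) (artinFun (⊤ : Subgroup G)) = artinFun G := by
      rw [indFun_top _ hcls]
      funext x
      simp only [artinFun, Subgroup.card_top]
      refine if_congr ?_ rfl rfl
      rw [← (Subgroup.map_injective (⊤ : Subgroup G).subtype_injective).eq_iff,
        MonoidHom.map_zpowers, ← MonoidHom.range_eq_map, Subgroup.range_subtype]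
      rfl
    rw [htop, ← sub_eq_iff_eq_add] at h
    rw [← h]
    refine IsGeneralizedCharacter.sub ?_ (IsGeneralizedCharacter.sum _ _ fun C hC => ?_)
    · convert IsGeneralizedCharacter.zsmul (IsCharacter.isGeneralized (isCharacter_one (G := G)))
        (Nat.card G : ℤ) using 1
      funext x
      simp
    · have := Fintype.ofFinite C
      refine IsGeneralizedCharacter.indFun (ih (Nat.card C) ?_ C rfl)
      rw [← hn]
      exact lt_of_le_of_ne C.card_le_card_group
        fun h' => Finset.ne_of_mem_erase hC (Subgroup.eq_top_of_card_eq _ h')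

theorem artinFun_eq_zero (C : Subgroup G) (hC : ¬ IsCyclic C) : artinFun C = 0 := by
  classical
  funext x
  simp only [artinFun, Pi.zero_apply]
  rw [if_neg]
  intro h
  exact hC (isCyclic_iff_exists_zpowers_eq_top.mpr ⟨x, h⟩)

end Cfsg.Lib.Chars
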