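import Mathlib
import Cfsg.Prelude.Def_Solvable
import Cfsg.Agent.Chars.Constituent
import Cfsg.Agent.Chars.Values
import Cfsg.Agent.Chars.Berger
import Cfsg.Agent.Components.Cores
import Cfsg.Agent.Components.PComponents

/-!
# Broline: a character of larger degree with smaller kernel
-/

set_option autoImplicit false
set_option linter.unusedSectionVars false
set_option linter.style.haveILetI false

namespace Cfsg.Lib.Broline

open Cfsg.Lib.Chars
open scoped Pointwise

universe u

variable {G : Type u} [Group G] [Finite G]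

theorem mem_normalizer_of_forall (P : Subgroup G) (g : G) (h : ∀ u ∈ P, g * u * g⁻¹ ∈ P) :
    g ∈ Subgroup.normalizer (P : Set G) := by
  have he : P.map (MulAut.conj g).toMonoidHom = P := by
    refine Subgroup.eq_of_le_of_card_ge ?_ ?_
    · rintro _ ⟨u, hu, rfl⟩
      exact h u hu
    · rw [Subgroup.card_map_of_injective (MulAut.conj g).injective]
  rw [Subgroup.mem_normalizer_iff]
  intro u
  refine ⟨h u, fun hu => ?_⟩
  rw [← he] at hu
  obtain ⟨v, hv, hvu⟩ := hu
  have : v = u := (MulAut.conj g).injective hvu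
  exact this ▸ hv

/-- A character that is trivial on `K` stays irreducible on a subgroup covering the quotient. -/
theorem restrict_irr {ψ : G → ℂ} (hψ : Cfsg.IsIrrCharacter G ψ) (K H : Subgroup G) [K.Normal]
    (htriv : ∀ k ∈ K, ψ k = ψ 1) (hKH : K ⊔ H = ⊤) :
    Cfsg.IsIrrCharacter H (fun h : H => ψ h) := by
  classical
  obtain ⟨d, ρ, hρ, rfl⟩ := hψ
  have hK1 : ∀ k ∈ K, ρ k = LinearMap.id := fun k hk =>
    (eq_id_of_character_eq_finrank ρ k).1 (by rw [← ρ.char_one]; exact htriv k hk)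
  set σ : Representation ℂ H (Fin d → ℂ) := ρ.comp H.subtype with hσ
  haveI := hρ
  have hnt := nontrivial_of_irreducible ρ
  haveI : σ.IsIrreducible := by
    let e : Subrepresentation σ → Subrepresentation ρ := fun S =>
      { toSubmodule := S.toSubmodule
        apply_mem_toSubmodule := fun g v hv => by
          have hg : g ∈ K ⊔ H := hKH ▸ Subgroup.mem_top g
          obtain ⟨k, hk, h, hh, rfl⟩ := Subgroup.mem_sup_of_normal_left.1 hg
          rw [map_mul, hK1 k hk]
          exact S.apply_mem_toSubmodule (⟨h, hh⟩ : H) hv }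
    have : Nontrivial (Subrepresentation σ) := by
      refine ⟨⊥, ⊤, fun h' => ?_⟩
      have h2 : (⊥ : Submodule ℂ (Fin d → ℂ)) = ⊤ := congrArg Subrepresentation.toSubmodule h'
      exact bot_ne_top h2
    refine ⟨fun S => ?_⟩
    rcases IsSimpleOrder.eq_bot_or_eq_top (e S) with h' | h'
    · have h2 : S.toSubmodule = ⊥ := congrArg (fun T : Subrepresentation ρ => T.toSubmodule) h'
      exact Or.inl (Subrepresentation.toSubmodule_injective h2)
    · have h2 : S.toSubmodule = ⊤ := congrArg (fun T : Subrepresentation ρ => T.toSubmodule) h'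
      exact Or.inr (Subrepresentation.toSubmodule_injective h2)
  exact isIrrCharacter_character σ

theorem key_sum {H : Subgroup G} {θ : H → ℂ} (hθ : Cfsg.IsIrrCharacter H θ) [Fintype G]
    (hall : ∀ ψ : Cfsg.IrrCharacter G, Cfsg.classInner (Cfsg.indFun H θ) (ψ : G → ℂ) ≠ 0 →
      deg (ψ : G → ℂ) ≤ deg θ) (h : H) :
    Cfsg.indFun H θ (h : G) = (H.index : ℂ) * θ h := by
  classical
  letI := Fintype.ofFinite H
  obtain ⟨m, hm⟩ := IsCharacter.exists_decomp
    (IsCharacter.indFun (G := G) (isCharacter_of_irr hθ))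
  have hres : ∀ ψ : Cfsg.IrrCharacter G, m ψ ≠ 0 → ∀ x : H, (ψ : G → ℂ) x = θ x := by
    intro ψ hψ x
    have h1 : Cfsg.classInner (Cfsg.indFun H θ) (ψ : G → ℂ) ≠ 0 := by
      rw [hm]
      simp only [← Nat.cast_smul_eq_nsmul ℂ]
      rw [classInner_irrSum (fun φ => (m φ : ℂ)) ψ]
      exact Nat.cast_ne_zero.2 hψ
    have h2 : Cfsg.classInner (fun x : H => (ψ : G → ℂ) x) θ ≠ 0 := by
      rw [← classInner_conj_symm]
      rw [frobenius_reciprocity H θ (isClassFunction_irr ψ)] at h1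
      exact (map_ne_zero _).2 h1
    have h3 := (constituent_le (IsCharacter.restrict (isCharacter_of_irr ψ.2) H) hθ h2).2
      (le_of_eq_of_le (by simp [deg]) (hall ψ h1))
    exact congrFun h3 x
  have hval : ∀ x : H, Cfsg.indFun H θ (x : G) = (∑ ψ, (m ψ : ℂ)) * θ x := by
    intro x
    rw [hm, Finset.sum_apply, Finset.sum_mul]
    refine Finset.sum_congr rfl fun ψ _ => ?_
    by_cases hz : m ψ = 0
    · simp [hz]
    · simp [nsmul_eq_mul, hres ψ hz x]
  have h1 := hval 1
  rw [OneMemClass.coe_one, indFun_one] at h1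
  rw [hval h, mul_right_cancel₀ (IsIrrCharacter.apply_one_ne_zero hθ) h1]

/-- The sum over `P` of one summand of an induced character. -/
theorem exists_term {H : Subgroup G} {θ : H → ℂ} (hθ : Cfsg.IsCharacter H θ) (P : Subgroup G)
    [Fintype P] (g : G) :
    ∃ k : ℕ, (∑ u : P, Cfsg.extendByZero H θ (g⁻¹ * (u : G) * g)) =
        (Nat.card ↥((H.map (MulAut.conj g).toMonoidHom).subgroupOf P) : ℂ) * k ∧
      ((∀ u ∈ P, ∀ hu : g⁻¹ * u * g ∈ H, θ ⟨_, hu⟩ = θ 1) → k = deg θ) := by
  classical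
  set S := (H.map (MulAut.conj g).toMonoidHom).subgroupOf P with hS
  letI := Fintype.ofFinite S
  have hmem : ∀ u : P, u ∈ S ↔ g⁻¹ * (u : G) * g ∈ H := by
    intro u
    rw [hS, Subgroup.mem_subgroupOf]
    constructor
    · rintro ⟨v, hv, hvu⟩
      rw [← hvu]
      simpa [MulAut.conj_apply, mul_assoc] using hv
    · intro hu
      exact ⟨_, hu, by simp [MulAut.conj_apply, mul_assoc]⟩
  let φ : S →* H :=
    { toFun := fun u => ⟨g⁻¹ * ((u : P) : G) * g, (hmem u).1 u.2⟩
      map_one' := Subtype.ext (by simp)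
      map_mul' := fun a b => Subtype.ext (by simp [mul_assoc]) }
  have hsum : (∑ u : P, Cfsg.extendByZero H θ (g⁻¹ * (u : G) * g)) = ∑ u : S, θ (φ u) := by
    rw [← Finset.sum_filter_add_sum_filter_not Finset.univ (fun u : P => u ∈ S),
      Finset.sum_eq_zero (s := Finset.univ.filter (fun u : P => ¬ u ∈ S)) (fun u hu =>
        extendByZero_not_mem θ fun h => (Finset.mem_filter.1 hu).2 ((hmem u).2 h)), add_zero,
      Finset.sum_subtype (p := fun u : P => u ∈ S) _ (fun u => by simp)]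
    exact Finset.sum_congr rfl fun u _ => extendByZero_mem θ _
  obtain ⟨k, hk⟩ := IsCharacter.exists_mult (IsCharacter.comp_hom hθ φ)
    (isIrrCharacter_one (G := S))
  rw [classInner_def] at hk
  simp only [map_one, mul_one] at hk
  have hS0 : (Nat.card S : ℂ) ≠ 0 := Nat.cast_ne_zero.2 Nat.card_pos.ne'
  have hk' : ∑ u : S, θ (φ u) = (Nat.card S : ℂ) * k := by
    rw [← hk, mul_inv_cancel_left₀ hS0]
  refine ⟨k, hsum.trans hk', fun hker => ?_⟩
  have h1 : (Nat.card S : ℂ) * k = (Nat.card S : ℂ) * deg θ := by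
    rw [← hk', Finset.sum_congr rfl (g := fun _ => (deg θ : ℂ)) (fun u _ => by
      rw [← IsCharacter.apply_one_eq_deg hθ]
      exact hker _ (u : P).2 _), Finset.sum_const, Finset.card_univ, nsmul_eq_mul,
      ← Nat.card_eq_fintype_card]
  exact_mod_cast mul_left_cancel₀ hS0 h1

theorem sum_indFun {H : Subgroup G} [Fintype G] (θ : H → ℂ) (P : Subgroup G) [Fintype P] :
    (∑ u : P, Cfsg.indFun H θ (u : G)) =
      (Nat.card H : ℂ)⁻¹ * ∑ g : G, ∑ u : P, Cfsg.extendByZero H θ (g⁻¹ * (u : G) * g) := by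
  simp only [indFun_apply]
  rw [← Finset.mul_sum, Finset.sum_comm]

theorem mem_sylow_of_normal {p : ℕ} [Fact p.Prime] {M P : Subgroup G} (hPM : P ≤ M)
    (hP : IsPGroup p P) (hidx : ¬ p ∣ P.relIndex M) {u : G} (hu : u ∈ M)
    (hun : u ∈ Subgroup.normalizer (P : Set G)) (hup : IsPGroup p (Subgroup.zpowers u)) : u ∈ P := by
  have hle : Subgroup.zpowers u ≤ Subgroup.normalizer (P : Set G) := Subgroup.zpowers_le.2 hun
  have hJ : IsPGroup p (P ⊔ Subgroup.zpowers u : Subgroup G) := by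
    rw [sup_comm]
    exact hup.to_sup_of_normal_right' hP hle
  have hJM : P ⊔ Subgroup.zpowers u ≤ M := sup_le hPM (Subgroup.zpowers_le.2 hu)
  obtain ⟨e, he⟩ := IsPGroup.iff_card.1 hJ
  have h1 : P.relIndex (P ⊔ Subgroup.zpowers u) ∣ p ^ e :=
    he ▸ Subgroup.index_dvd_card (P.subgroupOf (P ⊔ Subgroup.zpowers u))
  have h2 : P.relIndex (P ⊔ Subgroup.zpowers u) ∣ P.relIndex M :=
    Dvd.intro _ (Subgroup.relIndex_mul_relIndex P _ M le_sup_left hJM)
  have h3 : P.relIndex (P ⊔ Subgroup.zpowers u) = 1 := Nat.eq_one_of_dvd_coprimes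
    (Nat.Coprime.pow_left e ((Fact.out : p.Prime).coprime_iff_not_dvd.2 fun h => hidx h))
    h1 h2
  exact (Subgroup.relIndex_eq_one.1 h3) (Subgroup.mem_sup_right (Subgroup.mem_zpowers u))

/-- The kernel of an irreducible constituent lies in `K`. -/
theorem ker_le {p : ℕ} [Fact p.Prime] (K M P L : Subgroup G) [K.Normal] [M.Normal] [L.Normal]
    (hPM : P ≤ M) (hP : IsPGroup p P) (hidx : ¬ p ∣ P.relIndex M)
    (hJ : ∀ J : Subgroup G, J.Normal → J ≤ M → J ⊓ Subgroup.normalizer (P : Set G) ≤ K → J ≤ K)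
    (hLH : L ⊓ Subgroup.normalizer (P : Set G) ≤ K) : L ≤ K := by
  set J := L ⊓ M with hJdef
  have hJK : J ≤ K := hJ J inferInstance inf_le_right
    ((inf_le_inf_right _ inf_le_left).trans hLH)
  intro l hl
  set X := J ⊔ P with hX
  have hXM : X ≤ M := sup_le inf_le_right hPM
  set P2 := P.map (MulAut.conj l).toMonoidHom with hP2
  have hP2X : P2 ≤ X := by
    rintro _ ⟨u, hu, rfl⟩
    have hc : l * u * l⁻¹ * u⁻¹ ∈ J := by
      refine ⟨?_, ?_⟩
      · rw [show l * u * l⁻¹ * u⁻¹ = l * (u * l⁻¹ * u⁻¹) by group]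
        exact L.mul_mem hl (Subgroup.Normal.conj_mem inferInstance _ (L.inv_mem hl) u)
      · exact M.mul_mem (Subgroup.Normal.conj_mem inferInstance _ (hPM hu) l) (M.inv_mem (hPM hu))
    have h1 := X.mul_mem (Subgroup.mem_sup_left (T := P) hc) (Subgroup.mem_sup_right (S := J) hu)
    show l * u * l⁻¹ ∈ X
    simpa [mul_assoc] using h1
  have hcard : Nat.card P2 = Nat.card P :=
    Subgroup.card_map_of_injective (MulAut.conj l).injective
  have hidx1 : ¬ p ∣ (P.subgroupOf X).index := fun h => hidx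
    (h.trans (Dvd.intro _ (Subgroup.relIndex_mul_relIndex P X M le_sup_right hXM)))
  have hidx2 : ¬ p ∣ (P2.subgroupOf X).index := by
    have h1 := (P.subgroupOf X).card_mul_index
    have h2 := (P2.subgroupOf X).card_mul_index
    rw [← Nat.card_congr (Subgroup.subgroupOfEquivOfLe hP2X).toEquiv.symm] at h2
    rw [Nat.card_congr (Subgroup.subgroupOfEquivOfLe (le_sup_right : P ≤ X)).toEquiv] at h1
    rw [hcard, ← h1] at h2
    rwa [Nat.eq_of_mul_eq_mul_left Nat.card_pos h2]
  let S1 : Sylow p X := (hP.comap_subtype (K := X)).toSylow hidx1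
  let S2 : Sylow p X := ((hP.map (MulAut.conj l).toMonoidHom).comap_subtype (K := X)).toSylow hidx2
  obtain ⟨w, hw⟩ := MulAction.exists_smul_eq X S1 S2
  obtain ⟨j, hj, u0, hu0, hju⟩ := Subgroup.mem_sup_of_normal_left.1 w.2
  have hn : l⁻¹ * (w : G) ∈ Subgroup.normalizer (P : Set G) := by
    refine mem_normalizer_of_forall P _ fun u hu => ?_
    have h1 : w * ⟨u, Subgroup.mem_sup_right hu⟩ * w⁻¹ ∈ (S2 : Subgroup X) := by
      rw [← hw, Sylow.coe_subgroup_smul]
      exact Subgroup.smul_mem_pointwise_smul (⟨u, Subgroup.mem_sup_right hu⟩ : X) (MulAut.conj w)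
        (S1 : Subgroup X) hu
    obtain ⟨v, hv, hvu⟩ : (w : G) * u * (w : G)⁻¹ ∈ P2 := h1
    have hvu' : l * v * l⁻¹ = (w : G) * u * (w : G)⁻¹ := hvu
    rw [show l⁻¹ * (w : G) * u * (l⁻¹ * (w : G))⁻¹ = l⁻¹ * ((w : G) * u * (w : G)⁻¹) * l by group,
      ← hvu', show l⁻¹ * (l * v * l⁻¹) * l = v by group]
    exact hv
  have hlj : l⁻¹ * j ∈ Subgroup.normalizer (P : Set G) := by
    have h1 := mul_mem hn (inv_mem (Subgroup.le_normalizer hu0))
    rwa [← hju, mul_assoc, mul_assoc, mul_inv_cancel, mul_one] at h1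
  have h2 : l⁻¹ * j ∈ K := hLH ⟨L.mul_mem (L.inv_mem hl) hj.1, hlj⟩
  have h3 := K.mul_mem (hJK hj) (K.inv_mem h2)
  simpa [mul_assoc] using h3

/-- The common part of the two cases. -/
theorem exists_larger (χ : Cfsg.IrrCharacter G) (K : Subgroup G) [K.Normal]
    (hK : ∀ g : G, g ∈ K ↔ (χ : G → ℂ) g = (χ : G → ℂ) 1) {p : ℕ} [Fact p.Prime] (M P : Subgroup G)
    [M.Normal] (hPM : P ≤ M) (hP : IsPGroup p P) (hidx : ¬ p ∣ P.relIndex M)
    (hKH : K ⊔ Subgroup.normalizer (P : Set G) = ⊤)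
    (hJ : ∀ J : Subgroup G, J.Normal → J ≤ M → J ⊓ Subgroup.normalizer (P : Set G) ≤ K → J ≤ K)
    (hcase : (P ≤ K ∧ ∃ g : G, ∃ u ∈ P, g⁻¹ * u * g ∉ P) ∨
      (¬ P ≤ K ∧ ∃ g : G, ∀ u ∈ P, g⁻¹ * u * g ∈ P → g⁻¹ * u * g ∈ K)) :
    ∃ ψ : Cfsg.IrrCharacter G, deg (χ : G → ℂ) < deg (ψ : G → ℂ) ∧
      ∃ L : Subgroup G, (∀ g : G, g ∈ L ↔ (ψ : G → ℂ) g = (ψ : G → ℂ) 1) ∧ L < K := by
  classical
  letI := Fintype.ofFinite G
  letI := Fintype.ofFinite P
  set H := Subgroup.normalizer (P : Set G) with hH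
  letI := Fintype.ofFinite H
  have hθ : Cfsg.IsIrrCharacter H (fun h : H => (χ : G → ℂ) h) :=
    restrict_irr χ.2 K H (fun k hk => (hK k).1 hk) hKH
  set θ : H → ℂ := fun h : H => (χ : G → ℂ) h with hθdef
  have hθdeg : deg θ = deg (χ : G → ℂ) := by simp [hθdef, deg]
  have hθc := isCharacter_of_irr hθ
  by_cases hall : ∀ ψ : Cfsg.IrrCharacter G, Cfsg.classInner (Cfsg.indFun H θ) (ψ : G → ℂ) ≠ 0 →
      deg (ψ : G → ℂ) ≤ deg θ
  · exfalso
    have hkey := key_sum hθ hall
    have hPH : P ≤ H := Subgroup.le_normalizer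
    have hsum : (∑ u : P, Cfsg.indFun H θ (u : G)) =
        (H.index : ℂ) * ∑ u : P, (χ : G → ℂ) u := by
      rw [Finset.mul_sum]
      exact Finset.sum_congr rfl fun u _ => hkey ⟨u, hPH u.2⟩
    rw [sum_indFun] at hsum
    choose k hk hkker using fun g : G => exists_term hθc P g
    rw [Finset.sum_congr rfl (fun g _ => hk g)] at hsum
    have hH0 : (Nat.card H : ℂ) ≠ 0 := Nat.cast_ne_zero.2 Nat.card_pos.ne'
    have hconjP : ∀ g : G, ∀ u ∈ P, g⁻¹ * u * g ∈ H → g⁻¹ * u * g ∈ P := by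
      intro g u hu h
      refine mem_sylow_of_normal hPM hP hidx ?_ h ?_
      · simpa [mul_assoc] using Subgroup.Normal.conj_mem (inferInstance : M.Normal) u (hPM hu) g⁻¹
      · refine IsPGroup.iff_orderOf.2 fun y => ?_
        obtain ⟨e, he⟩ := hP ⟨u, hu⟩
        have he' : (g⁻¹ * u * g) ^ p ^ e = 1 := by
          have h1 : u ^ p ^ e = 1 := congrArg Subtype.val he
          rw [show g⁻¹ * u * g = g⁻¹ * u * g⁻¹⁻¹ by group, conj_pow, h1]
          group
        have h2 : orderOf y ∣ p ^ e := by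
          obtain ⟨i, hi⟩ := Subgroup.mem_zpowers_iff.1 y.2
          refine orderOf_dvd_of_pow_eq_one (Subtype.ext ?_)
          rw [SubmonoidClass.coe_pow, ← hi, ← zpow_natCast, ← zpow_mul, mul_comm, zpow_mul,
            zpow_natCast, he', one_zpow]
          rfl
        exact (Nat.dvd_prime_pow Fact.out).1 h2 |>.imp fun b hb => hb.2
    rcases hcase with ⟨hPK, g0, u0, hu0, hg0⟩ | ⟨hPK, g0, hg0⟩
    · -- all conjugates of `P` lie in `H`
      have hk' : ∀ g, k g = deg θ := fun g => hkker g fun u hu h => by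
        show (χ : G → ℂ) (g⁻¹ * u * g) = (χ : G → ℂ) 1
        exact (hK _).1 (hPK (hconjP g u hu h))
      simp only [hk'] at hsum
      rw [Finset.sum_congr rfl (s₁ := (Finset.univ : Finset P)) (g := fun _ => (deg θ : ℂ))
        (fun u _ => by rw [hθdeg, ← irr_apply_one_eq_deg]; exact (hK _).1 (hPK u.2)),
        Finset.sum_const, Finset.card_univ, nsmul_eq_mul, ← Nat.card_eq_fintype_card,
        inv_mul_eq_iff_eq_mul₀ hH0, ← mul_assoc, ← mul_assoc, ← Finset.sum_mul] at hsum
      have hd0 : (deg θ : ℂ) ≠ 0 := Nat.cast_ne_zero.2 (deg_irr_pos ⟨θ, hθ⟩).ne'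
      have h2 := mul_right_cancel₀ hd0 hsum
      have h3 : ∑ g : G, Nat.card ↥((H.map (MulAut.conj g).toMonoidHom).subgroupOf P) =
          ∑ _g : G, Nat.card P := by
        have : Nat.card H * H.index * Nat.card P = ∑ _g : G, Nat.card P := by
          rw [Finset.sum_const, Finset.card_univ, smul_eq_mul, H.card_mul_index,
            ← Nat.card_eq_fintype_card]
        rw [← this]
        exact_mod_cast h2
      have h4 := (Finset.sum_eq_sum_iff_of_le fun g _ =>
        Subgroup.card_le_card_group _).1 h3 g0 (Finset.mem_univ g0)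
      have h5 := Subgroup.eq_top_of_card_eq _ h4
      have h6 : (⟨u0, hu0⟩ : P) ∈ (H.map (MulAut.conj g0).toMonoidHom).subgroupOf P :=
        h5 ▸ Subgroup.mem_top _
      obtain ⟨v, hv, hvu⟩ := h6
      refine hg0 (hconjP g0 u0 hu0 ?_)
      have hvu' : g0 * v * g0⁻¹ = u0 := hvu
      rw [← hvu']
      simpa [mul_assoc] using hv
    · -- the sum over `P` vanishes
      have hz : ∑ u : P, (χ : G → ℂ) u = 0 := by
        obtain ⟨d, ρ, hρ, hρc⟩ := hθ
        haveI := hρ
        let E : Module.End ℂ (Fin d → ℂ) := ∑ u : P, ρ ⟨u, hPH u.2⟩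
        have hEu : ∀ u : P, E * ρ ⟨u, hPH u.2⟩ = E := fun u => by
          simp only [E, Finset.sum_mul, ← map_mul]
          exact Fintype.sum_equiv (Equiv.mulRight u) _ _ fun v => rfl
        have hcomm : ∀ (h : H) v, E (ρ h v) = ρ h (E v) := by
          intro h
          have h1 : E * ρ h = ρ h * E := by
            simp only [E, Finset.sum_mul, Finset.mul_sum, ← map_mul]
            refine Fintype.sum_equiv
              ⟨fun u => ⟨(h : G)⁻¹ * u * h,
                  (Subgroup.mem_normalizer_iff''.1 h.2 _).1 u.2⟩,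
                fun u => ⟨(h : G) * u * (h : G)⁻¹,
                  (Subgroup.mem_normalizer_iff.1 h.2 _).1 u.2⟩,
                fun u => Subtype.ext (by simp [mul_assoc]),
                fun u => Subtype.ext (by simp [mul_assoc])⟩ _ _ fun v => ?_
            congr 1
            exact Subtype.ext (by simp [mul_assoc])
          exact fun v => LinearMap.congr_fun h1 v
        obtain ⟨c, hc⟩ := schur_scalar ρ E hcomm
        have hc0 : c = 0 := by
          by_contra hc0
          refine hPK fun u hu => (hK u).2 ?_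
          have h1 := hEu ⟨u, hu⟩
          rw [hc, ← Module.End.one_eq_id, smul_mul_assoc, one_mul] at h1
          have h2 : ρ ⟨u, hPH hu⟩ = 1 := smul_right_injective _ hc0 h1
          have h3 := congrFun hρc ⟨u, hPH hu⟩
          have h4 := congrFun hρc 1
          simp only [Representation.character, h2, map_one] at h3 h4
          exact (h3.symm.trans h4).trans (by simp [hθdef])
        have h1 : ∑ u : P, (χ : G → ℂ) u = LinearMap.trace ℂ _ E := by
          simp only [E, map_sum]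
          exact Finset.sum_congr rfl fun u _ => (congrFun hρc ⟨u, hPH u.2⟩).symm
        rw [h1, hc, hc0, zero_smul, map_zero]
      rw [hz, mul_zero, mul_eq_zero] at hsum
      have h2 := hsum.resolve_left (inv_ne_zero hH0)
      have h3 : ∑ g : G, Nat.card ↥((H.map (MulAut.conj g).toMonoidHom).subgroupOf P) * k g = 0 := by
        exact_mod_cast h2
      have h4 := Finset.sum_eq_zero_iff.1 h3 g0 (Finset.mem_univ g0)
      have h5 : k g0 = deg θ := hkker g0 fun u hu h => by
        show (χ : G → ℂ) (g0⁻¹ * u * g0) = (χ : G → ℂ) 1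
        exact (hK _).1 (hg0 u hu (hconjP g0 u hu h))
      rw [h5] at h4
      exact mul_ne_zero Nat.card_pos.ne' (deg_irr_pos ⟨θ, hθ⟩).ne' h4
  push Not at hall
  obtain ⟨ψ, hψ, hdeg⟩ := hall
  rw [hθdeg] at hdeg
  have hψc := isCharacter_of_irr ψ.2
  haveI := kerSubgroup_normal hψc
  have hne : Cfsg.classInner (fun h : H => (ψ : G → ℂ) h) θ ≠ 0 := by
    rw [← classInner_conj_symm]
    rw [frobenius_reciprocity H θ (isClassFunction_irr ψ)] at hψ
    exact (map_ne_zero _).2 hψ
  have hLH : kerSubgroup (ψ : G → ℂ) hψc ⊓ H ≤ K := by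
    rintro l ⟨hl, hlH⟩
    refine (hK l).2 ?_
    have hl' := (mem_kerSubgroup hψc l).1 hl
    have := eq_mul_of_constituent (IsCharacter.restrict hψc H) hθ hne (g := (⟨l, hlH⟩ : H))
      (ω := 1) norm_one (by simpa using hl')
    simpa [hθdef] using this
  refine ⟨ψ, hdeg, kerSubgroup (ψ : G → ℂ) hψc, fun g => mem_kerSubgroup hψc g,
    lt_of_le_of_ne (ker_le K M P _ hPM hP hidx hJ hLH) fun he => ?_⟩
  have h1 := restrict_irr ψ.2 K H (fun k hk => (mem_kerSubgroup hψc k).1 (he ▸ hk)) hKH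
  have h2 := classInner_irrChar h1 hθ
  rw [if_neg fun h => by
    have := congrArg deg h
    simp only [hθdef, deg, OneMemClass.coe_one] at this
    simp only [deg] at hdeg
    omega] at h2
  exact hne h2

end Cfsg.Lib.Broline
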