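import Mathlib
import Cfsg.Prelude.Def_Blocks
import Cfsg.Prelude.Def_Characters
import Cfsg.Agent.Chars.Construct
import Cfsg.Agent.Coprime.SchurZassenhaus

/-!
Every solvable group embeds in the central quotient of a group of central type.
-/

set_option autoImplicit false
set_option linter.style.haveILetI false
set_option linter.unusedSectionVars false

namespace Cfsg.Lib.CentralType

open Matrix

universe u

/-- a projective representation, cocycle in the `m`-th roots of unity, vanishing trace off the identity -/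
structure Nice {K : Type*} [Group K] {ι : Type} [Fintype ι] [DecidableEq ι] (m : ℕ) (M : K → Matrix ι ι ℂ) :
    Prop where
  map_one : M 1 = 1
  map_mul : ∀ a b, ∃ c : ℂ, c ^ m = 1 ∧ M a * M b = c • M (a * b)
  trace_zero : ∀ a, a ≠ 1 → (M a).trace = 0
  dim_sq : Nat.card ι ^ 2 = Nat.card K

/-- `(K ≀ C_p) × C_p` -/
@[ext] structure Step (K : Type u) (p : ℕ) : Type u where
  /-- base -/
  f : ZMod p → K
  /-- shift -/
  i : ZMod p
  /-- phase -/
  j : ZMod p

variable {K : Type u} [Group K] {p : ℕ}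

instance : Mul (Step K p) := ⟨fun a b => ⟨fun l => a.f l * b.f (l + a.i), a.i + b.i, a.j + b.j⟩⟩
instance : One (Step K p) := ⟨⟨fun _ => 1, 0, 0⟩⟩
instance : Inv (Step K p) := ⟨fun a => ⟨fun l => (a.f (l - a.i))⁻¹, -a.i, -a.j⟩⟩

theorem mul_f (a b : Step K p) (l : ZMod p) : (a * b).f l = a.f l * b.f (l + a.i) := rfl
theorem mul_i (a b : Step K p) : (a * b).i = a.i + b.i := rfl
theorem mul_j (a b : Step K p) : (a * b).j = a.j + b.j := rfl
theorem one_f (l : ZMod p) : (1 : Step K p).f l = 1 := rfl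
theorem one_i : (1 : Step K p).i = 0 := rfl
theorem one_j : (1 : Step K p).j = 0 := rfl
theorem inv_f (a : Step K p) (l : ZMod p) : a⁻¹.f l = (a.f (l - a.i))⁻¹ := rfl
theorem inv_i (a : Step K p) : a⁻¹.i = -a.i := rfl
theorem inv_j (a : Step K p) : a⁻¹.j = -a.j := rfl

instance : Group (Step K p) := Group.ofLeftAxioms
  (fun a b c => Step.ext (funext fun l => by simp only [mul_f, mul_i, mul_assoc, add_assoc])
    (by simp only [mul_i, add_assoc]) (by simp only [mul_j, add_assoc]))
  (fun a => Step.ext (funext fun l => by simp only [mul_f, one_f, one_i, one_mul, add_zero])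
    (by simp only [mul_i, one_i, zero_add]) (by simp only [mul_j, one_j, zero_add]))
  (fun a => Step.ext (funext fun l => by
      simp only [mul_f, inv_f, inv_i, one_f, ← sub_eq_add_neg, inv_mul_cancel])
    (by simp only [mul_i, inv_i, one_i, neg_add_cancel]) (by simp only [mul_j, inv_j, one_j, neg_add_cancel]))

/-- the underlying product -/
def stepEquiv : Step K p ≃ (ZMod p → K) × ZMod p × ZMod p where
  toFun a := (a.f, a.i, a.j)
  invFun a := ⟨a.1, a.2.1, a.2.2⟩
  left_inv _ := rfl
  right_inv _ := rfl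

instance [Finite K] [NeZero p] : Finite (Step K p) := Finite.of_equiv _ stepEquiv.symm

theorem card_step [Finite K] [NeZero p] : Nat.card (Step K p) = Nat.card K ^ p * (p * p) := by
  rw [Nat.card_congr stepEquiv, Nat.card_prod, Nat.card_prod, Nat.card_fun, Nat.card_zmod]

variable {ι : Type} [Fintype ι] [DecidableEq ι]

/-- the tensor induced matrix times a Heisenberg pair -/
noncomputable def stepMat [NeZero p] (M : K → Matrix ι ι ℂ) (a : Step K p) :
    Matrix ((ZMod p → ι) × ZMod p) ((ZMod p → ι) × ZMod p) ℂ :=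
  fun u v => if u.2 = v.2 + a.i then (∏ l, M (a.f l) (u.1 l) (v.1 (l + a.i))) * ZMod.stdAddChar (a.j * v.2) else 0

theorem nice_step [Fact p.Prime] [Finite K] {m : ℕ} (hp : p ∣ m) {M : K → Matrix ι ι ℂ} (h : Nice m M) :
    Nice m (stepMat M : Step K p → _) := by
  classical
  haveI : NeZero p := ⟨(Fact.out : p.Prime).ne_zero⟩
  choose c hc1 hc using h.map_mul
  refine ⟨?_, fun a b => ⟨(∏ l, c (a.f l) (b.f (l + a.i))) * ZMod.stdAddChar (a.j * b.i), ?_, ?_⟩, ?_, ?_⟩
  · ext ⟨u, x⟩ ⟨v, y⟩
    simp only [stepMat, one_f, one_i, one_j, add_zero, h.map_one, zero_mul, AddChar.map_zero_eq_one, mul_one,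
      Matrix.one_apply, Finset.prod_ite_zero, Finset.prod_const_one, Finset.mem_univ, forall_true_left, Prod.mk.injEq,
      funext_iff]
    split_ifs <;> first | rfl | (exfalso; tauto)
  · rw [mul_pow, ← Finset.prod_pow, Finset.prod_eq_one (fun l _ => hc1 _ _), one_mul, ← AddChar.map_nsmul_eq_pow]
    obtain ⟨k, rfl⟩ := hp
    rw [nsmul_eq_mul, Nat.cast_mul, ZMod.natCast_self, zero_mul, zero_mul, AddChar.map_zero_eq_one]
  · ext ⟨u, x⟩ ⟨w, z⟩
    rw [Matrix.mul_apply, Fintype.sum_prod_type_right, Finset.sum_eq_single (z + b.i)]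
    · simp only [stepMat, Matrix.smul_apply, smul_eq_mul, if_true, mul_i, mul_j, mul_f]
      by_cases hx : x = z + b.i + a.i
      · rw [if_pos (show x = z + (a.i + b.i) by rw [hx]; abel)]
        simp only [if_pos hx]
        have hb : ∀ v : ZMod p → ι, ∏ l, M (b.f l) (v l) (w (l + b.i))
            = ∏ l, M (b.f (l + a.i)) (v (l + a.i)) (w (l + (a.i + b.i))) := fun v => by
          rw [← Equiv.prod_comp (Equiv.addRight a.i) fun l => M (b.f l) (v l) (w (l + b.i))]
          simp only [Equiv.coe_addRight, add_assoc]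
        simp only [hb]
        have hprod : ∑ v : ZMod p → ι, (∏ l, M (a.f l) (u l) (v (l + a.i))) *
            (∏ l, M (b.f (l + a.i)) (v (l + a.i)) (w (l + (a.i + b.i)))) =
            (∏ l, c (a.f l) (b.f (l + a.i))) * ∏ l, M (a.f l * b.f (l + a.i)) (u l) (w (l + (a.i + b.i))) := by
          rw [← Finset.prod_mul_distrib]
          calc _ = ∑ v : ZMod p → ι, ∏ l, M (a.f l) (u l) (v l) *
                M (b.f (l + a.i)) (v l) (w (l + (a.i + b.i))) := by
                simp only [← Finset.prod_mul_distrib]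
                exact Fintype.sum_equiv ((Equiv.addRight a.i).symm.arrowCongr (Equiv.refl ι)) _ _ fun v => rfl
            _ = ∏ l, ∑ k, M (a.f l) (u l) k * M (b.f (l + a.i)) k (w (l + (a.i + b.i))) :=
                (Fintype.prod_sum (fun l k => M (a.f l) (u l) k * M (b.f (l + a.i)) k (w (l + (a.i + b.i))))).symm
            _ = _ := Finset.prod_congr rfl fun l _ => by
                rw [← Matrix.mul_apply, hc, Matrix.smul_apply, smul_eq_mul]
        have e : (ZMod.stdAddChar (a.j * (z + b.i)) : ℂ) * ZMod.stdAddChar (b.j * z) =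
            ZMod.stdAddChar (a.j * b.i) * ZMod.stdAddChar ((a.j + b.j) * z) := by
          rw [← AddChar.map_add_eq_mul, ← AddChar.map_add_eq_mul]
          congr 1
          ring
        calc ∑ v : ZMod p → ι, (∏ l, M (a.f l) (u l) (v (l + a.i))) * ZMod.stdAddChar (a.j * (z + b.i)) *
              ((∏ l, M (b.f (l + a.i)) (v (l + a.i)) (w (l + (a.i + b.i)))) * ZMod.stdAddChar (b.j * z))
            = (∑ v : ZMod p → ι, (∏ l, M (a.f l) (u l) (v (l + a.i))) *
              (∏ l, M (b.f (l + a.i)) (v (l + a.i)) (w (l + (a.i + b.i))))) *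
                ((ZMod.stdAddChar (a.j * (z + b.i)) : ℂ) * ZMod.stdAddChar (b.j * z)) := by
              rw [Finset.sum_mul]
              exact Finset.sum_congr rfl fun v _ => by ring
          _ = _ := by rw [hprod, e]; ring
      · rw [if_neg (fun hx' => hx (by rw [hx']; abel))]
        simp [hx]
    · intro y _ hy
      refine Finset.sum_eq_zero fun v _ => ?_
      simp [stepMat, hy]
    · simp
  · rintro ⟨f, i, j⟩ ha
    rw [Matrix.trace]
    simp only [Matrix.diag, stepMat]
    by_cases hi : i = 0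
    · subst hi
      simp only [add_zero, if_true]
      rw [Fintype.sum_prod_type]
      dsimp only
      rw [show (∑ u : ZMod p → ι, ∑ y : ZMod p, (∏ l, M (f l) (u l) (u l)) * (ZMod.stdAddChar (j * y) : ℂ))
        = (∑ u : ZMod p → ι, ∏ l, M (f l) (u l) (u l)) * ∑ y : ZMod p, (ZMod.stdAddChar (y * j) : ℂ) from by
          rw [Finset.sum_mul]
          exact Finset.sum_congr rfl fun u _ => by rw [Finset.mul_sum]; simp only [mul_comm j]]
      rw [AddChar.sum_mulShift j (ZMod.isPrimitive_stdAddChar p)]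
      by_cases hj : j = 0
      · subst hj
        obtain ⟨l, hl⟩ : ∃ l, f l ≠ 1 := by
          by_contra hf
          push Not at hf
          exact ha (Step.ext (funext hf) rfl rfl)
        rw [← Fintype.prod_sum (fun l k => M (f l) k k),
          Finset.prod_eq_zero (Finset.mem_univ l) (h.trace_zero _ hl), zero_mul]
      · rw [if_neg hj, Nat.cast_zero, mul_zero]
    · exact Finset.sum_eq_zero fun u _ => if_neg fun hu => hi (by simpa using hu)
  · rw [Nat.card_prod, Nat.card_fun, Nat.card_zmod, card_step, ← h.dim_sq]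
    ring

theorem nice_one {m : ℕ} : Nice (K := PUnit.{u + 1}) m (fun _ => (1 : Matrix Unit Unit ℂ)) :=
  ⟨rfl, fun _ _ => ⟨1, one_pow m, by rw [one_smul, one_mul]⟩, fun a ha => absurd (Subsingleton.elim a 1) ha,
    by simp⟩

theorem exists_nice (m : ℕ) : ∀ (n : ℕ) (G : Type u) [Group G] [Finite G] [Group.IsSolvable G], Nat.card G = n →
    (∀ q : ℕ, q.Prime → q ∣ Nat.card G → q ∣ m) →
    ∃ (K : Type u) (_ : Group K) (_ : Finite K) (ι : Type) (_ : Fintype ι) (_ : DecidableEq ι)
      (M : K → Matrix ι ι ℂ), Nice m M ∧ (∃ f : G →* K, Function.Injective f) ∧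
      ∀ q : ℕ, q.Prime → q ∣ Nat.card K → q ∣ Nat.card G := by
  intro n
  induction n using Nat.strong_induction_on with
  | _ n ih =>
    intro G _ _ _ hn hm
    classical
    rcases subsingleton_or_nontrivial G with hs | hs
    · exact ⟨PUnit, inferInstance, inferInstance, Unit, inferInstance, inferInstance, _, nice_one,
        ⟨1, fun a b _ => Subsingleton.elim a b⟩, fun q hq h => absurd (by simpa using h) hq.ne_one⟩
    obtain ⟨N, hN, hp⟩ := Cfsg.Lib.Coprime.exists_normal_prime_index (G := G)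
    set p := N.index with hpdef
    haveI : Fact p.Prime := ⟨hp⟩
    haveI : NeZero p := ⟨hp.ne_zero⟩
    have hpG : p ∣ Nat.card G := hpdef ▸ N.index_dvd_card
    have hNn : Nat.card N < n := by
      rw [← hn, ← N.card_mul_index]
      exact lt_mul_of_one_lt_right Nat.card_pos hp.one_lt
    obtain ⟨K, iK, iF, ι, iι, iD, M, hM, ⟨φ, hφ⟩, hK⟩ :=
      ih _ hNn N rfl fun q hq h => hm q hq (h.trans N.card_subgroup_dvd_card)
    refine ⟨Step K p, inferInstance, inferInstance, _, inferInstance, inferInstance, stepMat M,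
      nice_step (hm p hp hpG) hM, ?_, ?_⟩
    · let e : G ⧸ N ≃* Multiplicative (ZMod p) :=
        mulEquivOfPrimeCardEq (p := p) (by rw [← Subgroup.index_eq_card]) (by simp)
      let π : G → ZMod p := fun g => Multiplicative.toAdd (e (QuotientGroup.mk g))
      have hπ : ∀ a b, π (a * b) = π a + π b := fun a b => by
        simp only [π, QuotientGroup.mk_mul, map_mul, toAdd_mul]
      have hsurj : Function.Surjective π :=
        Multiplicative.toAdd.surjective.comp (e.surjective.comp QuotientGroup.mk_surjective)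
      have hker : ∀ g, π g = 0 → g ∈ N := fun g hg => by
        rw [← QuotientGroup.eq_one_iff, ← e.map_eq_one_iff]
        exact Multiplicative.toAdd.injective hg
      have hπi : ∀ a, π a⁻¹ = -π a := fun a => by
        simp only [π, QuotientGroup.mk_inv, map_inv, toAdd_inv]
      let s := Function.surjInv hsurj
      have hs' : ∀ l, π (s l) = l := Function.surjInv_eq hsurj
      let F : G → ZMod p → N := fun g l => ⟨s l * g * (s (l + π g))⁻¹, hker _ (by rw [hπ, hπ, hπi, hs', hs']; abel)⟩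
      refine ⟨MonoidHom.mk' (fun g => ⟨fun l => φ (F g l), π g, 0⟩) (fun a b => Step.ext (funext fun l => ?_) (hπ a b) (add_zero 0).symm), ?_⟩
      · rw [mul_f, ← map_mul]
        refine congrArg φ (Subtype.ext ?_)
        simp only [F, Subgroup.coe_mul, hπ, add_assoc]
        group
      · intro a b hab
        have h1 : π a = π b := congrArg Step.i hab
        have h2 := congrArg Subtype.val (hφ (congrFun (congrArg Step.f hab) 0))
        simp only [F, h1] at h2
        exact mul_left_cancel (mul_right_cancel h2)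
    · intro q hq h
      rw [card_step] at h
      rcases (Nat.Prime.dvd_mul hq).mp h with h1 | h1
      · exact (hK q hq (hq.dvd_of_dvd_pow h1)).trans N.card_subgroup_dvd_card
      · rcases (Nat.Prime.dvd_mul hq).mp h1 with h2 | h2 <;>
          exact ((Nat.prime_dvd_prime_iff_eq hq hp).mp h2) ▸ hpG

/-- the central extension inside `K × GL` -/
def lift {m : ℕ} [NeZero m] {M : K → Matrix ι ι ℂ} (h : Nice m M) : Subgroup (K × (Matrix ι ι ℂ)ˣ) where
  carrier := {x | ∃ c : ℂ, c ^ m = 1 ∧ (x.2 : Matrix ι ι ℂ) = c • M x.1}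
  one_mem' := ⟨1, one_pow m, by rw [one_smul]; exact h.map_one.symm⟩
  mul_mem' := by
    rintro ⟨a, U⟩ ⟨b, V⟩ ⟨c, hc, hU⟩ ⟨d, hd, hV⟩
    obtain ⟨e, he, hab⟩ := h.map_mul a b
    refine ⟨c * d * e, by rw [mul_pow, mul_pow, hc, hd, he, mul_one, mul_one], ?_⟩
    simp only [Prod.mk_mul_mk, Units.val_mul] at hU hV ⊢
    rw [hU, hV, smul_mul_smul_comm, hab, smul_smul]
  inv_mem' := by
    rintro ⟨a, U⟩ ⟨c, hc, hU⟩
    obtain ⟨e, he, hab⟩ := h.map_mul a a⁻¹
    have hne : c * e ≠ 0 := fun h0 => by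
      have := congrArg (· ^ m) h0
      simp [mul_pow, hc, he, zero_pow (NeZero.ne m)] at this
    refine ⟨(c * e)⁻¹, by rw [inv_pow, mul_pow, hc, he, mul_one, inv_one], ?_⟩
    refine Units.inv_eq_of_mul_eq_one_right ?_
    simp only at hU ⊢
    rw [hU, Prod.fst_inv, smul_mul_smul_comm, hab, mul_inv_cancel, h.map_one, smul_smul,
      show c * (c * e)⁻¹ * e = 1 by field_simp [(mul_ne_zero_iff.mp hne).1, (mul_ne_zero_iff.mp hne).2], one_smul]

theorem exists_central_type (G : Type u) [Group G] [Finite G] [Group.IsSolvable G] :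
    ∃ (H : Type u) (_ : Group H) (_ : Finite H) (χ : Cfsg.IrrCharacter H),
      (∀ h : H, (χ : H → ℂ) h = (χ : H → ℂ) 1 → h = 1) ∧
      (Cfsg.charDegree (χ : H → ℂ)) ^ 2 = (Subgroup.center H).index ∧
      (∃ f : G →* H ⧸ Subgroup.center H, Function.Injective f) ∧
      (∀ p : ℕ, p.Prime → ((p ∣ Nat.card H ↔ p ∣ Nat.card G) ∧
        (p ∣ Nat.card (Subgroup.center H) ↔ p ∣ Nat.card G))) ∧
      Squarefree (Nat.card (Subgroup.center H)) := by
  classical
  set m := ∏ q ∈ (Nat.card G).primeFactors, q with hmdef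
  have hm0 : m ≠ 0 := Finset.prod_ne_zero_iff.mpr fun q hq => (Nat.prime_of_mem_primeFactors hq).ne_zero
  haveI : NeZero m := ⟨hm0⟩
  have hmq : ∀ q : ℕ, q.Prime → (q ∣ m ↔ q ∣ Nat.card G) := fun q hq => by
    constructor
    · exact fun h => h.trans (Nat.prod_primeFactors_dvd _)
    · exact fun h => Finset.dvd_prod_of_mem _ (Nat.mem_primeFactors.mpr ⟨hq, h, Nat.card_pos.ne'⟩)
  obtain ⟨K, iK, iF, ι, iι, iD, M, hM, ⟨φ, hφ⟩, hK⟩ :=
    exists_nice m _ G rfl fun q hq h => (hmq q hq).mpr h
  haveI : Nonempty ι := by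
    rw [← not_isEmpty_iff]
    intro he
    have := hM.dim_sq
    rw [Nat.card_of_isEmpty, zero_pow two_ne_zero] at this
    exact Nat.card_pos.ne this
  let H := ↥(lift hM)
  let π : H →* K := (MonoidHom.fst _ _).comp (lift hM).subtype
  have hMU : ∀ a, IsUnit (M a) := fun a => by
    obtain ⟨e, he, hab⟩ := hM.map_mul a a⁻¹
    have he0 : e ≠ 0 := fun h0 => by simp [h0, zero_pow hm0] at he
    exact IsUnit.of_mul_eq_one (b := e⁻¹ • M a⁻¹) (by
      rw [Matrix.mul_smul, hab, mul_inv_cancel, hM.map_one, smul_smul, inv_mul_cancel₀ he0, one_smul])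
  have hπs : Function.Surjective π := fun a =>
    ⟨⟨(a, (hMU a).unit), 1, one_pow m, (one_smul ℂ (M a)).symm⟩, rfl⟩
  let j : rootsOfUnity m ℂ →* H :=
    { toFun := fun c => ⟨(1, Units.map (Matrix.scalar ι).toMonoidHom (c : ℂˣ)), ((c : ℂˣ) : ℂ),
        (mem_rootsOfUnity' m (c : ℂˣ)).mp c.2, by simp [hM.map_one, Matrix.smul_one_eq_diagonal, Matrix.scalar_apply]⟩
      map_one' := Subtype.ext (by simp)
      map_mul' := fun a b => Subtype.ext (Prod.ext (one_mul _).symm (Units.ext (by simp [Subgroup.coe_mul, Matrix.diagonal_mul_diagonal] <;> exact (Matrix.diagonal_mul_diagonal _ _).symm))) }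
  have hj : ∀ c, (((j c : H) : K × (Matrix ι ι ℂ)ˣ).2 : Matrix ι ι ℂ) = ((c : ℂˣ) : ℂ) • 1 := fun c => by
    simp [j, Matrix.smul_one_eq_diagonal, Matrix.scalar_apply]
  have hjinj : Function.Injective j := fun a b hab => by
    have h1 := congrArg (fun h : H => ((h : K × (Matrix ι ι ℂ)ˣ).2 : Matrix ι ι ℂ)) hab
    simp only [hj] at h1
    obtain ⟨x⟩ := ‹Nonempty ι›
    have h2 := congrFun (congrFun h1 x) x
    simp only [Matrix.smul_apply, Matrix.one_apply_eq, smul_eq_mul, mul_one] at h2
    exact Subtype.ext (Units.ext h2)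
  have hrange : j.range = π.ker := by
    refine le_antisymm ?_ fun h hh => ?_
    · rintro _ ⟨c, rfl⟩; rfl
    · obtain ⟨⟨a, U⟩, c, hc, hU⟩ := h
      obtain rfl : a = 1 := hh
      rw [hM.map_one] at hU
      refine ⟨⟨Units.mk0 c fun h0 => by simp [h0, zero_pow hm0] at hc, (mem_rootsOfUnity' m _).mpr (by simpa using hc)⟩, ?_⟩
      refine Subtype.ext (Prod.ext rfl (Units.ext ?_))
      exact (hj _).trans hU.symm
  have hkerc : Nat.card π.ker = m := by
    rw [← hrange, ← Nat.card_congr (MonoidHom.ofInjective hjinj).toEquiv, Complex.card_rootsOfUnity]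
  have hidx : π.ker.index = Nat.card K := by
    rw [Subgroup.index_ker, MonoidHom.range_eq_top.mpr hπs, Subgroup.card_top]
  haveI : Finite H := Nat.finite_of_card_ne_zero (by
    rw [← π.ker.card_mul_index, hkerc, hidx]; exact mul_ne_zero hm0 Nat.card_pos.ne')
  haveI : Fintype H := Fintype.ofFinite _
  have hcard : Nat.card H = m * Nat.card K := by rw [← π.ker.card_mul_index, hkerc, hidx]
  let ρ : Representation ℂ H (ι → ℂ) :=
    ((Matrix.toLinAlgEquiv' (R := ℂ) (n := ι)).toMonoidHom.comp (Units.coeHom _)).comp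
      ((MonoidHom.snd _ _).comp (lift hM).subtype)
  set χ := ρ.character with hχdef
  set n := Nat.card ι with hndef
  have hχ : ∀ (h : H) (c : ℂ), ((h : K × (Matrix ι ι ℂ)ˣ).2 : Matrix ι ι ℂ) = c • M (π h) →
      χ h = if π h = 1 then c * n else 0 := fun h c hc => by
    have h1 : χ h = ((h : K × (Matrix ι ι ℂ)ˣ).2 : Matrix ι ι ℂ).trace := Matrix.trace_toLin'_eq _
    rw [h1, hc, Matrix.trace_smul, smul_eq_mul]
    split_ifs with hh
    · rw [hh, hM.map_one, Matrix.trace_one, hndef, Nat.card_eq_fintype_card]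
    · rw [hM.trace_zero _ hh, mul_zero]
  have hχ1 : χ 1 = (n : ℂ) := by
    rw [hχ 1 1 (by simp [hM.map_one]), if_pos (map_one π), one_mul]
  have hnorm : ∀ h : H, ‖χ h‖ ^ 2 = if h ∈ π.ker then (n : ℝ) ^ 2 else 0 := fun h => by
    obtain ⟨c, hc, hU⟩ := h.2
    rw [hχ h c hU]
    by_cases hh : π h = 1
    · rw [if_pos hh, if_pos (MonoidHom.mem_ker.mpr hh), norm_mul, Complex.norm_eq_one_of_pow_eq_one hc hm0,
        one_mul, Complex.norm_natCast]
    · rw [if_neg hh, if_neg (fun h' => hh (MonoidHom.mem_ker.mp h')), norm_zero, zero_pow two_ne_zero]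
  have hirr : Cfsg.IsIrrCharacter H χ := by
    refine Cfsg.Lib.Chars.isIrrCharacter_iff_norm_one.mpr ⟨Cfsg.Lib.Chars.isCharacter_character ρ, ?_⟩
    rw [Cfsg.Lib.Chars.classInner_self, Complex.ofReal_eq_one]
    simp only [hnorm, Finset.sum_ite, Finset.sum_const_zero, add_zero, Finset.sum_const, nsmul_eq_mul]
    rw [← Fintype.card_subtype, ← Nat.card_eq_fintype_card]
    rw [show Nat.card {x : H // x ∈ π.ker} = m from hkerc, hcard, ← hM.dim_sq, ← hndef]
    have : (0 : ℝ) < (n : ℝ) := by exact_mod_cast Nat.card_pos (α := ι)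
    have : (0 : ℝ) < (m : ℝ) := by exact_mod_cast Nat.pos_of_ne_zero hm0
    push_cast
    field_simp
  have hcenter : Subgroup.center H = π.ker := by
    refine le_antisymm (fun z hz => ?_) ?_
    · obtain ⟨d, σ, hσ, hσχ⟩ := id hirr
      haveI := hσ
      obtain ⟨c, hc⟩ := Cfsg.Lib.Chars.schur_scalar σ (σ z) fun g v => by
        rw [← Module.End.mul_apply, ← map_mul, ← Subgroup.mem_center_iff.mp hz g, map_mul, Module.End.mul_apply]
      haveI := Cfsg.Lib.Chars.nontrivial_of_irreducible σ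
      obtain ⟨v, hv⟩ := exists_ne (0 : Fin d → ℂ)
      have hc0 : c ≠ 0 := fun h0 => hv (by
        have h1 : σ z⁻¹ (σ z v) = v := by
          rw [← Module.End.mul_apply, ← map_mul, inv_mul_cancel, map_one]; rfl
        rw [← h1, hc, h0]; simp)
      obtain ⟨e, he, hU⟩ := z.2
      rw [MonoidHom.mem_ker]
      by_contra hne
      have h2 := hχ z e hU
      rw [if_neg hne, ← hσχ, Representation.character, hc, map_smul, LinearMap.trace_id, smul_eq_mul,
        Module.finrank_fin_fun] at h2
      rcases mul_eq_zero.mp h2 with h3 | h3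
      · exact hc0 h3
      · obtain rfl : d = 0 := by exact_mod_cast h3
        exact hv (Subsingleton.elim _ _)
    · rw [← hrange]
      rintro _ ⟨c, rfl⟩
      refine Subgroup.mem_center_iff.mpr fun g => Subtype.ext (Prod.ext ?_ (Units.ext ?_))
      · show (g : K × (Matrix ι ι ℂ)ˣ).1 * 1 = 1 * (g : K × (Matrix ι ι ℂ)ˣ).1
        rw [mul_one, one_mul]
      · show ((g : K × (Matrix ι ι ℂ)ˣ).2 : Matrix ι ι ℂ) * ((j c : H) : K × (Matrix ι ι ℂ)ˣ).2 =
          ((j c : H) : K × (Matrix ι ι ℂ)ˣ).2 * ((g : K × (Matrix ι ι ℂ)ˣ).2 : Matrix ι ι ℂ)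
        rw [hj, Matrix.mul_smul, Matrix.smul_mul, mul_one, one_mul]
  refine ⟨H, inferInstance, inferInstance, ⟨χ, hirr⟩, ?_, ?_, ?_, ?_, ?_⟩
  · intro h hh
    obtain ⟨c, hc, hU⟩ := h.2
    change χ h = χ 1 at hh
    rw [hχ h c hU, hχ1] at hh
    have hn0 : (n : ℂ) ≠ 0 := Nat.cast_ne_zero.mpr Nat.card_pos.ne'
    by_cases h1 : π h = 1
    · rw [if_pos h1] at hh
      have hc1 : c = 1 := mul_right_cancel₀ hn0 (hh.trans (one_mul _).symm)
      refine Subtype.ext (Prod.ext h1 (Units.ext ?_))
      rw [hU, hc1, one_smul, show (h : K × (Matrix ι ι ℂ)ˣ).1 = 1 from h1, hM.map_one]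
      rfl
    · rw [if_neg h1] at hh
      exact absurd hh.symm hn0
  · show ⌊(χ 1).re⌋₊ ^ 2 = _
    rw [hχ1, Complex.natCast_re, Nat.floor_natCast, hcenter, hidx, hndef, hM.dim_sq]
  · let e : H ⧸ Subgroup.center H ≃* K :=
      (QuotientGroup.quotientMulEquivOfEq hcenter).trans (QuotientGroup.quotientKerEquivOfSurjective π hπs)
    exact ⟨e.symm.toMonoidHom.comp φ, e.symm.injective.comp hφ⟩
  · intro q hq
    rw [hcenter, hkerc, hcard]
    refine ⟨⟨fun h => ?_, fun h => Dvd.dvd.mul_right ((hmq q hq).mpr h) _⟩, hmq q hq⟩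
    rcases (Nat.Prime.dvd_mul hq).mp h with h1 | h1
    · exact (hmq q hq).mp h1
    · exact hK q hq h1
  · rw [hcenter, hkerc, hmdef]
    rw [← Nat.radical_eq_prod_primeFactors]
    exact UniqueFactorizationMonoid.squarefree_radical

end Cfsg.Lib.CentralType
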