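import Mathlib
import Cfsg.Agent.Chars.Inertia
import Cfsg.Agent.Blocks.InvariantConstituent
import Cfsg.Agent.Coprime.SchurZassenhaus
import Cfsg.Agent.Coprime.Sylow

/-!
# Invariant constituents under coprime action on a quotient
-/

set_option autoImplicit false
set_option linter.unusedSectionVars false
set_option linter.style.haveILetI false

namespace Cfsg.Lib.CoprimeInvariant

open Cfsg Cfsg.Lib.Chars Subgroup

universe u

/-- Glauberman's lemma in subgroup form. -/
theorem exists_le_conjMap {L : Type u} [Group L] [Finite L] (A S K : Subgroup L) [A.Normal]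
    (hAS : A ⊔ S = ⊤) (hAK : A ⊔ K = ⊤) (hcop : (Nat.card A).Coprime (Nat.card S))
    (hsol : Group.IsSolvable A ∨ Group.IsSolvable S) :
    ∃ a ∈ A, S ≤ Coprime.conjMap a K := by
  have hn : ∀ H : Subgroup L, H ≤ normalizer (A : Set L) := fun H => by
    rw [Subgroup.normalizer_eq_top (H := A)]; exact le_top
  have hidx : A.index = Nat.card S := by
    have h := Coprime.card_sup_mul_card_inf (hn S)
    have hinf : A ⊓ S = ⊥ := Subgroup.inf_eq_bot_of_coprime hcop
    rw [hAS, hinf, Subgroup.card_bot, mul_one, Subgroup.card_top, ← A.card_mul_index] at h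
    exact Nat.eq_of_mul_eq_mul_left Nat.card_pos h
  have hrel : (A ⊓ K).relIndex K = Nat.card S := by
    rw [inf_relIndex_right, ← hidx, ← relIndex_top_right, ← hAK, sup_comm, relIndex_sup_right]
  obtain ⟨B, hBK, -, hBc⟩ := Coprime.exists_complement_in (N := A ⊓ K) inf_le_right
    (Coprime.le_normalizer_inf (hn K) le_normalizer) (by
      rw [hrel]; exact Nat.Coprime.coprime_dvd_left (Subgroup.card_dvd_of_le inf_le_left) hcop)
  obtain ⟨x, hx, hxB⟩ := Coprime.exists_conj_eq_of_coprime (hn S) hcop hsol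
    (K := B) (by rw [hAS]; exact le_top) (by rw [hBc, hrel])
  refine ⟨x⁻¹, A.inv_mem hx, fun s hs => ?_⟩
  rw [Coprime.mem_conjMap, inv_inv]
  refine hBK ?_
  rw [hxB, Coprime.mem_conjMap]
  simpa [mul_assoc] using hs

variable {Γ : Type u} [Group Γ] [Fintype Γ] (G S N : Subgroup Γ) [G.Normal] [N.Normal]
  [Fintype G] [Fintype N]

/-- Pullback of a character of `N` to `N.subgroupOf G`. -/
noncomputable def down (hNG : N ≤ G) (θ : N → ℂ) : N.subgroupOf G → ℂ :=
  fun x => θ (Subgroup.subgroupOfEquivOfLe hNG x)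

lemma classInner_down (hNG : N ≤ G) (φ θ : N → ℂ) [Fintype (N.subgroupOf G)] :
    classInner (down G N hNG φ) (down G N hNG θ) = classInner φ θ :=
  classInner_comp_equiv (Subgroup.subgroupOfEquivOfLe hNG).toEquiv φ θ

lemma conjN_down (hNG : N ≤ G) (θ : N → ℂ) (g : G) :
    conjN (N.subgroupOf G) g (down G N hNG θ) = down G N hNG (conjN N (g : Γ) θ) := by
  funext x
  exact congrArg θ (Subtype.ext rfl)

theorem exists_invariant_constituent (hNG : N ≤ G) (htop : G ⊔ S = ⊤)
    (hcop : (N.relIndex G).Coprime (Nat.card S))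
    (hsolv : Group.IsSolvable S ∨ Group.IsSolvable (G ⧸ N.subgroupOf G))
    (χ : IrrCharacter G) (hinv : ∀ x : Γ, conjN G x (χ : G → ℂ) = χ) :
    ∃ θ : IrrCharacter N, classInner (fun n : N => (χ : G → ℂ) ⟨n, hNG n.2⟩) (θ : N → ℂ) ≠ 0 ∧
      ∀ s ∈ S, conjN N s (θ : N → ℂ) = θ := by
  classical
  have hchar : IsCharacter N (fun n : N => (χ : G → ℂ) ⟨n, hNG n.2⟩) :=
    IsCharacter.comp_hom (isCharacter_of_irr χ.2) (Subgroup.inclusion hNG)
  set f : N → ℂ := fun n => (χ : G → ℂ) ⟨n, hNG n.2⟩ with hf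
  have hfinv : ∀ x : Γ, conjN N x f = f := fun x => funext fun n =>
    congrFun (hinv x) ⟨n, hNG n.2⟩
  obtain ⟨θ, hθ, hθc⟩ : ∃ θ : N → ℂ, IsIrrCharacter N θ ∧ classInner f θ ≠ 0 := by
    by_contra hno
    push Not at hno
    obtain ⟨m, hm⟩ := IsCharacter.exists_decomp hchar
    have h0 : ∀ φ : IrrCharacter N, m φ = 0 := fun φ => by
      have h := hno φ φ.2
      rw [hm] at h
      simp only [← Nat.cast_smul_eq_nsmul ℂ] at h
      rw [classInner_irrSum (fun φ => (m φ : ℂ)) φ] at h
      exact_mod_cast h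
    have h1 := congrFun hm 1
    simp [h0, hf] at h1
    exact IsIrrCharacter.apply_one_ne_zero χ.2 h1
  have horb : ∀ x : Γ, ∃ g ∈ G, conjN N x θ = conjN N g θ := by
    intro x
    have hx : classInner f (conjN N x θ) ≠ 0 := by
      rw [← hfinv x, classInner_conjN]; exact hθc
    have : Fintype (N.subgroupOf G) := Fintype.ofFinite _
    have hd : ∀ φ : N → ℂ, classInner (fun y : N.subgroupOf G => (χ : G → ℂ) y) (down G N hNG φ) =
        classInner f φ := fun φ => classInner_down G N hNG f φ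
    have hθ' : IsIrrCharacter (N.subgroupOf G) (down G N hNG θ) :=
      IsIrrCharacter.comp_mulEquiv hθ _
    have hcl := clifford (N.subgroupOf G) χ.2 hθ' (by rw [hd]; exact hθc)
    by_contra hno
    push Not at hno
    apply hx
    rw [← hd, hcl, classInner_smul_left, classInner_sum_left]
    refine mul_eq_zero_of_right _ (Finset.sum_eq_zero fun ψ hψ => ?_)
    obtain ⟨g, rfl⟩ := (mem_conjOrbit _).1 hψ
    rw [conjN_down, classInner_down, classInner_irrChar (IsIrrCharacter.conjN hθ _)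
      (IsIrrCharacter.conjN hθ _), if_neg fun e => hno g g.2 e.symm]
  set π := QuotientGroup.mk' N with hπ
  set I := inertia N θ with hI
  have hIG : G ⊔ I = ⊤ := by
    rw [eq_top_iff]
    intro x _
    obtain ⟨g, hg, he⟩ := horb x
    have h : x * g⁻¹ ∈ I := by
      rw [hI, mem_inertia, conjN_mul, he, ← conjN_mul, mul_inv_cancel, conjN_one]
    rw [show x = (x * g⁻¹) * g by group]
    exact mul_mem (mem_sup_right h) (mem_sup_left hg)
  have hsurj := QuotientGroup.mk'_surjective N
  have : (G.map π).Normal := Subgroup.Normal.map inferInstance π hsurj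
  have hcA : Nat.card (G.map π) = N.relIndex G := by
    rw [← relIndex_bot_left, show (⊥ : Subgroup (Γ ⧸ N)) = N.map π from
      (QuotientGroup.map_mk'_self N).symm, relIndex_map_map, QuotientGroup.ker_mk', sup_idem,
      sup_eq_left.2 hNG]
  have hmaptop : (⊤ : Subgroup Γ).map π = ⊤ := Subgroup.map_top_of_surjective π hsurj
  obtain ⟨a, ha, hle⟩ := exists_le_conjMap (G.map π) (S.map π) (I.map π)
    (by rw [← Subgroup.map_sup, htop, hmaptop]) (by rw [← Subgroup.map_sup, hIG, hmaptop])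
    (by rw [hcA]; exact Nat.Coprime.coprime_dvd_right (Subgroup.card_map_dvd S π) hcop)
    (by
      rcases hsolv with h | h
      · right; haveI := h
        exact Group.isSolvable_of_surjective (f := π.subgroupMap S) (π.subgroupMap_surjective S)
      · left; haveI := h
        let q : G ⧸ N.subgroupOf G →* G.map π := QuotientGroup.lift _ (π.subgroupMap G)
          fun x hx => Subtype.ext ((QuotientGroup.eq_one_iff _).2 hx)
        refine Group.isSolvable_of_surjective (f := q) fun y => ?_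
        obtain ⟨x, hx⟩ := π.subgroupMap_surjective G y
        exact ⟨x, hx⟩)
  obtain ⟨b, hb, rfl⟩ := Subgroup.mem_map.1 ha
  refine ⟨⟨conjN N b⁻¹ θ, IsIrrCharacter.conjN hθ _⟩, ?_, fun s hs => ?_⟩
  · show classInner f (conjN N b⁻¹ θ) ≠ 0
    rw [← hfinv b⁻¹, classInner_conjN]; exact hθc
  · have h1 := hle (Subgroup.mem_map.2 ⟨s, hs, rfl⟩)
    rw [Coprime.mem_conjMap, ← map_inv, ← map_mul, ← map_mul] at h1
    obtain ⟨i, hi, hiq⟩ := Subgroup.mem_map.1 h1
    have hmem : b⁻¹ * s * b ∈ I := by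
      have hn : i⁻¹ * (b⁻¹ * s * b) ∈ N := QuotientGroup.eq.1 hiq
      rw [show b⁻¹ * s * b = i * (i⁻¹ * (b⁻¹ * s * b)) by group]
      exact I.mul_mem hi (le_inertia (isClassFunction_isChar (isCharacter_of_irr hθ)) hn)
    show conjN N s (conjN N b⁻¹ θ) = conjN N b⁻¹ θ
    rw [← conjN_mul, show b⁻¹ * s = b⁻¹ * s * b * b⁻¹ by group, conjN_mul, mem_inertia.1 hmem]

theorem exists_invariant_over (hNG : N ≤ G) (htop : G ⊔ S = ⊤)
    (hcop : (N.relIndex G).Coprime (Nat.card S))
    (hsolv : Group.IsSolvable (G ⧸ N.subgroupOf G))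
    (θ : IrrCharacter N) (hinv : ∀ s ∈ S, conjN N s (θ : N → ℂ) = θ) :
    ∃ χ : IrrCharacter G, classInner (fun n : N => (χ : G → ℂ) ⟨n, hNG n.2⟩) (θ : N → ℂ) ≠ 0 ∧
      ∀ s ∈ S, conjN G s (χ : G → ℂ) = χ := by
  classical
  set I := inertia N (θ : N → ℂ) with hI
  have hNI : N ≤ I := le_inertia (isClassFunction_irr θ)
  have hSI : S ≤ I := fun s hs => mem_inertia.2 (hinv s hs)
  let G2 : Subgroup I := G.subgroupOf I
  let N2 : Subgroup I := N.subgroupOf I
  have : Fintype I := Fintype.ofFinite _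
  have : Fintype G2 := Fintype.ofFinite _
  have : Fintype N2 := Fintype.ofFinite _
  have hN2G2 : N2 ≤ G2 := fun x hx => hNG hx
  let θ2 : N2 → ℂ := fun x => (θ : N → ℂ) (Subgroup.subgroupOfEquivOfLe hNI x)
  have hθ2 : IsIrrCharacter N2 θ2 := IsIrrCharacter.comp_mulEquiv θ.2 _
  have hθ2inv : ∀ x : I, conjN N2 x θ2 = θ2 := fun x => funext fun y => by
    have h := congrFun (mem_inertia.1 x.2) (Subgroup.subgroupOfEquivOfLe hNI y)
    exact h
  have hrel : N2.relIndex G2 ∣ N.relIndex G := by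
    show (N.subgroupOf I).relIndex (G.subgroupOf I) ∣ N.relIndex G
    rw [← inf_subgroupOf_right G, relIndex_subgroupOf inf_le_right]
    have h : N.relIndex (G ⊓ I) * (G ⊓ I).relIndex G = N.relIndex G :=
      relIndex_mul_relIndex _ _ _ (le_inf hNG hNI) inf_le_left
    exact ⟨_, h.symm⟩
  have hidx : G2.index ∣ Nat.card S := by
    refine (Subgroup.relIndex_dvd_index_of_normal G I).trans ?_
    rw [← relIndex_top_right, ← htop, sup_comm, relIndex_sup_right]
    exact Subgroup.relIndex_dvd_card G S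
  have hcop2 : G2.index.Coprime (N2.relIndex G2) :=
    ((hcop.coprime_dvd_left hrel).coprime_dvd_right hidx).symm
  have hd : ∃ d, derivedSeries G2 d ≤ N2.subgroupOf G2 := by
    obtain ⟨d, hd⟩ := hsolv.solvable
    refine ⟨d, fun x hx => ?_⟩
    let f : G2 →* G := ((I.subtype).comp G2.subtype).codRestrict G fun y => y.2
    have h1 : f x ∈ derivedSeries G d := map_derivedSeries_le_derivedSeries f d (mem_map_of_mem f hx)
    have h2 : (QuotientGroup.mk' (N.subgroupOf G)) (f x) ∈ (⊥ : Subgroup _) := by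
      rw [← hd]
      exact map_derivedSeries_le_derivedSeries _ d (mem_map_of_mem _ h1)
    rw [Subgroup.mem_bot] at h2
    exact (QuotientGroup.eq_one_iff (f x)).1 h2
  obtain ⟨ψ, hψ, hψc, hψinv⟩ := InvariantConstituent.exists_inv_of_solvable_section _ I G2 N2
    hN2G2 rfl hcop2 hd θ2 hθ2 hθ2inv
  let T : Subgroup G := inertia (N.subgroupOf G) (down G N hNG (θ : N → ℂ))
  have : Fintype T := Fintype.ofFinite _
  have : Fintype (N.subgroupOf G) := Fintype.ofFinite _
  have hθ' : IsIrrCharacter (N.subgroupOf G) (down G N hNG (θ : N → ℂ)) :=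
    IsIrrCharacter.comp_mulEquiv θ.2 _
  have hmemT : ∀ g : G, g ∈ T ↔ (g : Γ) ∈ I := by
    intro g
    simp only [T, mem_inertia, hI, conjN_down]
    exact ⟨fun h => funext fun n => congrFun h ((Subgroup.subgroupOfEquivOfLe hNG).symm n) |>
      fun h' => by simpa [down] using h', fun h => by rw [h]⟩
  let e : T ≃* G2 :=
    { toFun := fun t => ⟨⟨((t : G) : Γ), (hmemT t).1 t.2⟩, (t : G).2⟩
      invFun := fun y => ⟨⟨((y : I) : Γ), y.2⟩, (hmemT _).2 (y : I).2⟩
      left_inv := fun t => rfl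
      right_inv := fun y => rfl
      map_mul' := fun a b => rfl }
  let ψT : T → ℂ := fun t => ψ (e t)
  have hψT : IsIrrCharacter T ψT := IsIrrCharacter.comp_mulEquiv hψ e
  have hNT : N.subgroupOf G ≤ T := le_inertia (isClassFunction_isChar (isCharacter_of_irr hθ'))
  have hψTc : classInner (fun n : N.subgroupOf G => ψT ⟨n, hNT n.2⟩)
      (down G N hNG (θ : N → ℂ)) ≠ 0 := by
    intro h0
    apply hψc
    rw [← h0]
    let e' : N.subgroupOf G ≃ N2 :=
      ((Subgroup.subgroupOfEquivOfLe hNG).trans (Subgroup.subgroupOfEquivOfLe hNI).symm).toEquiv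
    exact (classInner_comp_equiv e' (fun n : N2 => ψ ⟨n, hN2G2 n.2⟩) θ2).symm
  obtain ⟨χ, hχi, hχψ⟩ : ∃ χ : G → ℂ, IsIrrCharacter G χ ∧
      classInner (fun t : T => χ t) ψT ≠ 0 := by
    by_contra hno
    push Not at hno
    obtain ⟨m, hm⟩ := IsCharacter.exists_decomp (IsCharacter.indFun (G := G) (isCharacter_of_irr hψT))
    have h0 : ∀ χ : IrrCharacter G, m χ = 0 := fun χ => by
      have h := hno χ χ.2
      rw [← frobenius_reciprocity' T ψT (isClassFunction_irr χ), ← classInner_conj_symm, hm] at h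
      simp only [← Nat.cast_smul_eq_nsmul ℂ] at h
      rw [classInner_irrSum (fun φ => (m φ : ℂ)) χ, Complex.conj_natCast] at h
      exact_mod_cast h
    have h1 := congrFun hm 1
    simp [h0, indFun_one] at h1
    exact IsIrrCharacter.apply_one_ne_zero hψT (h1.resolve_left T.index_ne_zero_of_finite)
  have hcorr := clifford_correspondence hθ' T rfl hNT hχi hψT hχψ hψTc
  refine ⟨⟨χ, hχi⟩, ?_, fun s hs => ?_⟩
  · have h := hcorr.2.1
    rw [← classInner_down G N hNG]
    intro h0
    exact hψTc (h.trans h0)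
  · have hs' : s ∈ I := hSI hs
    let σ : T ≃* T :=
      { toFun := fun t => ⟨⟨s * ((t : G) : Γ) * s⁻¹, ‹G.Normal›.conj_mem _ (t : G).2 s⟩,
          (hmemT _).2 (I.mul_mem (I.mul_mem hs' ((hmemT t).1 t.2)) (I.inv_mem hs'))⟩
        invFun := fun t => ⟨⟨s⁻¹ * ((t : G) : Γ) * s, by
            simpa using ‹G.Normal›.conj_mem _ (t : G).2 s⁻¹⟩,
          (hmemT _).2 (I.mul_mem (I.mul_mem (I.inv_mem hs') ((hmemT t).1 t.2)) hs')⟩
        left_inv := fun t => by ext; simp [mul_assoc]
        right_inv := fun t => by ext; simp [mul_assoc]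
        map_mul' := fun a b => by ext; simp [mul_assoc] }
    have hψσ : (fun t : T => ψT (σ t)) = ψT := funext fun t => congrFun (hψinv ⟨s, hs'⟩) (e t)
    have hne : classInner (fun t : T => conjN G s χ t) ψT ≠ 0 := by
      intro h0
      apply hχψ
      rw [← classInner_comp_equiv σ.toEquiv]
      refine Eq.trans ?_ h0
      rw [show (fun t : T => ψT (σ.toEquiv t)) = ψT from hψσ]
      rfl
    exact (clifford_correspondence hθ' T rfl hNT (IsIrrCharacter.conjN hχi s) hψT hne hψTc).1.symm.trans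
      hcorr.1

end Cfsg.Lib.CoprimeInvariant
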