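import Cfsg.Agent.Blocks.BrauerInduction
import Cfsg.Agent.Chars.Inertia
import Cfsg.Agent.OddChar.Coherence
import Cfsg.Agent.Coprime.Sylow

/-!
# Detection of an invariant character by a `p`-elementary subgroup (Dade)
-/

set_option autoImplicit false
set_option linter.unusedSectionVars false

namespace Cfsg.Lib.DadeDetect

open scoped ComplexConjugate
open Cfsg.Lib.Chars Cfsg.Lib.Blocks

universe u

variable {G : Type u} [Group G] [Fintype G]

/-- An integer valued element of the `p`-elementary span that is `1` modulo a high power of `p`. -/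
theorem exists_span_congr_one {p : ℕ} (hp : p.Prime) (a : ℕ) :
    ∃ F : G → ℤ, (fun g => (F g : ℂ)) ∈ indSpan (fun E : Subgroup G => IsElementary p E) ∧
      ∀ g, ((p ^ a : ℕ) : ℤ) ∣ F g - 1 := by
  classical
  let T : AddSubgroup (G → ℤ) :=
    (indSpan (fun E : Subgroup G => IsElementary p E)).comap (AddMonoidHom.compLeft (Int.castAddHom ℂ) G)
  have hmul : ∀ u ∈ T, ∀ v ∈ T, u * v ∈ T := fun u hu v hv => by
    show (fun g => ((u g * v g : ℤ) : ℂ)) ∈ indSpan (fun E : Subgroup G => IsElementary p E)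
    rw [show (fun g => ((u g * v g : ℤ) : ℂ)) =
      (fun g => (u g : ℂ)) * (fun g => (v g : ℂ)) by funext g; simp]
    exact indSpan_mul (indSpan_generalized hu) hv
  have hpt : ∀ x : G, ∃ u ∈ T, ¬ (p : ℤ) ∣ u x := by
    intro x
    obtain ⟨H, hH, hcount⟩ := exists_hyperelementary x hp
    refine ⟨fun g => (fixCount H g : ℤ), ?_, fun hd => hcount (Int.natCast_dvd_natCast.1 hd)⟩
    show (fun g => (((fixCount H g : ℕ) : ℤ) : ℂ)) ∈ indSpan (fun E : Subgroup G => IsElementary p E)
    rw [show (fun g => (((fixCount H g : ℕ) : ℤ) : ℂ)) = indFun H (fun _ => (1 : ℂ)) by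
      funext g; rw [indFun_one_eq_fixCount, Int.cast_natCast]]
    exact indFun_one_mem_indSpan hp hH
  choose u hu hux using hpt
  have hcl : ∀ D D' : G → ℤ, 1 - D ∈ T → 1 - D' ∈ T → 1 - D * D' ∈ T := fun D D' h h' => by
    rw [show 1 - D * D' = (1 - D) + (1 - D') - (1 - D) * (1 - D') by ring]
    exact sub_mem (add_mem h h') (hmul _ h _ h')
  have hone : (1 : G → ℤ) - 1 ∈ T := by rw [sub_self]; exact zero_mem _
  have hpow : ∀ (D : G → ℤ) (n : ℕ), 1 - D ∈ T → 1 - D ^ n ∈ T := fun D n h => by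
    induction n with
    | zero => simpa using hone
    | succ n ih => rw [pow_succ]; exact hcl _ _ ih h
  have hprod : ∀ s : Finset G, 1 - ∏ x ∈ s, (1 - u x ^ (p - 1)) ^ a ∈ T := by
    intro s
    induction s using Finset.induction_on with
    | empty => simpa using hone
    | insert x s hxs ih =>
      rw [Finset.prod_insert hxs]
      refine hcl _ _ (hpow _ a ?_) ih
      rw [sub_sub_cancel]
      obtain ⟨m, hm⟩ : ∃ m, p - 1 = m + 1 := ⟨p - 2, by have := hp.two_le; omega⟩
      rw [hm]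
      clear hm
      induction m with
      | zero => simpa using hu x
      | succ m ihm => rw [pow_succ]; exact hmul _ ihm _ (hu x)
  refine ⟨1 - ∏ x, (1 - u x ^ (p - 1)) ^ a, hprod Finset.univ, fun g => ?_⟩
  haveI := Fact.mk hp
  have h1 : (p : ℤ) ∣ 1 - u g g ^ (p - 1) := by
    rw [← ZMod.intCast_zmod_eq_zero_iff_dvd]
    push_cast
    rw [ZMod.pow_card_sub_one_eq_one (fun h => hux g ((ZMod.intCast_zmod_eq_zero_iff_dvd _ _).mp h)),
      sub_self]
  have h2 : ((p ^ a : ℕ) : ℤ) ∣ (∏ x, (1 - u x ^ (p - 1)) ^ a : G → ℤ) g := by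
    rw [Finset.prod_apply]
    refine dvd_trans ?_ (Finset.dvd_prod_of_mem _ (Finset.mem_univ g))
    push_cast
    exact pow_dvd_pow_of_dvd h1 a
  simpa [Pi.sub_apply] using h2.neg_right

variable {p : ℕ}

/-- A sum of an invariant function over the irreducible characters of a normal subgroup of
`p`-power index is divisible by `p` once the fixed points contribute multiples of `p`. -/
theorem dvd_sum_invariant {A : Type u} [Group A] [Fintype A] (hp : p.Prime) (K : Subgroup A) [K.Normal]
    [Fintype K] (hidx : ∃ k, K.index = p ^ k) (w : Cfsg.IrrCharacter K → ℤ)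
    (hw : ∀ (g : A) (φ : Cfsg.IrrCharacter K),
      w ⟨conjN K g φ, IsIrrCharacter.conjN φ.2 g⟩ = w φ)
    (hfix : ∀ φ : Cfsg.IrrCharacter K, (∀ g : A, conjN K g φ = (φ : K → ℂ)) → (p : ℤ) ∣ w φ) :
    (p : ℤ) ∣ ∑ φ, w φ := by
  classical
  obtain ⟨k, hk⟩ := hidx
  rw [← Finset.sum_fiberwise_of_maps_to (s := Finset.univ)
    (t := Finset.univ.image fun φ : Cfsg.IrrCharacter K => conjOrbit K (φ : K → ℂ))
    (g := fun φ : Cfsg.IrrCharacter K => conjOrbit K (φ : K → ℂ))
    (fun φ _ => Finset.mem_image_of_mem _ (Finset.mem_univ φ))]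
  refine Finset.dvd_sum fun O hO => ?_
  obtain ⟨φ₀, -, rfl⟩ := Finset.mem_image.mp hO
  by_cases hf : ∀ g : A, conjN K g φ₀ = (φ₀ : K → ℂ)
  · refine Finset.dvd_sum fun φ hφ => ?_
    have h1 : (φ : K → ℂ) ∈ conjOrbit K (φ₀ : K → ℂ) := by
      rw [← (Finset.mem_filter.mp hφ).2]
      exact (mem_conjOrbit K).mpr ⟨1, conjN_one K _⟩
    obtain ⟨g, hg⟩ := (mem_conjOrbit K).mp h1
    rw [hf g] at hg
    rw [show φ = φ₀ from Subtype.ext hg.symm]
    exact hfix φ₀ hf
  · set O := conjOrbit K (φ₀ : K → ℂ)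
    have hcomp : ∀ (g : A) (ψ : K → ℂ), conjOrbit K (conjN K g ψ) = conjOrbit K ψ := by
      intro g ψ
      ext ξ
      rw [mem_conjOrbit, mem_conjOrbit]
      constructor
      · rintro ⟨h, rfl⟩; exact ⟨g * h, conjN_mul K g h ψ⟩
      · rintro ⟨h, rfl⟩; exact ⟨g⁻¹ * h, by rw [← conjN_mul, mul_inv_cancel_left]⟩
    have hval : ∀ φ ∈ Finset.univ.filter (fun φ : Cfsg.IrrCharacter K => conjOrbit K (φ : K → ℂ) = O),
        w φ = w φ₀ := by
      intro φ hφ
      have h1 : (φ : K → ℂ) ∈ O := by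
        rw [← (Finset.mem_filter.mp hφ).2]
        exact (mem_conjOrbit K).mpr ⟨1, conjN_one K _⟩
      obtain ⟨g, hg⟩ := (mem_conjOrbit K).mp h1
      rw [← hw g φ₀]
      congr 1
      exact Subtype.ext hg.symm
    have hcard : (Finset.univ.filter (fun φ : Cfsg.IrrCharacter K => conjOrbit K (φ : K → ℂ) = O)).card =
        O.card := by
      refine Finset.card_bij (fun φ _ => (φ : K → ℂ)) (fun φ hφ => ?_) (fun _ _ _ _ h => Subtype.ext h)
        (fun ψ hψ => ?_)
      · rw [← (Finset.mem_filter.mp hφ).2]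
        exact (mem_conjOrbit K).mpr ⟨1, conjN_one K _⟩
      · obtain ⟨g, rfl⟩ := (mem_conjOrbit K).mp hψ
        exact ⟨⟨_, IsIrrCharacter.conjN φ₀.2 g⟩, Finset.mem_filter.mpr ⟨Finset.mem_univ _, hcomp g _⟩, rfl⟩
    rw [Finset.sum_congr rfl hval, Finset.sum_const, hcard, nsmul_eq_mul]
    refine Dvd.dvd.mul_right ?_ _
    have h1 := card_conjOrbit K (φ₀ : K → ℂ)
    rw [← (inertia K (φ₀ : K → ℂ)).index_mul_card] at h1
    rw [Nat.eq_of_mul_eq_mul_right Nat.card_pos h1, Int.natCast_dvd_natCast]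
    have hd : (inertia K (φ₀ : K → ℂ)).index ∣ p ^ k :=
      hk ▸ Subgroup.index_dvd_of_le (le_inertia (isClassFunction_isChar (isCharacter_of_irr φ₀.2)))
    obtain ⟨j, -, hj⟩ := (Nat.dvd_prime_pow hp).mp hd
    rw [hj]
    refine dvd_pow_self p fun hj0 => hf fun g => ?_
    rw [hj0, pow_zero, Subgroup.index_eq_one] at hj
    exact mem_inertia.mp (hj ▸ Subgroup.mem_top g)

/-- Dade's lemma. -/
theorem exists_detect (hp : p.Prime) (N : Subgroup G) [N.Normal] [Fintype N]
    (hind : ∃ k, N.index = p ^ k) {ϑ : N → ℂ} (hϑ : Cfsg.IsIrrCharacter N ϑ)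
    (hinv : ∀ g : G, conjN N g ϑ = ϑ) :
    ∃ (E : Subgroup G) (_ : Fintype (N.subgroupOf E)) (φ : N.subgroupOf E → ℂ), Cfsg.IsElementary p E ∧
      E ⊔ N = ⊤ ∧ Cfsg.IsIrrCharacter (N.subgroupOf E) φ ∧ (∀ g : E, conjN (N.subgroupOf E) g φ = φ) ∧
      ∃ m : ℕ, ¬ p ∣ m ∧
        Cfsg.classInner (fun x : N.subgroupOf E => ϑ ⟨((x : E) : G), x.2⟩) φ = (m : ℂ) := by
  classical
  by_contra hcon
  obtain ⟨k, hk⟩ := hind
  set v : G → ℂ := fun g => if h : g ∈ N then ϑ ⟨g, h⟩ * conj (ϑ ⟨g, h⟩) else 0 with hv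
  have hvinv : ∀ g x : G, v (x⁻¹ * g * x) = v g := by
    intro g x
    have hmem : x⁻¹ * g * x ∈ N ↔ g ∈ N := ⟨fun h => by
      have := (inferInstance : N.Normal).conj_mem _ h x
      simpa [mul_assoc] using this, fun h => by
      have := (inferInstance : N.Normal).conj_mem _ h x⁻¹
      simpa using this⟩
    by_cases hg : g ∈ N
    · simp only [hv, dif_pos hg, dif_pos (hmem.mpr hg)]
      have h1 := congrFun (hinv x⁻¹) ⟨g, hg⟩
      simp only [conjN, inv_inv] at h1
      rw [← h1]
    · simp only [hv, dif_neg hg, dif_neg (fun h => hg (hmem.mp h))]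
  -- the pairing
  set L : (G → ℂ) → ℂ := fun ψ => (Nat.card N : ℂ)⁻¹ * ∑ g : G, v g * ψ g with hL
  have key : ∀ ψ ∈ indSpan (fun E : Subgroup G => IsElementary p E),
      ∃ z : ℤ, L ψ = ((p : ℤ) * z : ℤ) := by
    intro ψ hψ
    induction hψ using AddSubgroup.closure_induction with
    | zero => exact ⟨0, by simp [hL]⟩
    | add a b _ _ ha hb =>
      obtain ⟨z, hz⟩ := ha
      obtain ⟨z', hz'⟩ := hb
      refine ⟨z + z', ?_⟩
      have : L (a + b) = L a + L b := by
        simp [hL, mul_add, Finset.sum_add_distrib]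
      rw [this, hz, hz']; push_cast; ring
    | neg a _ ha =>
      obtain ⟨z, hz⟩ := ha
      refine ⟨-z, ?_⟩
      have : L (-a) = -L a := by simp [hL]
      rw [this, hz]; push_cast; ring
    | mem ψ hψ =>
      obtain ⟨E, θ, hE, hθ, rfl⟩ := hψ
      set K := N.subgroupOf E
      have := Fintype.ofFinite E
      have := Fintype.ofFinite K
      set r : K → ℂ := fun x => ϑ ⟨((x : E) : G), x.2⟩ with hr
      have hrc : Cfsg.IsCharacter K r := by
        have := IsCharacter.comp_hom (isCharacter_of_irr hϑ)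
          ((E.subtype.comp K.subtype).codRestrict N fun x => x.2)
        exact this
      have hθc := isClassFunction_generalized hθ
      -- value of the pairing
      have hval : L (Cfsg.indFun E θ) = ((Nat.card G : ℂ) * (Nat.card K : ℂ) /
          ((Nat.card N : ℂ) * Nat.card E)) * Cfsg.classInner (fun x : K => θ x * r x) r := by
        have h1 : ∀ x : G, ∑ g : G, v g * Cfsg.extendByZero E θ (x⁻¹ * g * x) =
            ∑ g : G, Cfsg.extendByZero E θ g * v g := fun x => by
          refine Fintype.sum_equiv (MulAut.conj x⁻¹).toEquiv _ _ fun g => ?_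
          simp only [MulEquiv.toEquiv_eq_coe, MulEquiv.coe_toEquiv, MulAut.conj_apply, inv_inv]
          rw [hvinv, mul_comm]
        have h2 : ∑ g : G, v g * Cfsg.indFun E θ g =
            (Nat.card E : ℂ)⁻¹ * ((Nat.card G : ℂ) * ∑ e : E, θ e * v e) := by
          simp only [indFun_apply, ← mul_assoc, mul_comm (v _) (Nat.card E : ℂ)⁻¹]
          rw [Finset.sum_congr rfl (g := fun g => (Nat.card E : ℂ)⁻¹ *
            ∑ x : G, v g * Cfsg.extendByZero E θ (x⁻¹ * g * x)) (fun g _ => by
              rw [mul_assoc, Finset.mul_sum]), ← Finset.mul_sum, Finset.sum_comm,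
            Finset.sum_congr rfl fun x _ => h1 x, Finset.sum_const, Finset.card_univ, nsmul_eq_mul,
            ← Nat.card_eq_fintype_card, sum_extendByZero]
          ring
        have h3 : ∑ e : E, θ e * v e = ∑ x : K, θ x * r x * conj (r x) := by
          rw [← Finset.sum_subset (Finset.subset_univ (Finset.univ.filter fun e : E => e ∈ K))
              (fun e _ he => by
                have : (e : G) ∉ N := fun h => (by simpa using he : e ∉ K) h
                simp [hv, this]),
            Finset.sum_subtype (p := fun e => e ∈ K) _ (fun e => by simp)]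
          refine Finset.sum_congr rfl fun x _ => ?_
          have hx : ((x : E) : G) ∈ N := x.2
          simp [hv, hr, hx, mul_assoc]
        simp only [hL]
        rw [h2, h3, classInner_def]
        have hK0 : (Nat.card K : ℂ) ≠ 0 := by exact_mod_cast Nat.card_pos.ne'
        field_simp
      -- the coefficient is the index of `E ⊔ N`
      have hEN : E ≤ Subgroup.normalizer (N : Set G) := by rw [Subgroup.normalizer_eq_top]; exact le_top
      have hco : (Nat.card G : ℂ) * (Nat.card K : ℂ) / ((Nat.card N : ℂ) * Nat.card E) =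
          ((E ⊔ N).index : ℂ) := by
        have h1 := Cfsg.Lib.Coprime.card_sup_mul_card_inf (N := N) (H := E) hEN
        have h3 : Nat.card ↥(N ⊓ E) = Nat.card K := by
          rw [inf_comm]
          exact Nat.card_congr
            ⟨fun x => ⟨⟨x, x.2.1⟩, x.2.2⟩, fun x => ⟨((x : E) : G), ⟨(x : E).2, x.2⟩⟩, fun x => rfl, fun x => rfl⟩
        rw [h3, sup_comm] at h1
        have h4 := (E ⊔ N).index_mul_card
        rw [div_eq_iff (mul_ne_zero (by exact_mod_cast Nat.card_pos.ne') (by exact_mod_cast Nat.card_pos.ne'))]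
        exact_mod_cast (by rw [← h4, ← h1]; ring :
          Nat.card G * Nat.card K = (E ⊔ N).index * (Nat.card N * Nat.card E))
      obtain ⟨z, hz⟩ := Cfsg.Lib.Coherence.inner_int
        (IsGeneralizedCharacter.mul (IsGeneralizedCharacter.comp_hom hθ K.subtype) (IsCharacter.isGeneralized hrc))
        (IsCharacter.isGeneralized hrc)
      have hz' : Cfsg.classInner (fun x : K => θ x * r x) r = (z : ℂ) := hz
      rw [hval, hco, hz']
      by_cases htop : E ⊔ N = ⊤
      swap
      · have hd : (E ⊔ N).index ∣ p ^ k := hk ▸ Subgroup.index_dvd_of_le le_sup_right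
        obtain ⟨j, -, hj⟩ := (Nat.dvd_prime_pow hp).mp hd
        cases j with
        | zero => exact absurd (Subgroup.index_eq_one.mp (by rw [hj, pow_zero])) htop
        | succ j => exact ⟨(p : ℤ) ^ j * z, by rw [hj]; push_cast; ring⟩
      rw [htop, Subgroup.index_top, Nat.cast_one, one_mul]
      suffices hdz : (p : ℤ) ∣ z by obtain ⟨z', rfl⟩ := hdz; exact ⟨z', rfl⟩
      choose m hm using fun φ : Cfsg.IrrCharacter K => IsCharacter.exists_mult hrc φ.2
      have hdec : r = ∑ φ : Cfsg.IrrCharacter K, (m φ : ℂ) • (φ : K → ℂ) := by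
        rw [classFunction_expand (isClassFunction_isChar hrc)]
        exact Finset.sum_congr rfl fun φ _ => by rw [hm]
      choose c hc using fun φ : Cfsg.IrrCharacter K => Cfsg.Lib.Coherence.inner_int
        (IsGeneralizedCharacter.mul (IsGeneralizedCharacter.comp_hom hθ K.subtype)
          (IsCharacter.isGeneralized (isCharacter_of_irr φ.2)))
        (IsCharacter.isGeneralized hrc)
      have hrinv : ∀ g : E, conjN K g r = r := fun g => funext fun x => congrFun (hinv (g : G)) ⟨((x : E) : G), x.2⟩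
      have hθinv : ∀ (g : E) (x : K), θ (g * (x : E) * g⁻¹) = θ x := fun g x => hθc x g
      have hcinv : ∀ (g : E) (φ : Cfsg.IrrCharacter K),
          c ⟨conjN K g φ, IsIrrCharacter.conjN φ.2 g⟩ = c φ ∧ m ⟨conjN K g φ, IsIrrCharacter.conjN φ.2 g⟩ = m φ := by
        intro g φ
        refine ⟨Int.cast_injective (α := ℂ) ?_, Nat.cast_injective (R := ℂ) ?_⟩
        · rw [← hc, ← hc]
          conv_lhs => arg 2; rw [← hrinv g]
          rw [show ((fun x : K => θ (K.subtype x)) * conjN K g φ) =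
            conjN K g ((fun x : K => θ (K.subtype x)) * (φ : K → ℂ)) from
            funext fun x => by simp only [Pi.mul_apply, conjN, Subgroup.coe_subtype, hθinv]]
          exact classInner_conjN g _ _
        · rw [← hm, ← hm]
          conv_lhs => arg 1; rw [← hrinv g]
          exact classInner_conjN g _ _
      have hsum : z = ∑ φ, (m φ : ℤ) * c φ := by
        apply Int.cast_injective (α := ℂ)
        rw [← hz']
        conv_lhs => arg 1; ext x; arg 2; rw [hdec]
        rw [show (fun x : K => θ x * (∑ φ : Cfsg.IrrCharacter K, (m φ : ℂ) • (φ : K → ℂ)) x) =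
          ∑ φ : Cfsg.IrrCharacter K, (m φ : ℂ) • ((fun x : K => θ x) * (φ : K → ℂ)) from funext fun x => by
            simp only [Finset.sum_apply, Pi.smul_apply, Pi.mul_apply, smul_eq_mul, Finset.mul_sum]
            exact Finset.sum_congr rfl fun φ _ => by ring, classInner_sum_left]
        push_cast
        refine Finset.sum_congr rfl fun φ _ => ?_
        rw [classInner_smul_left]
        exact congrArg _ (hc φ)
      rw [hsum]
      refine dvd_sum_invariant hp K ?_ _ (fun g φ => by rw [(hcinv g φ).1, (hcinv g φ).2]) fun φ hφ => ?_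
      · have hd : K.index ∣ p ^ k := hk ▸ Subgroup.relIndex_dvd_index_of_normal N E
        obtain ⟨j, -, hj⟩ := (Nat.dvd_prime_pow hp).mp hd
        exact ⟨j, hj⟩
      · by_contra hnd
        refine hcon ⟨E, inferInstance, φ, hE, htop, φ.2, hφ, m φ, fun hd => hnd ?_, hm φ⟩
        exact (Int.natCast_dvd_natCast.mpr hd).mul_right _
  obtain ⟨F, hF, hF1⟩ := exists_span_congr_one (G := G) hp (Nat.card N)
  obtain ⟨z, hz⟩ := key _ hF
  choose D hD using hF1
  have hsq : IsIntegral ℤ (∑ g : G, v g * (D g : ℂ)) := by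
    refine IsIntegral.sum _ fun g _ => ?_
    refine IsIntegral.mul ?_ isIntegral_algebraMap
    by_cases hg : g ∈ N
    · simp only [hv, dif_pos hg]
      rw [← IsCharacter.conj_inv (isCharacter_of_irr hϑ)]
      exact (IsCharacter.isIntegral (isCharacter_of_irr hϑ) _).mul (IsCharacter.isIntegral (isCharacter_of_irr hϑ) _)
    · simp only [hv, dif_neg hg]
      exact isIntegral_zero
  have hvsum : ∑ g : G, v g = (Nat.card N : ℂ) := by
    have h1 := classInner_self_irr hϑ
    rw [classInner_def, inv_mul_eq_iff_eq_mul₀ (by exact_mod_cast Nat.card_pos.ne'), mul_one] at h1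
    rw [← h1, ← Finset.sum_subset (Finset.subset_univ (Finset.univ.filter fun g : G => g ∈ N))
        (fun g _ hg => by simp only [hv, dif_neg (by simpa using hg)]),
      Finset.sum_subtype (p := fun g => g ∈ N) _ (fun g => by simp)]
    exact Finset.sum_congr rfl fun n _ => by simp [hv]
  have hFg : ∀ g, (F g : ℂ) = 1 + ((p : ℂ) ^ Nat.card N) * (D g : ℂ) := fun g => by
    have h1 : F g = 1 + ((p ^ Nat.card N : ℕ) : ℤ) * D g := by linarith [hD g]
    rw [h1]; push_cast; ring
  have hLF : (Nat.card N : ℂ) * (((p : ℤ) * z : ℤ) - 1) = (p : ℂ) ^ Nat.card N * ∑ g : G, v g * (D g : ℂ) := by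
    rw [← hz]
    have hne : (Nat.card N : ℂ) ≠ 0 := by exact_mod_cast Nat.card_pos.ne'
    have h1 : ∑ g : G, v g * ((p : ℂ) ^ Nat.card N * (D g : ℂ)) =
        (p : ℂ) ^ Nat.card N * ∑ g : G, v g * (D g : ℂ) := by
      rw [Finset.mul_sum]
      exact Finset.sum_congr rfl fun g _ => by ring
    simp only [hL, hFg, mul_add, Finset.sum_add_distrib, mul_one, hvsum, h1]
    field_simp
    ring
  set n := Nat.card N with hn
  have hq : ((((n : ℚ) * (((p : ℤ) * z : ℤ) - 1)) / (p : ℚ) ^ n : ℚ) : ℂ) = ∑ g : G, v g * (D g : ℂ) := by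
    have hp0 : (p : ℂ) ^ n ≠ 0 := pow_ne_zero _ (by exact_mod_cast hp.ne_zero)
    push_cast at hLF ⊢
    rw [div_eq_iff hp0, hLF]
    ring
  rw [← hq] at hsq
  obtain ⟨y, hy⟩ := int_of_isIntegral_rat hsq
  rw [div_eq_iff (pow_ne_zero _ (by exact_mod_cast hp.ne_zero))] at hy
  have hy' : (n : ℤ) * ((p : ℤ) * z - 1) = y * (p : ℤ) ^ n := by exact_mod_cast hy
  have hn0 : n ≠ 0 := Nat.card_pos.ne'
  have hcp : IsCoprime ((p : ℤ) ^ n) ((p : ℤ) * z - 1) :=
    IsCoprime.pow_left ⟨z, -1, by ring⟩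
  have hdn : ((p : ℤ) ^ n) ∣ (n : ℤ) := hcp.dvd_of_dvd_mul_right ⟨y, by rw [hy']; ring⟩
  have h2 : p ^ n ∣ n := by exact_mod_cast hdn
  exact absurd (Nat.le_of_dvd (Nat.pos_of_ne_zero hn0) h2) (Nat.lt_pow_self hp.one_lt).not_ge

end Cfsg.Lib.DadeDetect
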