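import Cfsg.Agent.Chars.TwoDegrees
import Cfsg.Agent.Blocks.Monomial
import Cfsg.Agent.Blocks.ItoDegrees
import Cfsg.Agent.Blocks.SubsectionColumns
import Cfsg.Agent.OddChar.InducedFamily
import Cfsg.Agent.S0169
import Cfsg.Agent.S0179
import Mathlib

/-!
# Groups with character degrees `1` and `p`

Such a group has an abelian normal subgroup of index `p` or a centre of index `p ^ 3`, and conversely.
-/

namespace Cfsg.Lib.Chars

open scoped commutatorElement

universe u

variable {G : Type u} [Group G]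

/-- Closure of commuting sets. -/
theorem closure_comm (s : Set G) (hs : ∀ x ∈ s, ∀ y ∈ s, x * y = y * x) :
    ∀ x ∈ Subgroup.closure s, ∀ y ∈ Subgroup.closure s, x * y = y * x := by
  intro x hx y hy
  haveI := Subgroup.isMulCommutative_closure hs
  exact congrArg Subtype.val
    (IsMulCommutative.is_comm.comm (⟨x, hx⟩ : Subgroup.closure s) ⟨y, hy⟩)

/-- A maximal abelian subgroup over a commuting set. -/
theorem exists_self_centralizing [Finite G] (s : Set G) (hs : ∀ x ∈ s, ∀ y ∈ s, x * y = y * x) :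
    ∃ A : Subgroup G, s ⊆ A ∧ (∀ x ∈ A, ∀ y ∈ A, x * y = y * x) ∧
      ∀ g : G, (∀ a ∈ A, g * a = a * g) → g ∈ A := by
  classical
  letI : Fintype (Subgroup G) := Fintype.ofFinite _
  obtain ⟨A, hA, hmax⟩ := Finset.exists_max_image
    (Finset.univ.filter fun A : Subgroup G => s ⊆ A ∧ ∀ x ∈ A, ∀ y ∈ A, x * y = y * x)
    (fun A : Subgroup G => Nat.card A)
    ⟨Subgroup.closure s, Finset.mem_filter.2
      ⟨Finset.mem_univ _, Subgroup.subset_closure, closure_comm s hs⟩⟩
  obtain ⟨-, hsA, hab⟩ := Finset.mem_filter.1 hA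
  refine ⟨A, hsA, hab, fun g hg => ?_⟩
  have hle : A ≤ Subgroup.closure (insert g (A : Set G)) :=
    fun a ha => Subgroup.subset_closure (Set.mem_insert_of_mem _ ha)
  have h := hmax (Subgroup.closure (insert g (A : Set G))) (Finset.mem_filter.2 ⟨Finset.mem_univ _,
    fun a ha => hle (hsA ha), closure_comm _ ?_⟩)
  · rw [Subgroup.eq_of_le_of_card_ge hle h]
    exact Subgroup.subset_closure (Set.mem_insert _ _)
  · rintro x (rfl | hx) y (rfl | hy)
    · rfl
    · exact hg y hy
    · exact (hg x hx).symm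
    · exact hab x hx y hy

/-- A product of a normal `p`-subgroup and an abelian normal subgroup meeting trivially is nilpotent. -/
theorem isNilpotent_of_product [Finite G] {p : ℕ} [Fact p.Prime] (P A : Subgroup G) (hPn : P.Normal)
    (hAn : A.Normal) (hPp : IsPGroup p P) (hAab : ∀ a ∈ A, ∀ b ∈ A, a * b = b * a)
    (hinf : P ⊓ A = ⊥) (hsup : P ⊔ A = ⊤) : Group.IsNilpotent G := by
  have hAZ : A ≤ Subgroup.center G := fun a ha => Subgroup.mem_center_iff.2 fun g => by
    have hg : g ∈ P ⊔ A := hsup ▸ Subgroup.mem_top g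
    obtain ⟨u, hu, v, hv, rfl⟩ := Subgroup.mem_sup_of_normal_left.1 hg
    have h1 : Commute u a :=
      Subgroup.commute_of_normal_of_disjoint P A hPn hAn (disjoint_iff.2 hinf) u a hu ha
    exact (h1.mul_left (hAab v hv a ha)).eq
  have hQ : IsPGroup p (G ⧸ Subgroup.center G) := fun x => by
    obtain ⟨g, rfl⟩ := QuotientGroup.mk_surjective x
    have hg : g ∈ P ⊔ A := hsup ▸ Subgroup.mem_top g
    obtain ⟨u, hu, v, hv, rfl⟩ := Subgroup.mem_sup_of_normal_left.1 hg
    obtain ⟨k, hk⟩ := hPp ⟨u, hu⟩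
    refine ⟨k, ?_⟩
    rw [QuotientGroup.mk_mul, (QuotientGroup.eq_one_iff v).2 (hAZ hv), mul_one,
      ← QuotientGroup.mk_pow, show u ^ p ^ k = 1 from congrArg Subtype.val hk, QuotientGroup.mk_one]
  exact Group.of_quotient_center_nilpotent hQ.isNilpotent

variable [Fintype G] {p : ℕ}

/-- An abelian self-centralising subgroup over all commutators and `p`-th powers has centre part of index
`p`. -/
theorem center_part_of_self_centralizing (hp : p.Prime)
    (hcd : ∀ χ : G → ℂ, Cfsg.IsIrrCharacter G χ → deg χ = 1 ∨ deg χ = p)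
    (A : Subgroup G) (hab : ∀ x ∈ A, ∀ y ∈ A, x * y = y * x)
    (hmax : ∀ g : G, (∀ a ∈ A, g * a = a * g) → g ∈ A) (hcomm : ∀ x y : G, ⁅x, y⁆ ∈ A)
    (hpow : ∀ x : G, x ^ p ∈ A) (hidx : A.index ≠ p) (htop : A ≠ ⊤) :
    ∃ a ∈ A, a ∉ Subgroup.center G ∧ a ^ p ∈ Subgroup.center G ∧
      ∀ e ∈ A, ∃ i < p, (a ^ i)⁻¹ * e ∈ Subgroup.center G := by
  classical
  haveI hAn : A.Normal := ⟨fun x hx g => by
    have := A.mul_mem (hcomm g x) hx
    rwa [commutatorElement_def, inv_mul_cancel_right] at this⟩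
  haveI : Fintype A := Fintype.ofFinite A
  set cj : G → A →* A := fun g => ((MulAut.conj g).toMonoidHom.comp A.subtype).codRestrict A
    (fun e => hAn.conj_mem e e.2 g) with hcj
  have hcjv : ∀ (g : G) (e : A), ((cj g e : A) : G) = g * e * g⁻¹ := fun g e => rfl
  have hcjmul : ∀ (g h : G) (e : A), cj (g * h) e = cj g (cj h e) := fun g h e =>
    Subtype.ext (by simp [hcjv, mul_assoc])
  have hcjone : ∀ e : A, cj 1 e = e := fun e => Subtype.ext (by simp [hcjv])
  have hcjA : ∀ g ∈ A, ∀ e : A, cj g e = e := fun g hg e => Subtype.ext (by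
    rw [hcjv, hab g hg e e.2, mul_inv_cancel_right])
  let St : (A →* ℂˣ) → Subgroup G := fun f =>
    { carrier := {g | ∀ e, f (cj g e) = f e}
      one_mem' := fun e => by rw [hcjone]
      mul_mem' := fun {x y} hx hy e => by rw [hcjmul, hx, hy]
      inv_mem' := fun {x} hx e => by
        conv_lhs => rw [← hx, ← hcjmul, mul_inv_cancel, hcjone] }
  have hASt : ∀ f, A ≤ St f := fun f g hg e => by rw [hcjA g hg]
  have hnorm : ∀ U : Subgroup G, A ≤ U → U.Normal := fun U hU => ⟨fun x hx g => by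
    have := U.mul_mem (hU (hcomm g x)) hx
    rwa [commutatorElement_def, inv_mul_cancel_right] at this⟩
  have hindex : ∀ f, St f ≠ ⊤ → (St f).index = p := by
    intro f hf
    have hθ : Cfsg.IsIrrCharacter A (fun e => (f e : ℂ)) := isIrrCharacter_linear f
    obtain ⟨χ, hχ, hc⟩ := exists_over A hθ
    obtain ⟨t, ht⟩ := Cfsg.Lib.Blocks.deg_eq_mult_orbit A hχ hθ hc
    have heq : inertia A (fun e : A => (f e : ℂ)) = St f := by
      ext g
      rw [mem_inertia, funext_iff]
      exact forall_congr' fun e => ⟨fun h => Units.ext h, fun h => congrArg Units.val h⟩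
    have h2 := card_conjOrbit A (fun e : A => (f e : ℂ))
    rw [heq, ← (St f).index_mul_card] at h2
    have h3 := Nat.eq_of_mul_eq_mul_right Nat.card_pos h2
    have h4 : deg (fun e : A => (f e : ℂ)) = 1 := by simp [deg]
    rw [h4, mul_one, h3] at ht
    rcases hcd χ hχ with h | h
    · exact absurd (Subgroup.index_eq_one.1 (Nat.eq_one_of_mul_eq_one_left (ht.symm.trans h))) hf
    · rcases (Nat.dvd_prime hp).1 (Dvd.intro_left t (ht.symm.trans h)) with h' | h'
      · exact absurd (Subgroup.index_eq_one.1 h') hf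
      · exact h'
  have hmaxl : ∀ (f : A →* ℂˣ) (U : Subgroup G), St f ≠ ⊤ → St f < U → U = ⊤ := by
    intro f U hf hlt
    refine Subgroup.index_eq_one.1 ?_
    rcases (Nat.dvd_prime hp).1 ((hindex f hf) ▸ Subgroup.index_dvd_of_le hlt.le) with h | h
    · exact h
    · exact absurd (Subgroup.index_strictAnti hlt) (by rw [h, hindex f hf]; exact lt_irrefl _)
  have hcent : ∀ S : Subgroup G, (∀ f, S ≤ St f) → S ≤ A := by
    intro S hS g hg
    refine hmax g fun a ha => ?_
    have h1 : (⟨a, ha⟩ : A)⁻¹ * cj g ⟨a, ha⟩ = 1 := by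
      refine isConj_one_right.mp ((isConj_iff_forall_irr 1 _).mpr fun χ => ?_)
      obtain ⟨f, hf⟩ := exists_hom_of_deg_one (isCharacter_of_irr χ.2)
        (irr_deg_one_of_comm (fun x y => Subtype.ext (hab x x.2 y y.2)) χ.2)
      simp [hf, hS f hg ⟨a, ha⟩]
    have h2 : g * a * g⁻¹ = a := by
      have h3 := congrArg Subtype.val (inv_mul_eq_one.1 h1)
      rw [hcjv] at h3
      exact h3.symm
    exact mul_inv_eq_iff_eq_mul.1 h2
  obtain ⟨l, hl⟩ : ∃ f, St f ≠ ⊤ := by
    by_contra h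
    push Not at h
    exact htop (eq_top_iff.2 (hcent ⊤ fun f => (h f).ge))
  obtain ⟨m, hm, hne⟩ : ∃ f, St f ≠ ⊤ ∧ St f ≠ St l := by
    by_contra h
    push Not at h
    refine hidx ?_
    have hle : St l ≤ A := hcent _ fun f => by
      by_cases hf : St f = ⊤
      · rw [hf]; exact le_top
      · rw [h f hf]
    rw [le_antisymm (hASt l) hle]
    exact hindex l hl
  -- the common commutator character
  let Tw : (A →* ℂˣ) → (A →* ℂˣ) → G → Prop := fun d f g =>
    ∃ i : ℤ, ∀ e, f (cj g e) = f e * d e ^ i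
  have hgen : ∀ (d f : A →* ℂˣ), St d = ⊤ → St f ≠ ⊤ → ∀ q, q ∉ St f → Tw d f q →
      ∀ g, Tw d f g := by
    intro d f hd hf q hq hqd
    have hdfix : ∀ g e, d (cj g e) = d e := fun g e => (hd.ge (Subgroup.mem_top g) : g ∈ St d) e
    let W : Subgroup G :=
      { carrier := {g | Tw d f g}
        one_mem' := ⟨0, fun e => by rw [hcjone, zpow_zero, mul_one]⟩
        mul_mem' := fun {x y} ⟨i, hi⟩ ⟨j, hj⟩ => ⟨j + i, fun e => by
          rw [hcjmul, hi, hdfix, hj, zpow_add, mul_assoc]⟩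
        inv_mem' := fun {x} ⟨i, hi⟩ => ⟨-i, fun e => by
          have h := hi (cj x⁻¹ e)
          rw [← hcjmul, mul_inv_cancel, hcjone, hdfix] at h
          rw [zpow_neg, h, mul_inv_cancel_right]⟩ }
    have hW : W = ⊤ := hmaxl f W hf (lt_of_le_of_ne
      (fun g hg => ⟨0, fun e => by rw [hg e, zpow_zero, mul_one]⟩)
      fun h => hq (h.ge (show q ∈ W from hqd)))
    exact fun g => (hW.ge (Subgroup.mem_top g) : g ∈ W)
  have hpair : ∀ f₁ f₂ : A →* ℂˣ, St f₁ ≠ ⊤ → St f₂ ≠ ⊤ → St f₁ ≠ St f₂ →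
      ∃ (q : G) (d : A →* ℂˣ), q ∉ St f₁ ∧ q ∉ St f₂ ∧ St d = ⊤ ∧
        (∀ e, f₁ (cj q e) = f₁ e * d e) ∧ ∀ e, f₂ (cj q e) = f₂ e * (d e)⁻¹ := by
    intro f₁ f₂ h₁ h₂ h12
    obtain ⟨q, hq, hq1⟩ : ∃ q ∈ St (f₁ * f₂), q ∉ St f₁ := by
      by_contra h
      push Not at h
      have hle : St (f₁ * f₂) ≤ St f₁ := h
      have hU : St (f₁ * f₂) ≠ ⊤ := fun h' => h₁ (top_le_iff.1 (h' ▸ hle))
      have heq : St (f₁ * f₂) = St f₁ := by
        by_contra hne'
        have := Subgroup.index_strictAnti (lt_of_le_of_ne hle hne')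
        rw [hindex _ hU, hindex _ h₁] at this
        exact lt_irrefl _ this
      have hle2 : St f₁ ≤ St f₂ := fun g hg e => by
        have h' := (heq.ge hg : g ∈ St (f₁ * f₂)) e
        simpa [hg e] using h'
      exact h12 (by
        by_contra hne'
        have := Subgroup.index_strictAnti (lt_of_le_of_ne hle2 hne')
        rw [hindex _ h₁, hindex _ h₂] at this
        exact lt_irrefl _ this)
    have hq2 : q ∉ St f₂ := fun h => hq1 fun e => by
      have h' := hq e
      simpa [h e] using h'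
    set d : A →* ℂˣ := f₁.comp (cj q) / f₁ with hd
    have hd' : d = f₂ / f₂.comp (cj q) := by
      refine MonoidHom.ext fun e => ?_
      have h := hq e
      simp only [MonoidHom.mul_apply] at h
      simp only [hd, MonoidHom.div_apply, MonoidHom.comp_apply]
      rw [div_eq_div_iff_mul_eq_mul, h, mul_comm]
    have hfix : ∀ f : A →* ℂˣ, ∀ g ∈ St f, ∀ e, f (cj q (cj g e)) = f (cj q e) := by
      intro f g hg e
      have h1 : q * g * q⁻¹ ∈ St f := (hnorm _ (hASt f)).conj_mem g hg q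
      rw [← h1 (cj q e), ← hcjmul, ← hcjmul]
      simp [mul_assoc]
    have hdtop : St d = ⊤ := by
      refine hmaxl f₁ (St d) h₁ (lt_of_le_of_ne (fun g hg e => ?_) fun h => h12 ?_)
      · simp only [hd, MonoidHom.div_apply, MonoidHom.comp_apply, hfix f₁ g hg, hg e]
      · have hle2 : St f₂ ≤ St f₁ := fun g hg => h.ge fun e => by
          simp only [hd', MonoidHom.div_apply, MonoidHom.comp_apply, hfix f₂ g hg, hg e]
        by_contra hne'
        have := Subgroup.index_strictAnti (lt_of_le_of_ne hle2 (Ne.symm hne'))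
        rw [hindex _ h₁, hindex _ h₂] at this
        exact lt_irrefl _ this
    refine ⟨q, d, hq1, hq2, hdtop, fun e => ?_, fun e => ?_⟩
    · simp [hd]
    · simp [hd']
  obtain ⟨q, d, hql, hqm, hdtop, hdl, hdm⟩ := hpair l m hl hm (Ne.symm hne)
  have hTl : ∀ g, Tw d l g := hgen d l hdtop hl q hql ⟨1, fun e => by rw [hdl, zpow_one]⟩
  have hTm : ∀ g, Tw d m g := hgen d m hdtop hm q hqm ⟨-1, fun e => by rw [hdm, zpow_neg, zpow_one]⟩
  have hall : ∀ f g, Tw d f g := by
    intro f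
    by_cases hf : St f = ⊤
    · exact fun g => ⟨0, fun e => by
        rw [(hf.ge (Subgroup.mem_top g) : g ∈ St f) e, zpow_zero, mul_one]⟩
    have key : ∀ f₁, St f₁ ≠ ⊤ → St f₁ ≠ St f → (∀ g, Tw d f₁ g) → ∀ g, Tw d f g := by
      intro f₁ h₁ h12 hT1
      obtain ⟨r, d', -, hr, -, hd1, hd2⟩ := hpair f₁ f h₁ hf h12
      obtain ⟨i, hi⟩ := hT1 r
      refine hgen d f hdtop hf r hr ⟨-i, fun e => ?_⟩
      rw [hd2, zpow_neg, mul_left_cancel ((hd1 e).symm.trans (hi e))]
    by_cases h : St f = St l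
    · exact key m hm (by rwa [h]) hTm
    · exact key l hl (Ne.symm h) hTl
  have hdp : ∀ e, d e ^ p = 1 := by
    intro e
    have hdfix : ∀ g e, d (cj g e) = d e := fun g e => (hdtop.ge (Subgroup.mem_top g) : g ∈ St d) e
    have hk : ∀ (k : ℕ) e, l (cj (q ^ k) e) = l e * d e ^ k := by
      intro k
      induction k with
      | zero => intro e; simp [hcjone]
      | succ k ih =>
        intro e
        rw [pow_succ', hcjmul, hdl, ih, hdfix, mul_assoc, ← pow_succ]
    have h := hk p e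
    rw [hcjA _ (hpow q)] at h
    simpa using h
  obtain ⟨a, ha⟩ : ∃ a, d a ≠ 1 := by
    by_contra h
    push Not at h
    exact hql fun e => by rw [hdl, h, mul_one]
  have hker : ∀ b : A, d b = 1 → (b : G) ∈ Subgroup.center G := by
    intro b hb
    refine Subgroup.mem_center_iff.2 fun g => ?_
    have h1 : b⁻¹ * cj g b = 1 := by
      refine isConj_one_right.mp ((isConj_iff_forall_irr 1 _).mpr fun χ => ?_)
      obtain ⟨f, hf⟩ := exists_hom_of_deg_one (isCharacter_of_irr χ.2)
        (irr_deg_one_of_comm (fun x y => Subtype.ext (hab x x.2 y y.2)) χ.2)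
      obtain ⟨i, hi⟩ := hall f g
      simp [hf, hi b, hb]
    have h2 := congrArg Subtype.val (inv_mul_eq_one.1 h1)
    rw [hcjv] at h2
    exact mul_inv_eq_iff_eq_mul.1 h2.symm
  refine ⟨a, a.2, fun haZ => ?_, ?_, fun e he => ?_⟩
  · refine htop (eq_top_iff.2 fun g _ => hmax g fun x hx => ?_)
    have hord : IsPrimitiveRoot ((d a : ℂˣ) : ℂ) p :=
      IsPrimitiveRoot.iff_orderOf.2 (by
        rw [orderOf_units]
        haveI := Fact.mk hp
        exact orderOf_eq_prime (hdp a) ha)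
    haveI : NeZero p := ⟨hp.ne_zero⟩
    obtain ⟨i, -, hi⟩ := hord.eq_pow_of_pow_eq_one (ξ := ((d ⟨x, hx⟩ : ℂˣ) : ℂ))
      (by rw [← Units.val_pow_eq_pow_val, hdp, Units.val_one])
    have h1 := hker ((a ^ i)⁻¹ * ⟨x, hx⟩) (by
      rw [map_mul, map_inv, map_pow, inv_mul_eq_one]
      exact Units.ext (by rw [Units.val_pow_eq_pow_val, hi]))
    have h2 : x ∈ Subgroup.center G := by
      have := (Subgroup.center G).mul_mem ((Subgroup.center G).pow_mem haZ i) h1
      simpa using this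
    exact Subgroup.mem_center_iff.1 h2 g
  · exact hker (a ^ p) (by rw [map_pow, hdp])
  · have hord : IsPrimitiveRoot ((d a : ℂˣ) : ℂ) p :=
      IsPrimitiveRoot.iff_orderOf.2 (by
        rw [orderOf_units]
        haveI := Fact.mk hp
        exact orderOf_eq_prime (hdp a) ha)
    haveI : NeZero p := ⟨hp.ne_zero⟩
    obtain ⟨i, hip, hi⟩ := hord.eq_pow_of_pow_eq_one (ξ := ((d ⟨e, he⟩ : ℂˣ) : ℂ))
      (by rw [← Units.val_pow_eq_pow_val, hdp, Units.val_one])
    refine ⟨i, hip, ?_⟩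
    have h1 := hker ((a ^ i)⁻¹ * ⟨e, he⟩) (by
      rw [map_mul, map_inv, map_pow, inv_mul_eq_one]
      exact Units.ext (by rw [Units.val_pow_eq_pow_val, hi]))
    simpa using h1

/-- The forward direction. -/
theorem degrees_prime_forward (hp : p.Prime)
    (hcd : ∀ χ : G → ℂ, Cfsg.IsIrrCharacter G χ → deg χ = 1 ∨ deg χ = p)
    (hex : ∃ χ : G → ℂ, Cfsg.IsIrrCharacter G χ ∧ deg χ = p)
    (hno : ∀ A : Subgroup G, A.Normal → (∀ a ∈ A, ∀ b ∈ A, a * b = b * a) → A.index ≠ p) :
    (Subgroup.center G).index = p ^ 3 := by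
  classical
  haveI := Fact.mk hp
  have hne1 : p ≠ 1 := hp.one_lt.ne'
  obtain ⟨A₁, h1, h2, h3⟩ | ⟨q, e, hq, -, P, A₁, hPn, hAn, hPp, hAab, hinf, hsup⟩ :=
    two_degrees hne1 hcd hex
  · exact absurd h3 (hno A₁ h1 h2)
  haveI := Fact.mk hq
  haveI : Group.IsNilpotent G := isNilpotent_of_product P A₁ hPn hAn hPp hAab hinf hsup
  have hnab : ∃ x y : G, x * y ≠ y * x := by
    by_contra h
    push Not at h
    obtain ⟨χ, hχ, hd⟩ := hex
    have := irr_deg_one_of_comm h hχ
    rw [IsCharacter.apply_one_eq_deg (isCharacter_of_irr hχ), hd] at this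
    exact hne1 (by exact_mod_cast this)
  -- the intersection of the subgroups of index `p`
  set N₀ : Subgroup G := ⨅ (H : Subgroup G) (_ : H.index = p), H with hN₀
  have hN₀mem : ∀ g, g ∈ N₀ ↔ ∀ H : Subgroup G, H.index = p → g ∈ H := fun g => by
    simp [hN₀, Subgroup.mem_iInf]
  have hNcomm : ∀ x y : G, ⁅x, y⁆ ∈ N₀ := fun x y => (hN₀mem _).2 fun H hH =>
    commutator_mem_of_index hp.one_lt hcd H hH x y
  have hNpow : ∀ x : G, x ^ p ∈ N₀ := fun x => (hN₀mem _).2 fun H hH => by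
    haveI : H.Normal := ⟨fun t ht g => by
      have := H.mul_mem (commutator_mem_of_index hp.one_lt hcd H hH g t) ht
      rwa [commutatorElement_def, inv_mul_cancel_right] at this⟩
    rw [← QuotientGroup.eq_one_iff, QuotientGroup.mk_pow, ← hH]
    exact pow_card_eq_one'
  have hNn : ∀ g : G, ∀ t ∈ N₀, g * t * g⁻¹ ∈ N₀ := fun g t ht => by
    have := N₀.mul_mem (hNcomm g t) ht
    rwa [commutatorElement_def, inv_mul_cancel_right] at this
  have hNab : ∀ u ∈ N₀, ∀ v ∈ N₀, u * v = v * u := by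
    intro u hu v hv
    rw [← commutatorElement_eq_one_iff_mul_comm]
    refine isConj_one_right.mp ((isConj_iff_forall_irr 1 _).mpr fun χ => ?_)
    rcases hcd _ χ.2 with h | h
    · obtain ⟨f, hf⟩ := exists_hom_of_deg_one (isCharacter_of_irr χ.2)
        (by rw [irr_apply_one_eq_deg, h, Nat.cast_one])
      simp [hf, commutatorElement_def]
    · obtain ⟨H, lam, hlam⟩ := Cfsg.Lib.Blocks.isMonomial_of_isNilpotent _ G rfl _ χ.2
      have hidx : H.index = p := by
        apply Nat.cast_injective (R := ℂ)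
        rw [← h, ← irr_apply_one_eq_deg, hlam, indFun_one, map_one, Units.val_one, mul_one]
      rw [hlam, indFun_apply, indFun_apply]
      congr 1
      refine Finset.sum_congr rfl fun x _ => ?_
      have hu' : x⁻¹ * u * x ∈ H := (hN₀mem _).1 (by simpa using hNn x⁻¹ u hu) H hidx
      have hv' : x⁻¹ * v * x ∈ H := (hN₀mem _).1 (by simpa using hNn x⁻¹ v hv) H hidx
      set u' : H := ⟨_, hu'⟩ with hu''
      set v' : H := ⟨_, hv'⟩ with hv''
      have hl : lam (u' * v' * u'⁻¹ * v'⁻¹) = 1 := by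
        rw [map_mul, map_mul, map_mul, map_inv, map_inv, mul_comm (lam u'), mul_inv_cancel_right,
          mul_inv_cancel]
      have hc : x⁻¹ * (u * v * u⁻¹ * v⁻¹) * x = ((u' * v' * u'⁻¹ * v'⁻¹ : H) : G) := by
        simp only [hu'', hv'', Subgroup.coe_mul, Subgroup.coe_inv]
        group
      rw [commutatorElement_def, hc, extendByZero_apply, mul_one, inv_mul_cancel,
        show (1 : G) = ((1 : H) : G) from rfl, extendByZero_apply, hl, map_one]
  obtain ⟨A, hNA, hab, hmax⟩ := exists_self_centralizing (N₀ : Set G) hNab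
  set Z := Subgroup.center G with hZdef
  have hZA : ∀ B : Subgroup G, (∀ g : G, (∀ a ∈ B, g * a = a * g) → g ∈ B) → Z ≤ B :=
    fun B hB z hz => hB z fun a _ => (Subgroup.mem_center_iff.1 hz a).symm
  have hgood : ∀ B : Subgroup G, (∀ x ∈ B, ∀ y ∈ B, x * y = y * x) →
      (∀ x y : G, ⁅x, y⁆ ∈ B) → B.Normal ∧ B ≠ ⊤ ∧ B.index ≠ p := by
    intro B hB hBc
    have hBn : B.Normal := ⟨fun x hx g => by
      have := B.mul_mem (hBc g x) hx
      rwa [commutatorElement_def, inv_mul_cancel_right] at this⟩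
    refine ⟨hBn, fun h => ?_, hno B hBn hB⟩
    obtain ⟨x, y, hxy⟩ := hnab
    exact hxy (hB x (h ▸ Subgroup.mem_top x) y (h ▸ Subgroup.mem_top y))
  obtain ⟨hAn', hAtop, hAidx⟩ := hgood A hab fun x y => hNA (hNcomm x y)
  obtain ⟨a, haA, haZ, hapZ, hdecA⟩ := center_part_of_self_centralizing hp hcd A hab hmax
    (fun x y => hNA (hNcomm x y)) (fun x => hNA (hNpow x)) hAidx hAtop
  -- the commutator with `a`
  have hadec : ∀ e ∈ A, ∃ i < p, ∃ z ∈ Z, e = a ^ i * z := fun e he => by
    obtain ⟨i, hi, hz⟩ := hdecA e he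
    exact ⟨i, hi, _, hz, (mul_inv_cancel_left _ _).symm⟩
  have hcz : ∀ w : G, ∀ z ∈ Z, ∀ e : G, ⁅e * z, w⁆ = ⁅e, w⁆ := fun w z hz e => by
    simp only [commutatorElement_def, mul_inv_rev]
    calc e * z * w * (z⁻¹ * e⁻¹) * w⁻¹ = e * (z * w) * z⁻¹ * e⁻¹ * w⁻¹ := by group
      _ = e * (w * z) * z⁻¹ * e⁻¹ * w⁻¹ := by rw [Subgroup.mem_center_iff.1 hz w]
      _ = e * w * e⁻¹ * w⁻¹ := by group
  have haw : ∀ w : G, ⁅a, w⁆ ∈ Z := by
    intro w
    -- `⁅a, w⁆` lies in `A`; its class modulo `Z` is fixed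
    obtain ⟨i, -, z, hz, he⟩ := hadec ⁅a, w⁆ (hNA (hNcomm a w))
    by_contra hcon
    -- conjugation by `w` multiplies the `a`-exponent by a unit of order dividing `p`
    obtain ⟨c, hc, zc, hzc, hec⟩ := hadec (w * a * w⁻¹) (hAn'.conj_mem a haA w)
    have hiter : ∀ k : ℕ, ∃ z' ∈ Z, w ^ k * a * (w ^ k)⁻¹ = a ^ (c ^ k) * z' := by
      intro k
      induction k with
      | zero => exact ⟨1, Z.one_mem, by simp⟩
      | succ k ih =>
        obtain ⟨z', hz', hk'⟩ := ih
        refine ⟨zc ^ (c ^ k) * z', Z.mul_mem (Z.pow_mem hzc _) hz', ?_⟩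
        calc w ^ (k + 1) * a * (w ^ (k + 1))⁻¹ = w * (w ^ k * a * (w ^ k)⁻¹) * w⁻¹ := by
              rw [pow_succ']; group
          _ = w * a ^ (c ^ k) * (z' * w⁻¹) := by rw [hk']; group
          _ = w * a ^ (c ^ k) * (w⁻¹ * z') := by rw [← Subgroup.mem_center_iff.1 hz' w⁻¹]
          _ = (w * a * w⁻¹) ^ (c ^ k) * z' := by rw [conj_pow]; group
          _ = (a ^ c) ^ (c ^ k) * zc ^ (c ^ k) * z' := by
              rw [hec, (show Commute (a ^ c) zc from (Subgroup.mem_center_iff.1 hzc _)).mul_pow]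
          _ = a ^ (c ^ (k + 1)) * (zc ^ (c ^ k) * z') := by
              rw [← pow_mul, pow_succ' c k, mul_assoc]
    obtain ⟨z', hz', hzp⟩ := hiter p
    rw [hab (w ^ p) (hNA (hNpow w)) a haA, mul_inv_cancel_right] at hzp
    -- `a ^ n` is central only for multiples of `p`
    have hdvd : ∀ n : ℤ, a ^ n ∈ Z → (p : ℤ) ∣ n := by
      intro n hn
      by_contra hnd
      have hco : IsCoprime (p : ℤ) n := (Nat.prime_iff_prime_int.1 hp).coprime_iff_not_dvd.2 hnd
      obtain ⟨s, t, hst⟩ := hco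
      refine haZ ?_
      have h1 : a ^ (s * (p : ℤ) + t * n) ∈ Z := by
        rw [zpow_add, zpow_mul', zpow_mul', zpow_natCast]
        exact Z.mul_mem (Z.zpow_mem hapZ s) (Z.zpow_mem hn t)
      rwa [hst, zpow_one] at h1
    have h1 : a ^ ((c ^ p : ℕ) - 1 : ℤ) ∈ Z := by
      rw [zpow_sub, zpow_natCast, zpow_one]
      have h2 : a ^ c ^ p = a * z'⁻¹ := eq_mul_inv_of_mul_eq hzp.symm
      rw [h2, mul_assoc, ← Subgroup.mem_center_iff.1 (Z.inv_mem hz') a⁻¹, mul_inv_cancel_left]
      exact Z.inv_mem hz'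
    have h2 := hdvd _ h1
    have h3 : ((c : ZMod p)) = 1 := by
      have h4 := (ZMod.intCast_zmod_eq_zero_iff_dvd _ p).2 h2
      push_cast at h4
      rw [ZMod.pow_card, sub_eq_zero] at h4
      exact h4
    have hc1 : c = 1 := by
      have := congrArg ZMod.val h3
      rwa [ZMod.val_natCast, Nat.mod_eq_of_lt hc, ZMod.val_one] at this
    rw [hc1] at hec
    refine hcon ?_
    have h4 : ⁅a, w⁆ = zc⁻¹ := by
      rw [commutatorElement_def, show a * w * a⁻¹ * w⁻¹ = a * (w * a * w⁻¹)⁻¹ by group, hec,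
        mul_inv_rev, ← mul_assoc, Subgroup.mem_center_iff.1 (Z.inv_mem hzc) a, pow_one,
        mul_inv_cancel_right]
    rw [h4]
    exact Z.inv_mem hzc
  let κ : G →* Z :=
    { toFun := fun w => ⟨⁅a, w⁆, haw w⟩
      map_one' := Subtype.ext (by simp)
      map_mul' := fun x y => Subtype.ext (by
        show ⁅a, x * y⁆ = ⁅a, x⁆ * ⁅a, y⁆
        calc ⁅a, x * y⁆ = ⁅a, x⁆ * (x * ⁅a, y⁆ * x⁻¹) := by
              simp only [commutatorElement_def]; group
          _ = ⁅a, x⁆ * ⁅a, y⁆ := by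
              rw [Subgroup.mem_center_iff.1 (haw y) x, mul_inv_cancel_right]) }
  have hκker : ∀ w, κ w = 1 → w ∈ A := by
    intro w hw
    have h1 : a * w = w * a := commutatorElement_eq_one_iff_mul_comm.1 (congrArg Subtype.val hw)
    refine hmax w fun e he => ?_
    obtain ⟨i, -, z, hz, rfl⟩ := hadec e he
    exact ((show Commute w a from h1.symm).pow_right i).mul_right (Subgroup.mem_center_iff.1 hz w) |>.eq
  have hκA : ∀ e ∈ A, κ e = 1 := fun e he =>
    Subtype.ext (commutatorElement_eq_one_iff_mul_comm.2 (hab a haA e he))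
  -- commutators of elements of `A` with arbitrary elements
  have hAw : ∀ e ∈ A, ∀ w, ∀ i < p, (a ^ i)⁻¹ * e ∈ Z → ⁅e, w⁆ = ((κ w) ^ i : Z) := by
    intro e he w i _ hz
    have hi : ∀ k : ℕ, ⁅a ^ k, w⁆ = ((κ w) ^ k : Z) := by
      intro k
      induction k with
      | zero => simp
      | succ k ih =>
        rw [pow_succ (κ w), Subgroup.coe_mul, ← ih]
        show _ = ⁅a ^ k, w⁆ * ⁅a, w⁆
        calc ⁅a ^ (k + 1), w⁆ = a ^ k * ⁅a, w⁆ * (a ^ k)⁻¹ * ⁅a ^ k, w⁆ := by
              simp only [commutatorElement_def, pow_succ]; group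
          _ = ⁅a, w⁆ * ⁅a ^ k, w⁆ := by
              rw [Subgroup.mem_center_iff.1 (haw w) (a ^ k), mul_inv_cancel_right]
          _ = ⁅a ^ k, w⁆ * ⁅a, w⁆ := (Subgroup.mem_center_iff.1 (haw w) _).symm
    rw [← hi i]
    conv_lhs => rw [show e = a ^ i * ((a ^ i)⁻¹ * e) by group]
    exact hcz w _ hz _
  -- `p`-th powers are central
  have hpZ : ∀ u : G, u ^ p ∈ Z := by
    intro u
    obtain ⟨i, hi, hz⟩ := hdecA (u ^ p) (hNA (hNpow u))
    rcases Nat.eq_zero_or_pos i with rfl | hi0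
    · simpa using hz
    by_cases hu : u ∈ A
    · obtain ⟨k, -, z, hzc, rfl⟩ := hadec u hu
      rw [(show Commute (a ^ k) z from (Subgroup.mem_center_iff.1 hzc _)).mul_pow, ← pow_mul,
        mul_comm k, pow_mul]
      exact Z.mul_mem (Z.pow_mem hapZ k) (Z.pow_mem hzc p)
    · exfalso
      have h1 := hAw (u ^ p) (hNA (hNpow u)) u i hi hz
      rw [commutatorElement_eq_one_iff_mul_comm.2 ((Commute.refl u).pow_left p).eq] at h1
      have h2 : κ (u ^ i) = 1 := by rw [map_pow]; exact Subtype.ext h1.symm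
      have h3 := hκker _ h2
      refine hu ?_
      have hco : Nat.Coprime i p := (hp.coprime_iff_not_dvd.2
        (Nat.not_dvd_of_pos_of_lt hi0 hi)).symm
      haveI := hAn'
      rw [← QuotientGroup.eq_one_iff, ← orderOf_eq_one_iff]
      exact Nat.eq_one_of_dvd_coprimes hco
        (orderOf_dvd_of_pow_eq_one (by rw [← QuotientGroup.mk_pow]; exact (QuotientGroup.eq_one_iff _).2 h3))
        (orderOf_dvd_of_pow_eq_one (by rw [← QuotientGroup.mk_pow]; exact (QuotientGroup.eq_one_iff _).2 (hNA (hNpow u))))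
  have hZA' : Z ≤ A := hZA A hmax
  have hZidxA : Nat.card A = p * Nat.card Z := by
    have hbij : Function.Bijective (fun x : Fin p × Z => (⟨a ^ (x.1 : ℕ) * (x.2 : G),
        A.mul_mem (A.pow_mem haA _) (hZA' x.2.2)⟩ : A)) := by
      refine ⟨fun x y h => ?_, fun e => ?_⟩
      · have h' : a ^ (x.1 : ℕ) * (x.2 : G) = a ^ (y.1 : ℕ) * (y.2 : G) := congrArg Subtype.val h
        have key : ∀ i j : Fin p, ∀ s t : Z, a ^ (i : ℕ) * (s : G) = a ^ (j : ℕ) * (t : G) →
            (i : ℕ) ≤ j → i = j := by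
          intro i j s t hij hle
          by_contra hne'
          have hlt : (i : ℕ) < j := lt_of_le_of_ne hle fun h => hne' (Fin.ext h)
          have h1 : a ^ ((j : ℕ) - i) = (s : G) * (t : G)⁻¹ := by
            rw [show (j : ℕ) = i + ((j : ℕ) - i) by omega, pow_add, mul_assoc] at hij
            rw [mul_left_cancel hij, mul_inv_cancel_right]
          have h2 : a ^ ((j : ℕ) - i) ∈ Z := h1 ▸ Z.mul_mem s.2 (Z.inv_mem t.2)
          have hco : Nat.Coprime ((j : ℕ) - i) p :=
            (hp.coprime_iff_not_dvd.2 (Nat.not_dvd_of_pos_of_lt (by omega) (by omega))).symm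
          refine haZ ?_
          rw [← QuotientGroup.eq_one_iff, ← orderOf_eq_one_iff]
          exact Nat.eq_one_of_dvd_coprimes hco
            (orderOf_dvd_of_pow_eq_one (by rw [← QuotientGroup.mk_pow]; exact (QuotientGroup.eq_one_iff _).2 h2))
            (orderOf_dvd_of_pow_eq_one (by rw [← QuotientGroup.mk_pow]; exact (QuotientGroup.eq_one_iff _).2 hapZ))
        have h1 : x.1 = y.1 := by
          rcases le_total (x.1 : ℕ) y.1 with hle | hle
          · exact key _ _ _ _ h' hle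
          · exact (key _ _ _ _ h'.symm hle).symm
        refine Prod.ext h1 (Subtype.ext ?_)
        rw [h1] at h'
        exact mul_left_cancel h'
      · obtain ⟨i, hi, z, hz, he⟩ := hadec e e.2
        exact ⟨(⟨i, hi⟩, ⟨z, hz⟩), Subtype.ext he.symm⟩
    rw [← Nat.card_eq_of_bijective _ hbij, Nat.card_prod, Nat.card_fin]
  haveI := hAn'
  -- the index of `A` is a power of `p`, at least `p²`
  have hQexp : ∀ w : G ⧸ Z, w ^ p = 1 := fun w => by
    obtain ⟨w, rfl⟩ := QuotientGroup.mk_surjective w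
    rw [← QuotientGroup.mk_pow]
    exact (QuotientGroup.eq_one_iff _).2 (hpZ w)
  obtain ⟨n, hn⟩ := IsPGroup.iff_card.1
    (show IsPGroup p (G ⧸ Z) from fun w => ⟨1, by rw [pow_one]; exact hQexp w⟩)
  rw [show Nat.card (G ⧸ Z) = Z.index from rfl] at hn
  have hAindex : A.index * p = p ^ n := by
    have h1 := A.card_mul_index
    rw [← Z.card_mul_index, hn, hZidxA] at h1
    have h2 : Nat.card Z * (A.index * p) = Nat.card Z * p ^ n := by
      rw [← h1]; ring
    exact Nat.eq_of_mul_eq_mul_left Nat.card_pos h2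
  have hn3 : 3 ≤ n := by
    by_contra h
    have h1 : A.index ≠ 1 := fun h => hAtop (Subgroup.index_eq_one.1 h)
    have hp2 := hp.two_le
    obtain rfl | rfl | rfl : n = 0 ∨ n = 1 ∨ n = 2 := by omega
    · rw [pow_zero] at hAindex
      exact hne1 (Nat.eq_one_of_mul_eq_one_left hAindex)
    · rw [pow_one] at hAindex
      exact h1 (Nat.eq_one_of_mul_eq_one_right (n := 1) (m := A.index)
        (by rw [mul_one]; exact Nat.eq_of_mul_eq_mul_right hp.pos (hAindex.trans (one_mul p).symm)))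
    · rw [pow_two] at hAindex
      exact hAidx (Nat.eq_of_mul_eq_mul_right hp.pos hAindex)
  rw [hn]
  congr 1
  refine le_antisymm ?_ hn3
  by_cases hall : ∀ x y : G, ⁅x, y⁆ ∈ Z
  · -- class two: few commuting pairs
    have hsmall : ∀ x, x ∉ Z → Nat.card {y : G // Commute x y} ≤ p * Nat.card Z := by
      intro x hx
      by_contra hcon
      push Not at hcon
      have hBex : ∀ y : G, Commute x y → ∃ B : Subgroup G, x ∈ B ∧ y ∈ B ∧
          ∃ b : G, ∀ e ∈ B, ∃ i < p, (b ^ i)⁻¹ * e ∈ Z := by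
        intro y hxy
        have hcs : ∀ s ∈ ((Z : Set G) ∪ {x, y}), ∀ t ∈ ((Z : Set G) ∪ {x, y}), s * t = t * s := by
          rintro s (hs | rfl | rfl) t (ht | rfl | rfl) <;>
            first
              | exact (Subgroup.mem_center_iff.1 hs _).symm
              | exact Subgroup.mem_center_iff.1 ht _
              | exact hxy.eq
              | exact hxy.eq.symm
              | rfl
        obtain ⟨B, hsB, hBab, hBmax⟩ := exists_self_centralizing _ hcs
        have hZB : Z ≤ B := fun z hz => hsB (Or.inl hz)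
        obtain ⟨-, hBtop, hBidx⟩ := hgood B hBab fun u v => hZB (hall u v)
        obtain ⟨b, -, -, -, hb⟩ := center_part_of_self_centralizing hp hcd B hBab hBmax
          (fun u v => hZB (hall u v)) (fun u => hZB (hpZ u)) hBidx hBtop
        exact ⟨B, hsB (Or.inr (Or.inl rfl)), hsB (Or.inr (Or.inr rfl)), b, hb⟩
      have hdec : ∀ y, Commute x y → ∃ i < p, ∃ z ∈ Z, y = x ^ i * z := by
        intro y hxy
        obtain ⟨B, hxB, hyB, b, hb⟩ := hBex y hxy
        obtain ⟨i, hi, hiz⟩ := hb x hxB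
        obtain ⟨k, hk, hkz⟩ := hb y hyB
        have hi0 : i ≠ 0 := fun h => hx (by rw [h] at hiz; simpa using hiz)
        have hex2 : ∀ w, (w : G ⧸ Z) = (b : G ⧸ Z) ^ k → ∃ s < p, (w : G ⧸ Z) = (x : G ⧸ Z) ^ s := by
          intro w hw
          have hxb : (x : G ⧸ Z) = (b : G ⧸ Z) ^ i := by
            rw [← QuotientGroup.mk_pow, eq_comm, QuotientGroup.eq]
            exact hiz
          haveI : NeZero p := ⟨hp.ne_zero⟩
          refine ⟨((k : ZMod p) * (i : ZMod p)⁻¹).val, ZMod.val_lt _, ?_⟩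
          rw [hxb, ← pow_mul, hw]
          refine pow_eq_pow_of_modEq ?_ (hQexp _)
          rw [← ZMod.natCast_eq_natCast_iff]
          push_cast
          rw [ZMod.natCast_zmod_val, mul_comm (i : ZMod p), mul_assoc, inv_mul_cancel₀, mul_one]
          rw [Ne, ZMod.natCast_eq_zero_iff]
          exact Nat.not_dvd_of_pos_of_lt (Nat.pos_of_ne_zero hi0) hi
        obtain ⟨s, hs, hs'⟩ := hex2 y (by
          rw [← QuotientGroup.mk_pow, eq_comm, QuotientGroup.eq]; exact hkz)
        rw [← QuotientGroup.mk_pow, eq_comm, QuotientGroup.eq] at hs'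
        exact ⟨s, hs, _, hs', (mul_inv_cancel_left _ _).symm⟩
      have hle : Nat.card {y : G // Commute x y} ≤ Nat.card (Fin p × Z) := by
        refine Nat.card_le_card_of_surjective (fun s : Fin p × Z =>
          (⟨x ^ (s.1 : ℕ) * (s.2 : G), ((Commute.refl x).pow_right _).mul_right
            (Subgroup.mem_center_iff.1 s.2.2 x)⟩ : {y : G // Commute x y})) ?_
        rintro ⟨y, hy⟩
        obtain ⟨i, hi, z, hz, rfl⟩ := hdec y hy
        exact ⟨(⟨i, hi⟩, ⟨z, hz⟩), rfl⟩
      rw [Nat.card_prod, Nat.card_fin] at hle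
      omega
    have hsum := card_comm_eq_card_conjClasses_mul_card G
    rw [Nat.card_congr (Equiv.subtypeProdEquivSigmaSubtype Commute), Nat.card_sigma] at hsum
    have hupper : ∑ x : G, Nat.card {y : G // Commute x y} ≤
        Nat.card Z * Nat.card G + Nat.card G * (p * Nat.card Z) := by
      rw [← Finset.sum_filter_add_sum_filter_not Finset.univ (fun x : G => x ∈ Z)]
      refine Nat.add_le_add ?_ ?_
      · refine (Finset.sum_le_card_nsmul _ _ (Nat.card G) fun x _ =>
          Finite.card_subtype_le _).trans (le_of_eq ?_)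
        rw [smul_eq_mul, Nat.card_eq_fintype_card (α := Z), Fintype.card_subtype]
      · refine (Finset.sum_le_card_nsmul _ _ (p * Nat.card Z) fun x hx =>
          hsmall x (Finset.mem_filter.1 hx).2).trans ?_
        rw [smul_eq_mul, Nat.card_eq_fintype_card (α := G)]
        exact Nat.mul_le_mul_right _ (Finset.card_le_univ _)
    have hk : Nat.card G < p ^ 2 * Nat.card (ConjClasses G) := by
      rw [← card_irrCharacter, ← sum_deg_sq_nat, Nat.card_eq_fintype_card, ← Finset.card_univ,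
        Finset.card_eq_sum_ones, Finset.mul_sum]
      refine Finset.sum_lt_sum (fun χ _ => ?_) ⟨⟨fun _ => 1, ?_⟩, Finset.mem_univ _, ?_⟩
      · rcases hcd _ χ.2 with h | h <;> rw [h]
        · rw [mul_one, one_pow]; exact Nat.one_le_pow _ _ hp.pos
        · rw [mul_one]
      · simpa using isIrrCharacter_linear (1 : G →* ℂˣ)
      · rw [mul_one, show deg (fun _ : G => (1 : ℂ)) = 1 by simp [deg], one_pow]
        exact Nat.one_lt_pow two_ne_zero hp.one_lt
    have hG : Nat.card G = Nat.card Z * p ^ n := by rw [← Z.card_mul_index, hn]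
    by_contra hbig
    push Not at hbig
    obtain ⟨m, rfl⟩ : ∃ m, n = m + 4 := ⟨n - 4, by omega⟩
    have hkz : Nat.card (ConjClasses G) ≤ Nat.card Z * (1 + p) := by
      have h1 := hsum ▸ hupper
      have h2 : Nat.card Z * Nat.card G + Nat.card G * (p * Nat.card Z) =
          Nat.card Z * (1 + p) * Nat.card G := by ring
      rw [h2] at h1
      exact Nat.le_of_mul_le_mul_right h1 Nat.card_pos
    have h3 : Nat.card Z * p ^ (m + 4) < Nat.card Z * (p ^ 2 * (1 + p)) := by
      rw [← hG]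
      refine hk.trans_le ((Nat.mul_le_mul_left _ hkz).trans (le_of_eq ?_))
      ring
    have h4 := Nat.lt_of_mul_lt_mul_left h3
    have h5 : p ^ 4 ≤ p ^ (m + 4) := Nat.pow_le_pow_right hp.pos (by omega)
    have h6 : 1 + p ≤ p ^ 2 := by nlinarith [hp.two_le]
    have h7 := Nat.mul_le_mul_left (p ^ 2) h6
    rw [← pow_add] at h7
    exact absurd (h4.trans_le h7) (not_lt.2 h5)
  · -- some commutator is not central: the Hall–Witt identity
    push Not at hall
    obtain ⟨u, v, huv⟩ := hall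
    obtain ⟨i, hi, hiz⟩ := hdecA ⁅u, v⁆ (hNA (hNcomm u v))
    have hi0 : i ≠ 0 := fun h => huv (by rw [h] at hiz; simpa using hiz)
    have hcl : ∀ e ∈ A, ∀ f ∈ A, ∀ w, ⁅e, f * w⁆ = ⁅e, w⁆ := by
      intro e he f hf w
      obtain ⟨k, hk, hkz⟩ := hdecA e he
      rw [hAw e he (f * w) k hk hkz, hAw e he w k hk hkz, map_mul, hκA f hf, one_mul]
    have hspan : ∀ w : G, ∃ s t : Fin p, (w : G ⧸ A) = (u : G ⧸ A) ^ (s : ℕ) * (v : G ⧸ A) ^ (t : ℕ) := by
      intro w
      obtain ⟨j, hj, hjz⟩ := hdecA ⁅v, w⁆ (hNA (hNcomm v w))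
      obtain ⟨k, hk, hkz⟩ := hdecA ⁅w, u⁆ (hNA (hNcomm w u))
      have hHW := commutatorElement_commutatorElement_conj_mul u v w
      rw [show v * w * v⁻¹ = ⁅v, w⁆ * w by rw [commutatorElement_def]; group,
        show w * u * w⁻¹ = ⁅w, u⁆ * u by rw [commutatorElement_def]; group,
        show u * v * u⁻¹ = ⁅u, v⁆ * v by rw [commutatorElement_def]; group,
        hcl _ (hNA (hNcomm u v)) _ (hNA (hNcomm v w)), hcl _ (hNA (hNcomm v w)) _ (hNA (hNcomm w u)),
        hcl _ (hNA (hNcomm w u)) _ (hNA (hNcomm u v)),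
        hAw _ (hNA (hNcomm u v)) w i hi hiz, hAw _ (hNA (hNcomm v w)) u j hj hjz,
        hAw _ (hNA (hNcomm w u)) v k hk hkz] at hHW
      have h1 : κ (w ^ i * u ^ j * v ^ k) = 1 := by
        rw [map_mul, map_mul, map_pow, map_pow, map_pow]
        exact Subtype.ext (by simpa using hHW)
      have h2 := (QuotientGroup.eq_one_iff _).2 (hκker _ h1)
      have hexpA : ∀ r : G ⧸ A, r ^ p = 1 := fun r => by
        obtain ⟨r, rfl⟩ := QuotientGroup.mk_surjective r
        rw [← QuotientGroup.mk_pow]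
        exact (QuotientGroup.eq_one_iff _).2 (hNA (hNpow r))
      have hcA : ∀ r s : G ⧸ A, r * s = s * r := fun r s => by
        obtain ⟨r, rfl⟩ := QuotientGroup.mk_surjective r
        obtain ⟨s, rfl⟩ := QuotientGroup.mk_surjective s
        rw [← commutatorElement_eq_one_iff_mul_comm, ← QuotientGroup.mk'_apply,
          ← QuotientGroup.mk'_apply, ← map_commutatorElement]
        exact (QuotientGroup.eq_one_iff _).2 (hNA (hNcomm r s))
      rw [QuotientGroup.mk_mul, QuotientGroup.mk_mul, QuotientGroup.mk_pow, QuotientGroup.mk_pow,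
        QuotientGroup.mk_pow] at h2
      haveI : NeZero p := ⟨hp.ne_zero⟩
      set c : ZMod p := -(i : ZMod p)⁻¹ with hc
      refine ⟨⟨(c * j).val, ZMod.val_lt _⟩, ⟨(c * k).val, ZMod.val_lt _⟩, ?_⟩
      have hmod : ∀ (r : G ⧸ A) (s : ℕ), r ^ s = r ^ ((s : ZMod p)).val := fun r s => by
        rw [ZMod.val_natCast]
        exact pow_eq_pow_mod _ (hexpA r)
      have h3 := congrArg (fun r : G ⧸ A => r ^ c.val) h2
      simp only [one_pow] at h3
      rw [(show Commute _ _ from hcA _ _).mul_pow, (show Commute _ _ from hcA _ _).mul_pow,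
        ← pow_mul, ← pow_mul, ← pow_mul, hmod (w : G ⧸ A), hmod (u : G ⧸ A), hmod (v : G ⧸ A)] at h3
      simp only [Nat.cast_mul, ZMod.natCast_zmod_val] at h3
      rw [show (i : ZMod p) * c = -1 by
        rw [hc, mul_neg, mul_inv_cancel₀]
        rw [Ne, ZMod.natCast_eq_zero_iff]
        exact Nat.not_dvd_of_pos_of_lt (Nat.pos_of_ne_zero hi0) hi] at h3
      have h4 : (w : G ⧸ A) ^ (-1 : ZMod p).val = (w : G ⧸ A)⁻¹ := by
        refine eq_inv_of_mul_eq_one_left ?_
        rw [← pow_succ, hmod, Nat.cast_succ, ZMod.natCast_zmod_val, neg_add_cancel, ZMod.val_zero,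
          pow_zero]
      rw [h4, mul_assoc, inv_mul_eq_one] at h3
      rw [h3, mul_comm (j : ZMod p) c, mul_comm (k : ZMod p) c]
    have hle : A.index ≤ p * p := by
      rw [show A.index = Nat.card (G ⧸ A) from rfl]
      refine (Nat.card_le_card_of_surjective (fun s : Fin p × Fin p =>
        (u : G ⧸ A) ^ (s.1 : ℕ) * (v : G ⧸ A) ^ (s.2 : ℕ)) fun w => ?_).trans
        (le_of_eq (by rw [Nat.card_prod, Nat.card_fin]))
      obtain ⟨w, rfl⟩ := QuotientGroup.mk_surjective w
      obtain ⟨s, t, h⟩ := hspan w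
      exact ⟨(s, t), h.symm⟩
    have h1 : p ^ n ≤ p ^ 3 := by
      rw [← hAindex, pow_succ, pow_two]
      exact Nat.mul_le_mul_right _ hle
    exact (Nat.pow_le_pow_iff_right hp.one_lt).1 h1

/-- The backward direction. -/
theorem degrees_prime_backward (hp : p.Prime)
    (h : (∃ A : Subgroup G, A.Normal ∧ (∀ a ∈ A, ∀ b ∈ A, a * b = b * a) ∧ A.index = p) ∨
      (Subgroup.center G).index = p ^ 3) (χ : G → ℂ) (hχ : Cfsg.IsIrrCharacter G χ) :
    deg χ = 1 ∨ deg χ = p := by
  obtain ⟨n, ρ, hρ, hc⟩ := id hχ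
  haveI := hρ
  have hd : Module.finrank ℂ (Fin n → ℂ) = deg χ := by rw [← hc, deg_character]
  rcases h with ⟨A, hAn, hab, hidx⟩ | hidx
  · haveI := hAn
    exact (Nat.dvd_prime hp).1 (hidx ▸ hd ▸ Cfsg.Agent.S0169.result ρ A hab)
  · have hdvd : deg χ ∣ p ^ 3 := hidx ▸ hd ▸ Cfsg.Agent.S0179.result ρ
    have hsq := Cfsg.Lib.InducedFamily.deg_sq_le_index hχ (Subgroup.center G) fun z hz g => by
      rw [← Subgroup.mem_center_iff.1 hz g, mul_inv_cancel_right, mul_inv_cancel]
    obtain ⟨k, -, hk'⟩ := (Nat.dvd_prime_pow hp).1 hdvd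
    rw [hidx, hk', ← pow_mul, Nat.pow_le_pow_iff_right hp.one_lt] at hsq
    obtain rfl | rfl : k = 0 ∨ k = 1 := by omega
    · left; rw [hk', pow_zero]
    · right; rw [hk', pow_one]

end Cfsg.Lib.Chars
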