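import Cfsg.Agent.Chars.DadeDetection
import Cfsg.Agent.Chars.ExtCriteria
import Cfsg.Agent.Chars.Galois
import Cfsg.Agent.Chars.PPowerDegrees
import Mathlib.GroupTheory.Sylow

/-!
# Extension of invariant characters over a `p`-power index when the Sylow intersection is central
-/

set_option autoImplicit false
set_option linter.unusedSectionVars false

namespace Cfsg.Lib.Chars

open scoped ComplexConjugate
open Module

universe u v

variable {G : Type u} [Group G] [Fintype G] (N : Subgroup G) [N.Normal]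

section Eigen

variable {V : Type v} [AddCommGroup V] [Module ℂ V] [FiniteDimensional ℂ V]
variable (ρ : Representation ℂ N V) [ρ.IsIrreducible]

/-- The eigenspace of a linear character of a subgroup. -/
def eigenSub (K : Subgroup N) (φ : K →* ℂˣ) : Submodule ℂ V where
  carrier := {v | ∀ k : K, ρ (k : N) v = (φ k : ℂ) • v}
  add_mem' := fun ha hb k => by rw [map_add, ha k, hb k, smul_add]
  zero_mem' := fun k => by rw [map_zero, smul_zero]
  smul_mem' := fun c v hv k => by rw [map_smul, hv k, smul_comm]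

theorem finrank_eigenSub (K : Subgroup N) [Fintype K] (φ : K →* ℂˣ) :
    (finrank ℂ (eigenSub N ρ K φ) : ℂ) =
      Cfsg.classInner (fun k : K => ρ.character k) (fun k => (φ k : ℂ)) := by
  classical
  set P : Module.End ℂ V := (Nat.card K : ℂ)⁻¹ • ∑ k : K, conj (φ k : ℂ) • ρ (k : N)
  have hone : ∀ k : K, conj (φ k : ℂ) * (φ k : ℂ) = 1 := fun k => by
    rw [← IsCharacter.conj_inv (isCharacter_linear φ) k, ← Units.val_mul, ← map_mul, inv_mul_cancel,
      map_one, Units.val_one]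
  have hne : (Nat.card K : ℂ) ≠ 0 := by exact_mod_cast Nat.card_pos.ne'
  have hproj : LinearMap.IsProj (eigenSub N ρ K φ) P := by
    refine ⟨fun v k => ?_, fun v hv => ?_⟩
    · simp only [P, LinearMap.smul_apply, LinearMap.sum_apply, map_smul, map_sum, Finset.smul_sum]
      refine Fintype.sum_equiv (Equiv.mulLeft k) _ _ fun l => ?_
      simp only [Equiv.coe_mulLeft, smul_smul]
      rw [show ρ ((k * l : K) : N) v = ρ (k : N) (ρ (l : N) v) by rw [Subgroup.coe_mul, map_mul]; rfl]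
      congr 1
      rw [map_mul φ, Units.val_mul, map_mul (starRingEnd ℂ)]
      linear_combination (norm := ring_nf) -((Nat.card K : ℂ)⁻¹ * conj (φ l : ℂ)) * hone k
    · simp only [P, LinearMap.smul_apply, LinearMap.sum_apply]
      rw [Finset.sum_congr rfl (g := fun _ => v) fun k _ => by rw [hv k, smul_smul, hone, one_smul],
        Finset.sum_const, Finset.card_univ, ← Nat.card_eq_fintype_card, ← Nat.cast_smul_eq_nsmul ℂ,
        smul_smul, inv_mul_cancel₀ hne, one_smul]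
  rw [← hproj.trace, classInner_def]
  simp only [P, map_smul, map_sum, smul_eq_mul]
  exact congrArg _ (Finset.sum_congr rfl fun k _ => mul_comm _ _)

/-- An eigenspace preserved by a supplement gives a splitting exponent. -/
theorem hasSplit_eigen (Q : Subgroup G) (hQ : Q ⊔ N = ⊤) (K : Subgroup N) (φ : K →* ℂˣ)
    (hnorm : ∀ q ∈ Q, ∀ k : K, ∃ h : (⟨q * ((k : N) : G) * q⁻¹,
      (inferInstance : N.Normal).conj_mem _ (k : N).2 q⟩ : N) ∈ K, φ ⟨_, h⟩ = φ k)
    (μ : Q →* ℂˣ) (hQK : ∀ n : N, ∀ hn : (n : G) ∈ Q, ∃ h : n ∈ K, μ ⟨n, hn⟩ = φ ⟨n, h⟩) :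
    HasSplit N ρ (finrank ℂ (eigenSub N ρ K φ) : ℤ) := by
  classical
  set W := eigenSub N ρ K φ
  set EP : Subgroup (twGroup N ρ) := Q.comap (twProj N ρ)
  have hW : ∀ e : EP, ∀ v ∈ W, twNat N ρ e v ∈ W := by
    intro e v hv k
    set q := twProj N ρ e
    obtain ⟨h, hφ⟩ := hnorm q⁻¹ (inv_mem e.2) k
    have hv' := hv ⟨_, h⟩
    have ht := LinearMap.congr_fun
      (twists_twNat N ρ (e : twGroup N ρ) ⟨q⁻¹ * ((k : N) : G) * q⁻¹⁻¹,
        (inferInstance : N.Normal).conj_mem _ (k : N).2 q⁻¹⟩) v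
    simp only [Module.End.mul_apply] at ht
    rw [hv', map_smul, hφ] at ht
    rw [ht]
    congr 2
    apply Subtype.ext
    simp [q, mul_assoc]
  let L : EP →* Module.End ℂ W :=
    { toFun := fun e => (twNat N ρ e).restrict (hW e)
      map_one' := LinearMap.ext fun v => Subtype.ext (by simp)
      map_mul' := fun a b => LinearMap.ext fun v => Subtype.ext (by simp) }
  let pr : EP →* Q := ((twProj N ρ).comp EP.subtype).codRestrict Q fun e => e.2
  let s : EP →* ℂˣ := (Units.map (LinearMap.det (A := ℂ) (M := W))).comp L.toHomUnits *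
    ((μ.comp pr) ^ finrank ℂ W)⁻¹
  have hs1 : ∀ (n : N) (h : twIncl N ρ n ∈ EP), s ⟨twIncl N ρ n, h⟩ = 1 := by
    intro n h
    obtain ⟨hn, hμ⟩ := hQK n h
    show Units.map (LinearMap.det (A := ℂ) (M := W)) (L.toHomUnits ⟨twIncl N ρ n, h⟩) *
      ((μ.comp pr) ⟨twIncl N ρ n, h⟩ ^ finrank ℂ W)⁻¹ = 1
    rw [mul_inv_eq_one]
    apply Units.ext
    have hL : L ⟨twIncl N ρ n, h⟩ = (φ ⟨n, hn⟩ : ℂ) • (1 : Module.End ℂ W) :=
      LinearMap.ext fun v => Subtype.ext (v.2 ⟨n, hn⟩)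
    show LinearMap.det (L ⟨twIncl N ρ n, h⟩) = _
    rw [hL, LinearMap.det_smul, map_one, mul_one, Units.val_pow_eq_pow_val, ← hμ]
    rfl
  have hdec : ∀ e : twGroup N ρ, ∃ (n : N) (e' : EP), e = twIncl N ρ n * e' := by
    intro e
    obtain ⟨a, ha, b, hb, hab⟩ := Subgroup.mem_sup_of_normal_left.mp
      (sup_comm Q N ▸ hQ ▸ Subgroup.mem_top (twProj N ρ e) : twProj N ρ e ∈ N ⊔ Q)
    refine ⟨⟨a, ha⟩, ⟨(twIncl N ρ ⟨a, ha⟩)⁻¹ * e, ?_⟩, by simp⟩
    show twProj N ρ _ ∈ Q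
    rw [map_mul, map_inv, twProj_twIncl, ← hab, inv_mul_cancel_left]
    exact hb
  choose nn ee hee using hdec
  have hwell : ∀ (e : twGroup N ρ) (n : N) (e' : EP), e = twIncl N ρ n * e' → s (ee e) = s e' := by
    intro e n e' he
    have h1 : ((ee e * e'⁻¹ : EP) : twGroup N ρ) = twIncl N ρ ((nn e)⁻¹ * n) := by
      rw [Subgroup.coe_mul, Subgroup.coe_inv, map_mul, map_inv, mul_inv_eq_iff_eq_mul, mul_assoc, ← he,
        eq_inv_mul_iff_mul_eq]
      exact (hee e).symm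
    have h2 : s (ee e * e'⁻¹) = 1 := by
      rw [show ee e * e'⁻¹ = ⟨twIncl N ρ ((nn e)⁻¹ * n), h1 ▸ (ee e * e'⁻¹).2⟩ from Subtype.ext h1]
      exact hs1 _ _
    rw [map_mul, map_inv, mul_inv_eq_one] at h2
    exact h2
  refine ⟨⟨⟨fun e => s (ee e), ?_⟩, fun a b => ?_⟩, fun n => ?_, fun e => ?_⟩
  · rw [hwell 1 1 1 (by simp), map_one]
  · show s (ee (a * b)) = s (ee a) * s (ee b)
    rw [← map_mul]
    have hc := twIncl_conj N ρ (ee a : twGroup N ρ) (nn b)
    refine hwell _ (nn a * ⟨twProj N ρ (ee a) * nn b * (twProj N ρ (ee a))⁻¹,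
      (inferInstance : N.Normal).conj_mem _ (nn b).2 _⟩) (ee a * ee b) ?_
    rw [map_mul, ← hc, Subgroup.coe_mul]
    conv_lhs => rw [hee a, hee b]
    group
  · show s (ee (twIncl N ρ n)) = 1
    rw [hwell (twIncl N ρ n) n 1 (by simp), map_one]
  · show s (ee (e : twGroup N ρ)) = _
    have he : (e : twGroup N ρ) ∈ EP := by
      show twProj N ρ e ∈ Q
      rw [show twProj N ρ e = 1 from e.2]
      exact Q.one_mem
    rw [hwell _ 1 ⟨e, he⟩ (by simp)]
    show Units.map (LinearMap.det (A := ℂ) (M := W)) (L.toHomUnits ⟨e, he⟩) *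
      ((μ.comp pr) ⟨e, he⟩ ^ finrank ℂ W)⁻¹ = _
    have hμ1 : (μ.comp pr) ⟨e, he⟩ = 1 := by
      rw [MonoidHom.comp_apply, show pr ⟨e, he⟩ = 1 from Subtype.ext e.2, map_one]
    rw [hμ1, one_pow, inv_one, mul_one, zpow_natCast]
    apply Units.ext
    have hL : L ⟨e, he⟩ = (twScalar N ρ e : ℂ) • (1 : Module.End ℂ W) :=
      LinearMap.ext fun v => Subtype.ext (LinearMap.congr_fun (twScalar_spec N ρ e) (v : V))
    show LinearMap.det (L ⟨e, he⟩) = _
    rw [hL, LinearMap.det_smul, map_one, mul_one, Units.val_pow_eq_pow_val]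

end Eigen

/-- A linear character of a subgroup of an abelian group extends. -/
theorem exists_linear_extension {A : Type u} [Group A] [Finite A] (hA : ∀ a b : A, a * b = b * a)
    (B : Subgroup A) (lam : B →* ℂˣ) : ∃ μ : A →* ℂˣ, ∀ b : B, μ b = lam b := by
  classical
  have := Fintype.ofFinite A
  have := Fintype.ofFinite B
  haveI : B.Normal := ⟨fun b hb a => by rw [hA a b, mul_inv_cancel_right]; exact hb⟩
  obtain ⟨χ, hχ, hc⟩ := exists_over B (isIrrCharacter_linear lam)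
  obtain ⟨μ, hμ⟩ := exists_hom_of_deg_one (isCharacter_of_irr hχ) (irr_deg_one_of_comm hA hχ)
  refine ⟨μ, fun b => Units.ext ?_⟩
  by_contra hne
  apply hc
  rw [hμ, show (fun n : B => (μ n : ℂ)) = fun n : B => ((μ.comp B.subtype) n : ℂ) from rfl,
    classInner_irrChar (isIrrCharacter_linear _) (isIrrCharacter_linear lam), if_neg]
  exact fun h => hne (congrFun h b)

/-- Invariant characters extend when the Sylow intersection is central with extendible linear
characters. -/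
theorem exists_extension_central_sylow {p : ℕ} [hp : Fact p.Prime] (hind : ∃ k, N.index = p ^ k)
    (P : Sylow p G) (hcent : ∀ x ∈ (P : Subgroup G) ⊓ N, ∀ y ∈ (P : Subgroup G), x * y = y * x)
    (hlin : ∀ lam : ↥((P : Subgroup G) ⊓ N) →* ℂˣ, ∃ μ : ↥(P : Subgroup G) →* ℂˣ,
      ∀ x : ↥((P : Subgroup G) ⊓ N), μ ⟨(x : G), x.2.1⟩ = lam x)
    {ϑ : N → ℂ} (hϑ : Cfsg.IsIrrCharacter N ϑ) (hinv : ∀ g : G, conjN N g ϑ = ϑ) :
    ∃ χ : G → ℂ, Cfsg.IsIrrCharacter G χ ∧ ∀ n : N, χ n = ϑ n := by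
  classical
  have := Fintype.ofFinite N
  obtain ⟨E, hFin, φc, hE, htop, hφ, hφinv, m, hm, hmv⟩ :=
    Cfsg.Lib.DadeDetect.exists_detect hp.out N hind hϑ hinv
  have := Fintype.ofFinite E
  obtain ⟨k, hk⟩ := hind
  obtain ⟨x, hxc, hxo, j, hj⟩ := hE
  -- the `p`-part of `E`
  obtain ⟨Q₁⟩ := (inferInstance : Nonempty (Sylow p E))
  set Q : Subgroup G := (Q₁ : Subgroup E).map E.subtype
  have hQp : IsPGroup p Q := Q₁.2.map E.subtype
  obtain ⟨P', hP'⟩ := hQp.exists_le_sylow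
  obtain ⟨g, hg⟩ := MulAction.exists_smul_eq G P' P
  have hgQ : ∀ q ∈ Q, g * q * g⁻¹ ∈ (P : Subgroup G) := fun q hq => by
    rw [← hg]
    exact ⟨q, hP' hq, rfl⟩
  have hgN : ∀ q ∈ N, g * q * g⁻¹ ∈ N := fun q hq => (inferInstance : N.Normal).conj_mem q hq g
  have hzE : Subgroup.zpowers x ⊔ (Q₁ : Subgroup E) = ⊤ := by
    have h1 : Nat.card (Subgroup.zpowers x) * (Subgroup.zpowers x).index = Nat.card E :=
      (Subgroup.zpowers x).card_mul_index
    apply Subgroup.eq_top_of_card_eq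
    refine Nat.dvd_antisymm (Subgroup.card_subgroup_dvd_card _) ?_
    obtain ⟨i, hi⟩ := IsPGroup.iff_card.mp Q₁.2
    have hcop : (Nat.card (Subgroup.zpowers x)).Coprime p := by rwa [Nat.card_zpowers]
    have hQcard : p ^ j ∣ Nat.card (Q₁ : Subgroup E) := by
      have h2 := (Q₁ : Subgroup E).card_mul_index
      refine (Nat.Coprime.pow_left j ((hp.out.coprime_iff_not_dvd).mpr Q₁.not_dvd_index)).dvd_of_dvd_mul_right ?_
      rw [h2, ← h1, hj]
      exact dvd_mul_left _ _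
    have hsub : Nat.card E ∣ Nat.card (Subgroup.zpowers x) * Nat.card (Q₁ : Subgroup E) := by
      rw [← h1, hj]; exact mul_dvd_mul_left _ hQcard
    refine hsub.trans (Nat.Coprime.mul_dvd_of_dvd_of_dvd ?_ (Subgroup.card_dvd_of_le le_sup_left)
      (Subgroup.card_dvd_of_le le_sup_right))
    rw [hi]
    exact hcop.pow_right i
  have hdec : ∀ e : E, ∃ a ∈ Subgroup.zpowers x, ∃ q ∈ (Q₁ : Subgroup E), a * q = e := by
    intro e
    haveI : (Subgroup.zpowers x).Normal := Cfsg.Lib.Blocks.normal_of_le_center' (by rwa [Subgroup.zpowers_le])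
    exact Subgroup.mem_sup_of_normal_left.mp (hzE ▸ Subgroup.mem_top e)
  have hxN : (x : G) ∈ N := mem_of_coprime_pPow hp.out N hk (by rwa [Subgroup.orderOf_coe])
  have haN : ∀ a ∈ Subgroup.zpowers x, ((a : E) : G) ∈ N := fun a ha => by
    obtain ⟨i, rfl⟩ := ha
    simpa using zpow_mem hxN i
  have hQN : Q ⊔ N = ⊤ := by
    rw [eq_top_iff, ← htop]
    refine sup_le (fun e he => ?_) le_sup_right
    obtain ⟨a, ha, q, hq, hh⟩ := hdec ⟨e, he⟩
    have : (a : G) * (q : G) = e := congrArg Subtype.val hh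
    rw [← this]
    exact mul_mem (Subgroup.mem_sup_right (haN a ha)) (Subgroup.mem_sup_left ⟨q, hq, rfl⟩)
  -- the intersection is central in `E`
  have hKc : ∀ e : E, ((e : G) ∈ N) → ∀ e' : E, e * e' = e' * e := by
    intro e he e'
    obtain ⟨a, ha, q, hq, rfl⟩ := hdec e
    obtain ⟨a', ha', q', hq', rfl⟩ := hdec e'
    have hac : ∀ b ∈ Subgroup.zpowers x, ∀ z : E, Commute b z := fun b hb z => by
      obtain ⟨i, rfl⟩ := hb
      exact (show Commute x z from (Subgroup.mem_center_iff.mp hxc z).symm).zpow_left i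
    have hqN : (q : G) ∈ N := by
      have := N.mul_mem (N.inv_mem (haN a ha)) he
      simpa using this
    have hqq : Commute q q' := by
      have h1 := hcent _ ⟨hgQ q ⟨q, hq, rfl⟩, hgN q hqN⟩ _ (hgQ q' ⟨q', hq', rfl⟩)
      have h2 := congrArg (fun z => g⁻¹ * z * g) h1
      exact Subtype.ext (by simpa [mul_assoc] using h2)
    exact (((hac a ha a').mul_right (hac a ha q')).mul_left (((hac a' ha' q).symm).mul_right hqq)).eq
  have hlin1 : φc 1 = 1 := irr_deg_one_of_comm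
    (fun a b => Subtype.ext (hKc a.1 a.2 b.1)) hφ
  obtain ⟨φh, hφh⟩ := exists_hom_of_deg_one (isCharacter_of_irr hφ) hlin1
  -- view it inside `N`
  set K : Subgroup N := E.subgroupOf N
  let f : K ≃* N.subgroupOf E :=
    { toFun := fun y => ⟨⟨((y : N) : G), y.2⟩, (y : N).2⟩
      invFun := fun y => ⟨⟨((y : E) : G), y.2⟩, (y : E).2⟩
      left_inv := fun y => rfl
      right_inv := fun y => rfl
      map_mul' := fun a b => rfl }
  let φ : K →* ℂˣ := φh.comp f.toMonoidHom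
  have := Fintype.ofFinite K
  obtain ⟨d, ρ, hρ, hρϑ⟩ := hϑ
  haveI := hρ
  have hdimW : finrank ℂ (eigenSub N ρ K φ) = m := by
    apply Nat.cast_injective (R := ℂ)
    rw [finrank_eigenSub N ρ K φ, hρϑ, ← hmv, hφh, ← classInner_comp_equiv f.toEquiv]
    rfl
  -- a linear character of `Q` extending `φ`
  have hQE : Q ≤ E := Subgroup.map_subtype_le _
  let ν : ↥(Q ⊓ N) →* ℂˣ := φh.comp
    { toFun := fun y => ⟨⟨(y : G), hQE y.2.1⟩, y.2.2⟩, map_one' := rfl, map_mul' := fun _ _ => rfl }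
  obtain ⟨μ, hμ⟩ : ∃ μ : Q →* ℂˣ, ∀ y : ↥(Q ⊓ N), μ ⟨y, y.2.1⟩ = ν y := by
    let c : ↥(Q ⊓ N) →* ↥((P : Subgroup G) ⊓ N) :=
      ((MulAut.conj g).toMonoidHom.comp (Q ⊓ N).subtype).codRestrict _
        fun y => ⟨hgQ _ y.2.1, hgN _ y.2.2⟩
    have hc : Function.Injective c := fun a b h => Subtype.ext ((MulAut.conj g).injective (congrArg Subtype.val h))
    let e := MonoidHom.ofInjective hc
    have hA : ∀ a b : ↥((P : Subgroup G) ⊓ N), a * b = b * a := fun a b =>
      Subtype.ext (hcent a a.2 b b.2.1)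
    obtain ⟨lam, hlam⟩ := exists_linear_extension hA c.range (ν.comp e.symm.toMonoidHom)
    obtain ⟨μP, hμP⟩ := hlin lam
    refine ⟨μP.comp (((MulAut.conj g).toMonoidHom.comp Q.subtype).codRestrict _ fun y => hgQ _ y.2),
      fun y => ?_⟩
    show μP ⟨g * (y : G) * g⁻¹, _⟩ = ν y
    rw [show μP ⟨g * (y : G) * g⁻¹, _⟩ = lam (c y) from hμP (c y),
      show lam (c y) = (ν.comp e.symm.toMonoidHom) ⟨c y, ⟨y, rfl⟩⟩ from hlam ⟨c y, ⟨y, rfl⟩⟩]
    show ν (e.symm ⟨c y, ⟨y, rfl⟩⟩) = ν y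
    congr 1
    exact e.symm_apply_eq.mpr (Subtype.ext rfl)
  have hinv' : ∀ a : G, conjN N a ρ.character = ρ.character := fun a => by rw [hρϑ]; exact hinv a
  have hsm := hasSplit_eigen N ρ Q hQN K φ (fun q hq y => ⟨E.mul_mem (E.mul_mem (hQE hq) y.2) (E.inv_mem (hQE hq)), by
      apply congrArg φh
      apply Subtype.ext
      apply Subtype.ext
      show q * ((y : N) : G) * q⁻¹ = ((y : N) : G)
      rw [mul_inv_eq_iff_eq_mul]
      exact (congrArg Subtype.val (hKc ⟨((y : N) : G), y.2⟩ (y : N).2 ⟨q, hQE hq⟩)).symm⟩)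
    μ (fun n hn => ⟨hQE hn, hμ ⟨n, hn, n.2⟩⟩)
  rw [hdimW] at hsm
  have hidx := hasSplit_index N ρ hinv'
  have hcop : Nat.Coprime N.index m := hk ▸ ((hp.out.coprime_iff_not_dvd).mpr hm).pow_left k
  have hb := Nat.gcd_eq_gcd_ab N.index m
  rw [hcop.gcd_eq_one] at hb
  have hsplit : HasSplit N ρ 1 := by
    have h := (splitExponents N ρ).add_mem
      ((splitExponents N ρ).zsmul_mem hidx (Nat.gcdA N.index m))
      ((splitExponents N ρ).zsmul_mem hsm (Nat.gcdB N.index m))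
    rw [smul_eq_mul, smul_eq_mul, mul_comm (Nat.gcdA N.index m), mul_comm (Nat.gcdB N.index m), ← hb,
      Nat.cast_one] at h
    exact h
  obtain ⟨R, hR⟩ := exists_extension_of_hasSplit N ρ hinv' hsplit
  obtain ⟨hη, hηN⟩ := exists_irr_ext_of_rep N ρ R hR
  exact ⟨R.character, hη, fun n => (hηN n).trans (congrFun hρϑ n)⟩

end Cfsg.Lib.Chars
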