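import Mathlib
import Cfsg.Prelude
import Cfsg.Agent.Chars.Count
import Cfsg.Agent.Chars.Construct
import Cfsg.Agent.Chars.Clifford
import Cfsg.Agent.Chars.Galois
import Cfsg.Agent.Coprime.Generation
import Cfsg.Agent.Coprime.Action
import Cfsg.Agent.S4755

/-!
Groups whose irreducible characters are multiplicative on pairs of prime-power elements for two primes.
-/

set_option autoImplicit false
set_option linter.style.haveILetI false

namespace Cfsg.Lib.Chars.PrimePairs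

open Subgroup
open scoped ComplexConjugate commutatorElement Pointwise

universe u

variable {G : Type u} [Group G] [Finite G]

/-- The number of linear characters is the index of the commutator subgroup. -/
theorem card_linear (G : Type u) [Group G] [Finite G] :
    Nat.card {χ : Cfsg.IrrCharacter G // (χ : G → ℂ) 1 = 1} = (commutator G).index := by
  classical
  have hcomm : ∀ a b : G ⧸ commutator G, a * b = b * a := by
    intro a b
    induction a using QuotientGroup.induction_on with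
    | _ a =>
      induction b using QuotientGroup.induction_on with
      | _ b =>
        rw [← QuotientGroup.mk_mul, ← QuotientGroup.mk_mul, QuotientGroup.eq,
          show (a * b)⁻¹ * (b * a) = ⁅b⁻¹, a⁻¹⁆ by rw [commutatorElement_def]; group, _root_.commutator_def]
        exact commutator_mem_commutator (mem_top _) (mem_top _)
  let f := QuotientGroup.mk' (commutator G)
  have hf : Function.Surjective f := QuotientGroup.mk'_surjective _
  let Φ : Cfsg.IrrCharacter (G ⧸ commutator G) → {χ : Cfsg.IrrCharacter G // (χ : G → ℂ) 1 = 1} := fun φ =>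
    ⟨⟨fun x => (φ : G ⧸ commutator G → ℂ) (f x), IsIrrCharacter.comp_surjective φ.2 f hf⟩, by
      show (φ : G ⧸ commutator G → ℂ) (f 1) = 1
      rw [map_one]; exact irr_deg_one_of_comm hcomm φ.2⟩
  have hΦ : Function.Bijective Φ := by
    refine ⟨fun φ ψ e => Subtype.ext (funext fun z => ?_), fun χ => ?_⟩
    · obtain ⟨x, rfl⟩ := hf z
      exact congrFun (congrArg (fun t : {χ : Cfsg.IrrCharacter G // (χ : G → ℂ) 1 = 1} => (t.1 : G → ℂ)) e) x
    · obtain ⟨l, hl⟩ := exists_hom_of_deg_one (isCharacter_of_irr χ.1.2) χ.2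
      let l' : G ⧸ commutator G →* ℂˣ := QuotientGroup.lift (commutator G) l (Abelianization.commutator_subset_ker l)
      refine ⟨⟨fun z => ((l' z : ℂˣ) : ℂ), isIrrCharacter_linear l'⟩, Subtype.ext (Subtype.ext ?_)⟩
      show (fun x => ((l' (f x) : ℂˣ) : ℂ)) = (χ.1 : G → ℂ)
      rw [hl]
      rfl
  rw [← Nat.card_eq_of_bijective Φ hΦ, card_irrCharacter, Subgroup.index_eq_card]
  refine (Nat.card_eq_of_bijective ConjClasses.mk ⟨fun a b e => ?_, ConjClasses.mk_surjective⟩).symm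
  obtain ⟨c, hc⟩ := isConj_iff.1 (ConjClasses.mk_eq_mk_iff_isConj.1 e)
  rw [← hc, hcomm c a, mul_inv_cancel_right]

/-- A linear character takes conjugate values of product one on a coset of the commutator subgroup. -/
theorem linear_mul_conj {χ : Cfsg.IrrCharacter G} (h1 : (χ : G → ℂ) 1 = 1) {g h : G}
    (hgh : g⁻¹ * h ∈ commutator G) : (χ : G → ℂ) g * conj ((χ : G → ℂ) h) = 1 := by
  obtain ⟨l, hl⟩ := exists_hom_of_deg_one (isCharacter_of_irr χ.2) h1
  have h4 : l g = l h := by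
    have := Abelianization.commutator_subset_ker l hgh
    rwa [MonoidHom.mem_ker, map_mul, map_inv, inv_mul_eq_one] at this
  rw [hl]
  simp only [h4]
  have hpow : ((l h : ℂˣ) : ℂ) ^ orderOf h = 1 := by
    rw [← Units.val_pow_eq_pow_val, ← map_pow, pow_orderOf_eq_one, map_one, Units.val_one]
  have hn : ‖((l h : ℂˣ) : ℂ)‖ = 1 := Complex.norm_eq_one_of_pow_eq_one hpow (orderOf_pos h).ne'
  rw [Complex.mul_conj, Complex.normSq_eq_norm_sq, hn]
  simp

open scoped Classical in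
/-- The column sum when all nonlinear characters contribute zero. -/
theorem sum_of_vanish {g h : G} (hgh : g⁻¹ * h ∈ commutator G)
    (hv : ∀ χ : Cfsg.IrrCharacter G, (χ : G → ℂ) 1 ≠ 1 → (χ : G → ℂ) g * conj ((χ : G → ℂ) h) = 0) :
    IsConj g h ∧ Nat.card (centralizer ({g} : Set G)) = (commutator G).index := by
  have h2 := second_orthogonality g h
  rw [Finset.sum_congr rfl (fun (χ : Cfsg.IrrCharacter G) _ => show (χ : G → ℂ) g * conj ((χ : G → ℂ) h) =
      if (χ : G → ℂ) 1 = 1 then 1 else 0 by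
    split_ifs with h1
    · exact linear_mul_conj h1 hgh
    · exact hv χ h1), Finset.sum_boole] at h2
  have hcard : (Finset.univ.filter fun χ : Cfsg.IrrCharacter G => (χ : G → ℂ) 1 = 1).card = (commutator G).index := by
    rw [← card_linear G, Nat.card_eq_fintype_card, Fintype.card_subtype]
  rw [hcard] at h2
  have hpos : (commutator G).index ≠ 0 := index_ne_zero_of_finite
  split_ifs at h2 with hc
  · exact ⟨hc, (Nat.cast_injective h2).symm⟩
  · exact absurd (Nat.cast_eq_zero.1 h2) hpos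

/-- No irreducible character vanishes on all nonidentity elements of a nontrivial normal subgroup. -/
theorem exists_ne_zero (N : Subgroup G) [N.Normal] (hN : N ≠ ⊥) (χ : Cfsg.IrrCharacter G) :
    ∃ w ∈ N, w ≠ 1 ∧ (χ : G → ℂ) w ≠ 0 := by
  classical
  by_contra hall
  push Not at hall
  haveI := Fintype.ofFinite N
  haveI := Fintype.ofFinite G
  have h0 : (χ : G → ℂ) 1 ≠ 0 := IsIrrCharacter.apply_one_ne_zero χ.2
  have hne : Cfsg.classInner (fun n : N => (χ : G → ℂ) n) (fun _ => 1) ≠ 0 := by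
    rw [classInner_def, Finset.sum_eq_single (1 : N)]
    · simp only [map_one, mul_one, OneMemClass.coe_one]
      exact mul_ne_zero (inv_ne_zero (Nat.cast_ne_zero.2 Nat.card_pos.ne')) h0
    · intro b _ hb
      rw [hall b b.2 (fun e => hb (Subtype.ext e)), zero_mul]
    · intro hh; exact absurd (Finset.mem_univ _) hh
  obtain ⟨e, he, heq⟩ := restrict_eq_mult_of_invariant (N := N) χ.2 (θ := fun _ => 1) isIrrCharacter_one
    (fun g => rfl) hne
  obtain ⟨w, hw, hw1⟩ := (Subgroup.nontrivial_iff_exists_ne_one N).1 (N.nontrivial_iff_ne_bot.2 hN)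
  have := congrFun heq ⟨w, hw⟩
  simp only [Pi.smul_apply, smul_eq_mul, mul_one] at this
  rw [hall w hw hw1] at this
  exact he.ne' (Nat.cast_eq_zero.1 this.symm)

/-- The structure: a normal Sylow subgroup with an abelian complement acting fixed point freely. -/
theorem vanish_outside {p : ℕ} [Fact p.Prime] (P : Sylow p G) (A : Subgroup G) (hPn : (P : Subgroup G).Normal)
    (hAc : IsCyclic A) (hA : (Nat.card A).Coprime p) (hsup : A ⊔ (P : Subgroup G) = ⊤)
    (hC : IsMulCommutative ↥((P : Subgroup G) ⊓ centralizer (A : Set G))) (hD : (⁅A, (P : Subgroup G)⁆).Normal)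
    (hCD : ((P : Subgroup G) ⊓ centralizer (A : Set G)) ⊔ ⁅A, (P : Subgroup G)⁆ = (P : Subgroup G))
    (hfpf : ∀ a ∈ A, a ≠ 1 → ∀ d ∈ ⁅A, (P : Subgroup G)⁆, a * d = d * a → d = 1)
    {g : G} (hg : g ∉ (P : Subgroup G)) (χ : Cfsg.IrrCharacter G) (hχ : (χ : G → ℂ) 1 ≠ 1) :
    (χ : G → ℂ) g = 0 := by
  classical
  set C := (P : Subgroup G) ⊓ centralizer (A : Set G) with hCdef
  set D := ⁅A, (P : Subgroup G)⁆ with hDdef
  have hDP : D ≤ (P : Subgroup G) := by
    haveI := hPn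
    exact commutator_le_right _ _
  have hCA : C ≤ normalizer (A : Set G) := inf_le_right.trans (centralizer_le_normalizer _)
  have htop : D ⊔ (C ⊔ A) = ⊤ := by
    rw [← sup_assoc, sup_comm D C, hCD, sup_comm, hsup]
  have hH : ∀ w ∈ C ⊔ A, ∃ c ∈ C, ∃ a ∈ A, w = c * a := fun w hw => by
    have h : w ∈ ((C : Set G) * (A : Set G)) := by
      rw [← coe_mul_of_left_le_normalizer_right C A hCA]
      exact hw
    obtain ⟨c, hc, a, ha, rfl⟩ := h
    exact ⟨c, hc, a, ha, rfl⟩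
  have hHcomm : ∀ v ∈ C ⊔ A, ∀ w ∈ C ⊔ A, v * w = w * v := by
    intro v hv w hw
    obtain ⟨c, hc, a, ha, rfl⟩ := hH v hv
    obtain ⟨c', hc', a', ha', rfl⟩ := hH w hw
    haveI := hAc
    letI : CommGroup A := IsCyclic.commGroup
    have e1 : Commute c c' := congrArg Subtype.val (mul_comm' (⟨c, hc⟩ : C) ⟨c', hc'⟩)
    have e2 : Commute a a' := congrArg Subtype.val (mul_comm (⟨a, ha⟩ : A) ⟨a', ha'⟩)
    have e3 : ∀ x ∈ C, ∀ y ∈ A, Commute x y := fun x hx y hy => (mem_centralizer_iff.1 hx.2 y hy).symm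
    exact ((e1.mul_right (e3 c hc a' ha')).mul_left ((e3 c' hc' a ha).symm.mul_right e2)).eq
  have hG'D : commutator G ≤ D := by
    haveI := hD
    rw [_root_.commutator_def, commutator_le]
    intro x _ y _
    obtain ⟨d, hd, v, hv, rfl⟩ := mem_sup_of_normal_left.1 (htop.ge (mem_top x))
    obtain ⟨d', hd', w, hw, rfl⟩ := mem_sup_of_normal_left.1 (htop.ge (mem_top y))
    rw [← QuotientGroup.eq_one_iff, ← QuotientGroup.mk'_apply, map_commutatorElement, map_mul, map_mul,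
      show QuotientGroup.mk' D d = 1 from (QuotientGroup.eq_one_iff d).2 hd,
      show QuotientGroup.mk' D d' = 1 from (QuotientGroup.eq_one_iff d').2 hd', one_mul, one_mul,
      commutatorElement_eq_one_iff_mul_comm, ← map_mul, ← map_mul, hHcomm v hv w hw]
  haveI := hD
  obtain ⟨d₀, hd₀, v, hv, rfl⟩ := mem_sup_of_normal_left.1 (htop.ge (mem_top g))
  have hvP : v ∉ (P : Subgroup G) := fun h => hg (mul_mem (hDP hd₀) h)
  obtain ⟨c, hc, a, ha, rfl⟩ := hH v hv
  have ha1 : a ≠ 1 := fun e => hvP (by rw [e, mul_one]; exact hc.1)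
  set v := c * a with hv_def
  have hinf : ∀ w ∈ D, Commute w v → w = 1 := by
    intro w hw hwv
    have hca : Commute c a := (mem_centralizer_iff.1 hc.2 a ha).symm
    have hcm : c ^ Nat.card (P : Subgroup G) = 1 :=
      congrArg Subtype.val (pow_card_eq_one' (x := (⟨c, hc.1⟩ : (P : Subgroup G))))
    have hvm : v ^ Nat.card (P : Subgroup G) = a ^ Nat.card (P : Subgroup G) := by
      rw [hca.mul_pow, hcm, one_mul]
    have ham : a ^ Nat.card (P : Subgroup G) ≠ 1 := fun e => ha1 (orderOf_eq_one_iff.1 (by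
      obtain ⟨k, hk⟩ := IsPGroup.iff_card.1 P.2
      refine Nat.eq_one_of_dvd_coprimes (hA.pow_right k) ?_ (hk ▸ orderOf_dvd_of_pow_eq_one e)
      rw [← Subgroup.orderOf_mk a ha]
      exact orderOf_dvd_natCard _))
    refine hfpf _ (pow_mem ha _) ham w hw ?_
    rw [← hvm]
    exact ((hwv.symm).pow_left _).eq
  obtain ⟨d, hd⟩ : ∃ d ∈ D, d * v * d⁻¹ = d₀ * v := by
    let φ : D → D := fun d => ⟨(d : G) * (v * (d : G)⁻¹ * v⁻¹), mul_mem d.2 (hD.conj_mem _ (inv_mem d.2) v)⟩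
    have hφ : Function.Injective φ := by
      intro d e hde
      have h : (d : G) * (v * (d : G)⁻¹ * v⁻¹) = (e : G) * (v * (e : G)⁻¹ * v⁻¹) := congrArg Subtype.val hde
      refine Subtype.ext (inv_mul_eq_one.1 (hinf _ (mul_mem (inv_mem e.2) d.2) ?_)).symm
      show (e : G)⁻¹ * d * v = v * ((e : G)⁻¹ * d)
      calc (e : G)⁻¹ * d * v = (e : G)⁻¹ * ((d : G) * (v * (d : G)⁻¹ * v⁻¹)) * v * d := by group
        _ = (e : G)⁻¹ * ((e : G) * (v * (e : G)⁻¹ * v⁻¹)) * v * d := by rw [h]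
        _ = v * ((e : G)⁻¹ * d) := by group
    obtain ⟨d, hd⟩ := Finite.injective_iff_surjective.1 hφ ⟨d₀, hd₀⟩
    refine ⟨d, d.2, ?_⟩
    have h : (d : G) * (v * (d : G)⁻¹ * v⁻¹) = d₀ := congrArg Subtype.val hd
    rw [← h]; group
  obtain ⟨-, hd⟩ := hd
  have hvv : (χ : G → ℂ) (d₀ * v) = (χ : G → ℂ) v := by rw [← hd]; exact isClassFunction_irr χ v d
  rw [hvv]
  -- the centralizer of v is small
  have hle : Nat.card (centralizer ({v} : Set G)) ≤ (commutator G).index := by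
    have h1 : Nat.card (centralizer ({v} : Set G)) ≤ D.index := by
      rw [index_eq_card]
      refine Nat.card_le_card_of_injective (fun w => QuotientGroup.mk' D (w : G)) fun w w' e => Subtype.ext ?_
      have h3 : (w : G)⁻¹ * w' ∈ D := QuotientGroup.eq.1 e
      exact inv_mul_eq_one.1 (hinf _ h3 (((mem_centralizer_singleton_iff.1 (mul_mem (inv_mem w.2) w'.2)))))
    exact h1.trans (Nat.le_of_dvd (Nat.pos_of_ne_zero index_ne_zero_of_finite) (index_dvd_of_le hG'D))
  have h2 := second_orthogonality v v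
  rw [if_pos (IsConj.refl v)] at h2
  have h3 : ∑ χ : Cfsg.IrrCharacter G, Complex.normSq ((χ : G → ℂ) v) = (Nat.card (centralizer ({v} : Set G)) : ℝ) := by
    have : ∑ χ : Cfsg.IrrCharacter G, ((Complex.normSq ((χ : G → ℂ) v) : ℝ) : ℂ) =
        ((Nat.card (centralizer ({v} : Set G)) : ℝ) : ℂ) := by
      simp only [← Complex.mul_conj]
      rw [h2]; simp
    exact_mod_cast this
  rw [← Finset.sum_filter_add_sum_filter_not _ (fun χ : Cfsg.IrrCharacter G => (χ : G → ℂ) 1 = 1)] at h3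
  have h4 : ∑ χ ∈ Finset.univ.filter (fun χ : Cfsg.IrrCharacter G => (χ : G → ℂ) 1 = 1),
      Complex.normSq ((χ : G → ℂ) v) = ((commutator G).index : ℝ) := by
    rw [Finset.sum_congr rfl (fun (χ : Cfsg.IrrCharacter G) hχ => show Complex.normSq ((χ : G → ℂ) v) = 1 from ?_), Finset.sum_const,
      nsmul_one, ← card_linear G, Nat.card_eq_fintype_card, Fintype.card_subtype]
    have h5 := linear_mul_conj (g := v) (h := v) (Finset.mem_filter.1 hχ).2 (by rw [inv_mul_cancel]; exact one_mem _)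
    rw [Complex.mul_conj] at h5
    exact_mod_cast h5
  have h6 : ∑ χ ∈ Finset.univ.filter (fun χ : Cfsg.IrrCharacter G => ¬ (χ : G → ℂ) 1 = 1),
      Complex.normSq ((χ : G → ℂ) v) = 0 := by
    refine le_antisymm ?_ (Finset.sum_nonneg fun χ _ => Complex.normSq_nonneg _)
    have : ((Nat.card (centralizer ({v} : Set G)) : ℕ) : ℝ) ≤ ((commutator G).index : ℝ) := by exact_mod_cast hle
    linarith
  exact Complex.normSq_eq_zero.1 ((Finset.sum_eq_zero_iff_of_nonneg fun χ _ => Complex.normSq_nonneg _).1 h6 χ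
    (Finset.mem_filter.2 ⟨Finset.mem_univ _, hχ⟩))

/-- The hypothesis: the product of the values vanishes for nonlinear characters. -/
def Vanish (G : Type u) [Group G] : Prop :=
  ∀ (x y : G) (χ : Cfsg.IrrCharacter G), x ≠ 1 → y ≠ 1 →
    (∃ p q a b : ℕ, p.Prime ∧ q.Prime ∧ p ≠ q ∧ orderOf x = p ^ a ∧ orderOf y = q ^ b) →
      (χ : G → ℂ) 1 ≠ 1 → (χ : G → ℂ) x * (χ : G → ℂ) y = 0

/-- Forward direction. -/
theorem structure_of_vanish (h : Vanish G) :
    (∃ p : ℕ, p.Prime ∧ IsPGroup p G) ∨ IsMulCommutative G ∨ ∃ (p : ℕ) (_ : Fact p.Prime) (P : Sylow p G)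
      (A : Subgroup G), (P : Subgroup G).Normal ∧ IsCyclic ↥A ∧ A ≠ ⊥ ∧ (Nat.card ↥A).Coprime p ∧
        A ⊔ (P : Subgroup G) = ⊤ ∧ IsMulCommutative ↥((P : Subgroup G) ⊓ centralizer (A : Set G)) ∧
        (⁅A, (P : Subgroup G)⁆).Normal ∧
        ((P : Subgroup G) ⊓ centralizer (A : Set G)) ⊔ ⁅A, (P : Subgroup G)⁆ = (P : Subgroup G) ∧
        ((P : Subgroup G) ⊓ centralizer (A : Set G)) ⊓ ⁅A, (P : Subgroup G)⁆ = ⊥ ∧
        ∀ a ∈ A, a ≠ 1 → ∀ d ∈ ⁅A, (P : Subgroup G)⁆, a * d = d * a → d = 1 := by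
  classical
  by_cases hab : commutator G = ⊥
  · refine Or.inr (Or.inl ⟨⟨fun a b => ?_⟩⟩)
    have h1 : ⁅a, b⁆ ∈ commutator G := by
      rw [_root_.commutator_def]; exact commutator_mem_commutator (mem_top a) (mem_top b)
    rw [hab, mem_bot] at h1
    exact commutatorElement_eq_one_iff_mul_comm.1 h1
  set N := commutator G with hN
  have hN1 : Nat.card N ≠ 1 := fun e => hab (Subgroup.card_eq_one.1 e)
  set p := (Nat.card N).minFac with hp_def
  haveI hp : Fact p.Prime := ⟨Nat.minFac_prime hN1⟩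
  obtain ⟨x₀, hx₀⟩ := exists_prime_orderOf_dvd_card' (G := N) p (Nat.minFac_dvd _)
  have hx₀' : orderOf (x₀ : G) = p ^ 1 := by rw [Subgroup.orderOf_coe, hx₀, pow_one]
  have hx₁ : (x₀ : G) ≠ 1 := fun e => hp.out.ne_one (by rw [← hx₀, ← Subgroup.orderOf_coe, e, orderOf_one])
  -- only one prime in the commutator subgroup
  have hpure : ∀ (y : G) (q b : ℕ), q.Prime → q ≠ p → orderOf y = q ^ b → y ∈ N → y = 1 := by
    intro y q b hq hqp hy hyN
    by_contra hy1
    obtain ⟨hconj, -⟩ := sum_of_vanish (g := (x₀ : G)) (h := y) (mul_mem (inv_mem x₀.2) hyN) fun χ hχ => by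
      rcases mul_eq_zero.1 (h _ _ χ hx₁ hy1 ⟨p, q, 1, b, hp.out, hq, hqp.symm, hx₀', hy⟩ hχ) with e | e
      · rw [e, zero_mul]
      · rw [e, map_zero, mul_zero]
    obtain ⟨k, hk⟩ := isConj_iff.1 hconj
    have ho : orderOf y = orderOf (x₀ : G) := by rw [← hk]; exact (MulAut.conj k).orderOf_eq (x₀ : G)
    rw [hy, hx₀', pow_one] at ho
    exact hqp ((Nat.prime_dvd_prime_iff_eq hp.out hq).1 (hp.out.dvd_of_dvd_pow (n := b) (dvd_of_eq ho.symm))).symm
  have hNp : IsPGroup p N := by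
    intro y
    by_contra hy
    push Not at hy
    obtain ⟨q, hq, hqdvd, hqp⟩ : ∃ q, q.Prime ∧ q ∣ orderOf y ∧ q ≠ p := by
      by_contra hall
      push Not at hall
      have := Nat.eq_prime_pow_of_unique_prime_dvd (orderOf_pos y).ne' (fun {d} hd hdd => hall d hd hdd)
      exact hy _ (by rw [← this]; exact pow_orderOf_eq_one y)
    have hord : orderOf (y ^ (orderOf y / q)) = q := orderOf_pow_orderOf_div (orderOf_pos y).ne' hqdvd
    have h1 := hpure ((y ^ (orderOf y / q) : N) : G) q 1 hq hqp (by rw [Subgroup.orderOf_coe, hord, pow_one])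
      (y ^ (orderOf y / q) : N).2
    rw [← Subgroup.orderOf_coe, h1, orderOf_one] at hord
    exact hq.ne_one hord.symm
  obtain ⟨P, hNP⟩ := hNp.exists_le_sylow
  have hPn : (P : Subgroup G).Normal := ⟨fun x hx g => by
    rw [show g * x * g⁻¹ = ⁅g, x⁆ * x by rw [commutatorElement_def]; group]
    refine mul_mem (hNP ?_) hx
    rw [hN, _root_.commutator_def]
    exact commutator_mem_commutator (mem_top g) (mem_top x)⟩
  haveI := hPn
  obtain ⟨A, hA⟩ := Subgroup.exists_right_complement'_of_coprime (N := (P : Subgroup G)) P.card_coprime_index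
  by_cases hA1 : A = ⊥
  · refine Or.inl ⟨p, hp.out, ?_⟩
    have htop : (P : Subgroup G) = ⊤ := by
      have := hA.sup_eq_top
      rwa [hA1, sup_bot_eq] at this
    exact fun g => by
      obtain ⟨k, hk⟩ := P.2 ⟨g, htop ▸ mem_top g⟩
      exact ⟨k, congrArg Subtype.val hk⟩
  refine Or.inr (Or.inr ⟨p, hp, P, A, hPn, ?_⟩)
  have hAp : (Nat.card A).Coprime p := by
    have h1 : ¬ p ∣ (P : Subgroup G).index := P.not_dvd_index
    rw [hA.symm.index_eq_card] at h1
    exact (hp.out.coprime_iff_not_dvd.2 h1).symm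
  have hPA : (P : Subgroup G) ⊓ A = ⊥ := hA.disjoint.eq_bot
  have hAab : ∀ a ∈ A, ∀ b ∈ A, a * b = b * a := fun a ha b hb => by
    rw [← commutatorElement_eq_one_iff_mul_comm, ← mem_bot, ← hPA]
    refine ⟨hNP ?_, ?_⟩
    · rw [hN, _root_.commutator_def]; exact commutator_mem_commutator (mem_top a) (mem_top b)
    · rw [commutatorElement_def]; exact A.mul_mem (A.mul_mem (A.mul_mem ha hb) (A.inv_mem ha)) (A.inv_mem hb)
  -- an element of prime order in every nontrivial cyclic subgroup of A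
  have hy : ∀ a ∈ A, a ≠ 1 → ∃ k : ℕ, a ^ k ≠ 1 ∧ ∃ q, q.Prime ∧ q ≠ p ∧ orderOf (a ^ k) = q ^ 1 := by
    intro a ha ha1
    obtain ⟨q, hq, hqd⟩ := Nat.exists_prime_and_dvd (mt orderOf_eq_one_iff.1 ha1)
    have hord : orderOf (a ^ (orderOf a / q)) = q := orderOf_pow_orderOf_div (orderOf_pos a).ne' hqd
    refine ⟨orderOf a / q, fun e => hq.ne_one (by rw [← hord, e, orderOf_one]), q, hq, fun e => ?_,
      by rw [hord, pow_one]⟩
    subst e
    have h1 : orderOf a ∣ Nat.card A := by rw [← Subgroup.orderOf_mk a ha]; exact orderOf_dvd_natCard _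
    exact hq.ne_one (Nat.eq_one_of_dvd_coprimes hAp (hqd.trans h1) dvd_rfl)
  -- the centralizer of such an element
  have hcent : ∀ (y : G) (q : ℕ), y ≠ 1 → q.Prime → q ≠ p → orderOf y = q ^ 1 →
      (∀ w ∈ N, Commute w y → w = 1) ∧ Nat.card (centralizer ({y} : Set G)) = N.index := by
    intro y q hy1 hq hqp hyo
    have hvan : ∀ χ : Cfsg.IrrCharacter G, (χ : G → ℂ) 1 ≠ 1 → (χ : G → ℂ) y = 0 := by
      intro χ hχ
      obtain ⟨w, hw, hw1, hwχ⟩ := exists_ne_zero N hab χ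
      obtain ⟨k, hk⟩ := IsPGroup.iff_orderOf.1 hNp ⟨w, hw⟩
      rw [Subgroup.orderOf_mk] at hk
      exact (mul_eq_zero.1 (h w y χ hw1 hy1 ⟨p, q, k, 1, hp.out, hq, hqp.symm, hk, hyo⟩ hχ)).resolve_left hwχ
    refine ⟨fun w hw hc => ?_, (sum_of_vanish (g := y) (h := y) (by rw [inv_mul_cancel]; exact one_mem _)
      fun χ hχ => by rw [hvan χ hχ, zero_mul]).2⟩
    obtain ⟨hconj, -⟩ := sum_of_vanish (g := y) (h := y * w) (by rwa [inv_mul_cancel_left])
      fun χ hχ => by rw [hvan χ hχ, zero_mul]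
    obtain ⟨k, hk⟩ := isConj_iff.1 hconj
    have hyq : y ^ q = 1 := by rw [← pow_one q, ← hyo]; exact pow_orderOf_eq_one y
    have hyw : (y * w) ^ q = 1 := by rw [← hk, conj_pow, hyq, mul_one, mul_inv_cancel]
    rw [(hc.symm).mul_pow, hyq, one_mul] at hyw
    obtain ⟨m, hm⟩ := IsPGroup.iff_orderOf.1 hNp ⟨w, hw⟩
    rw [Subgroup.orderOf_mk] at hm
    rw [← orderOf_eq_one_iff]
    refine Nat.eq_one_of_dvd_coprimes ?_ (dvd_of_eq hm) (orderOf_dvd_of_pow_eq_one hyw)
    exact ((Nat.coprime_primes hp.out hq).2 hqp.symm).pow_left m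
  have hfix : ∀ a ∈ A, a ≠ 1 → ∀ d ∈ N, a * d = d * a → d = 1 := by
    intro a ha ha1 d hd hc
    obtain ⟨k, hk1, q, hq, hqp, hord⟩ := hy a ha ha1
    exact (hcent _ q hk1 hq hqp hord).1 d hd ((show Commute d a from hc.symm).pow_right k)
  obtain ⟨a₀, ha₀, ha₀1⟩ := (Subgroup.nontrivial_iff_exists_ne_one A).1 (A.nontrivial_iff_ne_bot.2 hA1)
  obtain ⟨k₀, hk₀, q₀, hq₀, hq₀p, hord₀⟩ := hy a₀ ha₀ ha₀1
  set y₀ := a₀ ^ k₀ with hy₀
  have hy₀A : y₀ ∈ A := pow_mem ha₀ _
  obtain ⟨hfree, hcy⟩ := hcent y₀ q₀ hk₀ hq₀ hq₀p hord₀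
  set Cy := centralizer ({y₀} : Set G) with hCy
  have hCyab : ∀ u ∈ Cy, ∀ v ∈ Cy, u * v = v * u := fun u hu v hv => by
    rw [← commutatorElement_eq_one_iff_mul_comm]
    refine hfree _ ?_ ?_
    · rw [hN, _root_.commutator_def]; exact commutator_mem_commutator (mem_top u) (mem_top v)
    · rw [commutatorElement_def]
      exact (mem_centralizer_singleton_iff.1 (Cy.mul_mem (Cy.mul_mem (Cy.mul_mem hu hv) (Cy.inv_mem hu)) (Cy.inv_mem hv)))
  have hACy : A ≤ Cy := fun a ha => mem_centralizer_singleton_iff.2 (hAab a ha y₀ hy₀A)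
  have hCyN : Cy ⊔ N = ⊤ := by
    apply eq_top_of_le_card
    have hdisj : Cy ⊓ N = ⊥ := by
      rw [eq_bot_iff]
      exact fun w hw => mem_bot.2 (hfree w hw.2 (mem_centralizer_singleton_iff.1 hw.1))
    have h1 := Cfsg.Lib.Coprime.card_sup_mul_card_inf (N := N) (H := Cy)
      (le_top.trans (normalizer_eq_top_iff.2 (inferInstance : N.Normal)).ge)
    rw [inf_comm, hdisj, card_bot, mul_one, hcy, card_mul_index, sup_comm] at h1
    rw [h1]
  have hDN : ⁅A, (P : Subgroup G)⁆ = N := by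
    refine le_antisymm ?_ fun w hw => ?_
    · rw [hN, _root_.commutator_def]; exact commutator_mono le_top le_top
    · let φ : N → N := fun v => ⟨⁅y₀, (v : G)⁆, by
        rw [commutatorElement_def]
        exact mul_mem ((inferInstance : N.Normal).conj_mem _ v.2 y₀) (inv_mem v.2)⟩
      have hφ : Function.Injective φ := by
        intro v v' e
        have h1 : ⁅y₀, (v : G)⁆ = ⁅y₀, (v' : G)⁆ := congrArg Subtype.val e
        refine Subtype.ext (inv_mul_eq_one.1 (hfree _ (mul_mem (inv_mem v'.2) v.2) ?_)).symm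
        rw [commutatorElement_def, commutatorElement_def] at h1
        show (v' : G)⁻¹ * v * y₀ = y₀ * ((v' : G)⁻¹ * v)
        have h2 : y₀ * (v : G) * y₀⁻¹ = (y₀ * v' * y₀⁻¹ * (v' : G)⁻¹) * v := by
          rw [← h1]; group
        calc (v' : G)⁻¹ * v * y₀ = y₀ * (v' : G)⁻¹ * y₀⁻¹ * ((y₀ * v' * y₀⁻¹ * (v' : G)⁻¹) * v) * y₀ := by group
          _ = y₀ * (v' : G)⁻¹ * y₀⁻¹ * (y₀ * (v : G) * y₀⁻¹) * y₀ := by rw [h2]
          _ = y₀ * ((v' : G)⁻¹ * v) := by group
      obtain ⟨v, hv⟩ := Finite.injective_iff_surjective.1 hφ ⟨w, hw⟩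
      rw [show w = ⁅y₀, (v : G)⁆ from (congrArg Subtype.val hv).symm]
      exact commutator_mem_commutator hy₀A (hNP v.2)
  rw [hDN]
  have hCN : (P : Subgroup G) ⊓ centralizer (A : Set G) ≤ Cy := fun w hw =>
    mem_centralizer_singleton_iff.2 (mem_centralizer_iff.1 hw.2 y₀ hy₀A).symm
  refine ⟨?_, hA1, hAp, by rw [sup_comm]; exact hA.sup_eq_top, ⟨⟨fun u v => Subtype.ext
    (hCyab u (hCN u.2) v (hCN v.2))⟩⟩, inferInstance, ?_, ?_, hfix⟩
  · by_contra hcyc
    haveI : IsMulCommutative A := ⟨⟨fun u v => Subtype.ext (hAab u u.2 v v.2)⟩⟩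
    have hcop : (Nat.card A).Coprime (Nat.card N) := by
      obtain ⟨m, hm⟩ := IsPGroup.iff_card.1 hNp
      rw [hm]; exact hAp.pow_right m
    have h1 := Cfsg.Lib.Coprime.centralizerJoin_eq hcyc
      (le_top.trans (normalizer_eq_top_iff.2 (inferInstance : N.Normal)).ge) hcop
    refine hab (le_bot_iff.1 (h1 ▸ iSup₂_le fun a ha => ?_))
    exact fun w hw => mem_bot.2 (hfix a ha.1 ha.2 w hw.1 (mem_centralizer_singleton_iff.1 hw.2).symm)
  · refine le_antisymm (sup_le inf_le_left hNP) fun x hx => ?_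
    obtain ⟨u, hu, v, hv, rfl⟩ := mem_sup_of_normal_right.1 (hCyN.ge (mem_top x))
    refine mul_mem_sup ⟨?_, mem_centralizer_iff.2 fun a ha => hCyab a (hACy ha) u hu⟩ hv
    exact ((P : Subgroup G).mul_mem_cancel_right (hNP hv)).1 hx
  · rw [eq_bot_iff]
    exact fun w hw => mem_bot.2 (hfree w hw.2 (mem_centralizer_singleton_iff.1 (hCN hw.1)))

/-- Converse direction. -/
theorem vanish_of_structure (hst : (∃ p : ℕ, p.Prime ∧ IsPGroup p G) ∨ IsMulCommutative G ∨
      ∃ (p : ℕ) (_ : Fact p.Prime) (P : Sylow p G) (A : Subgroup G), (P : Subgroup G).Normal ∧ IsCyclic ↥A ∧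
        A ≠ ⊥ ∧ (Nat.card ↥A).Coprime p ∧
        A ⊔ (P : Subgroup G) = ⊤ ∧ IsMulCommutative ↥((P : Subgroup G) ⊓ centralizer (A : Set G)) ∧
        (⁅A, (P : Subgroup G)⁆).Normal ∧
        ((P : Subgroup G) ⊓ centralizer (A : Set G)) ⊔ ⁅A, (P : Subgroup G)⁆ = (P : Subgroup G) ∧
        ((P : Subgroup G) ⊓ centralizer (A : Set G)) ⊓ ⁅A, (P : Subgroup G)⁆ = ⊥ ∧
        ∀ a ∈ A, a ≠ 1 → ∀ d ∈ ⁅A, (P : Subgroup G)⁆, a * d = d * a → d = 1)
    (x y : G) (χ : Cfsg.IrrCharacter G) (hx : x ≠ 1) (hy : y ≠ 1)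
    (hxy : ∃ p q a b : ℕ, p.Prime ∧ q.Prime ∧ p ≠ q ∧ orderOf x = p ^ a ∧ orderOf y = q ^ b) :
    (χ : G → ℂ) (x * y) = (χ : G → ℂ) x * (χ : G → ℂ) y := by
  classical
  by_cases h1 : (χ : G → ℂ) 1 = 1
  · obtain ⟨l, hl⟩ := exists_hom_of_deg_one (isCharacter_of_irr χ.2) h1
    rw [hl]
    simp
  obtain ⟨q₁, q₂, a, b, hq₁, hq₂, hne, hxo, hyo⟩ := hxy
  rcases hst with ⟨p, hp, hG⟩ | hG | ⟨p, hp, P, A, hPn, hAc, -, hA, hsup, hC, hD, hCD, -, hfpf⟩
  · exfalso
    haveI := Fact.mk hp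
    have key : ∀ (z : G) (q c : ℕ), q.Prime → z ≠ 1 → orderOf z = q ^ c → q = p := by
      intro z q c hq hz hzo
      obtain ⟨k, hk⟩ := IsPGroup.iff_orderOf.1 hG z
      have hc : c ≠ 0 := fun e => hz (orderOf_eq_one_iff.1 (by rw [hzo, e, pow_zero]))
      exact (Nat.prime_dvd_prime_iff_eq hq hp).1 (hq.dvd_of_dvd_pow (n := k) (by rw [← hk, hzo]; exact dvd_pow_self q hc))
    exact hne ((key x q₁ a hq₁ hx hxo).trans (key y q₂ b hq₂ hy hyo).symm)
  · exact absurd (irr_deg_one_of_comm (fun u v => hG.is_comm.comm u v) χ.2) h1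
  haveI := hPn
  have van : ∀ z : G, z ∉ (P : Subgroup G) → (χ : G → ℂ) z = 0 := fun z hz =>
    vanish_outside P A hPn hAc hA hsup hC hD hCD hfpf hz χ h1
  have hnot : x ∉ (P : Subgroup G) ∨ y ∉ (P : Subgroup G) := by
    by_contra hh
    push Not at hh
    have key : ∀ (z : G) (q c : ℕ), q.Prime → z ≠ 1 → orderOf z = q ^ c → z ∈ (P : Subgroup G) → q = p := by
      intro z q c hq hz hzo hzP
      obtain ⟨k, hk⟩ := IsPGroup.iff_orderOf.1 P.2 ⟨z, hzP⟩
      rw [Subgroup.orderOf_mk] at hk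
      have hc : c ≠ 0 := fun e => hz (orderOf_eq_one_iff.1 (by rw [hzo, e, pow_zero]))
      exact (Nat.prime_dvd_prime_iff_eq hq hp.out).1 (hq.dvd_of_dvd_pow (n := k) (by rw [← hk, hzo]; exact dvd_pow_self q hc))
    exact hne ((key x q₁ a hq₁ hx hxo hh.1).trans (key y q₂ b hq₂ hy hyo hh.2).symm)
  have hxy' : x * y ∉ (P : Subgroup G) := by
    intro hmem
    let f := QuotientGroup.mk' (P : Subgroup G)
    have h2 : f x * f y = 1 := by rw [← map_mul]; exact (QuotientGroup.eq_one_iff _).2 hmem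
    have h3 : f x = 1 := by
      rw [← orderOf_eq_one_iff]
      refine Nat.eq_one_of_dvd_coprimes (((Nat.coprime_primes hq₁ hq₂).2 hne).pow a b) ?_ ?_
      · rw [← hxo]; exact orderOf_map_dvd f x
      · rw [eq_inv_of_mul_eq_one_left h2, orderOf_inv, ← hyo]; exact orderOf_map_dvd f y
    have h4 : f y = 1 := by rwa [h3, one_mul] at h2
    exact hnot.elim (fun hh => hh ((QuotientGroup.eq_one_iff _).1 h3)) (fun hh => hh ((QuotientGroup.eq_one_iff _).1 h4))
  rw [van _ hxy']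
  rcases hnot with hh | hh
  · rw [van _ hh, zero_mul]
  · rw [van _ hh, mul_zero]

/-- The hypothesis implies vanishing. -/
theorem vanish_of_mult (h : ∀ (x y : G) (χ : Cfsg.IrrCharacter G), x ≠ 1 → y ≠ 1 →
    (∃ p q a b : ℕ, p.Prime ∧ q.Prime ∧ p ≠ q ∧ orderOf x = p ^ a ∧ orderOf y = q ^ b) →
      (χ : G → ℂ) (x * y) = (χ : G → ℂ) x * (χ : G → ℂ) y) : Vanish G := by
  intro x y χ hx hy hxy hχ
  have h1 := Cfsg.Agent.S4755.result x y hx hy (fun a b ψ => by
    refine h _ _ ψ (fun e => hx (conj_eq_one_iff.1 e)) (fun e => hy (conj_eq_one_iff.1 e)) ?_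
    obtain ⟨p, q, c, d, hp, hq, hne, hxo, hyo⟩ := hxy
    exact ⟨p, q, c, d, hp, hq, hne, ((MulAut.conj a).orderOf_eq x).trans hxo, ((MulAut.conj b).orderOf_eq y).trans hyo⟩)
  rw [← h x y χ hx hy hxy]
  exact h1.2.1 χ hχ

end Cfsg.Lib.Chars.PrimePairs
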