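import Cfsg.Agent.Chars.TI
import Cfsg.Agent.Chars.Frob
import Cfsg.Agent.Chars.Clifford

/-!
# The characters of a Frobenius group that are nontrivial on the kernel
-/

set_option linter.unusedSectionVars false

namespace Cfsg.Lib.FrobTI

open scoped ComplexConjugate
open Cfsg.Lib.Chars

universe u

variable {N : Type u} [Group N] [Fintype N] (K : Subgroup N)

/-- irreducible and not constant on `K` -/
def NonConst (χ : N → ℂ) : Prop := Cfsg.IsIrrCharacter N χ ∧ ∃ k : N, k ∈ K ∧ χ k ≠ χ 1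

theorem apply_eq_of_not {χ : N → ℂ} (hχ : Cfsg.IsIrrCharacter N χ) (h : ¬ NonConst K χ) {k : N}
    (hk : k ∈ K) : χ k = χ 1 := by
  by_contra hne
  exact h ⟨hχ, k, hk, hne⟩

theorem conj_apply_one {χ : N → ℂ} (hχ : Cfsg.IsCharacter N χ) : conj (χ 1) = χ 1 := by
  rw [IsCharacter.apply_one_eq_deg hχ, Complex.conj_natCast]

variable [K.Normal] [Fintype K] (hC : ∀ n ∈ K, n ≠ 1 → Subgroup.centralizer ({n} : Set N) ≤ K)

include hC in
theorem exists_induced {χ : N → ℂ} (h : NonConst K χ) :
    ∃ θ : K → ℂ, Cfsg.IsIrrCharacter K θ ∧ Cfsg.indFun K θ = χ := by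
  classical
  obtain ⟨hχ, k, hk, hne⟩ := h
  obtain ⟨θ, hθ, hc⟩ := exists_constituent K (isCharacter_of_irr hχ)
    (IsIrrCharacter.apply_one_ne_zero hχ)
  have hθ1 : θ ≠ fun _ => 1 := by
    rintro rfl
    obtain ⟨e, -, he⟩ := restrict_eq_mult_of_invariant K hχ hθ (fun g => funext fun n => rfl) hc
    have h1 := congrFun he ⟨k, hk⟩
    have h2 := congrFun he 1
    simp only [Pi.smul_apply, OneMemClass.coe_one] at h1 h2
    exact hne (h1.trans h2.symm)
  refine ⟨θ, hθ, ?_⟩
  have hirr := isIrr_indFun_of_centralizer_le K hC hθ hθ1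
  by_contra hne'
  have h1 := classInner_irrChar hirr hχ
  rw [if_neg hne', frobenius_reciprocity K θ (isClassFunction_isChar (isCharacter_of_irr hχ)),
    ← classInner_conj_symm, map_eq_zero] at h1
  exact hc h1

include hC in
theorem eq_zero_of_not_mem {χ : N → ℂ} (h : NonConst K χ) {x : N} (hx : x ∉ K) : χ x = 0 := by
  obtain ⟨θ, -, rfl⟩ := exists_induced K hC h
  exact indFun_normal_not_mem K θ hx

include hC in
theorem classInner_eq_sum (f : N → ℂ) {χ : N → ℂ} (h : NonConst K χ) :
    (Nat.card N : ℂ) * Cfsg.classInner f χ = ∑ k : K, f k * conj (χ k) := by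
  classical
  rw [classInner_def, ← mul_assoc, mul_inv_cancel₀ (by exact_mod_cast Nat.card_pos.ne'), one_mul,
    ← Finset.sum_subtype (Finset.univ.filter fun x => x ∈ K) (fun x => by simp)
      (fun x => f x * conj (χ x))]
  refine (Finset.sum_subset (Finset.subset_univ _) fun x _ hx => ?_).symm
  rw [eq_zero_of_not_mem K hC h (by simpa using hx), map_zero, mul_zero]

include hC in
theorem sum_eq_zero {χ : N → ℂ} (h : NonConst K χ) : ∑ k : K, χ k = 0 := by
  have h1 := classInner_eq_sum K hC (fun _ => 1) h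
  rw [classInner_irrChar isIrrCharacter_one h.1, if_neg (fun he => ?_), mul_zero] at h1
  · simp only [one_mul] at h1
    have := congrArg conj h1.symm
    rw [map_sum, map_zero] at this
    simpa only [Complex.conj_conj] using this
  · obtain ⟨k, -, hne⟩ := h.2
    exact hne (by rw [← he])

open scoped Classical in
include hC in
theorem sum_deg_data :
    (∑ χ ∈ Finset.univ.filter (fun χ : Cfsg.IrrCharacter N => NonConst K χ),
        (χ : N → ℂ) 1 ^ 2 = (K.index : ℂ) * ((Nat.card K : ℂ) - 1)) ∧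
    ∀ k : N, k ∈ K → k ≠ 1 →
      ∑ χ ∈ Finset.univ.filter (fun χ : Cfsg.IrrCharacter N => NonConst K χ),
        (χ : N → ℂ) 1 * (χ : N → ℂ) k = -(K.index : ℂ) := by
  set S := Finset.univ.filter (fun χ : Cfsg.IrrCharacter N => NonConst K χ)
  set T := Finset.univ.filter (fun χ : Cfsg.IrrCharacter N => ¬ NonConst K χ)
  set o := ∑ χ ∈ T, (χ : N → ℂ) 1 ^ 2
  have hsplit : ∀ k : N, k ∈ K → ∑ χ ∈ S, (χ : N → ℂ) 1 * (χ : N → ℂ) k + o =
      if k = 1 then (Nat.card N : ℂ) else 0 := by
    intro k hk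
    rw [← sum_deg_mul k, ← Finset.sum_filter_add_sum_filter_not Finset.univ
      (fun χ : Cfsg.IrrCharacter N => NonConst K χ)]
    congr 1
    refine Finset.sum_congr rfl fun χ hχ => ?_
    rw [apply_eq_of_not K χ.2 (Finset.mem_filter.mp hχ).2 hk, sq]
  have hsum : ∑ k : K, (∑ χ ∈ S, (χ : N → ℂ) 1 * (χ : N → ℂ) k + o) = (Nat.card N : ℂ) := by
    rw [Finset.sum_congr rfl fun (k : K) _ => hsplit k k.2]
    refine (Finset.sum_eq_single_of_mem (1 : K) (Finset.mem_univ _)
      (fun k _ hk => if_neg fun h => hk (Subtype.ext h))).trans ?_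
    simp
  have ho : o = (K.index : ℂ) := by
    rw [Finset.sum_add_distrib, Finset.sum_comm, Finset.sum_eq_zero fun χ hχ => by
      rw [← Finset.mul_sum, sum_eq_zero K hC (Finset.mem_filter.mp hχ).2, mul_zero]] at hsum
    simp only [zero_add, Finset.sum_const, Finset.card_univ, nsmul_eq_mul] at hsum
    rw [← Nat.card_eq_fintype_card, ← K.card_mul_index, Nat.cast_mul] at hsum
    exact mul_left_cancel₀ (by exact_mod_cast Nat.card_pos.ne') hsum
  constructor
  · have h1 := hsplit 1 K.one_mem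
    rw [if_pos rfl, ho, ← K.card_mul_index, Nat.cast_mul] at h1
    simp only [← sq] at h1
    linear_combination h1
  · intro k hk hk1
    have h1 := hsplit k hk
    rw [if_neg hk1, ho] at h1
    linear_combination h1

include hC in
/-- A class function orthogonal to the differences is constant on the non-identity of `K`. -/
theorem const_of_orth {f : N → ℂ} (hf : Cfsg.IsClassFunction N f) {χ₀ : N → ℂ}
    (h₀ : NonConst K χ₀)
    (horth : ∀ χ ξ : N → ℂ, NonConst K χ → NonConst K ξ →
      ξ 1 * Cfsg.classInner f χ = χ 1 * Cfsg.classInner f ξ) :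
    ∀ k ∈ K, k ≠ 1 → ∀ k' ∈ K, k' ≠ 1 → f k = f k' := by
  classical
  set r := (Nat.card N : ℂ) * Cfsg.classInner f χ₀ / χ₀ 1
  set c' : N → ℂ := fun x => if x = 1 then f 1 - r else if x ∈ K then f x else 0 with hc'
  have hcls : Cfsg.IsClassFunction N c' := by
    intro a b
    have h1 : b * a * b⁻¹ ∈ K ↔ a ∈ K := ⟨fun h => by
      have := (inferInstance : K.Normal).conj_mem _ h b⁻¹
      simpa [mul_assoc] using this, fun h => (inferInstance : K.Normal).conj_mem a h b⟩
    simp only [hc', conj_eq_one_iff, h1, hf a b]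
  have h10 : χ₀ 1 ≠ 0 := IsIrrCharacter.apply_one_ne_zero h₀.1
  have hzero : ∀ χ : N → ℂ, NonConst K χ → Cfsg.classInner c' χ = 0 := by
    intro χ hχ
    have hN : (Nat.card N : ℂ) ≠ 0 := by exact_mod_cast Nat.card_pos.ne'
    have h1 := classInner_eq_sum K hC c' hχ
    have h2 := classInner_eq_sum K hC f hχ
    have h3 : ∑ k : K, c' k * conj (χ k) = ∑ k : K, f k * conj (χ k) - r * χ 1 := by
      rw [eq_sub_iff_add_eq, ← eq_sub_iff_add_eq', ← Finset.sum_sub_distrib,
        Finset.sum_eq_single (1 : K) (fun k _ hk => by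
          have : (k : N) ≠ 1 := fun h => hk (Subtype.ext h)
          simp [hc', this]) (by simp)]
      simp [hc', conj_apply_one (isCharacter_of_irr hχ.1)]
      ring
    rw [h3, ← h2] at h1
    have h4 : r * χ 1 = (Nat.card N : ℂ) * Cfsg.classInner f χ := by
      simp only [r]
      field_simp
      linear_combination horth χ₀ χ h₀ hχ
    rw [h4, sub_self, mul_eq_zero] at h1
    exact h1.resolve_left hN
  have hconst : ∀ k ∈ K, c' k = c' 1 := by
    intro k hk
    rw [classFunction_expand_apply hcls k, classFunction_expand_apply hcls 1]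
    refine Finset.sum_congr rfl fun χ _ => ?_
    by_cases h : NonConst K (χ : N → ℂ)
    · rw [hzero χ h, zero_mul, zero_mul]
    · rw [apply_eq_of_not K χ.2 h hk]
  intro k hk hk1 k' hk' hk1'
  have h1 := (hconst k hk).trans (hconst k' hk').symm
  simpa [hc', hk1, hk1', hk, hk'] using h1

include hC in
/-- With two such characters none of them is constant on the non-identity of `K`. -/
theorem exists_apply_ne {χ ξ : N → ℂ} (hχ : NonConst K χ) (hξ : NonConst K ξ) (hne : χ ≠ ξ) :
    ∃ a ∈ K, ∃ b ∈ K, a ≠ 1 ∧ b ≠ 1 ∧ χ a ≠ χ b := by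
  classical
  by_contra hcon
  push Not at hcon
  obtain ⟨k₀, hk₀, hk₀'⟩ := hχ.2
  have hk1 : k₀ ≠ 1 := fun h => hk₀' (by rw [h])
  set b := χ k₀
  have hval : ∀ k : K, χ k = b + if k = 1 then χ 1 - b else 0 := by
    intro k
    by_cases hk : k = 1
    · simp [hk]
    · rw [if_neg hk, add_zero]
      exact hcon _ k.2 _ hk₀ (fun h => hk (Subtype.ext h)) hk1
  have h1 := classInner_eq_sum K hC χ hξ
  rw [classInner_irrChar hχ.1 hξ.1, if_neg hne, mul_zero,
    Finset.sum_congr rfl fun k _ => by rw [hval k, add_mul], Finset.sum_add_distrib,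
    ← Finset.mul_sum, ← map_sum, sum_eq_zero K hC hξ, map_zero, mul_zero, zero_add,
    Finset.sum_eq_single (1 : K) (fun k _ hk => by simp [hk]) (by simp)] at h1
  simp only [if_pos] at h1
  rcases mul_eq_zero.mp h1.symm with h2 | h2
  · exact hk₀' (sub_eq_zero.mp h2).symm
  · exact IsIrrCharacter.apply_one_ne_zero hξ.1 ((map_eq_zero _).mp h2)

theorem apply_one_sq {χ : N → ℂ} (hχ : Cfsg.IsCharacter N χ) : χ 1 ^ 2 = ((deg χ : ℕ) ^ 2 : ℕ) := by
  rw [IsCharacter.apply_one_eq_deg hχ]; push_cast; rfl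

end Cfsg.Lib.FrobTI
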