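import Cfsg.Agent.Chars.FrobeniusTI
import Cfsg.Agent.OddChar.Coherence
import Cfsg.Agent.S0850

/-!
# Exceptional characters for a TI subgroup with Frobenius normaliser
-/

set_option linter.unusedSectionVars false

namespace Cfsg.Lib.FrobTI

open scoped ComplexConjugate
open Cfsg.Lib.Chars

universe u

variable {G : Type u} [Group G] (K : Subgroup G)

/-- the hypotheses on `K`, read inside the normaliser -/
theorem centralizer_le (hC : ∀ k ∈ K, k ≠ 1 → Subgroup.centralizer ({k} : Set G) ≤ K) :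
    ∀ n ∈ K.subgroupOf (Subgroup.normalizer (K : Set G)), n ≠ 1 → Subgroup.centralizer ({n} : Set (Subgroup.normalizer (K : Set G))) ≤ K.subgroupOf (Subgroup.normalizer (K : Set G)) := by
  intro n hn hn1 y hy
  refine hC n hn (fun h => hn1 (Subtype.ext h)) ?_
  rw [Subgroup.mem_centralizer_singleton_iff] at hy ⊢
  exact congrArg Subtype.val hy

instance normal_subgroupOf_normalizer : (K.subgroupOf (Subgroup.normalizer (K : Set G))).Normal := Subgroup.normal_in_normalizer

variable [Fintype G] [Fintype (Subgroup.normalizer (K : Set G))] (hTI : ∀ g : G, g ∉ (Subgroup.normalizer (K : Set G)) → ∀ k ∈ K, g * k * g⁻¹ ∈ K → k = 1)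
  (hlt : K < (Subgroup.normalizer (K : Set G))) (hC : ∀ k ∈ K, k ≠ 1 → Subgroup.centralizer ({k} : Set G) ≤ K)
  {star : ((Subgroup.normalizer (K : Set G)) → ℂ) → (G → ℂ)}

/-- the difference of two exceptional characters with degree zero -/
noncomputable def diff (χ ξ : (Subgroup.normalizer (K : Set G)) → ℂ) : (Subgroup.normalizer (K : Set G)) → ℂ :=
  (deg ξ : ℤ) • χ - (deg χ : ℤ) • ξ

theorem diff_apply {χ ξ : (Subgroup.normalizer (K : Set G)) → ℂ} (hχ : Cfsg.IsCharacter (Subgroup.normalizer (K : Set G)) χ) (hξ : Cfsg.IsCharacter (Subgroup.normalizer (K : Set G)) ξ) (x : (Subgroup.normalizer (K : Set G))) :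
    diff K χ ξ x = ξ 1 * χ x - χ 1 * ξ x := by
  rw [IsCharacter.apply_one_eq_deg hχ, IsCharacter.apply_one_eq_deg hξ]
  simp [diff, zsmul_eq_mul]

include hC in
theorem diff_mem {S : Set ((Subgroup.normalizer (K : Set G)) → ℂ)} (hS : ∀ φ ∈ S, NonConst (K.subgroupOf (Subgroup.normalizer (K : Set G))) φ) {χ ξ : (Subgroup.normalizer (K : Set G)) → ℂ}
    (hχ : χ ∈ S) (hξ : ξ ∈ S) :
    diff K χ ξ ∈ Cfsg.zspanOn S ({1}ᶜ : Set (Subgroup.normalizer (K : Set G))) ∧ Cfsg.IsClassFunction (Subgroup.normalizer (K : Set G)) (diff K χ ξ) ∧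
      ∀ x : (Subgroup.normalizer (K : Set G)), (x : G) ∉ K → diff K χ ξ x = 0 := by
  classical
  have := Fintype.ofFinite (K.subgroupOf (Subgroup.normalizer (K : Set G)))
  have h1 := isCharacter_of_irr (hS χ hχ).1
  have h2 := isCharacter_of_irr (hS ξ hξ).1
  refine ⟨⟨?_, fun x hx => ?_⟩, ?_, fun x hx => ?_⟩
  · exact Submodule.sub_mem _ (Submodule.smul_mem _ _ (Submodule.subset_span hχ))
      (Submodule.smul_mem _ _ (Submodule.subset_span hξ))
  · rw [show x = 1 from not_not.mp hx, diff_apply K h1 h2]; ring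
  · intro a b
    simp only [diff_apply K h1 h2, isClassFunction_isChar h1 a b, isClassFunction_isChar h2 a b]
  · rw [diff_apply K h1 h2, eq_zero_of_not_mem _ (centralizer_le K hC) (hS χ hχ) hx,
      eq_zero_of_not_mem _ (centralizer_le K hC) (hS ξ hξ) hx]
    ring

include hC in
/-- restrictions to the normaliser of functions orthogonal to the lifted differences -/
theorem inner_restrict_diff {S : Set ((Subgroup.normalizer (K : Set G)) → ℂ)} (hS : ∀ φ ∈ S, NonConst (K.subgroupOf (Subgroup.normalizer (K : Set G))) φ)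
    (hext : ∀ α ∈ Cfsg.zspanOn S ({1}ᶜ : Set (Subgroup.normalizer (K : Set G))), star α = Cfsg.indFun (Subgroup.normalizer (K : Set G)) α) {f : G → ℂ}
    (hf : Cfsg.IsClassFunction G f) {χ ξ : (Subgroup.normalizer (K : Set G)) → ℂ} (hχ : χ ∈ S) (hξ : ξ ∈ S) :
    ξ 1 * Cfsg.classInner (fun x : (Subgroup.normalizer (K : Set G)) => f x) χ - χ 1 * Cfsg.classInner (fun x : (Subgroup.normalizer (K : Set G)) => f x) ξ =
      Cfsg.classInner f (star (diff K χ ξ)) := by
  rw [hext _ (diff_mem K hC hS hχ hξ).1, frobenius_reciprocity' _ _ hf,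
    IsCharacter.apply_one_eq_deg (isCharacter_of_irr (hS χ hχ).1),
    IsCharacter.apply_one_eq_deg (isCharacter_of_irr (hS ξ hξ).1)]
  rw [diff, classInner_sub_right, classInner_zsmul_right, classInner_zsmul_right]
  simp

include hC in
theorem star_diff {S : Set ((Subgroup.normalizer (K : Set G)) → ℂ)} (hstar : Cfsg.IsLinearIsometryOn (Cfsg.zspan S) star)
    {χ ξ : (Subgroup.normalizer (K : Set G)) → ℂ} (hχ : χ ∈ S) (hξ : ξ ∈ S) :
    star (diff K χ ξ) = (deg ξ : ℤ) • star χ - (deg χ : ℤ) • star ξ := by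
  have hm := fun (φ : (Subgroup.normalizer (K : Set G)) → ℂ) (h : φ ∈ S) (n : ℤ) =>
    Submodule.smul_mem (Submodule.span ℤ S) n (Submodule.subset_span h)
  rw [diff, Cfsg.Lib.Coherence.map_sub' (E := Submodule.span ℤ S) hstar (hm χ hχ _) (hm ξ hξ _),
    hstar.2.1 χ (Submodule.subset_span hχ), hstar.2.1 ξ (Submodule.subset_span hξ)]

include hTI hlt hC in
/-- the values of `star` on the non-identity of `K` -/
theorem star_sub_const {S : Set ((Subgroup.normalizer (K : Set G)) → ℂ)} (hS : S = {χ | NonConst (K.subgroupOf (Subgroup.normalizer (K : Set G))) χ})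
    (hstar : Cfsg.IsLinearIsometryOn (Cfsg.zspan S) star)
    (hext : ∀ α ∈ Cfsg.zspanOn S ({1}ᶜ : Set (Subgroup.normalizer (K : Set G))), star α = Cfsg.indFun (Subgroup.normalizer (K : Set G)) α)
    {χ₀ : (Subgroup.normalizer (K : Set G)) → ℂ} (h₀ : χ₀ ∈ S) :
    ∃ c : ℂ, ∀ χ ∈ S, ∀ k : (Subgroup.normalizer (K : Set G)), (k : G) ∈ K → k ≠ 1 → star χ k - χ k = c * χ 1 := by
  classical
  have := Fintype.ofFinite (K.subgroupOf (Subgroup.normalizer (K : Set G)))
  have hmem : ∀ φ : (Subgroup.normalizer (K : Set G)) → ℂ, φ ∈ S → NonConst (K.subgroupOf (Subgroup.normalizer (K : Set G))) φ := fun φ h => by rwa [hS] at h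
  have hsp : ∀ φ : (Subgroup.normalizer (K : Set G)) → ℂ, φ ∈ S → φ ∈ Cfsg.zspan S := fun φ h => Submodule.subset_span h
  have hcl : ∀ φ : (Subgroup.normalizer (K : Set G)) → ℂ, φ ∈ S → Cfsg.IsClassFunction G (star φ) := fun φ h =>
    isClassFunction_generalized (hstar.2.2.2 φ (hsp φ h))
  have horth : ∀ φ χ ξ : (Subgroup.normalizer (K : Set G)) → ℂ, φ ∈ S → χ ∈ S → ξ ∈ S →
      ξ 1 * Cfsg.classInner (fun x : (Subgroup.normalizer (K : Set G)) => star φ x) χ - χ 1 * Cfsg.classInner (fun x : (Subgroup.normalizer (K : Set G)) => star φ x) ξ =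
        ξ 1 * Cfsg.classInner φ χ - χ 1 * Cfsg.classInner φ ξ := by
    intro φ χ ξ hφ hχ hξ
    rw [inner_restrict_diff K hC hmem hext (hcl φ hφ) hχ hξ,
      hstar.2.2.1 φ (hsp φ hφ) _ (diff_mem K hC hmem hχ hξ).1.1,
      IsCharacter.apply_one_eq_deg (isCharacter_of_irr (hmem χ hχ).1),
      IsCharacter.apply_one_eq_deg (isCharacter_of_irr (hmem ξ hξ).1)]
    rw [diff, classInner_sub_right, classInner_zsmul_right, classInner_zsmul_right]
    simp
  have hfc : Cfsg.IsClassFunction (Subgroup.normalizer (K : Set G)) (fun x : (Subgroup.normalizer (K : Set G)) => star χ₀ x - χ₀ x) := fun a b => by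
    have h1 := hcl χ₀ h₀ (a : G) (b : G)
    have h2 := isClassFunction_isChar (isCharacter_of_irr (hmem χ₀ h₀).1) a b
    simp only [Subgroup.coe_mul, Subgroup.coe_inv, h1, h2]
  have hconst := const_of_orth (K.subgroupOf (Subgroup.normalizer (K : Set G))) (centralizer_le K hC) hfc (hmem χ₀ h₀) fun χ ξ hχ hξ => by
    have h1 := horth χ₀ χ ξ h₀ (hS ▸ hχ) (hS ▸ hξ)
    rw [show (fun x : (Subgroup.normalizer (K : Set G)) => star χ₀ x - χ₀ x) = (fun x : (Subgroup.normalizer (K : Set G)) => star χ₀ x) - χ₀ from rfl,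
      classInner_sub_left, classInner_sub_left]
    linear_combination h1
  have h10 : χ₀ 1 ≠ 0 := IsIrrCharacter.apply_one_ne_zero (hmem χ₀ h₀).1
  obtain ⟨k₀, hk₀, hk₀'⟩ := (hmem χ₀ h₀).2
  have hk1 : k₀ ≠ 1 := fun h => hk₀' (by rw [h])
  refine ⟨(star χ₀ k₀ - χ₀ k₀) / χ₀ 1, fun χ hχ k hk hne => ?_⟩
  obtain ⟨hd1, hd2, hd3⟩ := diff_mem K hC hmem hχ h₀
  have hind := (Cfsg.Agent.S0850.result K hTI hlt hC).2 _ hd2 hd3
    (hd1.2 1 (by simp)) k
  rw [← hext _ hd1, star_diff K hC hstar hχ h₀,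
    diff_apply K (isCharacter_of_irr (hmem χ hχ).1) (isCharacter_of_irr (hmem χ₀ h₀).1)] at hind
  simp only [Pi.sub_apply, Pi.mul_apply, Pi.natCast_apply, zsmul_eq_mul, Int.cast_natCast,
    ← IsCharacter.apply_one_eq_deg (isCharacter_of_irr (hmem χ hχ).1),
    ← IsCharacter.apply_one_eq_deg (isCharacter_of_irr (hmem χ₀ h₀).1)] at hind
  have h2 := hconst k hk hne k₀ hk₀ hk1
  rw [← h2, div_mul_eq_mul_div, eq_div_iff h10]
  linear_combination hind

end Cfsg.Lib.FrobTI
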