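import Mathlib
import Cfsg.Agent.Chars.Galois
import Cfsg.Agent.Chars.Gallagher
import Cfsg.Agent.Chars.ExtCriteria
import Cfsg.Agent.Chars.Inertia
import Cfsg.Agent.Chars.IrrTools
import Cfsg.Agent.Chars.Sums

/-!
# Characters fixed by a Galois automorphism inverting roots of unity of odd order

If `N` is normal of odd index, above each character of `N` fixed by such an automorphism there is
exactly one fixed character of the group; it extends an invariant one.
-/

set_option autoImplicit false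
set_option linter.unusedSectionVars false
set_option linter.style.haveILetI false

namespace Cfsg.Lib.Chars.GaloisOdd

open Cfsg.Lib.Chars
open scoped ComplexConjugate

universe u

variable {G : Type u} [Group G]

/-- `g ↦ g ^ k` inverts the elements of odd order. -/
def InvOdd (G : Type u) [Group G] (k : ℕ) : Prop :=
  Nat.Coprime k (Nat.card G) ∧ ∀ g : G, Odd (orderOf g) → g ^ k = g⁻¹

lemma InvOdd.subgroup [Finite G] {k : ℕ} (h : InvOdd G k) (H : Subgroup G) : InvOdd H k :=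
  ⟨Nat.Coprime.coprime_dvd_right (Subgroup.card_subgroup_dvd_card H) h.1,
    fun g hg => Subtype.ext (h.2 g (by rwa [Subgroup.orderOf_coe]))⟩

/-- Modulo a normal subgroup of odd index the power map is inversion. -/
lemma pow_mul_self_mem [Finite G] {k : ℕ} (h : InvOdd G k) (N : Subgroup G) [N.Normal]
    (hidx : Odd N.index) (g : G) : g ^ k * g ∈ N := by
  classical
  obtain ⟨a, m, hm, hord⟩ := Nat.exists_eq_pow_mul_and_not_dvd (orderOf_pos g).ne' 2 (by norm_num)
  have hh : orderOf (g ^ 2 ^ a) = m := by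
    rw [orderOf_pow' g (pow_ne_zero a two_ne_zero), hord, Nat.gcd_eq_right (dvd_mul_right _ _),
      Nat.mul_div_cancel_left _ (pow_pos two_pos a)]
  have hinv := h.2 _ (show Odd (orderOf (g ^ 2 ^ a)) by
    rw [hh]; exact Nat.not_even_iff_odd.1 fun he => hm (even_iff_two_dvd.1 he))
  rw [← QuotientGroup.eq_one_iff]
  set q : G ⧸ N := (g : G ⧸ N) with hq
  have hco : Nat.Coprime (Nat.card (G ⧸ N)) (2 ^ a) := by
    refine Nat.Coprime.pow_right a ?_
    rw [← Subgroup.index_eq_card]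
    exact (Nat.Prime.coprime_iff_not_dvd Nat.prime_two).2
      (fun hd => Nat.not_even_iff_odd.2 hidx (even_iff_two_dvd.2 hd)) |>.symm
  have h1 : (q ^ k * q) ^ 2 ^ a = 1 := by
    rw [(Commute.pow_self q k).mul_pow, ← pow_mul, mul_comm k, pow_mul, ← QuotientGroup.mk_pow,
      ← QuotientGroup.mk_pow, hinv, QuotientGroup.mk_inv, inv_mul_cancel]
  have h2 := (powCoprime hco).injective (a₁ := q ^ k * q) (a₂ := 1)
    (by simp only [powCoprime_apply, h1, one_pow])
  rw [QuotientGroup.mk_mul, QuotientGroup.mk_pow]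
  exact h2

/-- In a group of odd order a real element is trivial. -/
lemma eq_one_of_conj_inv {Q : Type u} [Group Q] [Finite Q] (hodd : Odd (Nat.card Q)) {x q : Q}
    (h : x * q * x⁻¹ = q⁻¹) : q = 1 := by
  have hco : Nat.Coprime (Nat.card Q) 2 :=
    ((Nat.Prime.coprime_iff_not_dvd Nat.prime_two).2
      (fun hd => Nat.not_even_iff_odd.2 hodd (even_iff_two_dvd.2 hd))).symm
  have hxx : Commute (x * x) q := by
    show x * x * q = q * (x * x)
    calc x * x * q = x * (x * q * x⁻¹) * x := by group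
      _ = x * q⁻¹ * x⁻¹ * (x * x) := by rw [h]; group
      _ = (x * q * x⁻¹)⁻¹ * (x * x) := by group
      _ = q * (x * x) := by rw [h, inv_inv]
  obtain ⟨j, hj⟩ : ∃ j : ℕ, (x * x) ^ j = x := by
    rw [← pow_two]
    exact exists_pow_eq_self_of_coprime
      (Nat.Coprime.coprime_dvd_left (orderOf_dvd_natCard x) hco).symm
  have hc : Commute x q := hj ▸ hxx.pow_left j
  rw [hc.eq, mul_inv_cancel_right] at h
  exact (powCoprime hco).injective (a₁ := q) (a₂ := 1) (by
    simp only [powCoprime_apply, pow_two, one_mul]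
    exact mul_eq_one_iff_eq_inv.2 h)

variable [Fintype G] {N : Subgroup G} [N.Normal] [Fintype N] {k : ℕ} {θ : N → ℂ}

/-- The Galois conjugate of an irreducible character. -/
lemma isIrr_pow (h : InvOdd G k) {χ : G → ℂ} (hχ : Cfsg.IsIrrCharacter G χ) :
    Cfsg.IsIrrCharacter G (fun g => χ (g ^ k)) := by
  haveI : NeZero (Nat.card G) := ⟨Nat.card_pos.ne'⟩
  obtain ⟨σ, hσ⟩ := exists_galConj_auto h.1
  have := IsIrrCharacter.map_auto hχ σ
  rwa [show (fun g => σ (χ g)) = fun g => χ (g ^ k) from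
    funext fun g => hσ.apply_character (isCharacter_of_irr hχ) (orderOf_dvd_natCard g)] at this

/-- **Exactly one fixed character lies over a fixed character.** -/
theorem existsUnique_fixed (h : InvOdd G k) (hidx : Odd N.index) (hθ : Cfsg.IsIrrCharacter N θ)
    (hfix : ∀ n : N, θ (n ^ k) = θ n) :
    ∃! χ : Cfsg.IrrCharacter G, Cfsg.classInner (fun n : N => (χ : G → ℂ) n) θ ≠ 0 ∧
      ∀ g : G, (χ : G → ℂ) (g ^ k) = (χ : G → ℂ) g := by
  classical
  choose a ha using fun χ : Cfsg.IrrCharacter G =>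
    IsCharacter.exists_mult (IsCharacter.restrict (isCharacter_of_irr χ.2) N) hθ
  set t := (conjOrbit N θ).card with ht
  set D : ℂ := (t : ℂ) * θ 1 with hD
  have ht0 : t ≠ 0 := (Finset.card_pos.2 ⟨_, (mem_conjOrbit N).2 ⟨1, rfl⟩⟩).ne'
  have hθ1 := IsIrrCharacter.apply_one_ne_zero hθ
  have hD0 : D ≠ 0 := mul_ne_zero (Nat.cast_ne_zero.2 ht0) hθ1
  have hres : ∀ χ : Cfsg.IrrCharacter G, a χ ≠ 0 →
      (fun n : N => (χ : G → ℂ) n) = (a χ : ℂ) • ∑ ψ ∈ conjOrbit N θ, ψ := fun χ hχ => by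
    have hne : Cfsg.classInner (fun n : N => (χ : G → ℂ) n) θ ≠ 0 := by
      rw [ha χ, Nat.cast_ne_zero]; exact hχ
    rw [← ha χ]
    exact clifford N χ.2 hθ hne
  have hdeg : ∀ χ : Cfsg.IrrCharacter G, a χ ≠ 0 → (χ : G → ℂ) 1 = (a χ : ℂ) * D := fun χ hχ => by
    have h1 := congrFun (hres χ hχ) 1
    simp only [Pi.smul_apply, Finset.sum_apply, smul_eq_mul] at h1
    rw [OneMemClass.coe_one] at h1
    rw [h1, Finset.sum_congr rfl (g := fun _ => θ 1) fun ψ hψ => by
      obtain ⟨g, rfl⟩ := (mem_conjOrbit N).1 hψ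
      exact congrArg θ (Subtype.ext (by simp)), Finset.sum_const, nsmul_eq_mul]
  have hnfix : ∀ χ : Cfsg.IrrCharacter G, a χ ≠ 0 → ∀ n : N,
      (χ : G → ℂ) ((n : G) ^ k) = (χ : G → ℂ) n := fun χ hχ n => by
    have e := hres χ hχ
    have h1 := congrFun e (n ^ k)
    have h2 := congrFun e n
    simp only [SubmonoidClass.coe_pow] at h1
    rw [h1, h2]
    simp only [Pi.smul_apply, Finset.sum_apply, smul_eq_mul]
    congr 1
    refine Finset.sum_congr rfl fun ψ hψ => ?_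
    obtain ⟨g, rfl⟩ := (mem_conjOrbit N).1 hψ
    show θ _ = θ _
    rw [← hfix ⟨g * n * g⁻¹, _⟩]
    exact congrArg θ (Subtype.ext (by simp [conj_pow]))
  -- the two evaluations
  have hnorm : ∀ χ : Cfsg.IrrCharacter G,
      ∑ n : N, (χ : G → ℂ) ((n : G) ^ k) * conj ((χ : G → ℂ) n) * (a χ : ℂ) =
        (Nat.card N : ℂ) * ((a χ : ℂ) ^ 3 * t) := fun χ => by
    by_cases hχ : a χ = 0
    · simp [hχ]
    rw [← Finset.sum_mul, Finset.sum_congr rfl fun n _ => by rw [hnfix χ hχ n]]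
    have h1 : Cfsg.classInner (fun n : N => (χ : G → ℂ) n) (fun n : N => (χ : G → ℂ) n) =
        (a χ : ℂ) ^ 2 * t := by
      nth_rw 1 [hres χ hχ]
      rw [classInner_smul_left, classInner_sum_left, Finset.sum_congr rfl (g := fun _ => (a χ : ℂ))
        fun ψ hψ => by
          obtain ⟨g, rfl⟩ := (mem_conjOrbit N).1 hψ
          rw [← classInner_conj_symm, classInner_restrict_conjN N (isClassFunction_irr χ) θ g,
            ha χ, map_natCast], Finset.sum_const, nsmul_eq_mul]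
      ring
    rw [classInner_def, inv_mul_eq_iff_eq_mul₀ (Nat.cast_ne_zero.2 Nat.card_pos.ne')] at h1
    rw [h1]
    ring
  have hvan : ∀ g : G, g ∉ N → ∑ χ : Cfsg.IrrCharacter G,
      (a χ : ℂ) * ((χ : G → ℂ) (g ^ k) * conj ((χ : G → ℂ) g)) / (χ : G → ℂ) 1 = 0 := by
    intro g hg
    have hz : ∀ n : N, ∑ χ : Cfsg.IrrCharacter G, (χ : G → ℂ) n * (χ : G → ℂ) (g ^ k) *
        conj ((χ : G → ℂ) g) / (χ : G → ℂ) 1 = 0 := fun n => by
      have h1 := class_mult_formula (n : G) (g ^ k) g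
      haveI : IsEmpty {p : G × G // IsConj (n : G) p.1 ∧ IsConj (g ^ k) p.2 ∧ p.1 * p.2 = g} :=
        ⟨fun ⟨⟨x, y⟩, hx, hy, hxy⟩ => by
          obtain ⟨u, rfl⟩ := isConj_iff.1 hx
          obtain ⟨w, rfl⟩ := isConj_iff.1 hy
          apply hg
          rw [← QuotientGroup.eq_one_iff]
          refine eq_one_of_conj_inv (by rwa [← Subgroup.index_eq_card]) (x := (w : G ⧸ N)⁻¹) ?_
          have e := congrArg (fun z : G => (z : G ⧸ N)) hxy
          have en : ((n : G) : G ⧸ N) = 1 := (QuotientGroup.eq_one_iff _).2 n.2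
          have eg : ((g : G) : G ⧸ N) ^ k = (g : G ⧸ N)⁻¹ := by
            rw [← mul_eq_one_iff_eq_inv, ← QuotientGroup.mk_pow, ← QuotientGroup.mk_mul,
              QuotientGroup.eq_one_iff]
            exact pow_mul_self_mem h N hidx g
          simp only [QuotientGroup.mk_mul, QuotientGroup.mk_inv, QuotientGroup.mk_pow, en, eg,
            mul_one, mul_inv_cancel, one_mul] at e
          rw [inv_inv]
          calc (w : G ⧸ N)⁻¹ * (g : G ⧸ N) * w =
              (w : G ⧸ N)⁻¹ * ((w : G ⧸ N) * (g : G ⧸ N)⁻¹ * (w : G ⧸ N)⁻¹) * w := by rw [e]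
            _ = (g : G ⧸ N)⁻¹ := by group⟩
      rw [Nat.card_of_isEmpty, Nat.cast_zero, zero_eq_mul] at h1
      exact h1.resolve_left (div_ne_zero (mul_ne_zero
        (Nat.cast_ne_zero.2 (card_isConj_pos _).ne') (Nat.cast_ne_zero.2 (card_isConj_pos _).ne'))
        (Nat.cast_ne_zero.2 Nat.card_pos.ne'))
    have hexp : ∀ χ : Cfsg.IrrCharacter G,
        (a χ : ℂ) * ((χ : G → ℂ) (g ^ k) * conj ((χ : G → ℂ) g)) / (χ : G → ℂ) 1 =
          (Nat.card N : ℂ)⁻¹ * ∑ n : N, conj (θ n) * ((χ : G → ℂ) n * (χ : G → ℂ) (g ^ k) *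
            conj ((χ : G → ℂ) g) / (χ : G → ℂ) 1) := fun χ => by
      rw [← ha χ, classInner_def, Finset.mul_sum, Finset.mul_sum, Finset.sum_mul, Finset.sum_div]
      exact Finset.sum_congr rfl fun n _ => by ring
    rw [Finset.sum_congr rfl fun χ _ => hexp χ, ← Finset.mul_sum, Finset.sum_comm,
      Finset.sum_eq_zero fun n _ => by rw [← Finset.mul_sum, hz n, mul_zero], mul_zero]
  have hsq : ∑ χ : Cfsg.IrrCharacter G, (a χ : ℂ) ^ 2 * D = (N.index : ℂ) * θ 1 := by
    rw [← indFun_one (G := G) N θ, classFunction_expand_apply (isClassFunction_indFun N θ) 1]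
    refine Finset.sum_congr rfl fun χ _ => ?_
    rw [frobenius_reciprocity N θ (isClassFunction_irr χ), ← classInner_conj_symm, ha χ, map_natCast]
    by_cases hχ : a χ = 0
    · simp [hχ]
    · rw [hdeg χ hχ]; ring
  -- fixed characters
  set F := Finset.univ.filter (fun χ : Cfsg.IrrCharacter G =>
    a χ ≠ 0 ∧ ∀ g : G, (χ : G → ℂ) (g ^ k) = (χ : G → ℂ) g) with hF
  have hS1 : ∑ χ : Cfsg.IrrCharacter G,
      (a χ : ℂ) * (∑ g : G, (χ : G → ℂ) (g ^ k) * conj ((χ : G → ℂ) g)) / (χ : G → ℂ) 1 =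
        (F.card : ℂ) * ((Nat.card G : ℂ) / D) := by
    rw [← nsmul_eq_mul, ← Finset.sum_const, hF, Finset.sum_filter]
    refine Finset.sum_congr rfl fun χ _ => ?_
    have e : ∑ g : G, (χ : G → ℂ) (g ^ k) * conj ((χ : G → ℂ) g) = (Nat.card G : ℂ) *
        Cfsg.classInner (fun g => (χ : G → ℂ) (g ^ k)) (χ : G → ℂ) := by
      rw [classInner_def, ← mul_assoc, mul_inv_cancel₀ (Nat.cast_ne_zero.2 Nat.card_pos.ne'),
        one_mul]
    rw [e, classInner_irrChar (isIrr_pow h χ.2) χ.2]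
    by_cases hχ : a χ = 0
    · simp [hχ]
    by_cases hg : ∀ g : G, (χ : G → ℂ) (g ^ k) = (χ : G → ℂ) g
    · rw [if_pos (funext hg), if_pos ⟨hχ, hg⟩, hdeg χ hχ, mul_one]
      field_simp
    · rw [if_neg (fun h => hg (congrFun h)), if_neg (fun h => hg h.2)]
      ring
  have hS2 : ∑ χ : Cfsg.IrrCharacter G,
      (a χ : ℂ) * (∑ g : G, (χ : G → ℂ) (g ^ k) * conj ((χ : G → ℂ) g)) / (χ : G → ℂ) 1 =
        (Nat.card G : ℂ) / D := by
    have hsplit : ∀ χ : Cfsg.IrrCharacter G,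
        (a χ : ℂ) * (∑ g : G, (χ : G → ℂ) (g ^ k) * conj ((χ : G → ℂ) g)) / (χ : G → ℂ) 1 =
          ∑ g : G, (a χ : ℂ) * ((χ : G → ℂ) (g ^ k) * conj ((χ : G → ℂ) g)) / (χ : G → ℂ) 1 :=
      fun χ => by rw [Finset.mul_sum, Finset.sum_div]
    rw [Finset.sum_congr rfl fun χ _ => hsplit χ, Finset.sum_comm,
      ← Finset.sum_filter_add_sum_filter_not Finset.univ (· ∈ N),
      Finset.sum_eq_zero (s := Finset.univ.filter (¬ · ∈ N)) fun g hg =>
        hvan g (Finset.mem_filter.1 hg).2, add_zero,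
      Finset.sum_subtype (p := (· ∈ N)) _ (fun g => by simp), Finset.sum_comm]
    have e : ∀ χ : Cfsg.IrrCharacter G,
        ∑ n : N, (a χ : ℂ) * ((χ : G → ℂ) ((n : G) ^ k) * conj ((χ : G → ℂ) n)) / (χ : G → ℂ) 1 =
          (Nat.card N : ℂ) * ((a χ : ℂ) ^ 2 * D) * (t / D ^ 2) := fun χ => by
      rw [← Finset.sum_div, Finset.sum_congr rfl fun n _ => mul_comm (a χ : ℂ) _, hnorm χ]
      by_cases hχ : a χ = 0
      · simp [hχ]
      rw [hdeg χ hχ]
      field_simp
    rw [Finset.sum_congr rfl fun χ _ => e χ, ← Finset.sum_mul, ← Finset.mul_sum, hsq,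
      ← N.card_mul_index, Nat.cast_mul, hD]
    field_simp
  rw [hS1] at hS2
  have hF1 : F.card = 1 := by
    have : (F.card : ℂ) = 1 := mul_right_cancel₀
      (div_ne_zero (Nat.cast_ne_zero.2 Nat.card_pos.ne') hD0) (by rw [hS2, one_mul])
    exact_mod_cast this
  obtain ⟨χ, hχ⟩ := Finset.card_eq_one.1 hF1
  have hiff : ∀ ψ : Cfsg.IrrCharacter G, ψ ∈ F ↔
      (Cfsg.classInner (fun n : N => (ψ : G → ℂ) n) θ ≠ 0 ∧
        ∀ g : G, (ψ : G → ℂ) (g ^ k) = (ψ : G → ℂ) g) := fun ψ => by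
    rw [hF, Finset.mem_filter, ha ψ, Nat.cast_ne_zero]
    simp
  exact ⟨χ, (hiff χ).1 (hχ ▸ Finset.mem_singleton_self χ),
    fun ψ hψ => Finset.mem_singleton.1 (hχ ▸ (hiff ψ).2 hψ)⟩

/-- An extension can be twisted to a fixed one. -/
theorem exists_fixed_ext (h : InvOdd G k) (hidx : Odd N.index) (hθ : Cfsg.IsIrrCharacter N θ)
    (hfix : ∀ n : N, θ (n ^ k) = θ n) {ξ : G → ℂ} (hξ : Cfsg.IsIrrCharacter G ξ)
    (hres : ∀ n : N, ξ n = θ n) :
    ∃ χ : G → ℂ, Cfsg.IsIrrCharacter G χ ∧ (∀ n : N, χ n = θ n) ∧ ∀ g : G, χ (g ^ k) = χ g := by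
  obtain ⟨μ, hμN, hμ⟩ := exists_linear_of_extensions N hθ hξ (isIrr_pow h hξ) hres fun n => by
    rw [← SubmonoidClass.coe_pow, hres, hfix]
  obtain ⟨j, hj⟩ := hidx
  have hpow := pow_index_eq_one N hμN
  have hinv : ∀ g : G, μ (g ^ k) = (μ g)⁻¹ := fun g => by
    rw [← mul_eq_one_iff_eq_inv, ← map_mul]
    exact hμN ⟨_, pow_mul_self_mem h N ⟨j, hj⟩ g⟩
  refine ⟨fun g => ((μ g) ^ (j + 1) : ℂˣ) * ξ g, ?_, fun n => ?_, fun g => ?_⟩
  · exact IsIrrCharacter.mul_linear hξ (μ ^ (j + 1))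
  · simp [hμN n, hres n]
  · have hg := congrFun hμ g
    simp only [Pi.mul_apply] at hg
    have h1 : ((μ g)⁻¹) ^ (j + 1) * μ g = (μ g) ^ (j + 1) := by
      have h2 : (μ g) ^ (2 * j + 1) = 1 := by
        rw [← hj]
        exact congrArg (fun f : G →* ℂˣ => f g) hpow
      rw [inv_pow, inv_mul_eq_iff_eq_mul, ← pow_add, show j + 1 + (j + 1) = 2 * j + 1 + 1 by ring,
        pow_succ, h2, one_mul]
    show ((μ (g ^ k)) ^ (j + 1) : ℂˣ) * ξ (g ^ k) = ((μ g) ^ (j + 1) : ℂˣ) * ξ g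
    rw [hinv, hg, ← mul_assoc, ← Units.val_mul, h1]

/-- Invariant fixed characters extend when the quotient has prime power order. -/
theorem exists_ext_of_primePow (q : ℕ) [hq : Fact q.Prime] :
    ∀ (a : ℕ) (G : Type u) [Group G] [Fintype G] (N : Subgroup G) [N.Normal] [Fintype N]
      (θ : N → ℂ), N.index = q ^ a → InvOdd G k → Odd N.index → Cfsg.IsIrrCharacter N θ →
      (∀ n : N, θ (n ^ k) = θ n) → (∀ g : G, conjN N g θ = θ) →
      ∃ χ : G → ℂ, Cfsg.IsIrrCharacter G χ ∧ (∀ n : N, χ n = θ n) ∧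
        ∀ g : G, χ (g ^ k) = χ g := by
  intro a
  induction a with
  | zero =>
    intro G _ _ N _ _ θ ha h hidx hθ hfix _
    have htop : N = ⊤ := Subgroup.index_eq_one.1 (by rw [ha, pow_zero])
    subst htop
    refine ⟨fun g => θ ⟨g, Subgroup.mem_top g⟩, IsIrrCharacter.comp_mulEquiv hθ
      Subgroup.topEquiv.symm, fun n => rfl, fun g => ?_⟩
    show θ ⟨g ^ k, Subgroup.mem_top _⟩ = θ ⟨g, Subgroup.mem_top g⟩
    rw [show (⟨g ^ k, Subgroup.mem_top _⟩ : (⊤ : Subgroup G)) = ⟨g, Subgroup.mem_top g⟩ ^ k from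
      rfl, hfix]
  | succ a ih =>
    intro G _ _ N _ _ θ ha h hidx hθ hfix hinv
    classical
    have hcard : Nat.card (G ⧸ N) = q ^ (a + 1) := by rw [← Subgroup.index_eq_card, ha]
    obtain ⟨L, hL⟩ := Sylow.exists_subgroup_card_pow_prime (G := G ⧸ N) q (n := a)
      (hcard ▸ pow_dvd_pow q (Nat.le_succ a))
    have hLi : L.index = q := by
      have h1 := L.card_mul_index
      rw [hL, hcard, pow_succ] at h1
      exact Nat.eq_of_mul_eq_mul_left (pow_pos hq.out.pos a) h1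
    haveI : L.Normal := Subgroup.normal_of_index_eq_minFac_card (by
      rw [hLi, hcard, Nat.Prime.pow_minFac hq.out (Nat.succ_ne_zero a)])
    set K := L.comap (QuotientGroup.mk' N) with hK
    have hKi : K.index = q := by
      rw [hK, Subgroup.index_comap_of_surjective _ (QuotientGroup.mk'_surjective N), hLi]
    have hNK : N ≤ K := fun x hx => by
      rw [hK, Subgroup.mem_comap, QuotientGroup.mk'_apply, (QuotientGroup.eq_one_iff x).2 hx]
      exact L.one_mem
    haveI : K.Normal := by rw [hK]; infer_instance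
    letI := Fintype.ofFinite K
    letI := Fintype.ofFinite (N.subgroupOf K)
    have hNKi : (N.subgroupOf K).index = q ^ a := by
      have h1 := Subgroup.relIndex_mul_index hNK
      rw [hKi, ha, pow_succ] at h1
      exact Nat.eq_of_mul_eq_mul_right hq.out.pos h1
    let e := Subgroup.subgroupOfEquivOfLe hNK
    obtain ⟨ξ, hξ, hξN, hξk⟩ := ih K (N.subgroupOf K) (fun n => θ (e n)) hNKi (h.subgroup K)
      (hNKi ▸ Odd.of_dvd_nat hidx (ha ▸ pow_dvd_pow q (Nat.le_succ a)))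
      (IsIrrCharacter.comp_mulEquiv hθ e) (fun n => by rw [map_pow, hfix])
      (fun x => funext fun n => congrFun (hinv (x : G)) (e n))
    -- uniqueness makes the extension invariant
    obtain ⟨χ₀, -, huniq⟩ := existsUnique_fixed (N := N.subgroupOf K) (h.subgroup K)
      (hNKi ▸ Odd.of_dvd_nat hidx (ha ▸ pow_dvd_pow q (Nat.le_succ a)))
      (IsIrrCharacter.comp_mulEquiv hθ e) (fun n => by rw [map_pow, hfix])
    have hover : ∀ ξ' : Cfsg.IrrCharacter K, (∀ n : N.subgroupOf K, (ξ' : K → ℂ) n = θ (e n)) →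
        (∀ x : K, (ξ' : K → ℂ) (x ^ k) = (ξ' : K → ℂ) x) → ξ' = χ₀ := fun ξ' h1 h2 =>
      huniq ξ' ⟨by rw [funext h1, classInner_self_irr (IsIrrCharacter.comp_mulEquiv hθ e)]
                   exact one_ne_zero, h2⟩
    have hinvξ : ∀ g : G, conjN K g ξ = ξ := fun g => by
      have h1 := hover ⟨ξ, hξ⟩ hξN hξk
      have h2 := hover ⟨conjN K g ξ, IsIrrCharacter.conjN hξ g⟩ (fun n => by
        show ξ _ = _
        refine (hξN ⟨⟨g * ((n : K) : G) * g⁻¹, _⟩,
          Subgroup.mem_subgroupOf.2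
            ((‹N.Normal›).conj_mem _ (Subgroup.mem_subgroupOf.1 n.2) g)⟩).trans ?_
        exact congrFun (hinv g) (e n)) (fun x => by
          show ξ _ = ξ _
          rw [← hξk ⟨g * (x : G) * g⁻¹, _⟩]
          exact congrArg ξ (Subtype.ext (by simp [conj_pow])))
      exact congrArg Subtype.val (h2.trans h1.symm)
    have hcyc : IsCyclic (G ⧸ K) := isCyclic_of_prime_card (p := q) (by
      rw [← Subgroup.index_eq_card, hKi])
    obtain ⟨m, ρ, hρ, rfl⟩ := hξ
    haveI := hρ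
    obtain ⟨R, hR⟩ := exists_extension_of_hasSplit K ρ hinvξ (hasSplit_one_of_cyclic K ρ hcyc)
    obtain ⟨hRirr, hRres⟩ := exists_irr_ext_of_rep K ρ R hR
    refine exists_fixed_ext h hidx hθ hfix hRirr fun n => ?_
    rw [hRres ⟨n, hNK n.2⟩]
    exact hξN ⟨⟨n, hNK n.2⟩, n.2⟩

/-- An invariant fixed character extends. -/
theorem exists_ext (h : InvOdd G k) (hidx : Odd N.index) (hθ : Cfsg.IsIrrCharacter N θ)
    (hfix : ∀ n : N, θ (n ^ k) = θ n) (hinv : ∀ g : G, conjN N g θ = θ) :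
    ∃ χ : G → ℂ, Cfsg.IsIrrCharacter G χ ∧ (∀ n : N, χ n = θ n) ∧ ∀ g : G, χ (g ^ k) = χ g := by
  classical
  obtain ⟨m, ρ, hρ, rfl⟩ := id hθ
  haveI := hρ
  obtain ⟨R, hR⟩ := exists_extension_of_hasSplit N ρ hinv
    (hasSplit_one_of_forall_prime N ρ fun q hq _ => by
      haveI := Fact.mk hq
      obtain ⟨S⟩ : Nonempty (Sylow q (G ⧸ N)) := inferInstance
      set H := (S : Subgroup (G ⧸ N)).comap (QuotientGroup.mk' N) with hH
      have hHi : H.index = (S : Subgroup (G ⧸ N)).index := by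
        rw [hH, Subgroup.index_comap_of_surjective _ (QuotientGroup.mk'_surjective N)]
      have hNH : N ≤ H := fun x hx => by
        rw [hH, Subgroup.mem_comap, QuotientGroup.mk'_apply, (QuotientGroup.eq_one_iff x).2 hx]
        exact Subgroup.one_mem _
      letI := Fintype.ofFinite H
      letI := Fintype.ofFinite (N.subgroupOf H)
      obtain ⟨a, ha⟩ : ∃ a, (N.subgroupOf H).index = q ^ a := by
        obtain ⟨a, ha⟩ := IsPGroup.iff_card.1 S.2
        refine ⟨a, ?_⟩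
        have h1 := Subgroup.relIndex_mul_index hNH
        rw [hHi, N.index_eq_card, ← (S : Subgroup (G ⧸ N)).card_mul_index, ha] at h1
        exact Nat.eq_of_mul_eq_mul_right (Nat.pos_of_ne_zero Subgroup.index_ne_zero_of_finite) h1
      let e := Subgroup.subgroupOfEquivOfLe hNH
      obtain ⟨χ, hχ, hres, -⟩ := exists_ext_of_primePow q a H (N.subgroupOf H)
        (fun n => ρ.character (e n)) ha (h.subgroup H)
        (Odd.of_dvd_nat hidx (Dvd.intro _ (Subgroup.relIndex_mul_index hNH)))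
        (IsIrrCharacter.comp_mulEquiv hθ e) (fun n => by rw [map_pow, hfix])
        (fun x => funext fun n => congrFun (hinv (x : G)) (e n))
      obtain ⟨T, hT, -⟩ := exists_rep_extending N ρ (Subgroup.inclusion hNH)
        (isCharacter_of_irr hχ) fun n => hres ⟨⟨n, hNH n.2⟩, n.2⟩
      exact ⟨H.index, hHi ▸ S.not_dvd_index, hasSplit_of_subgroup N ρ hinv H hNH T hT⟩)
  obtain ⟨hRirr, hRres⟩ := exists_irr_ext_of_rep N ρ R hR
  exact exists_fixed_ext h hidx hθ hfix hRirr hRres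

end Cfsg.Lib.Chars.GaloisOdd
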