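import Mathlib
import Cfsg.Agent.Chars.DegreeTools
import Cfsg.Agent.Coprime.SchurZassenhaus
import Cfsg.Agent.Components.Cores

/-!
# A prime power degree divisor congruent to `0` or `±1`

In a solvable group with a non-normal Sylow `p`-subgroup a faithful character has a constituent
whose degree is divisible by a prime power congruent to `0`, `1` or `-1` modulo `p`.
-/

set_option autoImplicit false
set_option linter.unusedSectionVars false

namespace Cfsg.Lib.Chars

open scoped ComplexConjugate commutatorElement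
open Cfsg.Lib.Coprime

universe u

/-- No prime power divisor of `d` is `0` or `±1` modulo `p`. -/
def GoodDegree (p d : ℕ) : Prop :=
  ∀ q : ℕ, IsPrimePow q → q ∣ d → (q : ZMod p) ≠ 0 ∧ (q : ZMod p) ≠ 1 ∧ (q : ZMod p) ≠ -1

theorem GoodDegree.of_dvd {p d e : ℕ} (h : GoodDegree p d) (he : e ∣ d) : GoodDegree p e :=
  fun q hq hqe => h q hq (hqe.trans he)

theorem GoodDegree.not_dvd {p d : ℕ} (hp : p.Prime) (h : GoodDegree p d) : ¬ p ∣ d := fun hd =>
  (h p hp.isPrimePow hd).1 (ZMod.natCast_self p)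

/-- The index of a subgroup in its product with a normal subgroup. -/
theorem relIndex_sup_of_normal {G : Type u} [Group G] [Finite G] (N H : Subgroup G) [N.Normal] :
    H.relIndex (N ⊔ H) = H.relIndex N := by
  have h1 : (H ⊓ N).relIndex N * N.relIndex (N ⊔ H) = (H ⊓ N).relIndex H * H.relIndex (N ⊔ H) := by
    rw [Subgroup.relIndex_mul_relIndex _ _ _ inf_le_right le_sup_left,
      Subgroup.relIndex_mul_relIndex _ _ _ inf_le_left le_sup_right]
  rw [Subgroup.relIndex_sup_left, Subgroup.inf_relIndex_right, inf_comm, Subgroup.inf_relIndex_right, mul_comm] at h1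
  exact (Nat.eq_of_mul_eq_mul_left (Nat.pos_of_ne_zero Subgroup.index_ne_zero_of_finite) h1).symm

/-- The Sylow property of intersections with normal subgroups. -/
theorem sylow_inf_normal {G : Type u} [Group G] [Finite G] {p : ℕ} [Fact p.Prime] (P : Sylow p G)
    (N : Subgroup G) [N.Normal] : ∃ S : Sylow p N, (S : Subgroup N) = (P : Subgroup G).subgroupOf N := by
  have hp : IsPGroup p ((P : Subgroup G).subgroupOf N) := P.isPGroup'.comap_subtype
  refine ⟨IsPGroup.toSylow hp ?_, rfl⟩
  intro hd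
  apply P.not_dvd_index
  refine hd.trans ?_
  show (P : Subgroup G).relIndex N ∣ (P : Subgroup G).index
  rw [← relIndex_sup_of_normal N (P : Subgroup G)]
  exact Subgroup.relIndex_dvd_index_of_le le_sup_right

variable {G : Type u} [Group G] [Fintype G]

/-- A proper normal subgroup gives a normal intersection. -/
theorem inf_normal_of_ih {p : ℕ} [Fact p.Prime] (N : Subgroup G) [N.Normal] (P : Sylow p G)
    (h : ∀ S : Sylow p N, (S : Subgroup N).Normal) : ((P : Subgroup G) ⊓ N).Normal := by
  obtain ⟨S, hS⟩ := sylow_inf_normal P N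
  haveI := h S
  haveI := Sylow.characteristic_of_normal S inferInstance
  have hn : ((S : Subgroup N).map N.subtype).Normal := ConjAct.normal_of_characteristic_of_normal
  rwa [hS, Subgroup.subgroupOf_map_subtype] at hn

/-- The degree ratio over a normal subgroup with abelian quotient for a character with
irreducible restriction: the dichotomy. -/
theorem ratio_dichotomy (L : Subgroup G) [L.Normal] [Fintype L] (hab : ∀ x y : G, ⁅x, y⁆ ∈ L)
    {θ : G → ℂ} (hθ : Cfsg.IsIrrCharacter G θ) {φ : L → ℂ} (hφ : Cfsg.IsIrrCharacter L φ) {e : ℕ}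
    (he : (fun x : L => θ x) = (e : ℂ) • φ)
    (hW : (∀ x, θ x ≠ 0 → x ∈ L) ∨ Subgroup.closure ({x | θ x ≠ 0} ∪ L) = ⊤) :
    e * e = L.index ∨ e = 1 := by
  classical
  have hsum : ∑ x : L, θ x * conj (θ x) = (e : ℂ) * e * Nat.card L := by
    have h1 := classInner_self_irr hφ
    rw [classInner_def] at h1
    have h2 : ∀ x : L, θ x * conj (θ x) = ((e : ℂ) * e) * (φ x * conj (φ x)) := fun x => by
      rw [congrFun he x, Pi.smul_apply, smul_eq_mul, map_mul, Complex.conj_natCast]; ring
    rw [Finset.sum_congr rfl fun x _ => h2 x, ← Finset.mul_sum,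
      inv_mul_eq_iff_eq_mul₀ (by exact_mod_cast Nat.card_pos.ne') |>.1 h1, mul_one]
  have hs : ∀ f : G → ℂ, (∀ x ∉ L, f x = 0) → ∑ x : G, f x = ∑ x : L, f x := fun f hf => by
    rw [← Finset.sum_subset (Finset.subset_univ ((L : Set G).toFinset)) fun x _ hx => hf x (by simpa using hx)]
    exact Finset.sum_subtype _ (fun x => by simp) f
  have hnorm := classInner_self_irr hθ
  rw [classInner_def, inv_mul_eq_iff_eq_mul₀ (by exact_mod_cast Nat.card_pos.ne'), mul_one] at hnorm
  rcases hW with hW | hW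
  · left
    rw [hs _ (fun x hx => by rw [not_not.1 fun h => hx (hW x h), zero_mul]), hsum, ← L.card_mul_index] at hnorm
    have : e * e * Nat.card L = Nat.card L * L.index := by exact_mod_cast hnorm
    exact Nat.eq_of_mul_eq_mul_right Nat.card_pos (this.trans (mul_comm _ _))
  · right
    letI : CommGroup (G ⧸ L) :=
      { (inferInstance : Group (G ⧸ L)) with
        mul_comm := fun x y => by
          obtain ⟨x, rfl⟩ := QuotientGroup.mk_surjective x
          obtain ⟨y, rfl⟩ := QuotientGroup.mk_surjective y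
          rw [← QuotientGroup.mk_mul, ← QuotientGroup.mk_mul, QuotientGroup.eq]
          have e : (x * y)⁻¹ * (y * x) = ⁅y⁻¹, x⁻¹⁆ := by rw [commutatorElement_def]; group
          rw [e]
          exact hab _ _ }
    letI : Fintype ((G ⧸ L) →* ℂˣ) := Fintype.ofFinite _
    have hcard : Fintype.card ((G ⧸ L) →* ℂˣ) = L.index := by
      rw [← Nat.card_eq_fintype_card, CommGroup.card_monoidHom_of_hasEnoughRootsOfUnity]
      rfl
    let lift : ((G ⧸ L) →* ℂˣ) → (G →* ℂˣ) := fun l => l.comp (QuotientGroup.mk' L)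
    have hfix : ∀ l, (fun x => (lift l x : ℂ) * θ x) = θ → l = 1 := by
      intro l hl
      have hle : Subgroup.closure ({x | θ x ≠ 0} ∪ L) ≤ (lift l).ker := by
        rw [Subgroup.closure_le]
        rintro x (hx | hx)
        · rw [SetLike.mem_coe, MonoidHom.mem_ker]
          apply Units.ext
          have h1 := congrFun hl x
          exact mul_right_cancel₀ hx (h1.trans (one_mul _).symm)
        · rw [SetLike.mem_coe, MonoidHom.mem_ker]
          show l (QuotientGroup.mk' L x) = 1
          rw [QuotientGroup.mk'_apply, (QuotientGroup.eq_one_iff x).2 hx, map_one]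
      rw [hW, top_le_iff, MonoidHom.ker_eq_top_iff] at hle
      refine MonoidHom.ext fun c => ?_
      obtain ⟨x, rfl⟩ := QuotientGroup.mk_surjective c
      exact DFunLike.congr_fun hle x
    have horth : ∀ x : G, ∑ l : (G ⧸ L) →* ℂˣ, (lift l x : ℂ) = if x ∈ L then (L.index : ℂ) else 0 := by
      intro x
      split_ifs with hx
      · rw [Finset.sum_congr rfl (g := fun _ => (1 : ℂ)) fun l _ => by
          show ((l (QuotientGroup.mk' L x) : ℂˣ) : ℂ) = 1
          rw [QuotientGroup.mk'_apply, (QuotientGroup.eq_one_iff x).2 hx, map_one, Units.val_one],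
          Finset.sum_const, Finset.card_univ, hcard, nsmul_eq_mul, mul_one]
      · obtain ⟨l₀, hl₀⟩ := CommGroup.exists_apply_ne_one_of_hasEnoughRootsOfUnity (G ⧸ L) ℂ
          (a := QuotientGroup.mk' L x) (fun h => hx ((QuotientGroup.eq_one_iff x).1 h))
        have h1 : ∑ l : (G ⧸ L) →* ℂˣ, (lift l x : ℂ) =
            (l₀ (QuotientGroup.mk' L x) : ℂ) * ∑ l : (G ⧸ L) →* ℂˣ, (lift l x : ℂ) := by
          rw [Finset.mul_sum]
          refine (Fintype.sum_equiv (Equiv.mulLeft l₀) _ _ fun l => ?_).symm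
          simp [lift]
        have h2 : ((l₀ (QuotientGroup.mk' L x) : ℂ) - 1) * ∑ l : (G ⧸ L) →* ℂˣ, (lift l x : ℂ) = 0 := by
          rw [sub_mul, one_mul, ← h1, sub_self]
        refine (mul_eq_zero.1 h2).resolve_left fun h => hl₀ ?_
        exact Units.ext (sub_eq_zero.1 h)
    -- the sum over all twists
    have h1 : ∑ l : (G ⧸ L) →* ℂˣ, ∑ x : G, (lift l x : ℂ) * θ x * conj (θ x) = (Nat.card G : ℂ) := by
      rw [Finset.sum_eq_single (1 : (G ⧸ L) →* ℂˣ)]
      · simpa [lift] using hnorm
      · intro l _ hl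
        have h := classInner_irrChar (IsIrrCharacter.mul_linear hθ (lift l)) hθ
        rw [if_neg fun h => hl (hfix l h), classInner_def, mul_eq_zero] at h
        exact h.resolve_left (inv_ne_zero (by exact_mod_cast Nat.card_pos.ne'))
      · simp
    rw [Finset.sum_comm] at h1
    simp only [← Finset.sum_mul, horth] at h1
    rw [hs _ (fun x hx => by rw [if_neg hx, zero_mul, zero_mul]), Finset.sum_congr rfl
      (g := fun x : L => (L.index : ℂ) * (θ x * conj (θ x))) (fun x _ => by rw [if_pos x.2, mul_assoc]),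
      ← Finset.mul_sum, hsum, ← L.card_mul_index] at h1
    have h2 : L.index * (e * e * Nat.card L) = Nat.card L * L.index := by exact_mod_cast h1
    have h3 : (e * e) * (Nat.card L * L.index) = 1 * (Nat.card L * L.index) := by
      rw [one_mul]; linarith
    exact Nat.eq_one_of_mul_eq_one_right (Nat.eq_of_mul_eq_mul_right
      (Nat.mul_pos Nat.card_pos (Nat.pos_of_ne_zero Subgroup.index_ne_zero_of_finite)) h3)

/-- The induction hypothesis. -/
def SmallerGood (G : Type u) [Group G] (p : ℕ) : Prop :=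
  ∀ (H : Type u) [Group H] [Fintype H], Nat.card H < Nat.card G → Group.IsSolvable H →
    ∀ χ : H → ℂ, Cfsg.IsCharacter H χ → (∀ g, χ g = χ 1 → g = 1) →
      (∀ φ : H → ℂ, Cfsg.IsIrrCharacter H φ → Cfsg.classInner χ φ ≠ 0 → GoodDegree p (deg φ)) →
      ∀ S : Sylow p H, (S : Subgroup H).Normal

/-- The irreducible case. -/
theorem normal_of_good_irr {p : ℕ} [hp : Fact p.Prime] (IH : SmallerGood G p) (hsolv : Group.IsSolvable G)
    {χ : G → ℂ} (hχ : Cfsg.IsIrrCharacter G χ) (hf : ∀ g, χ g = χ 1 → g = 1) (hg : GoodDegree p (deg χ))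
    (P : Sylow p G) : (P : Subgroup G).Normal := by
  classical
  by_contra hP
  haveI := hsolv
  have hχc := isCharacter_of_irr hχ
  have hdeg0 : 0 < deg χ := deg_irr_pos ⟨χ, hχ⟩
  -- normal subgroups
  have hNih : ∀ (N : Subgroup G) [N.Normal], N ≠ ⊤ → ((P : Subgroup G) ⊓ N).Normal := by
    intro N _ hN
    refine inf_normal_of_ih N P fun S => ?_
    letI : Fintype N := Fintype.ofFinite N
    refine IH N (lt_of_le_of_ne (Subgroup.card_le_card_group N) fun e => hN (Subgroup.eq_top_of_card_eq N e))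
      inferInstance _ (IsCharacter.restrict hχc N) (fun x hx => Subtype.ext (hf _ hx)) (fun φ hφ hc => ?_) S
    obtain ⟨m, hm, -⟩ := deg_over N hχ hφ hc
    exact hg.of_dvd (hm ▸ dvd_mul_left _ m)
  have hnotle : ∀ (N : Subgroup G) [N.Normal], N ≠ ⊤ → ¬ (P : Subgroup G) ≤ N := fun N _ hN hle =>
    hP (by have := hNih N hN; rwa [inf_eq_left.2 hle] at this)
  -- every normal subgroup has a homogeneous restriction
  have hhom : ∀ (N : Subgroup G) [N.Normal] [Fintype N] (θ : N → ℂ), Cfsg.IsIrrCharacter N θ →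
      Cfsg.classInner (fun x : N => χ x) θ ≠ 0 → ∀ g : G, conjN N g θ = θ := by
    intro N _ _ θ hθ hc
    by_contra hno
    set T := inertia N θ with hT
    have hTne : T ≠ ⊤ := fun h => hno fun g => mem_inertia.1 (h ▸ Subgroup.mem_top g : g ∈ T)
    obtain ⟨H, hH, hTH⟩ := (eq_top_or_exists_le_coatom T).resolve_left hTne
    have hHd : H.index ∣ deg χ := by
      refine (Subgroup.index_dvd_of_le hTH).trans ?_
      haveI : Fintype T := Fintype.ofFinite T
      have hNT := le_inertia (isClassFunction_isChar (isCharacter_of_irr hθ))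
      obtain ⟨ψ, hψ, h1, h2⟩ := exists_constituent_over T hNT hχc hc
      obtain ⟨hind, -, -⟩ := clifford_correspondence hθ T rfl hNT hχ hψ h1 h2
      refine ⟨deg ψ, Nat.cast_injective (R := ℂ) ?_⟩
      rw [Nat.cast_mul, ← IsCharacter.apply_one_eq_deg hχc, ← IsCharacter.apply_one_eq_deg (isCharacter_of_irr hψ),
        ← hind, indFun_one]
    have hW : H.normalCore ≠ ⊤ := fun h => hH.1 (top_le_iff.1 (h ▸ Subgroup.normalCore_le H))
    -- a minimal normal subgroup of the primitive quotient
    obtain ⟨A, -, hA, hAmin⟩ := Finite.exists_le_minimal (p := fun A : Subgroup G => A.Normal ∧ H.normalCore < A)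
      (a := ⊤) ⟨inferInstance, lt_top_iff_ne_top.2 hW⟩
    obtain ⟨hAn, hlt⟩ := hA
    haveI := hAn
    set C := H.normalCore with hC
    set π := QuotientGroup.mk' C
    have hπs : Function.Surjective π := QuotientGroup.mk'_surjective C
    have hAC : ⁅A, A⁆ ≤ C := by
      by_contra hle
      have h1 : C ⊔ ⁅A, A⁆ = A := le_antisymm (sup_le hlt.le (Subgroup.commutator_le_self A))
        (hAmin ⟨inferInstance, left_lt_sup.2 hle⟩ (sup_le hlt.le (Subgroup.commutator_le_self A)))
      have h2 := congrArg (Subgroup.map π) h1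
      rw [Subgroup.map_sup, QuotientGroup.map_mk'_self, bot_sup_eq, Subgroup.map_commutator] at h2
      have hne : A.map π ≠ ⊥ := fun h => hlt.not_ge (by
        rwa [Subgroup.map_eq_bot_iff, QuotientGroup.ker_mk'] at h)
      exact (Group.IsSolvable.commutator_lt_of_ne_bot hne).ne h2
    have hcomm : ∀ x ∈ A, ∀ y ∈ A, π x * π y = π y * π x := fun x hx y hy => by
      rw [← commutatorElement_eq_one_iff_mul_comm, ← map_commutatorElement, QuotientGroup.mk'_apply,
        QuotientGroup.eq_one_iff]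
      exact hAC (Subgroup.commutator_mem_commutator hx hy)
    have hAH : ¬ A ≤ H := fun h => hlt.not_ge (Subgroup.normal_le_normalCore.2 h)
    have hAHtop : A ⊔ H = ⊤ := hH.2 _ (lt_of_le_of_ne le_sup_right fun h => hAH (h.symm ▸ le_sup_left))
    -- the intersection is the core
    have hinf : A ⊓ H = C := by
      refine le_antisymm ?_ (le_inf hlt.le (Subgroup.normalCore_le H))
      haveI : (A ⊓ H).Normal := ⟨fun x hx g => by
        have hg : g ∈ A ⊔ H := hAHtop ▸ Subgroup.mem_top g
        obtain ⟨u, hu, v, hv, rfl⟩ := Subgroup.mem_sup_of_normal_left.1 hg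
        have h1 : v * x * v⁻¹ ∈ A ⊓ H := ⟨hAn.conj_mem x hx.1 v, H.mul_mem (H.mul_mem hv hx.2) (H.inv_mem hv)⟩
        have h2 : u * (v * x * v⁻¹) * u⁻¹ * (v * x * v⁻¹)⁻¹ ∈ C := hAC (by
          have := Subgroup.commutator_mem_commutator hu h1.1
          rwa [commutatorElement_def] at this)
        have h3 : u * v * x * (u * v)⁻¹ = (u * (v * x * v⁻¹) * u⁻¹ * (v * x * v⁻¹)⁻¹) * (v * x * v⁻¹) := by group
        rw [h3]
        exact (A ⊓ H).mul_mem ((le_inf hlt.le (Subgroup.normalCore_le H)) h2) h1⟩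
      exact Subgroup.normal_le_normalCore.2 inf_le_right
    have hidx : H.index = C.relIndex A := by
      rw [← hinf, inf_comm, Subgroup.inf_relIndex_right, ← relIndex_sup_of_normal A H, hAHtop, Subgroup.relIndex_top_right]
    -- the minimal normal section is an elementary group of prime exponent
    have hne1 : C.relIndex A ≠ 1 := fun h => hlt.not_ge (Subgroup.relIndex_eq_one.1 h)
    obtain ⟨r, hr, hrd⟩ := Nat.exists_prime_and_dvd hne1
    haveI := Fact.mk hr
    have hexp : ∀ x ∈ A, x ^ r ∈ C := by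
      let Y : Subgroup G :=
        { carrier := {x | x ∈ A ∧ x ^ r ∈ C}
          one_mem' := ⟨A.one_mem, by rw [one_pow]; exact C.one_mem⟩
          mul_mem' := fun {x y} hx hy => ⟨A.mul_mem hx.1 hy.1, by
            rw [← QuotientGroup.eq_one_iff, QuotientGroup.mk_pow, QuotientGroup.mk_mul,
              (show Commute (x : G ⧸ C) (y : G ⧸ C) from hcomm x hx.1 y hy.1).mul_pow, ← QuotientGroup.mk_pow,
              ← QuotientGroup.mk_pow, (QuotientGroup.eq_one_iff _).2 hx.2, (QuotientGroup.eq_one_iff _).2 hy.2, one_mul]⟩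
          inv_mem' := fun {x} hx => ⟨A.inv_mem hx.1, by rw [inv_pow]; exact C.inv_mem hx.2⟩ }
      have hYn : Y.Normal := ⟨fun x hx g => ⟨hAn.conj_mem x hx.1 g, by
        rw [conj_pow]; exact Subgroup.Normal.conj_mem inferInstance _ hx.2 g⟩⟩
      obtain ⟨c, hc⟩ := exists_prime_orderOf_dvd_card' (G := A ⧸ C.subgroupOf A) r hrd
      obtain ⟨a, rfl⟩ := QuotientGroup.mk_surjective c
      have haC : (a : G) ∉ C := fun h => by
        rw [(QuotientGroup.eq_one_iff a).2 (Subgroup.mem_subgroupOf.2 h), orderOf_one] at hc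
        exact hr.one_lt.ne hc
      have har : (a : G) ^ r ∈ C := by
        have h1 : ((a ^ r : A) : A ⧸ C.subgroupOf A) = 1 := by rw [QuotientGroup.mk_pow, ← hc, pow_orderOf_eq_one]
        exact Subgroup.mem_subgroupOf.1 ((QuotientGroup.eq_one_iff _).1 h1)
      have hCY : C < Y := SetLike.lt_iff_le_and_exists.2
        ⟨fun x hx => ⟨hlt.le hx, C.pow_mem hx r⟩, (a : G), show (a : G) ∈ A ∧ (a : G) ^ r ∈ C from ⟨a.2, har⟩, haC⟩
      exact fun x hx => (hAmin ⟨hYn, hCY⟩ (fun y hy => hy.1) hx).2
    have hApg : IsPGroup r (A.map π) := by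
      rintro ⟨_, x, hx, rfl⟩
      refine ⟨1, Subtype.ext ?_⟩
      rw [Subgroup.coe_pow, Subgroup.coe_one, pow_one, ← map_pow, QuotientGroup.mk'_apply, QuotientGroup.eq_one_iff]
      exact hexp x hx
    obtain ⟨i, hi⟩ := IsPGroup.iff_card.1 hApg
    have hcardA : Nat.card (A.map π) = C.relIndex A := by
      rw [← Subgroup.relIndex_bot_left, ← QuotientGroup.map_mk'_self C, Subgroup.relIndex_map_map, QuotientGroup.ker_mk',
        sup_idem, sup_eq_left.2 hlt.le]
    -- the Sylow subgroup centralizes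
    have hPC : ¬ (P : Subgroup G) ≤ C := hnotle C hW
    set Pb := (P : Subgroup G).map π with hPb
    have hAb : (A.map π).Normal := Subgroup.Normal.map hAn π hπs
    letI : MulAction Pb (A.map π) := MulAction.compHom _ ((MulAut.conjNormal (H := A.map π)).comp Pb.subtype)
    have hfp := (P.isPGroup'.map π).card_modEq_card_fixedPoints (A.map π)
    set B := MulAction.fixedPoints Pb (A.map π) with hB
    by_cases hall : ∀ b : A.map π, b ∈ B
    · -- centralizers of the minimal normal subgroup are trivial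
      have hcent : (P : Subgroup G) ≤ (Subgroup.centralizer (A.map π : Set (G ⧸ C))).comap π := by
        intro y hy
        rw [Subgroup.mem_comap, Subgroup.mem_centralizer_iff]
        intro b hb
        have h1 := congrArg Subtype.val (hall ⟨b, hb⟩ ⟨π y, Subgroup.mem_map_of_mem _ hy⟩)
        change π y * b * (π y)⁻¹ = b at h1
        exact (mul_inv_eq_iff_eq_mul.1 h1).symm
      set D := (Subgroup.centralizer (A.map π : Set (G ⧸ C))).comap π
      haveI : (Subgroup.centralizer (A.map π : Set (G ⧸ C))).Normal := inferInstance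
      have hDtop : D = ⊤ := by
        by_contra h
        exact hnotle D h hcent
      have hDH : D ⊓ H ≤ C := by
        refine (Subgroup.normal_le_normalCore (hN := ⟨fun x hx g => ?_⟩)).2 inf_le_right
        have hg : g ∈ A ⊔ H := hAHtop ▸ Subgroup.mem_top g
        obtain ⟨u, hu, v, hv, rfl⟩ := Subgroup.mem_sup_of_normal_left.1 hg
        have h1 : v * x * v⁻¹ ∈ D ⊓ H := ⟨Subgroup.Normal.conj_mem inferInstance x hx.1 v,
          H.mul_mem (H.mul_mem hv hx.2) (H.inv_mem hv)⟩
        have h2 : π (u * (v * x * v⁻¹) * u⁻¹ * (v * x * v⁻¹)⁻¹) = 1 := by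
          have := Subgroup.mem_centralizer_iff.1 h1.1 (π u) (Subgroup.mem_map_of_mem π hu)
          rw [map_mul, map_mul, map_mul, this, map_inv, map_inv]; group
        have h3 : u * v * x * (u * v)⁻¹ = (u * (v * x * v⁻¹) * u⁻¹ * (v * x * v⁻¹)⁻¹) * (v * x * v⁻¹) := by group
        rw [h3]
        exact (D ⊓ H).mul_mem ⟨hDtop ▸ Subgroup.mem_top _, Subgroup.normalCore_le H ((QuotientGroup.eq_one_iff _).1 h2)⟩ h1
      rw [hDtop, top_inf_eq] at hDH
      have hHC : H = C := le_antisymm hDH (Subgroup.normalCore_le H)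
      have hAtop : A = ⊤ := by
        rw [← hAHtop, hHC, sup_eq_left.2 hlt.le]
      -- the quotient is an `r`-group
      rcases eq_or_ne r p with hrp | hrp
      · apply hg.not_dvd hp.out
        rw [← hrp]
        exact hrd.trans (hidx ▸ hHd)
      · refine hPC fun y hy => ?_
        obtain ⟨j, hj⟩ := IsPGroup.iff_card.1 P.isPGroup'
        have h1 : (π y) ^ (p ^ j) = 1 := by
          rw [← map_pow, show y ^ (p ^ j) = 1 by
            have := congrArg Subtype.val (pow_card_eq_one' (x := (⟨y, hy⟩ : (P : Subgroup G))))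
            rwa [hj] at this, map_one]
        have h2 : (π y) ^ r = 1 := by
          rw [← map_pow, QuotientGroup.mk'_apply, QuotientGroup.eq_one_iff]
          exact hexp y (hAtop ▸ Subgroup.mem_top y)
        have h3 := (pow_gcd_eq_one (m := r) (n := p ^ j)).mpr ⟨h2, h1⟩
        rw [(Nat.Coprime.pow_right j ((Nat.coprime_primes hr hp.out).2 hrp) : Nat.gcd r (p ^ j) = 1), pow_one] at h3
        exact (QuotientGroup.eq_one_iff y).1 h3
    · -- fixed points give the congruence
      let Bs : Subgroup (A.map π) :=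
        { carrier := B
          one_mem' := fun g => by
            apply Subtype.ext
            change (g : G ⧸ C) * 1 * (g : G ⧸ C)⁻¹ = 1
            simp
          mul_mem' := fun {a b} ha hb g => by
            apply Subtype.ext
            have e1 := congrArg Subtype.val (ha g)
            have e2 := congrArg Subtype.val (hb g)
            change (g : G ⧸ C) * (a : G ⧸ C) * (g : G ⧸ C)⁻¹ = a at e1
            change (g : G ⧸ C) * (b : G ⧸ C) * (g : G ⧸ C)⁻¹ = b at e2
            change (g : G ⧸ C) * ((a : G ⧸ C) * b) * (g : G ⧸ C)⁻¹ = (a : G ⧸ C) * b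
            conv_rhs => rw [← e1, ← e2]
            group
          inv_mem' := fun {a} ha g => by
            apply Subtype.ext
            have e1 := congrArg Subtype.val (ha g)
            change (g : G ⧸ C) * (a : G ⧸ C) * (g : G ⧸ C)⁻¹ = a at e1
            change (g : G ⧸ C) * (a : G ⧸ C)⁻¹ * (g : G ⧸ C)⁻¹ = (a : G ⧸ C)⁻¹
            conv_rhs => rw [← e1]
            group }
      obtain ⟨j, hji, hj⟩ := (Nat.dvd_prime_pow hr).1 (hi ▸ Bs.card_subgroup_dvd_card)
      have hjne : j ≠ i := fun h => hall fun b => by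
        have hBt : Bs = ⊤ := Subgroup.eq_top_of_card_eq Bs (by rw [hj, hi, h])
        exact (hBt ▸ Subgroup.mem_top b : b ∈ Bs)
      rw [hi, show Nat.card B = Nat.card Bs from rfl, hj] at hfp
      have hz : ((r : ZMod p)) ^ i = (r : ZMod p) ^ j := by
        have := (ZMod.natCast_eq_natCast_iff _ _ p).2 hfp
        simpa using this
      have hri : r ^ i ∣ deg χ := by rw [← hi, hcardA, ← hidx]; exact hHd
      obtain ⟨hr0, -, -⟩ := hg r hr.isPrimePow ((dvd_pow_self r (by omega)).trans hri)
      have h1 : ((r : ZMod p)) ^ (i - j) = 1 := by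
        have h2 : (r : ZMod p) ^ j * (r : ZMod p) ^ (i - j) = (r : ZMod p) ^ j * 1 := by
          rw [← pow_add, Nat.add_sub_cancel' hji, mul_one, hz]
        exact mul_left_cancel₀ (pow_ne_zero j hr0) h2
      refine (hg (r ^ (i - j)) (hr.isPrimePow.pow (by omega)) ((pow_dvd_pow r (Nat.sub_le i j)).trans hri)).2.1 ?_
      push_cast
      exact h1
  -- faithful scalars are central
  obtain ⟨dim, ρ, hρ, hρχ⟩ := id hχ
  haveI := hρ
  have hρinj : Function.Injective ρ := by
    rw [injective_iff_map_eq_one]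
    intro g hg1
    refine hf g ?_
    rw [← hρχ, Representation.character, Representation.character, hg1, map_one ρ]
  have hscalar : ∀ (N : Subgroup G) (z : G), z ∈ N → (∀ x ∈ N, z * x = x * z) → ∀ [Fintype N],
      Cfsg.IsIrrCharacter N (fun x : N => χ x) → z ∈ Subgroup.center G := by
    intro N z hz hc _ hirr
    let ρN : Representation ℂ N (Fin dim → ℂ) := ρ.comp N.subtype
    haveI : ρN.IsIrreducible := by
      obtain ⟨d', σ, hσ, hσc⟩ := hirr
      haveI := hσ
      have e : σ.character = ρN.character := by rw [hσc, ← hρχ]; rfl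
      obtain ⟨φ'⟩ := nonempty_equiv_of_character_eq _ _ σ ρN e
      exact isIrreducible_of_equiv φ'
    obtain ⟨c, hc'⟩ := schur_scalar ρN (ρ z) fun x v => by
      show ρ z (ρ (x : G) v) = ρ (x : G) (ρ z v)
      rw [← Module.End.mul_apply, ← map_mul, hc x x.2, map_mul, Module.End.mul_apply]
    rw [Subgroup.mem_center_iff]
    intro g
    apply hρinj
    rw [map_mul, map_mul, hc']
    ext v
    simp
  -- the normal subgroup of index `p`
  have hnt : Nontrivial G := by
    by_contra h
    rw [not_nontrivial_iff_subsingleton] at h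
    exact hP (by rw [Subsingleton.elim ((P : Subgroup G)) ⊤]; infer_instance)
  obtain ⟨M, hMn, hMp⟩ := exists_normal_prime_index (G := G)
  haveI := hMn
  have hMtop : M ≠ ⊤ := fun h => by rw [h, Subgroup.index_top] at hMp; exact hMp.ne_one rfl
  have hMi : M.index = p := by
    by_contra hne
    refine hnotle M hMtop fun y hy => ?_
    obtain ⟨j, hj⟩ := IsPGroup.iff_card.1 P.isPGroup'
    rw [← QuotientGroup.eq_one_iff, ← orderOf_eq_one_iff]
    refine Nat.eq_one_of_dvd_coprimes (Nat.Coprime.pow_left j ((Nat.coprime_primes hp.out hMp).2 (Ne.symm hne)))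
      (orderOf_dvd_of_pow_eq_one ?_) (orderOf_dvd_natCard _)
    rw [← QuotientGroup.mk_pow, show y ^ (p ^ j) = 1 by
      have := congrArg Subtype.val (pow_card_eq_one' (x := (⟨y, hy⟩ : (P : Subgroup G))))
      rwa [hj] at this, QuotientGroup.mk_one]
  set O := (P : Subgroup G) ⊓ M with hO
  haveI hOn : O.Normal := hNih M hMtop
  have hOp : IsPGroup p O := P.isPGroup'.to_le inf_le_left
  -- `O` is central
  have hOZ : O ≤ Subgroup.center G := by
    letI : Fintype O := Fintype.ofFinite O
    obtain ⟨θ, hθ, hθc⟩ := exists_constituent O hχc (IsIrrCharacter.apply_one_ne_zero hχ)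
    obtain ⟨m, hm, -⟩ := deg_over O hχ hθ hθc
    have hθ1 : deg θ = 1 := by
      obtain ⟨j, hj⟩ := IsPGroup.iff_card.1 hOp
      obtain ⟨i, -, hi⟩ := (Nat.dvd_prime_pow hp.out).1 (hj ▸ IsIrrCharacter.deg_dvd hθ)
      rcases Nat.eq_zero_or_pos i with h | h
      · rw [hi, h, pow_zero]
      · exact absurd (hm ▸ dvd_mul_of_dvd_right (hi ▸ dvd_pow_self p h.ne') m) (hg.not_dvd hp.out)
    obtain ⟨e, -, he⟩ := restrict_eq_mult_of_invariant O hχ hθ (hhom O θ hθ hθc) hθc
    obtain ⟨f, hf'⟩ := exists_hom_of_deg_one (isCharacter_of_irr hθ)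
      (by rw [IsCharacter.apply_one_eq_deg (isCharacter_of_irr hθ), hθ1, Nat.cast_one])
    intro z hz
    rw [Subgroup.mem_center_iff]
    intro g
    have hconj : g * z * g⁻¹ ∈ O := hOn.conj_mem z hz g
    set z' : O := ⟨g * z * g⁻¹, hconj⟩ * ⟨z, hz⟩⁻¹ with hz'
    have hfz : f z' = 1 := by
      rw [hz', map_mul, map_inv, mul_inv_eq_one]
      apply Units.ext
      have h := congrFun (hhom O θ hθ hθc g) ⟨z, hz⟩
      rw [hf'] at h
      exact h
    have h1 : (z' : G) = 1 := hf _ (by
      have e1 := congrFun he z'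
      have e2 := congrFun he 1
      simp only [OneMemClass.coe_one] at e1 e2
      rw [e1, e2, Pi.smul_apply, Pi.smul_apply, hf']
      simp [hfz])
    simp only [hz', Subgroup.coe_mul, Subgroup.coe_inv] at h1
    rw [mul_inv_eq_one] at h1
    exact mul_inv_eq_iff_eq_mul.1 h1
  -- the complement
  obtain ⟨S, hS⟩ := sylow_inf_normal P M
  obtain ⟨oi, hoi⟩ := IsPGroup.iff_card.1 hOp
  have hcopO : (Nat.card O).Coprime (O.relIndex M) := by
    rw [hoi]
    refine Nat.Coprime.pow_left oi (hp.out.coprime_iff_not_dvd.2 ?_)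
    rw [Subgroup.inf_relIndex_right]
    show ¬ p ∣ ((P : Subgroup G).subgroupOf M).index
    rw [← hS]
    exact S.not_dvd_index
  obtain ⟨K, hKM, hOK, hKc⟩ := exists_complement_in (inf_le_right : O ≤ M)
    (by rw [Subgroup.normalizer_eq_top]; exact le_top) hcopO
  have hKp : ¬ p ∣ Nat.card K := by
    rw [hKc]
    intro h
    rcases Nat.eq_zero_or_pos oi with h0 | h0
    · have hPM : O = ⊥ := by
        rw [← Subgroup.card_eq_one, hoi, h0, pow_zero]
      rw [Subgroup.inf_relIndex_right] at h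
      have : ¬ p ∣ ((P : Subgroup G).subgroupOf M).index := hS ▸ S.not_dvd_index
      exact this h
    · exact hp.out.coprime_iff_not_dvd.1 ((Nat.coprime_pow_left_iff h0 _ _).1 (hoi ▸ hcopO)) h
  haveI hKn : K.Normal := by
    refine ⟨fun k hk g => ?_⟩
    have hle : conjMap g K ≤ O ⊔ K := by
      rw [hOK]
      intro x hx
      rw [mem_conjMap] at hx
      have := hMn.conj_mem _ (hKM hx) g
      simpa [mul_assoc] using this
    obtain ⟨z, hz, hze⟩ := exists_conj_eq_of_coprime (by rw [Subgroup.normalizer_eq_top]; exact le_top)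
      (hKc.symm ▸ hcopO) (Or.inl (by haveI := hOp.isNilpotent; infer_instance)) hle (card_conjMap g K)
    have h1 : g * k * g⁻¹ ∈ conjMap g K := by rw [mem_conjMap]; simpa [mul_assoc] using hk
    rw [hze, mem_conjMap] at h1
    have hzc := Subgroup.mem_center_iff.1 (hOZ hz) (g * k * g⁻¹)
    rwa [show z⁻¹ * (g * k * g⁻¹) * z = z⁻¹ * ((g * k * g⁻¹) * z) by group, hzc,
      ← mul_assoc, inv_mul_cancel, one_mul] at h1
  have hKidx : ∃ j, K.index = p ^ j := by
    have h1 : K.relIndex M * M.index = K.index := Subgroup.relIndex_mul_index hKM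
    have h2 : K.relIndex M ∣ Nat.card O := by
      rw [← hOK, sup_comm, Subgroup.relIndex_sup_left]
      exact Subgroup.relIndex_dvd_card K O
    obtain ⟨i, -, hi⟩ := (Nat.dvd_prime_pow hp.out).1 (hoi ▸ h2)
    exact ⟨i + 1, by rw [← h1, hi, hMi, pow_succ]⟩
  obtain ⟨ki, hki⟩ := hKidx
  have hKP : K ⊔ (P : Subgroup G) = ⊤ := by
    refine Subgroup.index_eq_one.1 (Nat.eq_one_of_dvd_coprimes
      (Nat.Coprime.pow_left ki (hp.out.coprime_iff_not_dvd.2 P.not_dvd_index))
      (hki ▸ Subgroup.index_dvd_of_le le_sup_left) (Subgroup.index_dvd_of_le le_sup_right))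
  -- `χ` restricts irreducibly to `K`
  letI : Fintype K := Fintype.ofFinite K
  obtain ⟨θ, hθ, hθc⟩ := exists_constituent K hχc (IsIrrCharacter.apply_one_ne_zero hχ)
  obtain ⟨m, hm, hmd⟩ := deg_over K hχ hθ hθc
  have hm1 : m = 1 := by
    obtain ⟨i, -, rfl⟩ := (Nat.dvd_prime_pow hp.out).1 (hki ▸ hmd)
    rcases Nat.eq_zero_or_pos i with h0 | h0
    · rw [h0, pow_zero]
    · exact absurd (hm ▸ dvd_mul_of_dvd_left (dvd_pow_self p h0.ne') _) (hg.not_dvd hp.out)
  rw [hm1, one_mul] at hm
  have hres : (fun x : K => χ x) = θ := eq_of_inner_ne_zero_of_deg (IsCharacter.restrict hχc K) hθ hθc (by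
    rw [IsCharacter.apply_one_eq_deg (isCharacter_of_irr hθ), ← hm, ← IsCharacter.apply_one_eq_deg hχc]
    simp)
  have hirrK : Cfsg.IsIrrCharacter K (fun x : K => χ x) := hres ▸ hθ
  have hKne : K ≠ ⊥ := by
    intro h
    refine hP ?_
    have : (P : Subgroup G) = ⊤ := by rw [← hKP, h, bot_sup_eq]
    rw [this]; infer_instance
  obtain ⟨L, -, hLmax⟩ := Finite.exists_le_maximal (p := fun L : Subgroup G => L.Normal ∧ L < K)
    (a := ⊥) ⟨inferInstance, bot_lt_iff_ne_bot.2 hKne⟩
  obtain ⟨hLn, hLK⟩ := hLmax.prop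
  haveI := hLn
  have hVab : ∀ x ∈ K, ∀ y ∈ K, ⁅x, y⁆ ∈ L := by
    have hle : ⁅K, K⁆ ≤ L := by
      by_contra hle
      rcases lt_or_eq_of_le (sup_le hLK.le (Subgroup.commutator_le_self K)) with h | h
      · exact hle ((le_sup_right).trans (hLmax.le_of_ge ⟨inferInstance, h⟩ le_sup_left))
      · have h2 := congrArg (Subgroup.map (QuotientGroup.mk' L)) h
        rw [Subgroup.map_sup, QuotientGroup.map_mk'_self, bot_sup_eq, Subgroup.map_commutator] at h2
        have hne : K.map (QuotientGroup.mk' L) ≠ ⊥ := fun h' => hLK.not_ge (by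
          rwa [Subgroup.map_eq_bot_iff, QuotientGroup.ker_mk'] at h')
        exact (Group.IsSolvable.commutator_lt_of_ne_bot hne).ne h2
    exact fun x hx y hy => hle (Subgroup.commutator_mem_commutator hx hy)
  have hne1 : L.relIndex K ≠ 1 := fun h => hLK.not_ge (Subgroup.relIndex_eq_one.1 h)
  -- the section is an `r`-group
  obtain ⟨r, hr, hrd⟩ := Nat.exists_prime_and_dvd hne1
  haveI := Fact.mk hr
  have hexp : ∀ x ∈ K, x ^ r ∈ L := by
    let Y : Subgroup G :=
      { carrier := {x | x ∈ K ∧ x ^ r ∈ L}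
        one_mem' := ⟨K.one_mem, by rw [one_pow]; exact L.one_mem⟩
        mul_mem' := fun {x y} hx hy => ⟨K.mul_mem hx.1 hy.1, by
          have hc : Commute (x : G ⧸ L) (y : G ⧸ L) := by
            rw [Commute, SemiconjBy, ← commutatorElement_eq_one_iff_mul_comm,
              ← QuotientGroup.mk'_apply L x, ← QuotientGroup.mk'_apply L y, ← map_commutatorElement,
              QuotientGroup.mk'_apply, QuotientGroup.eq_one_iff]
            exact hVab x hx.1 y hy.1
          rw [← QuotientGroup.eq_one_iff, QuotientGroup.mk_pow, QuotientGroup.mk_mul, hc.mul_pow,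
            ← QuotientGroup.mk_pow, ← QuotientGroup.mk_pow, (QuotientGroup.eq_one_iff _).2 hx.2,
            (QuotientGroup.eq_one_iff _).2 hy.2, one_mul]⟩
        inv_mem' := fun {x} hx => ⟨K.inv_mem hx.1, by rw [inv_pow]; exact L.inv_mem hx.2⟩ }
    have hYn : Y.Normal := ⟨fun x hx g => ⟨hKn.conj_mem x hx.1 g, by
      rw [conj_pow]; exact hLn.conj_mem _ hx.2 g⟩⟩
    obtain ⟨c, hc⟩ := exists_prime_orderOf_dvd_card' (G := K ⧸ L.subgroupOf K) r hrd
    obtain ⟨a, rfl⟩ := QuotientGroup.mk_surjective c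
    have haL : (a : G) ∉ L := fun h => by
      rw [(QuotientGroup.eq_one_iff a).2 (Subgroup.mem_subgroupOf.2 h), orderOf_one] at hc
      exact hr.one_lt.ne hc
    have har : (a : G) ^ r ∈ L := by
      have h1 : ((a ^ r : K) : K ⧸ L.subgroupOf K) = 1 := by rw [QuotientGroup.mk_pow, ← hc, pow_orderOf_eq_one]
      exact Subgroup.mem_subgroupOf.1 ((QuotientGroup.eq_one_iff _).1 h1)
    intro x hx
    rcases lt_or_eq_of_le (show Y ≤ K from fun y hy => hy.1) with h | h
    · exact absurd (hLmax.le_of_ge ⟨hYn, h⟩ (fun y hy => ⟨hLK.le hy, L.pow_mem hy r⟩) ⟨a.2, har⟩) haL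
    · exact (h.symm ▸ hx : x ∈ Y).2
  obtain ⟨mi, hmi⟩ : ∃ i, L.relIndex K = r ^ i := by
    refine (IsPGroup.iff_card (G := K ⧸ L.subgroupOf K)).1 fun c => ⟨1, ?_⟩
    obtain ⟨a, rfl⟩ := QuotientGroup.mk_surjective c
    rw [pow_one, ← QuotientGroup.mk_pow, QuotientGroup.eq_one_iff, Subgroup.mem_subgroupOf, Subgroup.coe_pow]
    exact hexp a a.2
  -- the group generated by `L` and the Sylow subgroup is proper
  have hLPnot : ¬ (∀ x ∈ (P : Subgroup G), ∀ k ∈ K, ⁅x, k⁆ ∈ L) := by
    intro hle
    have hN : (L ⊔ (P : Subgroup G)).Normal := by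
      have hKN : K ≤ Subgroup.normalizer ((L ⊔ (P : Subgroup G) : Subgroup G) : Set G) := by
        intro k hk
        have : ∀ g ∈ K, ∀ y ∈ L ⊔ (P : Subgroup G), g * y * g⁻¹ ∈ L ⊔ (P : Subgroup G) := by
          intro g hgK y hy
          obtain ⟨l, hl, x, hx, rfl⟩ := Subgroup.mem_sup_of_normal_left.1 hy
          have h1 : g * x * g⁻¹ = ⁅g, x⁆ * x := by rw [commutatorElement_def]; group
          have h2 : ⁅g, x⁆ ∈ L := by rw [← commutatorElement_inv]; exact L.inv_mem (hle x hx g hgK)
          have h3 : g * (l * x) * g⁻¹ = (g * l * g⁻¹) * (g * x * g⁻¹) := by group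
          rw [h3, h1]
          exact mul_mem (Subgroup.mem_sup_left (hLn.conj_mem l hl g))
            (mul_mem (Subgroup.mem_sup_left h2) (Subgroup.mem_sup_right hx))
        rw [Subgroup.mem_normalizer_iff]
        refine fun y => ⟨this k hk y, fun hy => ?_⟩
        have := this k⁻¹ (K.inv_mem hk) _ hy
        simpa [mul_assoc] using this
      rw [← Subgroup.normalizer_eq_top_iff, eq_top_iff, ← hKP]
      exact sup_le hKN (le_sup_right.trans Subgroup.le_normalizer)
    refine hnotle (L ⊔ (P : Subgroup G)) (fun h => ?_) le_sup_right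
    have h1 : L ⊔ (P : Subgroup G) ⊓ K = K := by
      refine le_antisymm (sup_le hLK.le inf_le_right) fun k hk => ?_
      obtain ⟨l, hl, x, hx, he⟩ := Subgroup.mem_sup_of_normal_left.1 (h ▸ Subgroup.mem_top k : k ∈ L ⊔ (P : Subgroup G))
      have hxK : x ∈ K := by
        have : x = l⁻¹ * k := by rw [← he]; group
        rw [this]; exact K.mul_mem (K.inv_mem (hLK.le hl)) hk
      rw [← he]
      exact mul_mem (Subgroup.mem_sup_left hl) (Subgroup.mem_sup_right ⟨hx, hxK⟩)
    have h2 : (P : Subgroup G) ⊓ K = ⊥ := by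
      rw [eq_bot_iff]
      rintro x ⟨hxP, hxK⟩
      obtain ⟨j, hj⟩ := IsPGroup.iff_card.1 P.isPGroup'
      exact orderOf_eq_one_iff.1 (Nat.eq_one_of_dvd_coprimes
        (Nat.Coprime.pow_left j (hp.out.coprime_iff_not_dvd.2 hKp))
        (hj ▸ Subgroup.orderOf_dvd_natCard _ hxP) (K.orderOf_dvd_natCard hxK))
    rw [h2, sup_bot_eq] at h1
    exact hLK.ne h1
  -- the dichotomy in `K`
  set L' := L.subgroupOf K with hL'
  letI : Fintype L' := Fintype.ofFinite L'
  obtain ⟨φ, hφ, hφc⟩ := exists_constituent L' (IsCharacter.restrict hχc K) (IsIrrCharacter.apply_one_ne_zero (χ := fun x : K => χ x) hirrK)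
  letI : Fintype L := Fintype.ofFinite L
  let eL := Subgroup.subgroupOfEquivOfLe hLK.le
  have hinvφ : ∀ k : K, conjN L' k φ = φ := by
    have hφ' : Cfsg.IsIrrCharacter L (fun x => φ (eL.symm x)) := IsIrrCharacter.comp_mulEquiv hφ eL.symm
    have hφc' : Cfsg.classInner (fun x : L => χ x) (fun x => φ (eL.symm x)) ≠ 0 := by
      intro h
      apply hφc
      rw [← classInner_comp_equiv eL.symm.toEquiv]
      exact h
    intro k
    funext x
    have h := congrFun (hhom L _ hφ' hφc' (k : G)) (eL x)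
    simp only [conjN] at h
    have e1 : eL.symm (eL x) = x := eL.symm_apply_apply x
    rw [e1] at h
    rw [← h]
    rfl
  obtain ⟨e, he0, he⟩ := restrict_eq_mult_of_invariant L' hirrK hφ hinvφ hφc
  have hW : (∀ x : K, χ x ≠ 0 → x ∈ L') ∨ Subgroup.closure ({x : K | χ x ≠ 0} ∪ L') = ⊤ := by
    set W := (Subgroup.closure ({x : K | χ x ≠ 0} ∪ L')).map K.subtype with hWdef
    have hWK : W ≤ K := Subgroup.map_subtype_le _
    have hWn : W.Normal := by
      refine ⟨fun y hy g => ?_⟩
      rw [hWdef, MonoidHom.map_closure] at hy ⊢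
      have hle : Subgroup.closure (K.subtype '' ({x : K | χ x ≠ 0} ∪ L')) ≤
          (Subgroup.closure (K.subtype '' ({x : K | χ x ≠ 0} ∪ L'))).comap (MulAut.conj g).toMonoidHom := by
        rw [Subgroup.closure_le]
        rintro _ ⟨x, hx, rfl⟩
        refine Subgroup.subset_closure ⟨⟨g * x * g⁻¹, hKn.conj_mem _ x.2 g⟩, ?_, rfl⟩
        rcases hx with hx | hx
        · left
          show χ (g * (x : G) * g⁻¹) ≠ 0
          rwa [isClassFunction_isChar hχc (x : G) g]
        · right
          exact hLn.conj_mem _ hx g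
      exact hle hy
    have hLW : L ≤ W := fun l hl => ⟨⟨l, hLK.le hl⟩, Subgroup.subset_closure (Or.inr hl), rfl⟩
    rcases lt_or_eq_of_le hWK with h | h
    · left
      intro x hx
      exact hLmax.le_of_ge ⟨hWn, h⟩ hLW ⟨x, Subgroup.subset_closure (Or.inl hx), rfl⟩
    · right
      rw [eq_top_iff]
      intro x _
      have h1 : (x : G) ∈ W := by rw [h]; exact x.2
      obtain ⟨y, hy, hyx⟩ := h1
      exact (Subtype.ext hyx : y = x) ▸ hy
  haveI : L'.Normal := inferInstance
  rcases ratio_dichotomy L' (fun x y => hVab x x.2 y y.2) hirrK hφ he hW with hee | he1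
  · -- full ramification
    have hedvd : e ∣ deg χ := by
      refine ⟨deg φ, Nat.cast_injective (R := ℂ) ?_⟩
      rw [← IsCharacter.apply_one_eq_deg hχc, Nat.cast_mul, ← IsCharacter.apply_one_eq_deg (isCharacter_of_irr hφ)]
      simpa using congrFun he 1
    rw [hL', show (L.subgroupOf K).index = L.relIndex K from rfl, hmi] at hee
    obtain ⟨i, -, hi⟩ := (Nat.dvd_prime_pow hr).1 (Dvd.intro e hee)
    have hi0 : i ≠ 0 := fun h => by
      rw [hi, h, pow_zero, mul_one] at hee
      exact hne1 (by rw [hmi, ← hee])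
    obtain ⟨hz0, hz1, hz2⟩ := hg e (hi ▸ hr.isPrimePow.pow hi0) hedvd
    -- fixed points
    haveI : (K.map (QuotientGroup.mk' L)).Normal :=
      Subgroup.Normal.map hKn _ (QuotientGroup.mk'_surjective L)
    set V := K.map (QuotientGroup.mk' L) with hV
    set Pb := (P : Subgroup G).map (QuotientGroup.mk' L) with hPb
    letI : MulAction Pb V := MulAction.compHom _ ((MulAut.conjNormal (H := V)).comp Pb.subtype)
    have hfp := (P.isPGroup'.map (QuotientGroup.mk' L)).card_modEq_card_fixedPoints V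
    have hVc : Nat.card V = L.relIndex K := by
      rw [hV, ← Subgroup.relIndex_bot_left, ← QuotientGroup.map_mk'_self L, Subgroup.relIndex_map_map,
        QuotientGroup.ker_mk', sup_idem, sup_eq_left.2 hLK.le]
    have hone : Nat.card (MulAction.fixedPoints Pb V) = 1 := by
      let U : Subgroup G :=
        { carrier := {k | k ∈ K ∧ ∀ x ∈ (P : Subgroup G), ⁅x, k⁆ ∈ L}
          one_mem' := ⟨K.one_mem, fun x _ => by simp⟩
          mul_mem' := fun {a b} ha hb => ⟨K.mul_mem ha.1 hb.1, fun x hx => by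
            have h1 : ⁅x, a * b⁆ = ⁅x, a⁆ * (a * ⁅x, b⁆ * a⁻¹) := by simp only [commutatorElement_def]; group
            rw [h1]; exact L.mul_mem (ha.2 x hx) (hLn.conj_mem _ (hb.2 x hx) a)⟩
          inv_mem' := fun {a} ha => ⟨K.inv_mem ha.1, fun x hx => by
            have h1 : ⁅x, a⁻¹⁆ = a⁻¹ * ⁅x, a⁆⁻¹ * a⁻¹⁻¹ := by simp only [commutatorElement_def]; group
            rw [h1]; exact hLn.conj_mem _ (L.inv_mem (ha.2 x hx)) a⁻¹⟩ }
      have hLU : L ≤ U := fun l hl => ⟨hLK.le hl, fun x _ => by
        rw [commutatorElement_def]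
        exact L.mul_mem (hLn.conj_mem l hl x) (L.inv_mem hl)⟩
      have hUn : U.Normal := by
        have hPU : ∀ y ∈ (P : Subgroup G), ∀ k ∈ U, y * k * y⁻¹ ∈ U := fun y hy k hk =>
          ⟨hKn.conj_mem k hk.1 y, fun x hx => by
            have h1 : ⁅x, y * k * y⁻¹⁆ = y * ⁅y⁻¹ * x * y, k⁆ * y⁻¹ := by simp only [commutatorElement_def]; group
            rw [h1]
            exact hLn.conj_mem _ (hk.2 _ (mul_mem (mul_mem ((P : Subgroup G).inv_mem hy) hx) hy)) y⟩
        have hKU : ∀ a ∈ K, ∀ k ∈ U, a * k * a⁻¹ ∈ U := fun a ha k hk => by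
          have h1 : a * k * a⁻¹ = ⁅a, k⁆ * k := by rw [commutatorElement_def]; group
          rw [h1]
          exact U.mul_mem (hLU (hVab a ha k hk.1)) hk
        refine ⟨fun k hk g => ?_⟩
        obtain ⟨a, ha, y, hy, rfl⟩ := Subgroup.mem_sup_of_normal_left.1 (hKP ▸ Subgroup.mem_top g : g ∈ K ⊔ (P : Subgroup G))
        have h1 : a * y * k * (a * y)⁻¹ = a * (y * k * y⁻¹) * a⁻¹ := by group
        rw [h1]
        exact hKU a ha _ (hPU y hy k hk)
      have hUK : U ≤ K := fun k hk => hk.1
      have hUL : U ≤ L := by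
        rcases lt_or_eq_of_le hUK with h | h
        · exact hLmax.le_of_ge ⟨hUn, h⟩ hLU
        · exact absurd (fun x hx k hk => (h.symm ▸ hk : k ∈ U).2 x hx) hLPnot
      rw [Nat.card_eq_one_iff_unique]
      refine ⟨⟨fun u v => ?_⟩, ⟨⟨1, fun z => by simp [MulAction.compHom_smul_def]⟩⟩⟩
      have key : ∀ u : MulAction.fixedPoints Pb V, ((u.1 : V) : G ⧸ L) = 1 := by
        intro u
        obtain ⟨k, hk, hku⟩ := u.1.2
        rw [← hku, QuotientGroup.mk'_apply, QuotientGroup.eq_one_iff]
        refine hUL ⟨hk, fun x hx => ?_⟩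
        have h := congrArg Subtype.val (u.2 ⟨QuotientGroup.mk' L x, Subgroup.mem_map_of_mem _ hx⟩)
        change QuotientGroup.mk' L x * ((u.1 : V) : G ⧸ L) * (QuotientGroup.mk' L x)⁻¹ = _ at h
        rw [← hku] at h
        rw [← QuotientGroup.eq_one_iff, ← QuotientGroup.mk'_apply, map_commutatorElement, commutatorElement_def, h,
          mul_inv_cancel]
      exact Subtype.ext (Subtype.ext ((key u).trans (key v).symm))
    rw [hone, hVc, hmi, ← hee] at hfp
    have hz : ((e : ZMod p)) * e = 1 := by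
      have := (ZMod.natCast_eq_natCast_iff _ _ p).2 hfp
      simpa using this
    rcases mul_self_eq_one_iff.1 hz with h | h
    · exact hz1 h
    · exact hz2 h
  · -- irreducible restriction
    subst he1
    rw [Nat.cast_one, one_smul] at he
    have hirrL : Cfsg.IsIrrCharacter L (fun x : L => χ x) := by
      have := IsIrrCharacter.comp_mulEquiv hφ eL.symm
      rw [← he] at this
      exact this
    set H := L ⊔ (P : Subgroup G) with hH
    letI : Fintype H := Fintype.ofFinite H
    have hHne : H ≠ ⊤ := by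
      intro h
      replace h : L ⊔ (P : Subgroup G) = ⊤ := h
      apply hLPnot
      intro x hx k hk
      obtain ⟨l, hl, y, hy, he⟩ := Subgroup.mem_sup_of_normal_left.1 (h ▸ Subgroup.mem_top k : k ∈ L ⊔ (P : Subgroup G))
      have hyK : y ∈ K := by
        have : y = l⁻¹ * k := by rw [← he]; group
        rw [this]; exact K.mul_mem (K.inv_mem (hLK.le hl)) hk
      have hy1 : y = 1 := by
        obtain ⟨j, hj⟩ := IsPGroup.iff_card.1 P.isPGroup'
        exact orderOf_eq_one_iff.1 (Nat.eq_one_of_dvd_coprimes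
          (Nat.Coprime.pow_left j (hp.out.coprime_iff_not_dvd.2 hKp))
          (hj ▸ Subgroup.orderOf_dvd_natCard _ hy) (K.orderOf_dvd_natCard hyK))
      rw [← he, hy1, mul_one, commutatorElement_def]
      exact L.mul_mem (hLn.conj_mem l hl x) (L.inv_mem hl)
    have hlt : Nat.card H < Nat.card G :=
      lt_of_le_of_ne (Subgroup.card_le_card_group H) fun e => hHne (Subgroup.eq_top_of_card_eq H e)
    have hirrH : Cfsg.IsIrrCharacter H (fun x : H => χ x) :=
      irr_of_comp_irr (IsCharacter.restrict hχc H) (Subgroup.inclusion (le_sup_left : L ≤ H)) hirrL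
    let PH : Sylow p H := P.subtype le_sup_right
    have hPH : (PH : Subgroup H).Normal := IH H hlt inferInstance _ (isCharacter_of_irr hirrH)
      (fun x hx => Subtype.ext (hf _ hx)) (fun φ' hφ' hc => by
        rw [classInner_irrChar hirrH hφ'] at hc
        have e : (fun x : H => χ x) = φ' := by by_contra hne; exact hc (if_neg hne)
        subst e
        have hd : deg (fun x : H => χ x) = deg χ := Nat.cast_injective (R := ℂ) (by
          rw [← IsCharacter.apply_one_eq_deg (isCharacter_of_irr hirrH), ← IsCharacter.apply_one_eq_deg hχc]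
          rfl)
        exact hd ▸ hg) PH
    have hPL : ∀ x ∈ (P : Subgroup G), ∀ l ∈ L, x * l = l * x := by
      intro x hx l hl
      set x' : H := ⟨x, Subgroup.mem_sup_right hx⟩
      set l' : H := ⟨l, Subgroup.mem_sup_left hl⟩
      have h1 : x' * l' * x'⁻¹ * l'⁻¹ ∈ (PH : Subgroup H) := by
        have h2 := hPH.conj_mem x'⁻¹ ((PH : Subgroup H).inv_mem (show x' ∈ (PH : Subgroup H) from hx)) l'
        simpa [mul_assoc] using (PH : Subgroup H).mul_mem (show x' ∈ (PH : Subgroup H) from hx) h2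
      have h3 : x * l * x⁻¹ * l⁻¹ ∈ (P : Subgroup G) := h1
      have h4 : x * l * x⁻¹ * l⁻¹ ∈ L := L.mul_mem (hLn.conj_mem l hl x) (L.inv_mem hl)
      obtain ⟨j, hj⟩ := IsPGroup.iff_card.1 P.isPGroup'
      have h5 : x * l * x⁻¹ * l⁻¹ = 1 := orderOf_eq_one_iff.1 (Nat.eq_one_of_dvd_coprimes
          (Nat.Coprime.pow_left j (hp.out.coprime_iff_not_dvd.2 hKp))
          (hj ▸ Subgroup.orderOf_dvd_natCard _ h3) (K.orderOf_dvd_natCard (hLK.le h4)))
      calc x * l = (x * l * x⁻¹ * l⁻¹) * (l * x) := by group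
        _ = l * x := by rw [h5, one_mul]
    apply hP
    have hcentral : ∀ x ∈ (P : Subgroup G), ∀ k ∈ K, x * k = k * x := by
      intro x hx k hk
      set c := x * k * x⁻¹ * k⁻¹ with hc
      have hcK : c ∈ K := K.mul_mem (hKn.conj_mem k hk x) (K.inv_mem hk)
      have hcL : ∀ l ∈ L, c * l = l * c := by
        intro l hl
        have hxi := (P : Subgroup G).inv_mem hx
        have h1 : x⁻¹ * (k⁻¹ * l * k) = k⁻¹ * l * k * x⁻¹ :=
          hPL _ hxi _ (by simpa using hLn.conj_mem l hl k⁻¹)
        calc c * l = x * k * (x⁻¹ * (k⁻¹ * l * k)) * k⁻¹ := by rw [hc]; group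
          _ = x * l * k * x⁻¹ * k⁻¹ := by rw [h1]; group
          _ = l * c := by rw [hPL x hx l hl, hc]; group
      have hcZ : c ∈ Subgroup.center G := by
        letI : Fintype (L ⊔ Subgroup.zpowers c : Subgroup G) := Fintype.ofFinite _
        refine hscalar (L ⊔ Subgroup.zpowers c) c (Subgroup.mem_sup_right (Subgroup.mem_zpowers c)) (fun y hy => ?_) ?_
        · obtain ⟨l, hl, z, hz, rfl⟩ := Subgroup.mem_sup_of_normal_left.1 hy
          obtain ⟨i, rfl⟩ := Subgroup.mem_zpowers_iff.1 hz
          exact ((show Commute c l from hcL l hl).mul_right ((Commute.refl c).zpow_right i)).eq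
        · exact irr_of_comp_irr (IsCharacter.restrict hχc _) (Subgroup.inclusion (le_sup_left : L ≤ L ⊔ Subgroup.zpowers c))
            hirrL
      have hk2 : ∀ i : ℕ, x ^ i * k = c ^ i * k * x ^ i := by
        intro i
        induction i with
        | zero => simp
        | succ i ih =>
          have hcx : c ^ i * x = x * c ^ i := ((Subgroup.mem_center_iff.1 ((Subgroup.center G).pow_mem hcZ i)) x).symm
          calc x ^ (i + 1) * k = x * (x ^ i * k) := by rw [pow_succ', mul_assoc]
            _ = x * c ^ i * k * x ^ i := by rw [ih]; group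
            _ = c ^ i * (x * k) * x ^ i := by rw [← hcx]; group
            _ = c ^ i * (c * k * x) * x ^ i := by rw [hc]; group
            _ = c ^ (i + 1) * k * x ^ (i + 1) := by rw [pow_succ c, pow_succ' x]; group
      obtain ⟨j, hj⟩ := IsPGroup.iff_card.1 P.isPGroup'
      have hx1 : x ^ (p ^ j) = 1 := by
        have := congrArg Subtype.val (pow_card_eq_one' (x := (⟨x, hx⟩ : (P : Subgroup G))))
        rwa [hj] at this
      have h1 := hk2 (p ^ j)
      rw [hx1, one_mul, mul_one, right_eq_mul] at h1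
      have h2 : c = 1 := orderOf_eq_one_iff.1 (Nat.eq_one_of_dvd_coprimes
        (Nat.Coprime.pow_left j (hp.out.coprime_iff_not_dvd.2 hKp))
        (orderOf_dvd_of_pow_eq_one h1) (K.orderOf_dvd_natCard hcK))
      calc x * k = c * (k * x) := by rw [hc]; group
        _ = k * x := by rw [h2, one_mul]
    rw [← Subgroup.normalizer_eq_top_iff, eq_top_iff, ← hKP]
    refine sup_le (fun k hk => ?_) Subgroup.le_normalizer
    apply Subgroup.centralizer_le_normalizer
    rw [Subgroup.mem_centralizer_iff]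
    exact fun x hx => hcentral x hx k hk

/-- **The Isaacs–Ito theorem.** -/
theorem normal_of_good {p : ℕ} [hp : Fact p.Prime] : ∀ (n : ℕ) (G : Type u) [Group G] [Fintype G], Nat.card G = n →
    Group.IsSolvable G → ∀ χ : G → ℂ, Cfsg.IsCharacter G χ → (∀ g, χ g = χ 1 → g = 1) →
      (∀ φ : G → ℂ, Cfsg.IsIrrCharacter G φ → Cfsg.classInner χ φ ≠ 0 → GoodDegree p (deg φ)) →
      ∀ P : Sylow p G, (P : Subgroup G).Normal := by
  intro n
  induction n using Nat.strong_induction_on with
  | _ n ih =>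
  intro G _ _ hn hsolv χ hχ hf hg P
  classical
  haveI := hsolv
  have IH : SmallerGood G p := fun H _ _ hlt hs => ih _ (hn ▸ hlt) H rfl hs
  obtain ⟨m, hm, hinner, -⟩ := exists_degree_decomp hχ
  have hnorm : ∀ φ : Cfsg.IrrCharacter G, m φ ≠ 0 →
      ((P : Subgroup G) ⊔ kerSubgroup (φ : G → ℂ) (isCharacter_of_irr φ.2)).Normal := by
    intro φ hφ
    have hgood := hg φ φ.2 (by rw [hinner]; exact_mod_cast hφ)
    set K := kerSubgroup (φ : G → ℂ) (isCharacter_of_irr φ.2) with hK
    by_cases hK1 : K = ⊥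
    · have := normal_of_good_irr IH hsolv φ.2 (fun g h => by
        have : g ∈ K := (mem_kerSubgroup _ g).2 h
        rwa [hK1, Subgroup.mem_bot] at this) hgood P
      rw [hK1, sup_bot_eq]; exact this
    haveI : K.Normal := kerSubgroup_normal _
    letI : Fintype (G ⧸ K) := Fintype.ofFinite _
    set π := QuotientGroup.mk' K
    have hπs : Function.Surjective π := QuotientGroup.mk'_surjective K
    obtain ⟨φ', hφ', hφeq⟩ := exists_factor π hπs (isCharacter_of_irr φ.2) (fun k hk => by
      rw [QuotientGroup.ker_mk'] at hk; exact (mem_kerSubgroup _ k).1 hk)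
    have hirr' : Cfsg.IsIrrCharacter (G ⧸ K) φ' := IsIrrCharacter.descend hφ' π hπs (hφeq ▸ φ.2)
    have hd : deg φ' = deg (φ : G → ℂ) := by
      apply Nat.cast_injective (R := ℂ)
      rw [← IsCharacter.apply_one_eq_deg hφ', ← irr_apply_one_eq_deg φ, congrFun hφeq 1, map_one]
    have hlt : Nat.card (G ⧸ K) < Nat.card G := by
      rw [Subgroup.card_eq_card_quotient_mul_card_subgroup K]
      exact lt_mul_of_one_lt_right Nat.card_pos (K.one_lt_card_iff_ne_bot.2 hK1)
    have hN := IH (G ⧸ K) hlt inferInstance φ' hφ' (fun c hc => by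
      obtain ⟨x, rfl⟩ := hπs c
      refine (QuotientGroup.eq_one_iff x).2 ((mem_kerSubgroup _ x).2 ?_)
      rw [congrFun hφeq x, congrFun hφeq 1, hc, map_one]) (fun ψ hψ hc => by
        rw [classInner_irrChar hirr' hψ] at hc
        have e : φ' = ψ := by by_contra hne; exact hc (if_neg hne)
        rw [← e, hd]; exact hgood) (P.mapSurjective hπs)
    haveI := hN
    have he : ((P.mapSurjective hπs : Sylow p (G ⧸ K)) : Subgroup (G ⧸ K)).comap π = (P : Subgroup G) ⊔ K := by
      rw [Sylow.coe_mapSurjective, Subgroup.comap_map_eq, QuotientGroup.ker_mk']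
    rw [← he]
    infer_instance
  set R : Subgroup G := ⨅ (φ : Cfsg.IrrCharacter G) (_ : m φ ≠ 0),
    ((P : Subgroup G) ⊔ kerSubgroup (φ : G → ℂ) (isCharacter_of_irr φ.2)) with hR
  have hRn : R.Normal := Subgroup.normal_iInf_normal fun φ => Subgroup.normal_iInf_normal fun h => hnorm φ h
  have hPR : (P : Subgroup G) ≤ R := le_iInf₂ fun φ _ => le_sup_left
  have hRp : IsPGroup p R := by
    intro x
    obtain ⟨j, hj⟩ := IsPGroup.iff_card.1 P.isPGroup'
    refine ⟨j, Subtype.ext ?_⟩
    rw [Subgroup.coe_pow, Subgroup.coe_one]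
    refine hf _ ?_
    rw [congrFun hm ((x : G) ^ p ^ j), congrFun hm 1]
    refine Finset.sum_congr rfl fun φ _ => ?_
    by_cases hφ : m φ = 0
    · simp [hφ]
    congr 1
    refine (mem_kerSubgroup (isCharacter_of_irr φ.2) _).1 ?_
    have hx : (x : G) ∈ (P : Subgroup G) ⊔ kerSubgroup (φ : G → ℂ) (isCharacter_of_irr φ.2) :=
      (Subgroup.mem_iInf.1 (Subgroup.mem_iInf.1 x.2 φ)) hφ
    haveI : (kerSubgroup (φ : G → ℂ) (isCharacter_of_irr φ.2)).Normal := kerSubgroup_normal _
    obtain ⟨y, hy, k, hk, he⟩ := Subgroup.mem_sup_of_normal_right.1 hx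
    rw [← QuotientGroup.eq_one_iff, QuotientGroup.mk_pow, ← he, QuotientGroup.mk_mul,
      (QuotientGroup.eq_one_iff k).2 hk, mul_one, ← QuotientGroup.mk_pow]
    have : y ^ p ^ j = 1 := by
      have h1 := congrArg Subtype.val (pow_card_eq_one' (x := (⟨y, hy⟩ : (P : Subgroup G))))
      rwa [hj] at h1
    rw [this, QuotientGroup.mk_one]
  exact P.3 hRp hPR ▸ hRn

end Cfsg.Lib.Chars
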