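import Cfsg.Agent.Chars.KnorrLattice
import Cfsg.Agent.Chars.Count
import Cfsg.Agent.Chars.Galois
import Cfsg.Agent.S0169

/-!
# An abelian stabilizer bounds the class number of a coprime affine group

With `V` a normal elementary abelian self-centralizing subgroup of index prime to `p`, an element `v` of `V` with
abelian centralizer in a complement gives at most `|V|` classes.
-/

set_option autoImplicit false

namespace Cfsg.Lib.Chars.Knorr

open Cfsg.Lib.Chars Finset

universe u

variable {X : Type u} [Group X] [Fintype X] {p : ℕ} [Fact p.Prime] (V : Subgroup X)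

/-- The good weight of an invariant subgroup. -/
theorem exists_good (hVp : ∀ v ∈ V, v ^ p = 1) (hVab : ∀ a ∈ V, ∀ b ∈ V, a * b = b * a) (C : Subgroup X)
    (hCab : ∀ a ∈ C, ∀ b ∈ C, a * b = b * a) (hcop : ¬ p ∣ Nat.card C) :
    ∀ (n : ℕ) (U : Subgroup X), U ≤ V → (∀ c ∈ C, ∀ u ∈ U, c * u * c⁻¹ ∈ U) → Nat.card U = n →
      ∃ (B : Type u) (_ : CommGroup B) (_ : Fintype B) (W : B → ℕ) (ι : C →* B), Good W ∧
        (∀ c : C, W (ι c) * Nat.card (U ⊓ Subgroup.centralizer ({(c : X)} : Set X) : Subgroup X) ≤ Nat.card U) ∧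
        ∀ c : C, ι c = 1 → ∀ u ∈ U, (c : X) * u * (c : X)⁻¹ = u := by
  intro n
  induction n using Nat.strong_induction_on with
  | _ n ih =>
  intro U hUV hUinv hn
  classical
  rcases eq_or_ne U ⊥ with rfl | hU
  · refine ⟨PUnit.{u + 1}, inferInstance, inferInstance, fun _ => 1, 1, good_of_subsingleton _ fun _ => le_rfl,
      fun c => ?_, fun c _ u hu => ?_⟩
    · simp
    · rw [Subgroup.mem_bot] at hu; simp [hu]
  letI : Fintype (Subgroup X) := Fintype.ofFinite _
  obtain ⟨A, hA, hmax⟩ := Finset.exists_max_image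
    (Finset.univ.filter fun A : Subgroup X => A < U ∧ ∀ c ∈ C, ∀ a ∈ A, c * a * c⁻¹ ∈ A)
    (fun A : Subgroup X => Nat.card A) ⟨⊥, Finset.mem_filter.2 ⟨Finset.mem_univ _, bot_lt_iff_ne_bot.2 hU,
      fun c _ a ha => by rw [Subgroup.mem_bot] at ha; simp [ha]⟩⟩
  obtain ⟨-, hAU, hAinv⟩ := Finset.mem_filter.1 hA
  obtain ⟨B, iB, iBf, W, ι, hW, hWb, hker⟩ := ih _ (by
    rw [← hn]
    exact lt_of_le_of_ne (Subgroup.card_le_of_le hAU.le) fun h => hAU.ne (Subgroup.eq_of_le_of_card_ge hAU.le h.ge))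
    A (hAU.le.trans hUV) hAinv rfl
  have hcomm : ∀ a ∈ U, ∀ b ∈ U, a * b = b * a := fun a ha b hb => hVab a (hUV ha) b (hUV hb)
  -- the subgroup of the elements trivial modulo `A`
  let L : Subgroup C :=
    { carrier := {c | ∀ u ∈ U, (c : X) * u * (c : X)⁻¹ * u⁻¹ ∈ A}
      one_mem' := fun u _ => by simp
      mul_mem' := fun {a b} ha hb u hu => by
        have h := mul_mem (ha _ (hUinv b b.2 u hu)) (hb u hu)
        convert h using 1
        simp only [Subgroup.coe_mul]
        group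
      inv_mem' := fun {a} ha u hu => by
        have h1 : ((a⁻¹ : C) : X) * u * ((a⁻¹ : C) : X)⁻¹ ∈ U := hUinv _ (a⁻¹).2 u hu
        have h := inv_mem (ha _ h1)
        convert h using 1
        simp only [Subgroup.coe_inv]
        group }
  haveI hLn : L.Normal := ⟨fun x hx g => by
    have : g * x * g⁻¹ = x := Subtype.ext (by
      simp only [Subgroup.coe_mul, Subgroup.coe_inv]
      rw [hCab g g.2 x x.2, mul_inv_cancel_right])
    rwa [this]⟩
  letI : CommGroup (C ⧸ L) := { (inferInstance : Group (C ⧸ L)) with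
    mul_comm := fun a b => by
      obtain ⟨a, rfl⟩ := QuotientGroup.mk_surjective a
      obtain ⟨b, rfl⟩ := QuotientGroup.mk_surjective b
      exact congrArg QuotientGroup.mk (Subtype.ext (hCab a a.2 b b.2)) }
  letI : Fintype (C ⧸ L) := Fintype.ofFinite _
  let F : C → Subgroup X := fun c =>
    { carrier := {u | u ∈ U ∧ (c : X) * u * (c : X)⁻¹ * u⁻¹ ∈ A}
      one_mem' := ⟨one_mem _, by simp⟩
      mul_mem' := fun {a b} ha hb => ⟨mul_mem ha.1 hb.1, by
        have h1 : (c : X) * b * (c : X)⁻¹ * b⁻¹ ∈ U := mul_mem (hUinv c c.2 b hb.1) (inv_mem hb.1)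
        have h := mul_mem ha.2 hb.2
        convert h using 1
        calc (c : X) * (a * b) * (c : X)⁻¹ * (a * b)⁻¹
            = (c : X) * a * (c : X)⁻¹ * ((c : X) * b * (c : X)⁻¹ * b⁻¹ * a⁻¹) := by group
          _ = (c : X) * a * (c : X)⁻¹ * (a⁻¹ * ((c : X) * b * (c : X)⁻¹ * b⁻¹)) := by
              rw [hcomm _ h1 _ (inv_mem ha.1)]
          _ = _ := by group⟩
      inv_mem' := fun {a} ha => ⟨inv_mem ha.1, by
        have h1 : (c : X) * a * (c : X)⁻¹ ∈ U := hUinv c c.2 a ha.1
        have h := inv_mem ha.2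
        convert h using 1
        calc (c : X) * a⁻¹ * (c : X)⁻¹ * a⁻¹⁻¹ = ((c : X) * a * (c : X)⁻¹)⁻¹ * a := by group
          _ = a * ((c : X) * a * (c : X)⁻¹)⁻¹ := hcomm _ (inv_mem h1) _ ha.1
          _ = _ := by group⟩ }
  have hFA : ∀ c, c ∉ L → F c = A := by
    intro c hc
    have hle : A ≤ F c := fun a ha => ⟨hAU.le ha, mul_mem (hAinv c c.2 a ha) (inv_mem ha)⟩
    by_contra hne
    have hlt : F c < U := lt_of_le_of_ne (fun u hu => hu.1) fun h => hc fun u hu => (h.symm ▸ hu : u ∈ F c).2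
    have hinv : ∀ d ∈ C, ∀ u ∈ F c, d * u * d⁻¹ ∈ F c := fun d hd u hu => ⟨hUinv d hd u hu.1, by
      have h := hAinv d hd _ hu.2
      convert h using 1
      calc (c : X) * (d * u * d⁻¹) * (c : X)⁻¹ * (d * u * d⁻¹)⁻¹
          = ((c : X) * d) * u * ((c : X) * d)⁻¹ * (d * u⁻¹ * d⁻¹) := by group
        _ = (d * (c : X)) * u * (d * (c : X))⁻¹ * (d * u⁻¹ * d⁻¹) := by rw [hCab _ c.2 d hd]
        _ = _ := by group⟩
    exact hne (Subgroup.eq_of_le_of_card_ge hle
      (hmax _ (Finset.mem_filter.2 ⟨Finset.mem_univ _, hlt, hinv⟩))).symm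
  have hq : Fintype.card (C ⧸ L) + 1 ≤ A.relIndex U := by
    obtain ⟨u₀, hu₀, hu₀A⟩ := SetLike.exists_of_lt hAU
    let f : C → U ⧸ A.subgroupOf U := fun c => QuotientGroup.mk ⟨(c : X) * u₀ * (c : X)⁻¹, hUinv c c.2 u₀ hu₀⟩
    let g : Option (C ⧸ L) → U ⧸ A.subgroupOf U := fun o => o.elim (QuotientGroup.mk 1) fun x => f x.out
    have hg : Function.Injective g := by
      have hne : ∀ x : C ⧸ L, g (some x) ≠ g none := by
        intro x h
        have h1 : f x.out = QuotientGroup.mk (1 : U) := h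
        rw [QuotientGroup.eq, mul_one, Subgroup.mem_subgroupOf] at h1
        have h2 := hAinv _ (inv_mem x.out.2) _ (inv_mem h1)
        simp only [Subgroup.coe_inv, inv_inv] at h2
        exact hu₀A (by
          convert h2 using 1
          group)
      intro a b h
      match a, b with
      | none, none => rfl
      | none, some y => exact absurd h.symm (hne y)
      | some x, none => exact absurd h (hne x)
      | some x, some y =>
        have h1 : f x.out = f y.out := h
        rw [QuotientGroup.eq, Subgroup.mem_subgroupOf] at h1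
        rw [← QuotientGroup.out_eq' x, ← QuotientGroup.out_eq' y]
        congr 1
        rw [QuotientGroup.eq]
        by_contra hL
        have h2 := hAinv _ (inv_mem x.out.2) _ h1
        have h3 : u₀⁻¹ * (((x.out⁻¹ * y.out : C) : X) * u₀ * ((x.out⁻¹ * y.out : C) : X)⁻¹) ∈ A := by
          convert h2 using 1
          simp only [Subgroup.coe_mul, Subgroup.coe_inv]
          group
        refine hu₀A ((hFA _ hL).le ⟨hu₀, ?_⟩)
        rwa [hcomm _ (inv_mem hu₀) _ (hUinv _ (x.out⁻¹ * y.out).2 u₀ hu₀)] at h3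
    have h := Nat.card_le_card_of_injective g hg
    rw [Finite.card_option, Nat.card_eq_fintype_card] at h
    exact h
  refine ⟨(C ⧸ L) × B, inferInstance, inferInstance, prodWeight (C ⧸ L) W, (QuotientGroup.mk' L).prod ι,
    good_prod hW, fun c => ?_, fun c hc u hu => ?_⟩
  · have hcardA : Nat.card A * A.relIndex U = Nat.card U := by
      rw [← Subgroup.relIndex_bot_left, ← Subgroup.relIndex_bot_left, Subgroup.relIndex_mul_relIndex _ _ _ bot_le hAU.le]
    rw [← hcardA]
    show ((if (QuotientGroup.mk c : C ⧸ L) = 1 then 1 else Fintype.card (C ⧸ L) + 1) * W (ι c)) * _ ≤ _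
    split_ifs with h1
    · rw [one_mul]
      set CU := U ⊓ Subgroup.centralizer ({(c : X)} : Set X) with hCU
      set CA := A ⊓ Subgroup.centralizer ({(c : X)} : Set X) with hCA
      have hsub : CA ≤ CU := inf_le_inf_right _ hAU.le
      have hidx : CA.relIndex CU ≤ A.relIndex U := by
        rw [show CA.relIndex CU = A.relIndex CU from by
          rw [← Subgroup.inf_relIndex_right A CU, hCA, hCU, ← inf_assoc, inf_eq_left.2 hAU.le]]
        exact Subgroup.relIndex_le_of_le_right inf_le_left Subgroup.index_ne_zero_of_finite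
      have hCUc : Nat.card CA * CA.relIndex CU = Nat.card CU := by
        rw [← Subgroup.relIndex_bot_left, ← Subgroup.relIndex_bot_left, Subgroup.relIndex_mul_relIndex _ _ _ bot_le hsub]
      calc W (ι c) * Nat.card CU = W (ι c) * Nat.card CA * CA.relIndex CU := by rw [mul_assoc, hCUc]
        _ ≤ Nat.card A * A.relIndex U := Nat.mul_le_mul (hWb c) hidx
    · have hcL : c ∉ L := fun h => h1 ((QuotientGroup.eq_one_iff c).2 h)
      have hsame : U ⊓ Subgroup.centralizer ({(c : X)} : Set X) = A ⊓ Subgroup.centralizer ({(c : X)} : Set X) := by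
        refine le_antisymm ?_ (inf_le_inf_right _ hAU.le)
        rintro u ⟨hu, hu'⟩
        refine ⟨(hFA c hcL).le ⟨hu, ?_⟩, hu'⟩
        rw [Subgroup.mem_centralizer_singleton_iff.1 hu' |>.symm]
        simp
      rw [hsame, mul_assoc, mul_comm (Nat.card A)]
      exact Nat.mul_le_mul hq (hWb c)
  · obtain ⟨hc1, hc2⟩ := Prod.ext_iff.1 hc
    have hcL : c ∈ L := (QuotientGroup.eq_one_iff c).1 hc1
    set a := (c : X) * u * (c : X)⁻¹ * u⁻¹ with ha
    have haA : a ∈ A := hcL u hu
    have hfix : (c : X) * a * (c : X)⁻¹ = a := hker c hc2 a haA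
    have hpow : ∀ i : ℕ, (c : X) ^ i * u * ((c : X) ^ i)⁻¹ = a ^ i * u := by
      intro i
      induction i with
      | zero => simp
      | succ i ihi =>
        calc (c : X) ^ (i + 1) * u * ((c : X) ^ (i + 1))⁻¹
            = (c : X) * ((c : X) ^ i * u * ((c : X) ^ i)⁻¹) * (c : X)⁻¹ := by rw [pow_succ']; group
          _ = ((c : X) * a * (c : X)⁻¹) ^ i * ((c : X) * u * (c : X)⁻¹) := by rw [ihi, conj_pow]; group
          _ = a ^ (i + 1) * u := by rw [hfix, pow_succ, mul_assoc, ha]; group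
    have h1 := hpow (orderOf (c : X))
    rw [pow_orderOf_eq_one, one_mul, inv_one, mul_one] at h1
    have h2 : a ^ orderOf (c : X) = 1 := mul_right_cancel (h1.symm.trans (one_mul u).symm)
    have h3 : orderOf a = 1 := by
      refine Nat.eq_one_of_dvd_coprimes ?_ (orderOf_dvd_of_pow_eq_one (hVp a (hUV (hAU.le haA))))
        (orderOf_dvd_of_pow_eq_one h2)
      refine (Fact.out : p.Prime).coprime_iff_not_dvd.2 fun hd => hcop (hd.trans ?_)
      rw [Subgroup.orderOf_coe]
      exact orderOf_dvd_natCard c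
    exact mul_inv_eq_one.1 (orderOf_eq_one_iff.1 h3)

/-- The class number bound at a nontrivial element. -/
theorem card_classes_le_of_ne_one [V.Normal] (hVp : ∀ v ∈ V, v ^ p = 1) (hidx : ¬ p ∣ V.index)
    (hself : Subgroup.centralizer (V : Set X) = V) (G : Subgroup X) (hGV : Subgroup.IsComplement' V G)
    {v : X} (hv : v ∈ V) (hv1 : v ≠ 1)
    (hab : ∀ a ∈ G ⊓ Subgroup.centralizer ({v} : Set X), ∀ b ∈ G ⊓ Subgroup.centralizer ({v} : Set X), a * b = b * a) :
    Nat.card (ConjClasses X) ≤ Nat.card V := by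
  classical
  have hVab : ∀ a ∈ V, ∀ b ∈ V, a * b = b * a := fun a ha b hb =>
    Subgroup.mem_centralizer_iff.1 (hself.symm ▸ hb : b ∈ Subgroup.centralizer (V : Set X)) a ha
  set C := G ⊓ Subgroup.centralizer ({v} : Set X) with hC
  have hGcard : ¬ p ∣ Nat.card G := by
    rw [← hGV.symm.index_eq_card]; exact hidx
  have hcop : ¬ p ∣ Nat.card C := fun h => hGcard (h.trans (Subgroup.card_dvd_of_le inf_le_left))
  obtain ⟨B, iB, iBf, W, ι, hW, hWb, hker⟩ := exists_good V hVp hVab C hab hcop _ V le_rfl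
    (fun c _ u hu => ‹V.Normal›.conj_mem u hu c) rfl
  letI : CommGroup C := { (inferInstance : Group C) with mul_comm := fun a b => Subtype.ext (hab a a.2 b b.2) }
  letI : Fintype C := Fintype.ofFinite C
  have hVG : ∀ x : X, x ∈ V → x ∈ G → x = 1 := fun x h1 h2 =>
    Subgroup.mem_bot.1 (hGV.disjoint.le_bot ⟨h1, h2⟩)
  have hι : Function.Injective ι := (injective_iff_map_eq_one ι).2 fun c hc => by
    have h1 : (c : X) ∈ V := by
      rw [← hself]
      exact Subgroup.mem_centralizer_iff.2 fun u hu => (mul_inv_eq_iff_eq_mul.1 (hker c hc u hu)).symm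
    exact Subtype.ext (hVG _ h1 c.2.1)
  have hgood : Good (fun c : C => W (ι c)) := good_pullback hW ι hι
  -- the abelian subgroup generated by the element and its stabilizer
  have hvord : orderOf v = p := orderOf_eq_prime (hVp v hv) hv1
  set K := Subgroup.zpowers v with hK
  letI : CommGroup K := { (inferInstance : Group K) with
    mul_comm := fun a b => Subtype.ext (hVab a (Subgroup.zpowers_le.2 hv a.2) b (Subgroup.zpowers_le.2 hv b.2)) }
  letI : Fintype K := Fintype.ofFinite K
  have hKcard : Fintype.card K = p := by rw [← Nat.card_eq_fintype_card, hK, Nat.card_zpowers, hvord]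
  have hcomm : ∀ (k : K) (c : C), Commute (k : X) (c : X) := fun k c => by
    obtain ⟨i, hi⟩ := Subgroup.mem_zpowers_iff.1 k.2
    rw [← hi]
    exact (show Commute v (c : X) from (Subgroup.mem_centralizer_singleton_iff.1 c.2.2).symm).zpow_left i
  let φ : K × C →* X := MonoidHom.noncommCoprod K.subtype C.subtype hcomm
  have hφ : ∀ k c, φ (k, c) = (k : X) * (c : X) := fun k c => rfl
  -- the centralizers
  have hcent : ∀ (k : K) (c : C), k ≠ 1 →
      Nat.card (Subgroup.centralizer ({φ (k, c)} : Set X)) ≤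
        Nat.card (V ⊓ Subgroup.centralizer ({(c : X)} : Set X) : Subgroup X) * Nat.card C := by
    intro k c hk
    rw [← Nat.card_prod]
    have hcoprime : (orderOf (k : X)).Coprime (orderOf (c : X)) := by
      have h1 : orderOf (k : X) ∣ p := orderOf_dvd_of_pow_eq_one (hVp _ (Subgroup.zpowers_le.2 hv k.2))
      refine Nat.Coprime.coprime_dvd_left h1 ((Fact.out : p.Prime).coprime_iff_not_dvd.2 fun hd => hcop (hd.trans ?_))
      rw [Subgroup.orderOf_coe]
      exact orderOf_dvd_natCard c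
    have hsplit : ∀ x : X, Commute x ((k : X) * c) → Commute x v ∧ Commute x (c : X) := by
      intro x hx
      have hkc := hcomm k c
      have hp1 : ((k : X) * c) ^ orderOf (c : X) = (k : X) ^ orderOf (c : X) := by
        rw [hkc.mul_pow, pow_orderOf_eq_one, mul_one]
      have hp2 : ((k : X) * c) ^ orderOf (k : X) = (c : X) ^ orderOf (k : X) := by
        rw [hkc.mul_pow, pow_orderOf_eq_one, one_mul]
      obtain ⟨i, hi⟩ := exists_pow_eq_self_of_coprime hcoprime.symm
      obtain ⟨j, hj⟩ := exists_pow_eq_self_of_coprime hcoprime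
      have hxk : Commute x (k : X) := by
        rw [← hi, ← hp1]; exact (hx.pow_right _).pow_right _
      have hxc : Commute x (c : X) := by
        rw [← hj, ← hp2]; exact (hx.pow_right _).pow_right _
      refine ⟨?_, hxc⟩
      have hgen : v ∈ Subgroup.zpowers (k : X) := by
        have : Subgroup.zpowers (k : X) = Subgroup.zpowers v := by
          refine Subgroup.eq_of_le_of_card_ge (Subgroup.zpowers_le.2 k.2) ?_
          rw [Nat.card_zpowers, Nat.card_zpowers, hvord,
            orderOf_eq_prime (hVp _ (Subgroup.zpowers_le.2 hv k.2)) fun h => hk (Subtype.ext h)]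
        rw [this]; exact Subgroup.mem_zpowers v
      obtain ⟨l, hl⟩ := Subgroup.mem_zpowers_iff.1 hgen
      rw [← hl]
      exact hxk.zpow_right l
    have key : ∀ x ∈ Subgroup.centralizer ({φ (k, c)} : Set X), ∃ u ∈ V ⊓ Subgroup.centralizer ({(c : X)} : Set X),
        ∃ g ∈ C, x = u * g := by
      intro x hx
      obtain ⟨hxv, hxc⟩ := hsplit x (Subgroup.mem_centralizer_singleton_iff.1 hx)
      obtain ⟨⟨⟨u, hu⟩, ⟨g, hg⟩⟩, rfl⟩ := hGV.2 x
      have huv : Commute u v := hVab u hu v hv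
      have hgC : g ∈ C := ⟨hg, Subgroup.mem_centralizer_singleton_iff.2 (by
        have h1 : u * g * v = v * (u * g) := hxv.eq
        rw [← mul_assoc v, ← huv.eq, mul_assoc, mul_assoc] at h1
        exact mul_left_cancel h1)⟩
      refine ⟨u, ⟨hu, Subgroup.mem_centralizer_singleton_iff.2 ?_⟩, g, hgC, rfl⟩
      have h1 : u * g * c = c * (u * g) := hxc.eq
      rw [mul_assoc, hab g hgC c c.2, ← mul_assoc, ← mul_assoc] at h1
      exact mul_right_cancel h1
    choose u hu g hg hx using key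
    refine Nat.card_le_card_of_injective
      (fun x : Subgroup.centralizer ({φ (k, c)} : Set X) =>
        ((⟨u x x.2, hu x x.2⟩ : (V ⊓ Subgroup.centralizer ({(c : X)} : Set X) : Subgroup X)),
          (⟨g x x.2, hg x x.2⟩ : C))) fun x y h => Subtype.ext ?_
    simp only [Prod.mk.injEq, Subtype.mk.injEq] at h
    rw [hx x x.2, hx y y.2, h.1, h.2]
  -- the weighted column sums
  set P := Finset.univ.filter fun k : K => k ≠ 1 with hP
  have hPcard : P.card = p - 1 := by
    rw [hP, Finset.filter_ne', Finset.card_erase_of_mem (Finset.mem_univ _), Finset.card_univ, hKcard]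
  have hupper : ∀ k ∈ P, ∀ c : C, (W (ι c) : ℝ) * ∑ χ : Cfsg.IrrCharacter X, Complex.normSq ((χ : X → ℂ) (φ (k, c))) ≤
      (Nat.card V : ℝ) * Nat.card C := by
    intro k hk c
    have h1 : ∑ χ : Cfsg.IrrCharacter X, Complex.normSq ((χ : X → ℂ) (φ (k, c))) =
        Nat.card (Subgroup.centralizer ({φ (k, c)} : Set X)) := by
      apply Complex.ofReal_injective
      push_cast
      have h := second_orthogonality (φ (k, c)) (φ (k, c))
      rw [if_pos (IsConj.refl _)] at h
      rw [← h]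
      exact Finset.sum_congr rfl fun χ _ => Complex.normSq_eq_conj_mul_self.trans (mul_comm _ _)
    rw [h1]
    have h2 : W (ι c) * Nat.card (Subgroup.centralizer ({φ (k, c)} : Set X)) ≤ Nat.card V * Nat.card C := by
      refine (Nat.mul_le_mul_left _ (hcent k c (Finset.mem_filter.1 hk).2)).trans ?_
      rw [← mul_assoc]
      exact Nat.mul_le_mul_right _ (hWb c)
    exact_mod_cast h2
  have hlower : ∀ χ : Cfsg.IrrCharacter X, ((p : ℝ) - 1) * (Fintype.card C : ℝ) ^ 2 ≤
      ∑ k ∈ P, ∑ c : C, (W (ι c) : ℝ) * Complex.normSq ((χ : X → ℂ) (φ (k, c))) := by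
    intro χ
    have hg : Cfsg.IsCharacter (K × C) (fun z => (χ : X → ℂ) (φ z)) :=
      IsCharacter.comp_hom (isCharacter_of_irr χ.2) φ
    obtain ⟨mu, hmu⟩ := IsCharacter.exists_decomp hg
    choose lin hlin using fun ψ : Cfsg.IrrCharacter (K × C) => exists_hom_of_deg_one (isCharacter_of_irr ψ.2)
      (irr_deg_one_of_comm (fun a b => mul_comm a b) ψ.2)
    let a : (K →* ℂˣ) → (C →* ℂˣ) → ℤ := fun ω ν =>
      ((∑ ψ ∈ Finset.univ.filter (fun ψ => lin ψ = ω.coprod ν), mu ψ : ℕ) : ℤ)
    have hexp : ∀ k c, (χ : X → ℂ) (φ (k, c)) = ∑ ω, (ω k : ℂ) * ev (a ω) c := by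
      intro k c
      rw [congrFun hmu (k, c)]
      simp only [Finset.sum_apply, nsmul_eq_mul, Pi.mul_apply, Pi.natCast_apply, ev, Finset.mul_sum]
      rw [← Fintype.sum_prod_type' (f := fun ω ν => (ω k : ℂ) * ((a ω ν : ℂ) * (ν c : ℂ))),
        ← Finset.sum_fiberwise_of_maps_to (t := Finset.univ) (g := fun ψ =>
          (((lin ψ).comp (MonoidHom.inl K C), (lin ψ).comp (MonoidHom.inr K C)) : (K →* ℂˣ) × (C →* ℂˣ)))
          fun _ _ => Finset.mem_univ _]
      refine Finset.sum_congr rfl fun z _ => ?_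
      have hfil : (Finset.univ.filter fun ψ => ((lin ψ).comp (MonoidHom.inl K C), (lin ψ).comp (MonoidHom.inr K C)) = z) =
          Finset.univ.filter (fun ψ => lin ψ = z.1.coprod z.2) := by
        ext ψ
        simp only [Finset.mem_filter, Finset.mem_univ, true_and]
        constructor
        · rintro rfl
          refine MonoidHom.ext fun x => ?_
          simp [← map_mul]
        · intro h
          rw [h]
          ext x <;> simp
      rw [hfil]
      show _ = (z.1 k : ℂ) * ((((∑ ψ ∈ Finset.univ.filter (fun ψ => lin ψ = z.1.coprod z.2), mu ψ : ℕ) : ℤ) : ℂ) * (z.2 c : ℂ))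
      push_cast
      rw [Finset.sum_mul, Finset.mul_sum]
      refine Finset.sum_congr rfl fun ψ hψ => ?_
      rw [congrFun (hlin ψ) (k, c), (Finset.mem_filter.1 hψ).2]
      simp
      ring
    have hne : ∃ ω ω', a ω ≠ a ω' := by
      by_contra hc
      push Not at hc
      have h1 : (χ : X → ℂ) 1 = (p : ℂ) * ev (a 1) 1 := by
        have := hexp 1 1
        rw [show φ ((1 : K), (1 : C)) = 1 from map_one φ] at this
        rw [this, Finset.sum_congr rfl fun ω _ => by rw [hc ω 1, map_one, Units.val_one, one_mul],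
          Finset.sum_const, Finset.card_univ, card_dual, hKcard, nsmul_eq_mul]
      obtain ⟨N, hN⟩ : ∃ N : ℤ, ev (a 1) 1 = (N : ℂ) := ⟨∑ ν, a 1 ν, by simp [ev]⟩
      rw [irr_apply_one_eq_deg, hN] at h1
      have h2 : (p : ℤ) ∣ (deg (χ : X → ℂ) : ℤ) := ⟨N, by exact_mod_cast h1⟩
      refine hidx ((Int.natCast_dvd_natCast.1 h2).trans ?_)
      obtain ⟨d, ρ, hρ, hρχ⟩ := χ.2
      haveI := hρ
      have hd := Cfsg.Agent.S0169.result ρ V hVab
      rw [← hρχ, deg_character]
      exact hd
    have hpars : ∀ c : C, ∑ k ∈ P, Complex.normSq ((χ : X → ℂ) (φ (k, c))) =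
        (1 / 2 : ℝ) * ∑ ω, ∑ ω', Complex.normSq (ev (a ω) c - ev (a ω') c) := by
      intro c
      have hP' : ∑ k ∈ P, Complex.normSq ((χ : X → ℂ) (φ (k, c))) =
          ∑ k, Complex.normSq (∑ ω, (ω k : ℂ) * ev (a ω) c) - Complex.normSq (∑ ω, ev (a ω) c) := by
        rw [hP, Finset.filter_ne', ← Finset.add_sum_erase _ _ (Finset.mem_univ (1 : K))]
        simp only [map_one, Units.val_one, one_mul, add_sub_cancel_left]
        exact Finset.sum_congr rfl fun k _ => by rw [hexp]
      rw [hP', parseval, hKcard]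
      apply Complex.ofReal_injective
      push_cast
      simp only [Complex.normSq_eq_conj_mul_self, map_sum, map_sub, sub_mul, mul_sub, Finset.sum_sub_distrib,
        Finset.sum_const, Finset.card_univ, card_dual, hKcard, nsmul_eq_mul, Finset.mul_sum, Finset.sum_mul]
      rw [Finset.sum_comm (f := fun μ ν => (starRingEnd ℂ) (ev (a ν) c) * ev (a μ) c)]
      simp only [← Finset.mul_sum, ← Finset.sum_mul]
      ring
    rw [Finset.sum_comm]
    simp only [← Finset.mul_sum]
    rw [Finset.sum_congr rfl fun c _ => by rw [hpars c]]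
    set S : (K →* ℂˣ) → (K →* ℂˣ) → ℝ := fun ω ω' =>
      ∑ c : C, (W (ι c) : ℝ) * Complex.normSq (ev (a ω) c - ev (a ω') c) with hS
    have htot : ∑ c : C, (W (ι c) : ℝ) * ((1 / 2 : ℝ) * ∑ ω, ∑ ω', Complex.normSq (ev (a ω) c - ev (a ω') c)) =
        (1 / 2 : ℝ) * ∑ ω, ∑ ω', S ω ω' := by
      simp only [hS, Finset.mul_sum]
      rw [Finset.sum_comm]
      refine Finset.sum_congr rfl fun ω _ => ?_
      rw [Finset.sum_comm]
      exact Finset.sum_congr rfl fun ω' _ => Finset.sum_congr rfl fun c _ => by ring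
    rw [htot]
    set m := (Fintype.card C : ℝ) ^ 2 with hm
    have hm0 : 0 ≤ m := by positivity
    have hSnn : ∀ ω ω', 0 ≤ S ω ω' := fun ω ω' => Finset.sum_nonneg fun c _ =>
      mul_nonneg (Nat.cast_nonneg _) (Complex.normSq_nonneg _)
    have hbig : ∀ ω ω', a ω ≠ a ω' → m ≤ S ω ω' := by
      intro ω ω' h
      refine (hgood (a ω - a ω') (sub_ne_zero.2 h)).trans_eq (Finset.sum_congr rfl fun c _ => ?_)
      congr 2
      simp [ev, sub_mul, Finset.sum_sub_distrib]
    obtain ⟨ω₀, ω₁, h01⟩ := hne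
    set T := Finset.univ.filter fun ω => a ω = a ω₀ with hT
    have ht1 : (1 : ℝ) ≤ T.card := by
      exact_mod_cast (Finset.card_pos.2 ⟨ω₀, Finset.mem_filter.2 ⟨Finset.mem_univ _, rfl⟩⟩ : 0 < T.card)
    have ht2 : (1 : ℝ) ≤ (Tᶜ).card := by
      exact_mod_cast Finset.card_pos.2 ⟨ω₁, by simpa [hT] using Ne.symm h01⟩
    have hsum : (T.card : ℝ) + (Tᶜ).card = p := by
      rw [← Nat.cast_add, Finset.card_add_card_compl, card_dual, hKcard]
    have hA : (T.card : ℝ) * (((Tᶜ).card : ℝ) * m) ≤ ∑ ω ∈ T, ∑ ω', S ω ω' := by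
      rw [← nsmul_eq_mul]
      refine Finset.card_nsmul_le_sum T _ _ fun ω hω => ?_
      refine le_trans ?_ (Finset.sum_le_sum_of_subset_of_nonneg (Finset.subset_univ (Tᶜ)) fun ν _ _ => hSnn _ _)
      rw [← nsmul_eq_mul]
      refine Finset.card_nsmul_le_sum _ _ _ fun ν hν => hbig _ _ fun h => ?_
      exact Finset.mem_compl.1 hν (Finset.mem_filter.2 ⟨Finset.mem_univ _, h.symm.trans (Finset.mem_filter.1 hω).2⟩)
    have hB : ((Tᶜ).card : ℝ) * ((T.card : ℝ) * m) ≤ ∑ ω ∈ Tᶜ, ∑ ω', S ω ω' := by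
      rw [← nsmul_eq_mul]
      refine Finset.card_nsmul_le_sum (Tᶜ) _ _ fun ω hω => ?_
      refine le_trans ?_ (Finset.sum_le_sum_of_subset_of_nonneg (Finset.subset_univ T) fun ν _ _ => hSnn _ _)
      rw [← nsmul_eq_mul]
      refine Finset.card_nsmul_le_sum _ _ _ fun ν hν => hbig _ _ fun h => ?_
      exact Finset.mem_compl.1 hω (Finset.mem_filter.2 ⟨Finset.mem_univ _, h.trans (Finset.mem_filter.1 hν).2⟩)
    rw [← Finset.sum_add_sum_compl T (fun ω => ∑ ω', S ω ω')]
    have hh : ((p : ℝ) - 1) * m ≤ (T.card : ℝ) * (Tᶜ).card * m := by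
      nlinarith [mul_nonneg (mul_nonneg (sub_nonneg.2 ht1) (sub_nonneg.2 ht2)) hm0]
    nlinarith
  -- conclusion
  have h1 : ∑ χ : Cfsg.IrrCharacter X, ((p : ℝ) - 1) * (Fintype.card C : ℝ) ^ 2 ≤
      ∑ χ : Cfsg.IrrCharacter X, ∑ k ∈ P, ∑ c : C, (W (ι c) : ℝ) * Complex.normSq ((χ : X → ℂ) (φ (k, c))) :=
    Finset.sum_le_sum fun χ _ => hlower χ
  rw [Finset.sum_const, Finset.card_univ, nsmul_eq_mul, Finset.sum_comm,
    ← Nat.card_eq_fintype_card (α := Cfsg.IrrCharacter X), card_irrCharacter] at h1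
  have h2 : ∑ k ∈ P, ∑ χ : Cfsg.IrrCharacter X, ∑ c : C, (W (ι c) : ℝ) * Complex.normSq ((χ : X → ℂ) (φ (k, c))) ≤
      ∑ k ∈ P, ∑ _c : C, (Nat.card V : ℝ) * Nat.card C := by
    refine Finset.sum_le_sum fun k hk => ?_
    rw [Finset.sum_comm]
    exact Finset.sum_le_sum fun c _ => by rw [← Finset.mul_sum]; exact hupper k hk c
  have h3 := h1.trans h2
  simp only [Finset.sum_const, nsmul_eq_mul, hPcard, Finset.card_univ, Nat.card_eq_fintype_card (α := C)] at h3
  rw [Nat.cast_sub (Fact.out : p.Prime).one_le, Nat.cast_one] at h3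
  have hpos : (0 : ℝ) < ((p : ℝ) - 1) * (Fintype.card C : ℝ) ^ 2 := by
    have : (1 : ℝ) < p := by exact_mod_cast (Fact.out : p.Prime).one_lt
    have : (0 : ℝ) < Fintype.card C := by exact_mod_cast Fintype.card_pos
    positivity
  have h4 : (Nat.card (ConjClasses X) : ℝ) * (((p : ℝ) - 1) * (Fintype.card C : ℝ) ^ 2) ≤
      (Nat.card V : ℝ) * (((p : ℝ) - 1) * (Fintype.card C : ℝ) ^ 2) := h3.trans_eq (by ring)
  exact_mod_cast le_of_mul_le_mul_right h4 hpos

/-- The abelian stabilizer criterion. -/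
theorem card_classes_le [V.Normal] (hVp : ∀ v ∈ V, v ^ p = 1) (hidx : ¬ p ∣ V.index)
    (hself : Subgroup.centralizer (V : Set X) = V) (G : Subgroup X) (hGV : Subgroup.IsComplement' V G)
    {v : X} (hv : v ∈ V)
    (hab : ∀ a ∈ G ⊓ Subgroup.centralizer ({v} : Set X), ∀ b ∈ G ⊓ Subgroup.centralizer ({v} : Set X), a * b = b * a) :
    Nat.card (ConjClasses X) ≤ Nat.card V := by
  classical
  by_cases hV : V = ⊥
  · subst hV
    have htop : (⊥ : Subgroup X) = ⊤ := by
      rw [← hself, Subgroup.coe_bot]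
      exact top_le_iff.1 fun x _ => Subgroup.mem_centralizer_iff.2 fun y hy => by
        rw [Set.mem_singleton_iff] at hy; simp [hy]
    have hone : ∀ x : X, x = 1 := fun x => Subgroup.mem_bot.1 (htop ▸ Subgroup.mem_top x : x ∈ (⊥ : Subgroup X))
    haveI : Subsingleton X := ⟨fun x y => (hone x).trans (hone y).symm⟩
    haveI : Subsingleton (ConjClasses X) := Function.Surjective.subsingleton ConjClasses.mk_surjective
    rw [Nat.card_of_subsingleton (α := ConjClasses X) (ConjClasses.mk 1)]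
    exact Nat.card_pos
  · by_cases hv1 : v = 1
    · subst hv1
      obtain ⟨⟨w, hw⟩, hw1⟩ := V.ne_bot_iff_exists_ne_one.1 hV
      have hle : G ⊓ Subgroup.centralizer ({w} : Set X) ≤ G ⊓ Subgroup.centralizer ({(1 : X)} : Set X) :=
        inf_le_inf_left _ fun x _ => Subgroup.mem_centralizer_singleton_iff.2 (by simp)
      exact card_classes_le_of_ne_one V hVp hidx hself G hGV hw (fun h => hw1 (Subtype.ext h))
        fun a ha b hb => hab a (hle ha) b (hle hb)
    · exact card_classes_le_of_ne_one V hVp hidx hself G hGV hv hv1 hab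

end Cfsg.Lib.Chars.Knorr
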