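import Mathlib

/-!
# A lattice minimum for weighted generalized characters of abelian groups

A weight `W` on a finite abelian group `B` is good when every nonzero integral combination `f` of linear characters
has `|B| ^ 2 ≤ ∑ W |f| ^ 2`. Goodness is preserved by products with a cyclic-type factor and by pullback.
-/

set_option autoImplicit false

namespace Cfsg.Lib.Chars.Knorr

open Finset

universe u v

section Abelian

variable {B : Type u} [CommGroup B] [Fintype B]

noncomputable instance instFintypeDual : Fintype (B →* ℂˣ) := Fintype.ofFinite _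

/-- Evaluation of an integral combination of linear characters. -/
noncomputable def ev (a : (B →* ℂˣ) → ℤ) (b : B) : ℂ := ∑ ν, (a ν : ℂ) * (ν b : ℂ)

/-- The minimum property. -/
def Good (W : B → ℕ) : Prop :=
  ∀ a : (B →* ℂˣ) → ℤ, a ≠ 0 → (Fintype.card B : ℝ) ^ 2 ≤ ∑ b, (W b : ℝ) * Complex.normSq (ev a b)

theorem card_dual : Fintype.card (B →* ℂˣ) = Fintype.card B := by
  rw [← Nat.card_eq_fintype_card, ← Nat.card_eq_fintype_card,
    CommGroup.card_monoidHom_of_hasEnoughRootsOfUnity]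

theorem norm_apply (ν : B →* ℂˣ) (b : B) : ‖(ν b : ℂ)‖ = 1 :=
  Complex.norm_eq_one_of_pow_eq_one (n := Nat.card B)
    (by rw [← Units.val_pow_eq_pow_val, ← map_pow, pow_card_eq_one', map_one, Units.val_one])
    Nat.card_pos.ne'

theorem orth (μ μ' : B →* ℂˣ) [Decidable (μ = μ')] :
    ∑ x, (μ x : ℂ) * (starRingEnd ℂ) (μ' x : ℂ) = if μ = μ' then (Fintype.card B : ℂ) else 0 := by
  classical
  have h : ∀ x, (μ x : ℂ) * (starRingEnd ℂ) (μ' x : ℂ) = ((Units.coeHom ℂ).comp (μ * μ'⁻¹)) x := fun x => by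
    simp [Complex.inv_eq_conj (norm_apply μ' x)]
  simp only [h]
  rw [sum_hom_units]
  have hiff : (Units.coeHom ℂ).comp (μ * μ'⁻¹) = 1 ↔ μ = μ' := by
    refine ⟨fun hc => ?_, fun hc => by subst hc; ext x; simp⟩
    refine MonoidHom.ext fun x => ?_
    have h1 := DFunLike.congr_fun hc x
    simp only [MonoidHom.coe_comp, Function.comp_apply, Units.coeHom_apply, MonoidHom.one_apply,
      Units.val_eq_one, MonoidHom.mul_apply, MonoidHom.inv_apply] at h1
    exact mul_inv_eq_one.1 h1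
  by_cases hμ : μ = μ'
  · rw [if_pos (hiff.2 hμ), if_pos hμ]
  · rw [if_neg fun hc => hμ (hiff.1 hc), if_neg hμ]
    simp

theorem parseval (h : (B →* ℂˣ) → ℂ) :
    ∑ x, Complex.normSq (∑ μ, (μ x : ℂ) * h μ) = Fintype.card B * ∑ μ, Complex.normSq (h μ) := by
  classical
  apply Complex.ofReal_injective
  push_cast
  simp only [Complex.normSq_eq_conj_mul_self, map_sum, map_mul, Finset.sum_mul, Finset.mul_sum]
  rw [Finset.sum_comm]
  refine Finset.sum_congr rfl fun μ _ => ?_
  rw [Finset.sum_comm, Finset.sum_eq_single μ]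
  · have : ∀ x, (starRingEnd ℂ) (μ x : ℂ) * (starRingEnd ℂ) (h μ) * ((μ x : ℂ) * h μ) =
        ((μ x : ℂ) * (starRingEnd ℂ) (μ x : ℂ)) * ((starRingEnd ℂ) (h μ) * h μ) := fun x => by ring
    rw [Finset.sum_congr rfl fun x _ => this x, ← Finset.sum_mul, orth, if_pos rfl]
  · intro ν _ hν
    have : ∀ x, (starRingEnd ℂ) (ν x : ℂ) * (starRingEnd ℂ) (h ν) * ((μ x : ℂ) * h μ) =
        ((μ x : ℂ) * (starRingEnd ℂ) (ν x : ℂ)) * ((starRingEnd ℂ) (h ν) * h μ) := fun x => by ring
    rw [Finset.sum_congr rfl fun x _ => this x, ← Finset.sum_mul, orth, if_neg (Ne.symm hν), zero_mul]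
  · simp

theorem good_of_subsingleton [Subsingleton B] (W : B → ℕ) (hW : ∀ b, 1 ≤ W b) : Good W := by
  intro a ha
  haveI : Subsingleton (B →* ℂˣ) := ⟨fun f g => MonoidHom.ext fun b => by
    rw [Subsingleton.elim b 1, map_one, map_one]⟩
  have ha1 : a 1 ≠ 0 := fun h => ha (funext fun ν => by rw [Subsingleton.elim ν 1, h]; rfl)
  rw [Fintype.card_eq_one_iff.2 ⟨1, fun b => Subsingleton.elim b 1⟩, Fintype.sum_subsingleton _ (1 : B),
    ev, Fintype.sum_subsingleton _ (1 : B →* ℂˣ)]
  have h1 : (1 : ℝ) ≤ (W 1 : ℝ) := by exact_mod_cast hW 1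
  have h2 : (1 : ℝ) ≤ (a 1 : ℝ) * (a 1 : ℝ) := by
    have : 1 ≤ a 1 * a 1 := Int.add_one_le_iff.2 (mul_self_pos.2 ha1)
    exact_mod_cast this
  simp only [MonoidHom.one_apply, Units.val_one, mul_one, Complex.normSq_intCast, Nat.cast_one, one_pow]
  nlinarith

variable {A : Type v} [CommGroup A] [Fintype A] [DecidableEq A]

/-- The product weight. -/
def prodWeight (A : Type v) [CommGroup A] [Fintype A] [DecidableEq A] {B : Type u} (W : B → ℕ) (x : A × B) : ℕ :=
  (if x.1 = 1 then 1 else Fintype.card A + 1) * W x.2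

theorem good_prod {W : B → ℕ} (hW : Good W) : Good (prodWeight A W) := by
  classical
  intro a ha
  let e : ((A →* ℂˣ) × (B →* ℂˣ)) ≃ (A × B →* ℂˣ) :=
    { toFun := fun ν => ν.1.coprod ν.2
      invFun := fun f => (f.comp (MonoidHom.inl A B), f.comp (MonoidHom.inr A B))
      left_inv := fun ν => by ext x <;> simp
      right_inv := fun f => by
        refine MonoidHom.ext fun x => ?_
        simp [← map_mul] }
  set n := Fintype.card A with hn
  let c : (A →* ℂˣ) → (B →* ℂˣ) → ℤ := fun μ ν => a (e (μ, ν))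
  let h : (A →* ℂˣ) → B → ℂ := fun μ y => ev (c μ) y
  have hev : ∀ x y, ev a (x, y) = ∑ μ, (μ x : ℂ) * h μ y := fun x y => by
    simp only [ev, h, Finset.mul_sum]
    rw [← Equiv.sum_comp e, Fintype.sum_prod_type]
    refine Finset.sum_congr rfl fun μ _ => Finset.sum_congr rfl fun ν _ => ?_
    simp [e, c, mul_left_comm]
  set S : (B → ℂ) → ℝ := fun g => ∑ y, (W y : ℝ) * Complex.normSq (g y) with hS
  have hpair : ∀ g : (A →* ℂˣ) → ℂ, ∑ μ, ∑ ν, Complex.normSq (g μ - g ν) =
      2 * ((n : ℝ) * ∑ μ, Complex.normSq (g μ) - Complex.normSq (∑ μ, g μ)) := by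
    intro g
    apply Complex.ofReal_injective
    push_cast
    simp only [Complex.normSq_eq_conj_mul_self, map_sum, map_sub, sub_mul, mul_sub, Finset.sum_sub_distrib,
      Finset.sum_const, Finset.card_univ, card_dual, nsmul_eq_mul, ← hn, Finset.mul_sum, Finset.sum_mul]
    rw [Finset.sum_comm (f := fun μ ν => (starRingEnd ℂ) (g ν) * g μ)]
    simp only [← Finset.mul_sum, ← Finset.sum_mul]
    ring
  have key : ∑ z : A × B, (prodWeight A W z : ℝ) * Complex.normSq (ev a z) =
      (n : ℝ) * ∑ μ, S (h μ) + (n : ℝ) / 2 * ∑ μ, ∑ ν, S (fun y => h μ y - h ν y) := by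
    rw [Fintype.sum_prod_type, Finset.sum_comm]
    have hy : ∀ y, ∑ x, (prodWeight A W (x, y) : ℝ) * Complex.normSq (ev a (x, y)) =
        (W y : ℝ) * ((n : ℝ) * ∑ μ, Complex.normSq (h μ y) +
          (n : ℝ) / 2 * ∑ μ, ∑ ν, Complex.normSq (h μ y - h ν y)) := by
      intro y
      rw [hpair]
      have h1 : ∀ x : A, (prodWeight A W (x, y) : ℝ) * Complex.normSq (ev a (x, y)) = (W y : ℝ) *
          (((n : ℝ) + 1) * Complex.normSq (∑ μ, (μ x : ℂ) * h μ y) -
            if x = 1 then (n : ℝ) * Complex.normSq (∑ μ, h μ y) else 0) := fun x => by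
        rw [hev]
        simp only [prodWeight, ← hn]
        split_ifs with hx
        · subst hx; simp only [map_one, Units.val_one, one_mul]; ring
        · push_cast; ring
      rw [Finset.sum_congr rfl fun x _ => h1 x, ← Finset.mul_sum, Finset.sum_sub_distrib, ← Finset.mul_sum,
        parseval, ← hn, Finset.sum_ite_eq' Finset.univ (1 : A), if_pos (Finset.mem_univ _)]
      ring
    rw [Finset.sum_congr rfl fun y _ => hy y]
    simp only [hS, Finset.mul_sum, mul_add, Finset.sum_add_distrib]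
    congr 1
    · rw [Finset.sum_comm]
      exact Finset.sum_congr rfl fun μ _ => Finset.sum_congr rfl fun y _ => by ring
    · rw [Finset.sum_comm]
      refine Finset.sum_congr rfl fun μ _ => ?_
      rw [Finset.sum_comm]
      exact Finset.sum_congr rfl fun ν _ => Finset.sum_congr rfl fun y _ => by ring
  rw [key]
  set m := (Fintype.card B : ℝ) ^ 2 with hm
  have hm0 : 0 ≤ m := by positivity
  have hSnn : ∀ g, 0 ≤ S g := fun g => Finset.sum_nonneg fun y _ =>
    mul_nonneg (Nat.cast_nonneg _) (Complex.normSq_nonneg _)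
  set T := Finset.univ.filter fun μ => c μ ≠ 0 with hT
  have hTne : T.Nonempty := by
    by_contra hc
    refine ha (funext fun f => ?_)
    obtain ⟨⟨μ, ν⟩, rfl⟩ := e.surjective f
    by_contra h'
    exact hc ⟨μ, Finset.mem_filter.2 ⟨Finset.mem_univ _, fun h0 => h' (congrFun h0 ν)⟩⟩
  have hbig : ∀ μ ∈ T, m ≤ S (h μ) := fun μ hμ => hW _ (Finset.mem_filter.1 hμ).2
  have hzero : ∀ μ ∉ T, h μ = 0 := fun μ hμ => by
    funext y
    have : c μ = 0 := by simpa [hT] using hμ
    simp [h, this, ev]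
  have h1 : (T.card : ℝ) * m ≤ ∑ μ, S (h μ) := by
    rw [← nsmul_eq_mul]
    exact (Finset.card_nsmul_le_sum T _ m hbig).trans
      (Finset.sum_le_sum_of_subset_of_nonneg (Finset.subset_univ _) fun μ _ _ => hSnn _)
  have hcard : Fintype.card (A →* ℂˣ) = n := card_dual
  have h2 : 2 * ((T.card : ℝ) * ((n : ℝ) - T.card)) * m ≤ ∑ μ, ∑ ν, S (fun y => h μ y - h ν y) := by
    have hc : ((Tᶜ).card : ℝ) = (n : ℝ) - T.card := by
      rw [Finset.card_compl, hcard, Nat.cast_sub (hcard ▸ Finset.card_le_univ T)]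
    rw [← Finset.sum_add_sum_compl T (fun μ => ∑ ν, S (fun y => h μ y - h ν y))]
    have ha : (T.card : ℝ) * (((Tᶜ).card : ℝ) * m) ≤ ∑ μ ∈ T, ∑ ν, S (fun y => h μ y - h ν y) := by
      rw [← nsmul_eq_mul]
      refine Finset.card_nsmul_le_sum T _ _ fun μ hμ => ?_
      refine le_trans ?_ (Finset.sum_le_sum_of_subset_of_nonneg (Finset.subset_univ (Tᶜ)) fun ν _ _ => hSnn _)
      rw [← nsmul_eq_mul]
      refine Finset.card_nsmul_le_sum _ _ _ fun ν hν => ?_
      refine (hbig μ hμ).trans_eq ?_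
      simp [hzero ν (Finset.mem_compl.1 hν)]
    have hb : ((Tᶜ).card : ℝ) * ((T.card : ℝ) * m) ≤ ∑ μ ∈ Tᶜ, ∑ ν, S (fun y => h μ y - h ν y) := by
      rw [← nsmul_eq_mul]
      refine Finset.card_nsmul_le_sum (Tᶜ) _ _ fun μ hμ => ?_
      refine le_trans ?_ (Finset.sum_le_sum_of_subset_of_nonneg (Finset.subset_univ T) fun ν _ _ => hSnn _)
      rw [← nsmul_eq_mul]
      refine Finset.card_nsmul_le_sum _ _ _ fun ν hν => ?_
      refine (hbig ν hν).trans_eq ?_
      simp [hS, hzero μ (Finset.mem_compl.1 hμ)]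
    rw [hc] at ha hb
    nlinarith
  rw [Fintype.card_prod, Nat.cast_mul, mul_pow, ← hn, ← hm]
  have ht1 : (1 : ℝ) ≤ T.card := by exact_mod_cast hTne.card_pos
  have htn : (T.card : ℝ) ≤ n := by exact_mod_cast hcard ▸ Finset.card_le_univ T
  have hn0 : (0 : ℝ) ≤ n := Nat.cast_nonneg _
  have hh : (n : ℝ) * m ≤ (T.card : ℝ) * m + (T.card : ℝ) * ((n : ℝ) - T.card) * m := by
    nlinarith [mul_nonneg (mul_nonneg (sub_nonneg.2 ht1) (sub_nonneg.2 htn)) hm0]
  nlinarith [mul_le_mul_of_nonneg_left h1 hn0, mul_le_mul_of_nonneg_left h2 (show (0 : ℝ) ≤ (n : ℝ) / 2 by positivity),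
    mul_le_mul_of_nonneg_left hh hn0]

theorem good_pullback {C : Type v} [CommGroup C] [Fintype C] {W : B → ℕ} (hW : Good W) (ι : C →* B)
    (hι : Function.Injective ι) : Good (fun c => W (ι c)) := by
  classical
  intro b hb
  let R : (B →* ℂˣ) →* (C →* ℂˣ) :=
    { toFun := fun ν => ν.comp ι
      map_one' := rfl
      map_mul' := fun f g => rfl }
  have hR : Function.Surjective R := by
    intro μ
    have hr := MonoidHom.restrict_surjective ℂ ι.range (μ.comp (MonoidHom.ofInjective hι).symm.toMonoidHom)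
    obtain ⟨ν, hν⟩ := hr
    refine ⟨ν, MonoidHom.ext fun c => ?_⟩
    have h1 := DFunLike.congr_fun hν (MonoidHom.ofInjective hι c)
    simp only [MonoidHom.comp_apply, MulEquiv.coe_toMonoidHom, MulEquiv.symm_apply_apply] at h1
    exact h1
  set m := Fintype.card R.ker with hm
  have hm' : m * Fintype.card C = Fintype.card B := by
    have h1 := R.ker.card_mul_index
    rw [Subgroup.index_ker, MonoidHom.range_eq_top.2 hR, Subgroup.card_top, Nat.card_eq_fintype_card,
      Nat.card_eq_fintype_card, Nat.card_eq_fintype_card, card_dual, card_dual] at h1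
    exact h1
  let a : (B →* ℂˣ) → ℤ := fun ν => b (R ν)
  have ha : a ≠ 0 := fun h => hb (funext fun μ => by
    obtain ⟨ν, rfl⟩ := hR μ
    exact congrFun h ν)
  have hon : ∀ c, ev a (ι c) = (m : ℂ) * ev b c := by
    intro c
    simp only [ev, Finset.mul_sum]
    rw [← Finset.sum_fiberwise_of_maps_to (g := R) (t := Finset.univ) fun _ _ => Finset.mem_univ _]
    refine Finset.sum_congr rfl fun μ _ => ?_
    obtain ⟨ν₀, rfl⟩ := hR μ
    have hfib : (Finset.univ.filter fun ν => R ν = R ν₀).card = m := by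
      rw [hm, ← Finset.card_univ]
      refine (Finset.card_bij (fun (k : R.ker) _ => ν₀ * (k : B →* ℂˣ)) (fun k _ => ?_)
        (fun k _ k' _ h => Subtype.ext (mul_left_cancel h)) fun ν hν => ?_).symm
      · simp [map_mul, MonoidHom.mem_ker.1 k.2]
      · exact ⟨⟨ν₀⁻¹ * ν, by
            rw [MonoidHom.mem_ker, map_mul, (Finset.mem_filter.1 hν).2, ← map_mul]
            refine (congrArg R (MonoidHom.ext fun x => ?_)).trans (map_one R)
            exact inv_mul_cancel (ν₀ x)⟩,
          Finset.mem_univ _, MonoidHom.ext fun x => mul_inv_cancel_left (ν₀ x) (ν x)⟩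
    rw [Finset.sum_congr rfl fun ν hν => show (a ν : ℂ) * (ν (ι c) : ℂ) = (b (R ν₀) : ℂ) * ((R ν₀) c : ℂ) by
      rw [← (Finset.mem_filter.1 hν).2]; rfl, Finset.sum_const, hfib, nsmul_eq_mul]
  have hoff : ∀ y, y ∉ ι.range → ev a y = 0 := by
    intro y hy
    obtain ⟨φ, hφ⟩ := CommGroup.exists_apply_ne_one_of_hasEnoughRootsOfUnity (B ⧸ ι.range) ℂ
      (a := (y : B ⧸ ι.range)) (fun h => hy ((QuotientGroup.eq_one_iff y).1 h))
    set ν₁ := φ.comp (QuotientGroup.mk' ι.range)
    have hk : R ν₁ = 1 := MonoidHom.ext fun c => by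
      show φ (QuotientGroup.mk (ι c)) = 1
      rw [(QuotientGroup.eq_one_iff (ι c)).2 (MonoidHom.mem_range.2 ⟨c, rfl⟩), map_one]
    have h1 : (ν₁ y : ℂ) * ev a y = ev a y := by
      simp only [ev, Finset.mul_sum]
      refine Fintype.sum_equiv (Equiv.mulLeft ν₁) _ _ fun ν => ?_
      rw [Equiv.coe_mulLeft, show a (ν₁ * ν) = a ν from (by
        show b (R (ν₁ * ν)) = b (R ν)
        rw [map_mul, hk]
        exact congrArg b (MonoidHom.ext fun x => one_mul _)), MonoidHom.mul_apply, Units.val_mul]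
      ring
    have h2 : ((ν₁ y : ℂ) - 1) * ev a y = 0 := by rw [sub_mul, one_mul, h1, sub_self]
    refine (mul_eq_zero.1 h2).resolve_left (sub_ne_zero.2 fun h => hφ ?_)
    exact Units.val_eq_one.1 h
  have key := hW a ha
  rw [← Finset.sum_subset (Finset.subset_univ (Finset.univ.image ι)) (fun y _ hy => by
      rw [hoff y fun ⟨c, hc⟩ => hy (Finset.mem_image.2 ⟨c, Finset.mem_univ _, hc⟩)]; simp),
    Finset.sum_image hι.injOn] at key
  simp only [hon, map_mul, Complex.normSq_natCast] at key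
  rw [← hm', Nat.cast_mul, mul_pow] at key
  have hpos : (0 : ℝ) < (m : ℝ) ^ 2 := by
    have : 0 < m := Fintype.card_pos
    positivity
  refine le_of_mul_le_mul_left ?_ hpos
  refine key.trans_eq ?_
  rw [Finset.mul_sum]
  exact Finset.sum_congr rfl fun c _ => by ring

end Abelian

end Cfsg.Lib.Chars.Knorr
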