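import Mathlib
import Cfsg.Agent.Chars.LargestDegreeTools

/-!
# An abelian subgroup of index at most `(b!)²`

If all irreducible character degrees of a finite group are at most `b`, then the group has an abelian
subgroup of index at most `(b!)²`.
-/

set_option autoImplicit false
set_option linter.unusedSectionVars false

namespace Cfsg.Lib.Chars

open scoped ComplexConjugate commutatorElement

universe u

variable {G : Type u} [Group G] [Fintype G]

/-- A normal subgroup with nonabelian quotient has degrees at most `b / 2`. -/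
theorem DegLE.half {b : ℕ} (hb : DegLE G b) (K : Subgroup G) [K.Normal] [Fintype K]
    (hK : ¬ ∀ x y : G ⧸ K, x * y = y * x) : DegLE K (b / 2) := by
  classical
  intro η hη
  by_contra hlt
  have hlt' : b < 2 * deg η := by omega
  obtain ⟨χ, hχ, hc⟩ := exists_constituent_ind K hη
  obtain ⟨m, hm, -⟩ := deg_over K hχ hη hc
  have hb1 := hb χ hχ
  have hpos : 0 < deg χ := deg_irr_pos ⟨χ, hχ⟩
  have hm1 : m = 1 := by
    have h2 : m < 2 := Nat.lt_of_mul_lt_mul_right (a := deg η) (by omega)
    rcases m with _ | _ | m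
    · rw [zero_mul] at hm; omega
    · rfl
    · omega
  rw [hm1, one_mul] at hm
  have hres : (fun n : K => χ n) = η :=
    (constituent_le (IsCharacter.restrict (isCharacter_of_irr hχ) K) hη hc).2
      (by rw [deg_restrict (isCharacter_of_irr hχ), hm])
  letI : Fintype (G ⧸ K) := Fintype.ofFinite _
  obtain ⟨β, hβ⟩ : ∃ β : Cfsg.IrrCharacter (G ⧸ K), deg (β : G ⧸ K → ℂ) ≠ 1 := by
    by_contra h0
    push Not at h0
    exact hK fun x y => mul_comm_of_all_linear (fun φ => by rw [irr_apply_one_eq_deg, h0 φ, Nat.cast_one]) x y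
  have hβ' := IsIrrCharacter.comp_surjective β.2 (QuotientGroup.mk' K) (QuotientGroup.mk'_surjective K)
  have htriv : ∀ n : K, (β : G ⧸ K → ℂ) (QuotientGroup.mk' K n) = (β : G ⧸ K → ℂ) (QuotientGroup.mk' K 1) :=
    fun n => by rw [QuotientGroup.mk'_apply, (QuotientGroup.eq_one_iff _).2 n.2, map_one]
  have hirr := (gallagher_trivial K hχ (hres ▸ hη) hβ' hβ' htriv htriv).1
  have h1 := hb _ hirr
  rw [deg_mul (isCharacter_of_irr hβ') (isCharacter_of_irr hχ), hm] at h1
  have e : deg (fun x => (β : G ⧸ K → ℂ) (QuotientGroup.mk' K x)) = deg (β : G ⧸ K → ℂ) :=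
    Nat.cast_injective (R := ℂ) (by
      rw [← IsCharacter.apply_one_eq_deg (isCharacter_of_irr hβ'), ← irr_apply_one_eq_deg β, map_one])
  rw [e] at h1
  have h2 : 2 * deg η ≤ deg (β : G ⧸ K → ℂ) * deg η := by
    refine Nat.mul_le_mul_right _ ?_
    have := deg_irr_pos β
    omega
  omega

/-- A group with trivial centre has a nontrivial element with a class of size at most `b²`. -/
theorem exists_small_class {Q : Type u} [Group Q] [Fintype Q] [Nontrivial Q] {b : ℕ} (hb : DegLE Q b) :
    ∃ x : Q, x ≠ 1 ∧ (Subgroup.centralizer ({x} : Set Q)).index ≤ b ^ 2 := by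
  classical
  by_contra hno
  push Not at hno
  have hk : ∑ x : Q, Nat.card (Subgroup.centralizer ({x} : Set Q)) = Nat.card (ConjClasses Q) * Nat.card Q := by
    rw [← card_comm_eq_card_conjClasses_mul_card, ← Nat.card_sigma]
    refine Nat.card_congr
      { toFun := fun p => ⟨(p.1, p.2.1), Subgroup.mem_centralizer_singleton_iff.1 p.2.2 |>.symm⟩
        invFun := fun p => ⟨p.1.1, p.1.2, Subgroup.mem_centralizer_singleton_iff.2 p.2.eq.symm⟩
        left_inv := fun _ => rfl
        right_inv := fun _ => rfl }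
  set n := Nat.card Q with hn
  have hne : (Finset.univ.erase (1 : Q)).Nonempty := by
    obtain ⟨y, hy⟩ := exists_ne (1 : Q)
    exact ⟨y, Finset.mem_erase.2 ⟨hy, Finset.mem_univ y⟩⟩
  have hone : Nat.card (Subgroup.centralizer ({(1 : Q)} : Set Q)) = n := by
    rw [hn, ← Subgroup.card_top (G := Q)]
    congr 2
    exact eq_top_iff.2 fun x _ => Subgroup.mem_centralizer_singleton_iff.2 (by simp)
  rw [← Finset.add_sum_erase _ _ (Finset.mem_univ (1 : Q)), hone] at hk
  have hlt : ∑ x ∈ Finset.univ.erase (1 : Q), Nat.card (Subgroup.centralizer ({x} : Set Q)) * b ^ 2 <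
      ∑ _x ∈ Finset.univ.erase (1 : Q), n :=
    Finset.sum_lt_sum_of_nonempty hne fun x hx => by
      rw [hn, ← (Subgroup.centralizer ({x} : Set Q)).card_mul_index]
      exact Nat.mul_lt_mul_of_pos_left (hno x (Finset.ne_of_mem_erase hx)) Nat.card_pos
  rw [Finset.sum_const, smul_eq_mul, Finset.card_erase_of_mem (Finset.mem_univ _), Finset.card_univ,
    ← Nat.card_eq_fintype_card, ← hn, ← Finset.sum_mul] at hlt
  -- the sum of the squares of the degrees
  let one : Cfsg.IrrCharacter Q := ⟨fun _ => 1, isIrrCharacter_one⟩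
  have hsq := sum_deg_sq_nat (G := Q)
  rw [← Finset.add_sum_erase _ _ (Finset.mem_univ one), ← hn] at hsq
  have h1 : deg (one : Q → ℂ) = 1 := Nat.cast_injective (R := ℂ) (by
    rw [← irr_apply_one_eq_deg one, Nat.cast_one])
  rw [h1, one_pow] at hsq
  have hle : ∑ χ ∈ Finset.univ.erase one, deg (χ : Q → ℂ) ^ 2 ≤ (Nat.card (ConjClasses Q) - 1) * b ^ 2 := by
    refine (Finset.sum_le_sum fun χ _ => Nat.pow_le_pow_left (hb _ χ.2) 2).trans ?_
    rw [Finset.sum_const, smul_eq_mul, Finset.card_erase_of_mem (Finset.mem_univ _), Finset.card_univ,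
      ← Nat.card_eq_fintype_card, card_irrCharacter]
  set k := Nat.card (ConjClasses Q) with hkdef
  have hS : ∑ x ∈ Finset.univ.erase (1 : Q), Nat.card (Subgroup.centralizer ({x} : Set Q)) = (k - 1) * n := by
    rw [Nat.sub_mul, one_mul]; omega
  rw [hS, mul_assoc, mul_comm n, ← mul_assoc] at hlt
  have h2 : (k - 1) * b ^ 2 < n - 1 := Nat.lt_of_mul_lt_mul_right hlt
  omega

/-- The structure of a solvable group with trivial centre and a unique minimal normal subgroup,
that subgroup being the commutator subgroup. -/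
theorem solvable_trivial_center {Q : Type u} [Group Q] [Fintype Q] [Group.IsSolvable Q] [Nontrivial Q]
    (hZ : Subgroup.center Q = ⊥) (hQ : ∀ N : Subgroup Q, N.Normal → N ≠ ⊥ → commutator Q ≤ N) :
    commutator Q ≠ ⊥ ∧ commutator Q ≠ ⊤ ∧ (∀ x ∈ commutator Q, ∀ y ∈ commutator Q, x * y = y * x) ∧
      ∀ g ∉ commutator Q, ∀ s ∈ commutator Q, g * s = s * g → s = 1 := by
  set S := commutator Q with hS
  have hne : S ≠ ⊥ := fun h => by
    have : Subgroup.center Q = ⊤ := eq_top_iff.2 fun x _ => by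
      rw [Subgroup.mem_center_iff]
      intro y
      have h1 : ⁅y, x⁆ ∈ S := Subgroup.commutator_mem_commutator (Subgroup.mem_top y) (Subgroup.mem_top x)
      rw [h, Subgroup.mem_bot] at h1
      exact commutatorElement_eq_one_iff_mul_comm.1 h1
    exact bot_ne_top (hZ.symm.trans this)
  have hlt : ⁅S, S⁆ < S := Group.IsSolvable.commutator_lt_of_ne_bot hne
  have hab : ∀ x ∈ S, ∀ y ∈ S, x * y = y * x := by
    intro x hx y hy
    by_contra hc
    refine absurd (hQ ⁅S, S⁆ inferInstance fun h => hc ?_) hlt.not_ge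
    have h1 : ⁅x, y⁆ ∈ (⊥ : Subgroup Q) := h ▸ Subgroup.commutator_mem_commutator hx hy
    rw [Subgroup.mem_bot] at h1
    exact commutatorElement_eq_one_iff_mul_comm.1 h1
  have htop : S ≠ ⊤ := fun h => by
    have h1 : ⁅S, S⁆ = S := by rw [hS, commutator_def] at h ⊢; rw [h]; exact h
    exact hlt.ne h1
  have hcm : ∀ a c : Q, ⁅a, c⁆ ∈ S := fun a c =>
    Subgroup.commutator_mem_commutator (Subgroup.mem_top a) (Subgroup.mem_top c)
  -- fixed points outside the centralizer
  have hfix : ∀ g : Q, (∃ s ∈ S, g * s ≠ s * g) → ∀ s ∈ S, g * s = s * g → s = 1 := by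
    intro g ⟨s₀, hs₀, hne₀⟩
    let C : Subgroup Q := Subgroup.centralizer ({g} : Set Q) ⊓ S
    have hCn : C.Normal := ⟨fun c hc h => by
      refine ⟨?_, Subgroup.Normal.conj_mem inferInstance c hc.2 h⟩
      show h * c * h⁻¹ ∈ Subgroup.centralizer ({g} : Set Q)
      rw [Subgroup.mem_centralizer_singleton_iff]
      have h1 : c * g = g * c := Subgroup.mem_centralizer_singleton_iff.1 hc.1
      have h2 : c * ⁅g⁻¹, h⁻¹⁆ = ⁅g⁻¹, h⁻¹⁆ * c := hab c hc.2 _ (hcm _ _)
      calc h * c * h⁻¹ * g = h * (c * g) * ⁅g⁻¹, h⁻¹⁆ * h⁻¹ := by rw [commutatorElement_def]; group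
        _ = h * (g * c) * ⁅g⁻¹, h⁻¹⁆ * h⁻¹ := by rw [h1]
        _ = h * g * (c * ⁅g⁻¹, h⁻¹⁆) * h⁻¹ := by group
        _ = h * g * (⁅g⁻¹, h⁻¹⁆ * c) * h⁻¹ := by rw [h2]
        _ = g * (h * c * h⁻¹) := by rw [commutatorElement_def]; group⟩
    intro s hs he
    have hsC : s ∈ C := ⟨Subgroup.mem_centralizer_singleton_iff.2 he.symm, hs⟩
    by_contra hs1
    have hle := hQ C hCn fun h => hs1 (Subgroup.mem_bot.1 (h ▸ hsC))
    exact hne₀ (Subgroup.mem_centralizer_singleton_iff.1 (hle hs₀).1).symm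
  -- the centralizer of `S` is `S`
  have hM : ∀ g : Q, (∀ s ∈ S, g * s = s * g) → g ∈ S := by
    intro m hm
    obtain ⟨g, s₀, hs₀, hne₀⟩ : ∃ g : Q, ∃ s ∈ S, g * s ≠ s * g := by
      by_contra h0
      push Not at h0
      apply hne
      rw [eq_bot_iff, ← hZ]
      exact fun s hs => Subgroup.mem_center_iff.2 fun g => h0 g s hs
    have hinj : Function.Injective fun s : S => (⟨⁅(s : Q), g⁆, hcm _ _⟩ : S) := by
      intro a c hac
      have h1 : ⁅(a : Q), g⁆ = ⁅(c : Q), g⁆ := congrArg Subtype.val hac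
      rw [commutatorElement_def, commutatorElement_def] at h1
      have h2 : (a : Q) * g * (a : Q)⁻¹ = (c : Q) * g * (c : Q)⁻¹ := mul_right_cancel h1
      refine Subtype.ext (inv_mul_eq_one.1 ?_).symm
      refine hfix g ⟨s₀, hs₀, hne₀⟩ _ (S.mul_mem (S.inv_mem c.2) a.2) ?_
      calc g * ((c : Q)⁻¹ * a) = (c : Q)⁻¹ * ((c : Q) * g * (c : Q)⁻¹) * a := by group
        _ = (c : Q)⁻¹ * a * g := by rw [← h2]; group
    obtain ⟨⟨s, hs⟩, hse⟩ := (Finite.injective_iff_surjective.1 hinj) ⟨⁅m, g⁆, hcm _ _⟩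
    have h1 : s * g * s⁻¹ * g⁻¹ = m * g * m⁻¹ * g⁻¹ := congrArg Subtype.val hse
    have h2 : s * g * s⁻¹ = m * g * m⁻¹ := mul_right_cancel h1
    set d := s⁻¹ * m with hd
    have hdg : d * g = g * d := by
      calc d * g = s⁻¹ * (m * g * m⁻¹) * m := by rw [hd]; group
        _ = g * d := by rw [← h2, hd]; group
    have hdS : ∀ t ∈ S, d * t = t * d := fun t ht => by
      rw [hd, mul_assoc, hm t ht, ← mul_assoc, hab _ (S.inv_mem hs) t ht, mul_assoc]
    have hdc : d ∈ Subgroup.center Q := by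
      rw [Subgroup.mem_center_iff]
      intro h
      have h3 : (h * d * h⁻¹) * g = g * (h * d * h⁻¹) := by
        calc h * d * h⁻¹ * g = h * (d * g) * ⁅g⁻¹, h⁻¹⁆ * h⁻¹ := by rw [commutatorElement_def]; group
          _ = h * g * (d * ⁅g⁻¹, h⁻¹⁆) * h⁻¹ := by rw [hdg]; group
          _ = h * g * (⁅g⁻¹, h⁻¹⁆ * d) * h⁻¹ := by rw [hdS _ (hcm _ _)]
          _ = g * (h * d * h⁻¹) := by rw [commutatorElement_def]; group
      have h4 : g * ⁅h, d⁆ = ⁅h, d⁆ * g := by
        rw [commutatorElement_def]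
        exact (Commute.mul_right (show Commute g (h * d * h⁻¹) from h3.symm)
          (show Commute g d from hdg.symm).inv_right).eq
      exact commutatorElement_eq_one_iff_mul_comm.1 (hfix g ⟨s₀, hs₀, hne₀⟩ _ (hcm h d) h4)
    rw [hZ, Subgroup.mem_bot, hd, inv_mul_eq_one] at hdc
    exact hdc ▸ hs
  refine ⟨hne, htop, hab, fun g hg => hfix g ?_⟩
  by_contra h0
  push Not at h0
  exact hg (hM g h0)

/-- A character of degree two cannot have norm three. -/
theorem inner_self_ne_three {F : G → ℂ} (hF : Cfsg.IsCharacter G F) (hd : deg F ≤ 2) :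
    Cfsg.classInner F F ≠ 3 := by
  classical
  obtain ⟨m, hm, -, hdeg⟩ := exists_degree_decomp hF
  intro h3
  have hF' : F = ∑ φ : Cfsg.IrrCharacter G, (m φ : ℂ) • (φ : G → ℂ) := by
    rw [hm]; funext g; simp [Finset.sum_apply]
  rw [hF', classInner_self_decomp] at h3
  simp only [Complex.conj_natCast] at h3
  have h3' : ∑ φ : Cfsg.IrrCharacter G, m φ * m φ = 3 := by exact_mod_cast h3
  have hle : ∑ φ : Cfsg.IrrCharacter G, m φ ≤ 2 :=
    le_trans (Finset.sum_le_sum fun φ _ => Nat.le_mul_of_pos_right _ (deg_irr_pos φ)) (hdeg ▸ hd)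
  have hpar : Even (∑ φ : Cfsg.IrrCharacter G, m φ * (m φ + 1)) := by
    rw [Finset.even_sum_iff_even_card_odd]
    rw [Finset.filter_eq_empty_iff.2 fun φ _ => Nat.not_odd_iff_even.2 (Nat.even_mul_succ_self _)]
    simp
  simp only [mul_add, mul_one, Finset.sum_add_distrib, h3', Nat.even_iff] at hpar
  have hsq : ∑ φ : Cfsg.IrrCharacter G, m φ * m φ ≤ (∑ φ : Cfsg.IrrCharacter G, m φ) * ∑ φ, m φ := by
    rw [Finset.sum_mul]
    exact Finset.sum_le_sum fun φ _ => Nat.mul_le_mul_left _
      (Finset.single_le_sum (fun ψ _ => Nat.zero_le (m ψ)) (Finset.mem_univ φ))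
  rw [h3'] at hsq
  obtain h | h | h : (∑ φ : Cfsg.IrrCharacter G, m φ) = 0 ∨ (∑ φ : Cfsg.IrrCharacter G, m φ) = 1 ∨
      (∑ φ : Cfsg.IrrCharacter G, m φ) = 2 := by omega
  all_goals rw [h] at hsq hpar; omega

theorem factorial_step {b : ℕ} (hb : 1 ≤ b) : (b - 1).factorial ^ 2 * b ^ 2 = b.factorial ^ 2 := by
  rw [← mul_pow, mul_comm, Nat.mul_factorial_pred (by omega)]

theorem factorial_three {b : ℕ} (hb : 3 ≤ b) : b ^ 3 * (b / 2).factorial ^ 2 ≤ b.factorial ^ 2 := by
  obtain ⟨c, rfl⟩ : ∃ c, b = c + 3 := ⟨b - 3, by omega⟩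
  have h1 : ((c + 3) / 2).factorial ≤ (c + 1).factorial := Nat.factorial_le (by omega)
  have h2 : (c + 3) ^ 3 ≤ ((c + 3) * (c + 2)) ^ 2 := by
    rw [mul_pow, pow_succ (c + 3) 2]
    exact Nat.mul_le_mul_left _ (by nlinarith)
  calc (c + 3) ^ 3 * ((c + 3) / 2).factorial ^ 2 ≤ ((c + 3) * (c + 2)) ^ 2 * (c + 1).factorial ^ 2 :=
        Nat.mul_le_mul h2 (Nat.pow_le_pow_left h1 2)
    _ = (c + 3).factorial ^ 2 := by
        rw [Nat.factorial_succ (c + 2), Nat.factorial_succ (c + 1)]; ring

theorem factorial_four {b : ℕ} (hb : 5 ≤ b) : b ^ 4 * (b / 2).factorial ^ 2 ≤ b.factorial ^ 2 := by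
  obtain ⟨c, rfl⟩ : ∃ c, b = c + 5 := ⟨b - 5, by omega⟩
  have h1 : ((c + 5) / 2).factorial ≤ (c + 2).factorial := Nat.factorial_le (by omega)
  have h2 : (c + 5) ^ 4 ≤ ((c + 5) * ((c + 4) * (c + 3))) ^ 2 := by
    rw [mul_pow, pow_add (c + 5) 2 2]
    exact Nat.mul_le_mul_left _ (Nat.pow_le_pow_left (by nlinarith) 2)
  calc (c + 5) ^ 4 * ((c + 5) / 2).factorial ^ 2 ≤
        ((c + 5) * ((c + 4) * (c + 3))) ^ 2 * (c + 2).factorial ^ 2 :=
        Nat.mul_le_mul h2 (Nat.pow_le_pow_left h1 2)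
    _ = (c + 5).factorial ^ 2 := by
        rw [Nat.factorial_succ (c + 4), Nat.factorial_succ (c + 3), Nat.factorial_succ (c + 2)]; ring

/-- Two possible reductions. -/
theorem degree_reduction {b : ℕ} (hb : DegLE G b) (hb2 : 2 ≤ b) (hna : ¬ ∀ x y : G, x * y = y * x) :
    (∃ H : Subgroup G, H.index ≤ b ^ 2 ∧ ∀ ψ : H → ℂ, Cfsg.IsIrrCharacter H ψ → deg ψ ≠ b) ∨
    (∃ (K : Subgroup G) (_ : K.Normal), (¬ ∀ x y : G ⧸ K, x * y = y * x) ∧
      K.index * (b / 2).factorial ^ 2 ≤ b.factorial ^ 2) := by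
  classical
  obtain ⟨K, -, hKmax⟩ := Finite.exists_le_maximal (p := fun K : Subgroup G => K.Normal ∧ ¬ ∀ x y : G, ⁅x, y⁆ ∈ K)
    (a := ⊥) ⟨inferInstance, fun h => hna fun x y =>
      commutatorElement_eq_one_iff_mul_comm.1 (Subgroup.mem_bot.1 (h x y))⟩
  obtain ⟨hKn, hKna⟩ := hKmax.prop
  haveI := hKn
  letI : Fintype (G ⧸ K) := Fintype.ofFinite _
  set π := QuotientGroup.mk' K with hπ
  have hπs : Function.Surjective π := QuotientGroup.mk'_surjective K
  have hQna : ¬ ∀ x y : G ⧸ K, x * y = y * x := fun h => hKna fun x y => by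
    rw [← QuotientGroup.eq_one_iff, ← QuotientGroup.mk'_apply, map_commutatorElement,
      commutatorElement_eq_one_iff_mul_comm]
    exact h _ _
  haveI : Nontrivial (G ⧸ K) := by
    by_contra h
    haveI := not_nontrivial_iff_subsingleton.1 h
    exact hQna fun x y => Subsingleton.elim _ _
  have hQ : ∀ N : Subgroup (G ⧸ K), N.Normal → N ≠ ⊥ → commutator (G ⧸ K) ≤ N := by
    intro N hN hNb
    rw [commutator_def, Subgroup.commutator_le]
    rintro x' - y' -
    by_contra hxy
    obtain ⟨x, rfl⟩ := hπs x'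
    obtain ⟨y, rfl⟩ := hπs y'
    haveI := hN
    have hle : K ≤ N.comap π := fun k hk => by
      rw [Subgroup.mem_comap, hπ, QuotientGroup.mk'_apply, (QuotientGroup.eq_one_iff k).2 hk]; exact N.one_mem
    have h1 := hKmax.le_of_ge (y := N.comap π) ⟨inferInstance, fun h => hxy (by
      have := h x y
      rwa [Subgroup.mem_comap, map_commutatorElement] at this)⟩ hle
    refine hNb (eq_bot_iff.2 fun z hz => ?_)
    obtain ⟨z, rfl⟩ := hπs z
    rw [Subgroup.mem_bot, hπ, QuotientGroup.mk'_apply, QuotientGroup.eq_one_iff]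
    exact h1 hz
  have hbQ : DegLE (G ⧸ K) b := hb.quotient π hπs
  have hidxK : K.index = Nat.card (G ⧸ K) := rfl
  have hcardG : Nat.card G = K.index * Nat.card K := by rw [mul_comm, Subgroup.card_mul_index]
  by_cases hZ : Subgroup.center (G ⧸ K) = ⊥
  swap
  · -- nilpotent case
    set Z := Subgroup.center (G ⧸ K) with hZdef
    have hQZ : commutator (G ⧸ K) ≤ Z := hQ Z inferInstance hZ
    obtain ⟨χ, hχ⟩ : ∃ χ : Cfsg.IrrCharacter (G ⧸ K), deg (χ : G ⧸ K → ℂ) ≠ 1 := by
      by_contra h0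
      push Not at h0
      exact hQna fun x y => mul_comm_of_all_linear (fun φ => by rw [irr_apply_one_eq_deg, h0 φ, Nat.cast_one]) x y
    have hχc := isCharacter_of_irr χ.2
    set R := kerSubgroup (χ : G ⧸ K → ℂ) hχc with hR
    haveI : R.Normal := kerSubgroup_normal hχc
    have hRk : ∀ k, (χ : G ⧸ K → ℂ) k = (χ : G ⧸ K → ℂ) 1 ↔ k ∈ R := fun k => (mem_kerSubgroup hχc k).symm
    have hcm : commutator (G ⧸ K) ≤ centralMod R := fun c hc => mem_centralMod.2 fun h => by
      have h1 := Subgroup.mem_center_iff.1 (hQZ hc) h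
      rw [commutatorElement_eq_one_iff_mul_comm.2 h1.symm]
      exact R.one_mem
    have hdeg := deg_sq_of_commutator_le χ.2 hRk hcm
    have hRb : R = ⊥ := by
      by_contra h
      have hle := hQ R inferInstance h
      have htop : centralMod R = ⊤ := eq_top_iff.2 fun x _ => mem_centralMod.2 fun y =>
        hle (Subgroup.commutator_mem_commutator (Subgroup.mem_top x) (Subgroup.mem_top y))
      rw [htop, Subgroup.card_top] at hdeg
      have : deg (χ : G ⧸ K → ℂ) ^ 2 = 1 := Nat.eq_of_mul_eq_mul_right Nat.card_pos (hdeg.trans (one_mul _).symm)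
      exact hχ ((Nat.pow_eq_one.1 this).resolve_right (by norm_num))
    have hcZ : centralMod R = Z := by
      ext x
      rw [mem_centralMod, hZdef, Subgroup.mem_center_iff]
      simp only [hRb, Subgroup.mem_bot, commutatorElement_eq_one_iff_mul_comm]
      exact ⟨fun h g => (h g).symm, fun h g => (h g).symm⟩
    set f := deg (χ : G ⧸ K → ℂ) with hf
    have hZi : Z.index = f ^ 2 := by
      rw [hcZ, ← Z.card_mul_index, mul_comm] at hdeg
      exact (Nat.eq_of_mul_eq_mul_left Nat.card_pos hdeg).symm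
    set H := Z.comap π with hH
    letI : Fintype H := Fintype.ofFinite _
    left
    refine ⟨H, ?_, fun ψ hψ hd => ?_⟩
    · rw [hH, Subgroup.index_comap_of_surjective _ hπs, hZi]
      exact Nat.pow_le_pow_left (hbQ _ χ.2) 2
    obtain ⟨φ, hφ, hc⟩ := exists_constituent_ind H hψ
    have hres := restrict_eq_of_top_degree hb H hψ hd hφ hc
    have hφd : deg φ = b := by rw [← deg_restrict (isCharacter_of_irr hφ) H, hres, hd]
    have hχ' := IsIrrCharacter.comp_surjective χ.2 π hπs
    set Φ : G → ℂ := fun g => (χ : G ⧸ K → ℂ) (π g) with hΦ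
    have hprodc := IsCharacter.mul (isCharacter_of_irr hφ) (isCharacter_of_irr hχ')
    have hirr : Cfsg.IsIrrCharacter G (φ * Φ) := by
      refine isIrrCharacter_of_norm_one hprodc ?_
      have hin : ∀ g : H, Φ g * conj (Φ g) = (f : ℂ) * f := fun g =>
        conj_mul_self χ.2 (fun k hk => (hRk k).2 hk) (hcZ.symm ▸ g.2)
      have hout : ∀ g : G, g ∉ H → Φ g = 0 := by
        intro g hg
        have hg' : π g ∉ centralMod R := by rw [hcZ]; exact hg
        rw [mem_centralMod] at hg'
        push Not at hg'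
        obtain ⟨h, hh⟩ := hg'
        refine eq_zero_of_commutator χ.2 (fun k hk => (hRk k).2 hk) (h := h)
          (hcm (Subgroup.commutator_mem_commutator (Subgroup.mem_top h) (Subgroup.mem_top (π g)))) fun e => hh ?_
        rw [← commutatorElement_inv]
        exact R.inv_mem ((hRk _).1 e)
      rw [classInner_def]
      have hsum : ∑ g : G, (φ * Φ) g * conj ((φ * Φ) g) = (Nat.card G : ℂ) := by
        rw [← Finset.sum_subset (Finset.subset_univ ((H : Set G).toFinset)) fun g _ hg => by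
            rw [Pi.mul_apply, hout g (by simpa using hg)]; simp,
          Finset.sum_subtype (p := fun g => g ∈ H) ((H : Set G).toFinset) (fun g => by simp)
            (fun g => (φ * Φ) g * conj ((φ * Φ) g)),
          Finset.sum_congr rfl (g := fun g : H => ((f : ℂ) * f) * (ψ g * conj (ψ g))) fun g _ => by
            rw [Pi.mul_apply, map_mul, ← congrFun hres g, ← hin g]; ring,
          ← Finset.mul_sum]
        have h1 := classInner_self_irr hψ
        rw [classInner_def, inv_mul_eq_iff_eq_mul₀ (by exact_mod_cast Nat.card_pos.ne'), mul_one] at h1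
        rw [h1, ← H.card_mul_index, hH, Subgroup.index_comap_of_surjective _ hπs, hZi]
        push_cast
        ring
      rw [hsum, inv_mul_cancel₀ (by exact_mod_cast Nat.card_pos.ne')]
    have h1 := hb _ hirr
    rw [deg_mul (isCharacter_of_irr hφ) (isCharacter_of_irr hχ'), hφd] at h1
    have e : deg Φ = f := Nat.cast_injective (R := ℂ) (by
      rw [← IsCharacter.apply_one_eq_deg (isCharacter_of_irr hχ'), hf, ← irr_apply_one_eq_deg χ]
      simp only [hΦ, map_one])
    have h2 : 2 ≤ f := by have := deg_irr_pos χ; omega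
    rw [e] at h1
    nlinarith
  by_cases hsolv : Group.IsSolvable (G ⧸ K)
  · -- Frobenius case
    haveI := hsolv
    obtain ⟨hSb, hSt, hSab, hfix⟩ := solvable_trivial_center hZ hQ
    set S := commutator (G ⧸ K) with hS
    letI : Fintype S := Fintype.ofFinite _
    letI : CommGroup S :=
      { (inferInstance : Group S) with mul_comm := fun x y => Subtype.ext (hSab x x.2 y y.2) }
    obtain ⟨g₀, hg₀⟩ : ∃ g₀ : G ⧸ K, g₀ ∉ S := by
      by_contra h0
      push Not at h0
      exact hSt (eq_top_iff.2 fun x _ => h0 x)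
    have hsep : ∀ u : S, u ≠ 1 → ∃ l : S →* ℂˣ, l u ≠ 1 := fun u hu =>
      CommGroup.exists_apply_ne_one_of_hasEnoughRootsOfUnity S ℂ hu
    -- the index of the commutator subgroup
    have hf : S.index ≤ b := by
      obtain ⟨u, hu⟩ : ∃ u : S, u ≠ 1 := by
        by_contra h0
        push Not at h0
        exact hSb (eq_bot_iff.2 fun x hx => Subgroup.mem_bot.2 (congrArg Subtype.val (h0 ⟨x, hx⟩)))
      obtain ⟨l, hl⟩ := hsep u hu
      have hlam := isIrrCharacter_linear l
      have hIc := IsCharacter.indFun (G := G ⧸ K) (isCharacter_linear l)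
      have hfixl : ∀ g : G ⧸ K, conjN S g (fun x => (l x : ℂ)) = (fun x => (l x : ℂ)) ↔ g ∈ S := by
        intro g
        constructor
        · intro he
          by_contra hg
          let T : S → S := fun s => ⟨g * s * g⁻¹, Subgroup.Normal.conj_mem inferInstance _ s.2 g⟩ 
          have hinj : Function.Injective fun s : S => T s * s⁻¹ := by
            intro a c hac
            have h1 : g * (a : G ⧸ K) * g⁻¹ * (a : G ⧸ K)⁻¹ = g * (c : G ⧸ K) * g⁻¹ * (c : G ⧸ K)⁻¹ :=
              congrArg Subtype.val hac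
            refine Subtype.ext (inv_mul_eq_one.1 (hfix g hg _ (S.mul_mem (S.inv_mem c.2) a.2) ?_)).symm
            have h2 : g * (a : G ⧸ K) * g⁻¹ * (c : G ⧸ K) = g * (c : G ⧸ K) * g⁻¹ * (a : G ⧸ K) := by
              have h3 := hSab _ (S.inv_mem a.2) (c : G ⧸ K) c.2
              calc g * (a : G ⧸ K) * g⁻¹ * (c : G ⧸ K) = g * (a : G ⧸ K) * g⁻¹ * (a : G ⧸ K)⁻¹ * ((a : G ⧸ K) * c) := by group
                _ = g * (c : G ⧸ K) * g⁻¹ * (c : G ⧸ K)⁻¹ * ((c : G ⧸ K) * a) := by rw [h1, hSab _ a.2 _ c.2]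
                _ = _ := by group
            have h4 : g * ((c : G ⧸ K)⁻¹ * a) * g⁻¹ = (c : G ⧸ K)⁻¹ * a := by
              calc g * ((c : G ⧸ K)⁻¹ * a) * g⁻¹ = (g * (c : G ⧸ K) * g⁻¹)⁻¹ * (g * a * g⁻¹ * c) * (c : G ⧸ K)⁻¹ := by group
                _ = (a : G ⧸ K) * (c : G ⧸ K)⁻¹ := by rw [h2]; group
                _ = _ := hSab _ a.2 _ (S.inv_mem c.2)
            exact mul_inv_eq_iff_eq_mul.1 h4
          obtain ⟨s, hs⟩ := (Finite.injective_iff_surjective.1 hinj) u
          apply hl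
          rw [← hs, map_mul, map_inv, mul_inv_eq_one]
          exact Units.ext (congrFun he s)
        · intro hg
          funext x
          show (l ⟨g * x * g⁻¹, _⟩ : ℂ) = l x
          congr 2
          apply Subtype.ext
          show g * (x : G ⧸ K) * g⁻¹ = x
          rw [hSab g hg x x.2, mul_inv_cancel_right]
      have hnorm : Cfsg.classInner (Cfsg.indFun S fun x => (l x : ℂ)) (Cfsg.indFun S fun x => (l x : ℂ)) = 1 := by
        have h := classInner_indFun_eq_card S hlam hlam
        rw [Nat.card_congr (Equiv.subtypeEquivRight hfixl)] at h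
        exact mul_left_cancel₀ (by exact_mod_cast Nat.card_pos.ne') (h.trans (mul_one _).symm)
      have hirr := isIrrCharacter_of_norm_one hIc hnorm
      have := hbQ _ hirr
      have e : deg (Cfsg.indFun S fun x => (l x : ℂ)) = S.index := Nat.cast_injective (R := ℂ) (by
        rw [← IsCharacter.apply_one_eq_deg hIc, indFun_one, map_one, Units.val_one, mul_one])
      rwa [e] at this
    set H := S.comap π with hH
    letI : Fintype H := Fintype.ofFinite _
    by_cases hdrop : ∀ ψ : H → ℂ, Cfsg.IsIrrCharacter H ψ → deg ψ ≠ b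
    · left
      refine ⟨H, ?_, hdrop⟩
      rw [hH, Subgroup.index_comap_of_surjective _ hπs]
      nlinarith
    push Not at hdrop
    obtain ⟨ψ, hψ, hd⟩ := hdrop
    -- invariance of characters of largest degree
    have hinv : ∀ θ : H → ℂ, Cfsg.IsIrrCharacter H θ → deg θ = b → ∀ (h : H) (g : G)
        (hm : g * h * g⁻¹ ∈ H), θ ⟨g * h * g⁻¹, hm⟩ = θ h := by
      intro θ hθ hθd h g hm
      obtain ⟨φ, hφ, hc⟩ := exists_constituent_ind H hθ
      have hres := restrict_eq_of_top_degree hb H hθ hθd hφ hc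
      rw [← congrFun hres, ← congrFun hres]
      exact isClassFunction_isChar (isCharacter_of_irr hφ) (h : G) g
    have hvan : ∀ h : H, ψ h ≠ 0 → (h : G) ∈ K := by
      intro h hne
      obtain ⟨g, hg⟩ := hπs g₀
      have hm : g * h * g⁻¹ ∈ H := Subgroup.Normal.conj_mem inferInstance _ h.2 g
      let πH : H →* S := (π.comp H.subtype).codRestrict S fun x => x.2
      by_contra hK
      have hu : πH ⟨g * h * g⁻¹, hm⟩ * (πH h)⁻¹ ≠ 1 := by
        intro e
        rw [mul_inv_eq_one] at e
        have e' : π (g * h * g⁻¹) = π (h : G) := congrArg Subtype.val e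
        rw [map_mul, map_mul, map_inv, hg, mul_inv_eq_iff_eq_mul] at e'
        have := hfix g₀ hg₀ (π (h : G)) h.2 e'
        rw [hπ, QuotientGroup.mk'_apply, QuotientGroup.eq_one_iff] at this
        exact hK this
      obtain ⟨l, hl⟩ := hsep _ hu
      apply hl
      have hθ := IsIrrCharacter.mul_linear hψ (l.comp πH)
      have hθd : deg (fun x : H => ((l.comp πH) x : ℂ) * ψ x) = b := by
        rw [← hd]
        apply Nat.cast_injective (R := ℂ)
        rw [← IsCharacter.apply_one_eq_deg (isCharacter_of_irr hθ), ← IsCharacter.apply_one_eq_deg (isCharacter_of_irr hψ),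
          map_one, Units.val_one, one_mul]
      have h1 := hinv _ hθ hθd h g hm
      simp only [hinv ψ hψ hd h g hm] at h1
      have h2 := mul_right_cancel₀ hne h1
      rw [map_mul, map_inv, mul_inv_eq_one]
      exact Units.ext h2
    right
    refine ⟨K, hKn, hQna, ?_⟩
    have hKH : K ≤ H := fun k hk => by
      rw [hH, Subgroup.mem_comap, hπ, QuotientGroup.mk'_apply, (QuotientGroup.eq_one_iff k).2 hk]; exact S.one_mem
    have hvan' : ∀ h : H, ψ h ≠ 0 → h ∈ K.subgroupOf H := fun h hh => Subgroup.mem_subgroupOf.2 (hvan h hh)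
    have hHK := card_le_of_vanish hψ (K.subgroupOf H) hvan'
    rw [hd, Nat.card_congr (Subgroup.subgroupOfEquivOfLe hKH).toEquiv] at hHK
    have hHc : Nat.card H = Nat.card K * Nat.card S := by
      have h1 := H.card_mul_index
      rw [hH, Subgroup.index_comap_of_surjective _ hπs, hcardG, hidxK, ← S.card_mul_index, ← hH] at h1
      refine Nat.eq_of_mul_eq_mul_right (Nat.pos_of_ne_zero S.index_ne_zero_of_finite) (h1.trans ?_)
      ring
    rw [hHc] at hHK
    have hSc : Nat.card S ≤ b ^ 2 := Nat.le_of_mul_le_mul_left hHK Nat.card_pos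
    have hKi : K.index = Nat.card S * S.index := by rw [hidxK, S.card_mul_index]
    rcases lt_or_ge b 3 with hb3 | hb3
    swap
    · refine le_trans (Nat.mul_le_mul_right _ ?_) (factorial_three hb3)
      rw [hKi, pow_succ]
      exact Nat.mul_le_mul hSc hf
    exfalso
    obtain rfl : b = 2 := by omega
    have hSi : S.index = 2 := by
      have h0 : S.index ≠ 1 := fun h => hSt (Subgroup.index_eq_one.1 h)
      have h1 := S.index_ne_zero_of_finite
      omega
    have hg2 : g₀ * g₀ ∈ S := (Subgroup.mul_mem_iff_of_index_two hSi).2 Iff.rfl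
    have hodd : ¬ 2 ∣ Nat.card S := by
      intro h2
      haveI := Fact.mk Nat.prime_two
      obtain ⟨a, ha⟩ := exists_prime_orderOf_dvd_card' (G := S) 2 h2
      have ha2 : (a : G ⧸ K) * a = 1 := by
        have h := ha ▸ pow_orderOf_eq_one a
        rw [sq] at h
        exact congrArg Subtype.val h
      set a' := g₀ * (a : G ⧸ K) * g₀⁻¹ with ha'
      have ha'S : a' ∈ S := Subgroup.Normal.conj_mem inferInstance _ a.2 g₀
      have h1 : g₀ * a' * g₀⁻¹ = a := by
        calc g₀ * a' * g₀⁻¹ = (g₀ * g₀) * a * (g₀ * g₀)⁻¹ := by rw [ha']; group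
          _ = a := by rw [hSab _ hg2 _ a.2, mul_inv_cancel_right]
      have h2 : (a : G ⧸ K) * a' = 1 := hfix g₀ hg₀ _ (S.mul_mem a.2 ha'S) (by
        calc g₀ * ((a : G ⧸ K) * a') = (g₀ * a * g₀⁻¹) * (g₀ * a' * g₀⁻¹) * g₀ := by group
          _ = a' * a * g₀ := by rw [h1, ha']
          _ = (a : G ⧸ K) * a' * g₀ := by rw [hSab _ ha'S _ a.2])
      have h3 : a' = a := mul_left_cancel (h2.trans ha2.symm)
      have h4 := hfix g₀ hg₀ _ a.2 (mul_inv_eq_iff_eq_mul.1 h3)
      rw [show a = 1 from Subtype.ext h4, orderOf_one] at ha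
      omega
    have hS3 : Nat.card S = 3 := by
      have h0 : Nat.card S ≠ 1 := fun h => hSb (Subgroup.card_eq_one.1 h)
      have h1 : 0 < Nat.card S := Nat.card_pos
      omega
    letI : Fintype (K.subgroupOf H) := Fintype.ofFinite _
    have hFc := IsCharacter.restrict (isCharacter_of_irr hψ) (K.subgroupOf H)
    refine inner_self_ne_three hFc (by rw [deg_restrict (isCharacter_of_irr hψ), hd]) ?_
    have h1 := classInner_self_irr hψ
    rw [classInner_def, inv_mul_eq_iff_eq_mul₀ (by exact_mod_cast Nat.card_pos.ne'), mul_one,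
      ← Finset.sum_subset (Finset.subset_univ ((K.subgroupOf H : Set H).toFinset)) (fun g _ hg => by
        rw [show ψ g = 0 from not_not.1 fun h0 => hg (by simpa using hvan' g h0), zero_mul]),
      Finset.sum_subtype (p := fun g => g ∈ K.subgroupOf H) ((K.subgroupOf H : Set H).toFinset) (fun g => by simp)
        (fun g => ψ g * conj (ψ g))] at h1
    rw [classInner_def, h1, inv_mul_eq_iff_eq_mul₀ (by exact_mod_cast Nat.card_pos.ne'), hHc, hS3,
      Nat.card_congr (Subgroup.subgroupOfEquivOfLe hKH).toEquiv]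
    push_cast
    ring
  · -- nonsolvable case
    have hb5 : 5 ≤ b := by
      by_contra h
      exact hsolv (isSolvable_of_degLE_four _ (G ⧸ K) rfl fun χ hχ => (hbQ χ hχ).trans (by omega))
    obtain ⟨x, hx1, hxi⟩ := exists_small_class hbQ
    set C := Subgroup.centralizer ({x} : Set (G ⧸ K)) with hC
    have hcore : C.normalCore = ⊥ := by
      by_contra h
      have hle := hQ _ inferInstance h
      set M := Subgroup.centralizer ((commutator (G ⧸ K) : Subgroup (G ⧸ K)) : Set (G ⧸ K))
      have hxM : x ∈ M := by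
        rw [Subgroup.mem_centralizer_iff]
        intro y hy
        exact Subgroup.mem_centralizer_singleton_iff.1 (Subgroup.normalCore_le C (hle hy))
      have hM := hQ M inferInstance fun h0 => hx1 (Subgroup.mem_bot.1 (h0 ▸ hxM))
      apply hsolv
      refine ⟨2, ?_⟩
      rw [derivedSeries_succ, derivedSeries_one, Subgroup.commutator_eq_bot_iff_le_centralizer]
      exact hM
    set H := C.comap π with hH
    letI : Fintype H := Fintype.ofFinite _
    have hHi : H.index ≤ b ^ 2 := by rw [hH, Subgroup.index_comap_of_surjective _ hπs]; exact hxi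
    by_cases hdrop : ∀ ψ : H → ℂ, Cfsg.IsIrrCharacter H ψ → deg ψ ≠ b
    · exact Or.inl ⟨H, hHi, hdrop⟩
    push Not at hdrop
    obtain ⟨ψ, hψ, hd⟩ := hdrop
    right
    refine ⟨K, hKn, hQna, ?_⟩
    have hKH : K ≤ H := fun k hk => by
      rw [hH, Subgroup.mem_comap, hπ, QuotientGroup.mk'_apply, (QuotientGroup.eq_one_iff k).2 hk]; exact C.one_mem
    have hHK := card_le_of_vanish hψ (K.subgroupOf H) fun h hh => by
      rw [Subgroup.mem_subgroupOf, ← QuotientGroup.eq_one_iff]
      have h1 := vanish_outside_core hb H hψ hd h hh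
      have h2 : π (h : G) ∈ C.normalCore := fun a => by
        obtain ⟨a, rfl⟩ := hπs a
        have := h1 a
        change π (a * (h : G) * a⁻¹) ∈ C at this
        rwa [map_mul, map_mul, map_inv] at this
      rwa [hcore, Subgroup.mem_bot] at h2
    rw [hd, Nat.card_congr (Subgroup.subgroupOfEquivOfLe hKH).toEquiv] at hHK
    refine le_trans (Nat.mul_le_mul_right _ ?_) (factorial_four hb5)
    refine Nat.le_of_mul_le_mul_right ?_ (Nat.card_pos (α := K))
    calc K.index * Nat.card K = Nat.card H * H.index := by rw [← hcardG, H.card_mul_index]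
      _ ≤ Nat.card K * b ^ 2 * b ^ 2 := Nat.mul_le_mul hHK hHi
      _ = b ^ 4 * Nat.card K := by ring

/-- **An abelian subgroup of bounded index.** -/
theorem exists_abelian_of_degLE : ∀ (b : ℕ) (G : Type u) [Group G] [Fintype G], DegLE G b →
    ∃ A : Subgroup G, (∀ x ∈ A, ∀ y ∈ A, x * y = y * x) ∧ A.index ≤ b.factorial ^ 2 := by
  intro b
  induction b using Nat.strong_induction_on with
  | _ b ih =>
  intro G _ _ hb
  classical
  have hb1 : 1 ≤ b := by
    have h := hb _ (isIrrCharacter_one (G := G))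
    have e : deg (fun _ : G => (1 : ℂ)) = 1 := Nat.cast_injective (R := ℂ) (by
      rw [← IsCharacter.apply_one_eq_deg (isCharacter_of_irr isIrrCharacter_one), Nat.cast_one])
    rwa [e] at h
  by_cases hab : ∀ x y : G, x * y = y * x
  · exact ⟨⊤, fun x _ y _ => hab x y, by rw [Subgroup.index_top]; exact Nat.one_le_pow _ _ b.factorial_pos⟩
  have hb2 : 2 ≤ b := by
    by_contra h
    exact hab fun x y => mul_comm_of_all_linear (fun χ => by
      rw [irr_apply_one_eq_deg]
      have h1 := deg_irr_pos χ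
      have h2 := hb _ χ.2
      exact_mod_cast show deg (χ : G → ℂ) = 1 by omega) x y
  have lift : ∀ (H : Subgroup G) (c : ℕ), (∃ A : Subgroup H, (∀ x ∈ A, ∀ y ∈ A, x * y = y * x) ∧ A.index ≤ c) →
      ∀ d : ℕ, c * H.index ≤ d → ∃ A : Subgroup G, (∀ x ∈ A, ∀ y ∈ A, x * y = y * x) ∧ A.index ≤ d := by
    rintro H c ⟨A, hA, hAi⟩ d hd
    refine ⟨A.map H.subtype, ?_, ?_⟩
    · rintro _ ⟨x, hx, rfl⟩ _ ⟨y, hy, rfl⟩
      exact congrArg Subtype.val (hA x hx y hy)
    · rw [Subgroup.index_map_subtype]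
      exact (Nat.mul_le_mul_right _ hAi).trans hd
  rcases degree_reduction hb hb2 hab with ⟨H, hHi, hH⟩ | ⟨K, hKn, hKna, hKi⟩
  · letI : Fintype H := Fintype.ofFinite H
    refine lift H _ (ih (b - 1) (by omega) H fun ψ hψ => ?_) _ ?_
    · have h1 := hb.subgroup H ψ hψ
      have h2 := hH ψ hψ
      omega
    · rw [← factorial_step hb1]
      exact Nat.mul_le_mul_left _ hHi
  · letI : Fintype K := Fintype.ofFinite K
    haveI := hKn
    refine lift K _ (ih (b / 2) (by omega) K (hb.half K hKna)) _ ?_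
    rw [mul_comm]
    exact hKi

end Cfsg.Lib.Chars
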