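import Cfsg.Agent.Blocks.RealForm
import Cfsg.Agent.Chars.Inertia
import Cfsg.Agent.Chars.Construct

/-!
# Orthogonal characters of a split extension by an elementary abelian group of odd order

A nontrivial linear character of the kernel, extended to its inertia group and induced, gives an orthogonal character of
even degree whose twists by the real linear characters are numerous enough.
-/

set_option autoImplicit false

open scoped Matrix

namespace Cfsg.Lib.Chars.OrthMean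

open Cfsg.Lib.Chars

variable {G : Type*} [Group G] [Fintype G]

/-- A real irreducible character with a one-dimensional space of fixed points of a subgroup is orthogonal. -/
theorem indicator_one_of_fixed_line {χ : G → ℂ} (hχ : Cfsg.IsIrrCharacter G χ)
    (hreal : ∀ g, (χ g).im = 0) (H : Subgroup G) [Fintype H]
    (hsum : ∑ h : H, χ h = Nat.card H) :
    (Nat.card G : ℂ)⁻¹ * ∑ s, χ (s * s) = 1 := by
  classical
  rcases indicator_irr hχ with ⟨⟨s, hs⟩, -⟩ | ⟨-, h | ⟨h, -⟩⟩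
  · exact absurd (hreal s) hs
  · exact h
  exfalso
  obtain ⟨d, ρ, hρ, rfl⟩ := hχ
  haveI := hρ
  obtain ⟨M, hM, hMu, -⟩ := Cfsg.Lib.Blocks.exists_form_of_real ρ hreal
  have hT : Mᵀ = -M := by rw [Cfsg.Lib.Blocks.transpose_eq_indicator ρ hM, h, neg_one_smul]
  set Q : Matrix (Fin d) (Fin d) ℂ := (Nat.card H : ℂ)⁻¹ • ∑ k : H, matRep ρ k with hQ
  have hH0 : (Nat.card H : ℂ) ≠ 0 := Nat.cast_ne_zero.2 Nat.card_pos.ne'
  have htr : Q.trace = 1 := by
    rw [hQ, Matrix.trace_smul, Matrix.trace_sum, smul_eq_mul,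
      Finset.sum_congr rfl (g := fun k : H => ρ.character k) (fun k _ => (character_matRep ρ _).symm),
      hsum, inv_mul_cancel₀ hH0]
  have habs : ∀ k : H, matRep ρ k * Q = Q := fun k => by
    rw [hQ, Matrix.mul_smul, Finset.mul_sum]
    congr 1
    refine Fintype.sum_equiv (Equiv.mulLeft k) _ _ fun l => ?_
    rw [← map_mul, Equiv.coe_mulLeft, Subgroup.coe_mul]
  have hidem : Q * Q = Q := by
    conv_lhs => arg 1; rw [hQ]
    rw [Matrix.smul_mul, Finset.sum_mul, Finset.sum_congr rfl fun k _ => habs k, Finset.sum_const,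
      Finset.card_univ, ← Nat.card_eq_fintype_card, ← Nat.cast_smul_eq_nsmul ℂ, smul_smul,
      inv_mul_cancel₀ hH0, one_smul]
  have hMQ : Q * M = M * Qᵀ := by
    rw [hQ, Matrix.smul_mul, Finset.sum_mul, Matrix.transpose_smul, Matrix.mul_smul,
      Matrix.transpose_sum, Finset.mul_sum]
    congr 1
    refine Fintype.sum_equiv (Equiv.inv H) _ _ fun k => ?_
    rw [Equiv.inv_apply, Subgroup.coe_inv]
    conv_lhs => rw [← hM (k : G)⁻¹]
    rw [← mul_assoc, ← mul_assoc, ← map_mul, mul_inv_cancel, map_one, one_mul]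
  have hrk : Module.finrank ℂ (LinearMap.range (Matrix.toLin' Qᵀ)) = 1 := by
    have hp : LinearMap.IsProj (LinearMap.range (Matrix.toLin' Qᵀ)) (Matrix.toLin' Qᵀ) := by
      refine ⟨fun v => LinearMap.mem_range_self _ v, ?_⟩
      rintro _ ⟨v, rfl⟩
      rw [← Matrix.toLin'_mul_apply, ← Matrix.transpose_mul, hidem]
    have h1 := hp.trace
    rw [Matrix.trace_toLin'_eq, Matrix.trace_transpose, htr] at h1
    exact_mod_cast h1.symm
  obtain ⟨w, hw, hw'⟩ := finrank_eq_one_iff'.1 hrk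
  have hB : ∀ v v' : Fin d → ℂ, v ⬝ᵥ (Q * M * Qᵀ) *ᵥ v' = 0 := by
    intro v v'
    obtain ⟨a, ha⟩ := hw' ⟨_, LinearMap.mem_range_self (Matrix.toLin' Qᵀ) v⟩
    obtain ⟨b, hb⟩ := hw' ⟨_, LinearMap.mem_range_self (Matrix.toLin' Qᵀ) v'⟩
    replace ha : a • (w : Fin d → ℂ) = Qᵀ *ᵥ v := congrArg Subtype.val ha
    replace hb : b • (w : Fin d → ℂ) = Qᵀ *ᵥ v' := congrArg Subtype.val hb
    have h0 : (w : Fin d → ℂ) ⬝ᵥ M *ᵥ (w : Fin d → ℂ) = 0 := by
      have h2 : (w : Fin d → ℂ) ⬝ᵥ M *ᵥ (w : Fin d → ℂ) =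
          -((w : Fin d → ℂ) ⬝ᵥ M *ᵥ (w : Fin d → ℂ)) := by
        conv_lhs => rw [Matrix.dotProduct_mulVec, dotProduct_comm, ← Matrix.mulVec_transpose, hT,
          Matrix.neg_mulVec, dotProduct_neg]
      exact CharZero.eq_neg_self_iff.1 h2
    rw [← Matrix.mulVec_mulVec, ← Matrix.mulVec_mulVec, Matrix.dotProduct_mulVec,
      ← Matrix.mulVec_transpose, ← ha, ← hb, Matrix.mulVec_smul, smul_dotProduct, dotProduct_smul, h0,
      smul_zero, smul_zero]
  have hzero : Q * M * Qᵀ = 0 := by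
    ext i j
    have := hB (Pi.single i 1) (Pi.single j 1)
    simpa using this
  rw [mul_assoc, ← hMQ, ← mul_assoc, hidem] at hzero
  have hQ0 : Q = 0 := by
    have h3 := congrArg (fun X => X * M⁻¹) hzero
    simp only [mul_assoc, Matrix.mul_nonsing_inv _ hMu, mul_one, zero_mul] at h3
    exact h3
  rw [hQ0, Matrix.trace_zero] at htr
  exact zero_ne_one htr

section Split

variable {N P : Subgroup G} (hdisj : N ⊓ P = ⊥)

include hdisj in
theorem eq_parts {n n' p p' : G} (hn : n ∈ N) (hn' : n' ∈ N) (hp : p ∈ P) (hp' : p' ∈ P)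
    (h : n * p = n' * p') : n = n' ∧ p = p' := by
  have h1 : n'⁻¹ * n = p' * p⁻¹ := by
    rw [eq_mul_inv_iff_mul_eq, mul_assoc, h, inv_mul_cancel_left]
  have h2 : n'⁻¹ * n ∈ N ⊓ P :=
    Subgroup.mem_inf.2 ⟨mul_mem (inv_mem hn') hn, h1 ▸ mul_mem hp' (inv_mem hp)⟩
  rw [hdisj, Subgroup.mem_bot] at h2
  rw [inv_mul_eq_one] at h2
  subst h2
  exact ⟨rfl, mul_left_cancel h⟩

set_option maxHeartbeats 2000000 in
/-- The main estimate. -/

theorem mean_le (hN : N.Normal) (hab : ∀ a ∈ N, ∀ b ∈ N, a * b = b * a) (hodd : Odd (Nat.card N))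
    (hP : IsPGroup 2 ↥P) (hP1 : P ≠ ⊥) (hdisj : N ⊓ P = ⊥) (hprod : N ⊔ P = ⊤) (hN1 : N ≠ ⊥)
    (hmin : ∀ M : Subgroup G, M.Normal → M ≠ ⊥ → N ≤ M) (S : Finset (Cfsg.IrrCharacter G))
    (hS : ∀ χ, χ ∈ S ↔ (deg (χ : G → ℂ) = 1 ∨ 2 ∣ deg (χ : G → ℂ)) ∧
      (Nat.card G : ℂ)⁻¹ * ∑ s, (χ : G → ℂ) (s * s) = 1) :
    4 * S.card ≤ 3 * ∑ χ ∈ S, deg (χ : G → ℂ) := by
  classical
  have hmem : ∀ g : G, ∃ n ∈ N, ∃ p ∈ P, n * p = g := fun g =>
    Subgroup.mem_sup_of_normal_left.1 (hprod ▸ Subgroup.mem_top g)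
  have hcompl : Subgroup.IsComplement' P N :=
    (Subgroup.isComplement'_of_disjoint_and_mul_eq_univ (disjoint_iff.2 hdisj) (by
      rw [← Subgroup.normal_mul, hprod]; rfl) : Subgroup.IsComplement' N P).symm
  have hCP : ∀ p ∈ P, (∀ n ∈ N, p * n = n * p) → p = 1 := by
    have hK : (P ⊓ Subgroup.centralizer (N : Set G)) = ⊥ := by
      by_contra hne
      have hKn : (P ⊓ Subgroup.centralizer (N : Set G)).Normal := by
        refine ⟨fun k hk g => ?_⟩
        obtain ⟨n, hn, p, hp, rfl⟩ := hmem g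
        have hc : p * k * p⁻¹ ∈ Subgroup.centralizer (N : Set G) :=
          Subgroup.Normal.conj_mem inferInstance k hk.2 p
        have : n * p * k * (n * p)⁻¹ = p * k * p⁻¹ := by
          rw [mul_inv_rev, show n * p * k * (p⁻¹ * n⁻¹) = n * (p * k * p⁻¹) * n⁻¹ by group,
            (Subgroup.mem_centralizer_iff.1 hc n hn), mul_inv_cancel_right]
        rw [this]
        exact Subgroup.mem_inf.2 ⟨mul_mem (mul_mem hp hk.1) (inv_mem hp), hc⟩
      exact hN1 (le_bot_iff.1 (hdisj ▸ le_inf le_rfl ((hmin _ hKn hne).trans inf_le_left)))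
    intro p hp h
    rw [← Subgroup.mem_bot, ← hK]
    exact Subgroup.mem_inf.2 ⟨hp, Subgroup.mem_centralizer_iff.2 fun n hn => (h n hn).symm⟩
  -- a central involution inverts the kernel
  haveI : Fact (Nat.Prime 2) := ⟨Nat.prime_two⟩
  haveI : Nontrivial P := (Subgroup.nontrivial_iff_ne_bot P).2 hP1
  haveI := hP.center_nontrivial
  obtain ⟨k, hk0, hk⟩ := (IsPGroup.nontrivial_iff_card (hP.to_subgroup (Subgroup.center P))).1 inferInstance
  obtain ⟨⟨⟨z, hzP⟩, hzc⟩, hz2⟩ := exists_prime_orderOf_dvd_card' (G := Subgroup.center P) 2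
    (hk ▸ dvd_pow_self 2 hk0.ne')
  have hzord : orderOf z = 2 := by
    rw [← hz2, ← Subgroup.orderOf_coe, ← Subgroup.orderOf_coe]
  have hzcomm : ∀ p ∈ P, z * p = p * z := fun p hp =>
    (congrArg Subtype.val (Subgroup.mem_center_iff.1 hzc ⟨p, hp⟩)).symm
  have hzz : z * z = 1 := by rw [← sq, ← hzord, pow_orderOf_eq_one]
  have hinv : ∀ n ∈ N, z * n * z⁻¹ = n⁻¹ := by
    let F : Subgroup G :=
      { carrier := {n | n ∈ N ∧ z * n * z⁻¹ = n}
        one_mem' := ⟨one_mem _, by simp⟩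
        mul_mem' := fun {a b} ha hb => ⟨mul_mem ha.1 hb.1, by
          conv_rhs => rw [← ha.2, ← hb.2]
          group⟩
        inv_mem' := fun {a} ha => ⟨inv_mem ha.1, by
          conv_rhs => rw [← ha.2]
          group⟩ }
    have hFn : F.Normal := by
      refine ⟨fun a ha g => ?_⟩
      obtain ⟨n, hn, p, hp, rfl⟩ := hmem g
      have h1 : p * a * p⁻¹ ∈ N := hN.conj_mem a ha.1 p
      have h2 : n * p * a * (n * p)⁻¹ = p * a * p⁻¹ := by
        rw [mul_inv_rev, show n * p * a * (p⁻¹ * n⁻¹) = n * (p * a * p⁻¹) * n⁻¹ by group,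
          hab n hn _ h1, mul_inv_cancel_right]
      refine ⟨h2 ▸ h1, ?_⟩
      rw [h2]
      conv_rhs => rw [← ha.2]
      calc z * (p * a * p⁻¹) * z⁻¹ = (z * p) * a * (z * p)⁻¹ := by group
        _ = (p * z) * a * (p * z)⁻¹ := by rw [hzcomm p hp]
        _ = p * (z * a * z⁻¹) * p⁻¹ := by group
    have hF : F = ⊥ := by
      by_contra hne
      have hz1 : z = 1 := hCP z hzP fun n hn =>
        (mul_inv_eq_iff_eq_mul).1 (hmin F hFn hne hn).2
      rw [hz1, orderOf_one] at hzord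
      exact absurd hzord (by norm_num)
    intro n hn
    have hzn : z * n * z⁻¹ ∈ N := hN.conj_mem n hn z
    have hfix : z * n * z⁻¹ * n ∈ F := by
      refine ⟨mul_mem hzn hn, ?_⟩
      have hzi : z⁻¹ = z := inv_eq_of_mul_eq_one_right hzz
      rw [hab _ hzn n hn]
      calc z * (n * (z * n * z⁻¹)) * z⁻¹ = (z * n * z) * n * (z⁻¹ * z⁻¹) := by group
        _ = (z * n * z⁻¹) * n * 1 := by rw [hzi, hzz]
        _ = n * (z * n * z⁻¹) := by rw [mul_one, hab _ hzn n hn]
    rw [hF, Subgroup.mem_bot] at hfix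
    exact eq_inv_of_mul_eq_one_left hfix
  -- a nontrivial linear character of the kernel
  letI : CommGroup N := { (inferInstance : Group N) with
    mul_comm := fun a b => Subtype.ext (hab a a.2 b b.2) }
  obtain ⟨⟨n₀, hn₀⟩, hne₀⟩ := N.ne_bot_iff_exists_ne_one.1 hN1
  have hn₀' : n₀ ≠ 1 := fun h => hne₀ (Subtype.ext h)
  obtain ⟨lam, hlam⟩ := CommGroup.exists_apply_ne_one_of_hasEnoughRootsOfUnity N ℂ hne₀
  let θ : N → ℂ := fun n => (lam n : ℂ)
  have hθ : Cfsg.IsIrrCharacter N θ := isIrrCharacter_linear lam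
  haveI := hN
  set T := inertia N θ with hT
  have hNT : N ≤ T := le_inertia (isClassFunction_isChar (isCharacter_of_irr hθ))
  haveI : Fintype T := Fintype.ofFinite T
  have hTl : ∀ g ∈ T, ∀ n : N, lam ⟨g * n * g⁻¹, hN.conj_mem n n.2 g⟩ = lam n := by
    intro g hg n
    exact Units.val_inj.1 (congrFun (mem_inertia.1 hg) n)
  -- the retraction onto the kernel
  choose nu hnu pu hpu hnp using hmem
  have hnu_eq : ∀ {g n p : G}, n ∈ N → p ∈ P → n * p = g → nu g = n ∧ pu g = p := fun hn hp h =>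
    eq_parts hdisj (hnu _) hn (hpu _) hp ((hnp _).trans h.symm)
  have hpT : ∀ t ∈ T, pu t ∈ T := fun t ht => by
    rw [show pu t = (nu t)⁻¹ * t from eq_inv_mul_of_mul_eq (hnp t)]
    exact mul_mem (inv_mem (hNT (hnu t))) ht
  let ext : T →* ℂˣ :=
    { toFun := fun t => lam ⟨nu t, hnu t⟩
      map_one' := by
        have : nu ((1 : T) : G) = 1 := (hnu_eq (one_mem N) (one_mem P) (one_mul 1)).1
        rw [show (⟨nu ((1 : T) : G), hnu _⟩ : N) = 1 from Subtype.ext this, map_one]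
      map_mul' := fun s t => by
        have hc : pu s * nu t * (pu s)⁻¹ ∈ N := hN.conj_mem _ (hnu _) _
        have : nu ((s * t : T) : G) = nu s * (pu s * nu t * (pu s)⁻¹) := by
          refine (hnu_eq (mul_mem (hnu _) hc) (mul_mem (hpu (s : G)) (hpu (t : G))) ?_).1
          rw [Subgroup.coe_mul]
          conv_rhs => rw [← hnp (s : G), ← hnp (t : G)]
          group
        rw [← hTl _ (hpT s s.2) ⟨nu t, hnu t⟩, ← map_mul]
        exact congrArg lam (Subtype.ext this) }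
  let ψ : T → ℂ := fun t => (ext t : ℂ)
  have hψN : ∀ n : N, ψ ⟨n, hNT n.2⟩ = θ n := fun n => by
    have : nu (n : G) = n := (hnu_eq n.2 (one_mem P) (mul_one _)).1
    simp [ψ, ext, θ, this]
  have hψ : Cfsg.IsIrrCharacter T ψ := isIrrCharacter_linear ext
  -- the induced character
  have hindirr : Cfsg.IsIrrCharacter G (Cfsg.indFun T ψ) := by
    have hc := IsCharacter.indFun (G := G) (isCharacter_of_irr hψ)
    obtain ⟨χ', hne⟩ : ∃ χ' : Cfsg.IrrCharacter G, Cfsg.classInner (Cfsg.indFun T ψ) (χ' : G → ℂ) ≠ 0 := by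
      by_contra h
      push Not at h
      have h0 := congrFun (eq_zero_of_classInner_eq_zero (isClassFunction_isChar hc) h) 1
      rw [indFun_one, Pi.zero_apply, mul_eq_zero, Nat.cast_eq_zero] at h0
      exact h0.elim T.index_ne_zero_of_finite (IsIrrCharacter.apply_one_ne_zero hψ)
    obtain ⟨χ, hχ⟩ := χ'
    have h1 : Cfsg.classInner (fun t : T => χ t) ψ ≠ 0 := by
      rw [frobenius_reciprocity T ψ (isClassFunction_isChar (isCharacter_of_irr hχ))] at hne
      intro h0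
      rw [← classInner_conj_symm, h0, map_zero] at hne
      exact hne rfl
    have h2 : Cfsg.classInner (fun n : N => ψ ⟨n, hNT n.2⟩) θ ≠ 0 := by
      rw [show (fun n : N => ψ ⟨n, hNT n.2⟩) = θ from funext hψN, classInner_self_irr hθ]
      exact one_ne_zero
    rw [(clifford_correspondence hθ T hT hNT hχ hψ h1 h2).1]
    exact hχ
  set χ : Cfsg.IrrCharacter G := ⟨_, hindirr⟩ with hχdef
  have hdeg : deg (χ : G → ℂ) = T.index := by
    show deg (Cfsg.indFun T ψ) = _
    rw [deg, indFun_one]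
    simp [ψ]
  have heven : 2 ∣ T.index := by
    have hzT : z ∉ T := fun hzT => by
      have h1 := hTl z hzT ⟨n₀, hn₀⟩
      rw [show (⟨z * n₀ * z⁻¹, hN.conj_mem n₀ hn₀ z⟩ : N) = ⟨n₀, hn₀⟩⁻¹ from Subtype.ext (hinv n₀ hn₀),
        map_inv] at h1
      have h2 : orderOf (lam ⟨n₀, hn₀⟩) ∣ 2 := orderOf_dvd_of_pow_eq_one (by
        rw [sq]; nth_rw 1 [← h1]; rw [inv_mul_cancel])
      have h3 : orderOf (lam ⟨n₀, hn₀⟩) ∣ Nat.card N := (orderOf_map_dvd lam _).trans (orderOf_dvd_natCard _)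
      exact hlam (orderOf_eq_one_iff.1 (Nat.eq_one_of_dvd_coprimes (Nat.coprime_two_left.2 hodd) h2 h3))
    have hidx : N.index = Nat.card P :=
      hcompl.index_eq_card
    obtain ⟨j, hj⟩ := hP.exists_card_eq
    have hdvd : T.index ∣ 2 ^ j := hj ▸ hidx ▸ Subgroup.index_dvd_of_le hNT
    obtain ⟨i, -, hi⟩ := (Nat.dvd_prime_pow Nat.prime_two).1 hdvd
    refine hi ▸ dvd_pow_self 2 ?_
    rintro rfl
    exact hzT ((Subgroup.index_eq_one.1 hi) ▸ Subgroup.mem_top z)
  have hreal : ∀ g, ((χ : G → ℂ) g).im = 0 := by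
    intro g
    rw [← Complex.conj_eq_iff_im]
    show (starRingEnd ℂ) (Cfsg.indFun T ψ g) = Cfsg.indFun T ψ g
    have hiff : ∀ x : G, z * x * z⁻¹ ∈ T → x ∈ T → ∀ (h : z * x * z⁻¹ ∈ T) (h' : x ∈ T),
        ψ ⟨_, h⟩ = (starRingEnd ℂ) (ψ ⟨x, h'⟩) := by
      intro x _ hx h h'
      have e : nu (z * x * z⁻¹) = (nu x)⁻¹ := by
        refine (hnu_eq (inv_mem (hnu x)) (hpu x) ?_).1
        rw [← hinv _ (hnu x)]
        conv_rhs => rw [← hnp x]
        rw [show z * (nu x * pu x) * z⁻¹ = z * nu x * z⁻¹ * (z * pu x * z⁻¹) by group, hzcomm _ (hpu x),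
          mul_inv_cancel_right]
      have e2 : (⟨nu (z * x * z⁻¹), hnu _⟩ : N) = (⟨nu x, hnu x⟩ : N)⁻¹ := Subtype.ext e
      show (lam _ : ℂ) = (starRingEnd ℂ) (lam _ : ℂ)
      rw [e2, map_inv, Units.val_inv_eq_inv_val, Complex.inv_eq_conj]
      refine Complex.norm_eq_one_of_pow_eq_one (n := Nat.card N) ?_ Nat.card_pos.ne'
      rw [← Units.val_pow_eq_pow_val, ← map_pow, pow_card_eq_one', map_one, Units.val_one]
    have hzT' : ∀ x : G, x ∈ T → z * x * z⁻¹ ∈ T := by
      intro x hx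
      rw [← hnp x, show z * (nu x * pu x) * z⁻¹ = z * nu x * z⁻¹ * (z * pu x * z⁻¹) by group, hzcomm _ (hpu x),
        mul_inv_cancel_right]
      exact mul_mem (hNT (hN.conj_mem _ (hnu x) z)) (hpT x hx)
    have hconj : ∀ x : G, (starRingEnd ℂ) (Cfsg.extendByZero T ψ x) = Cfsg.extendByZero T ψ (z * x * z⁻¹) := by
      intro x
      by_cases hx : x ∈ T
      · rw [extendByZero_mem ψ hx, extendByZero_mem ψ (hzT' x hx), hiff x (hzT' x hx) hx]
      · rw [extendByZero_not_mem ψ hx, map_zero, extendByZero_not_mem ψ fun h => hx ?_]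
        have := hzT' _ h
        have hzi : z⁻¹ = z := inv_eq_of_mul_eq_one_right hzz
        rwa [show z * (z * x * z⁻¹) * z⁻¹ = (z * z) * x * (z * z)⁻¹ by group, hzz, inv_one, mul_one,
          one_mul] at this
    rw [indFun_apply, map_mul, map_inv₀, Complex.conj_natCast, map_sum]
    congr 1
    simp only [hconj]
    refine Fintype.sum_equiv (Equiv.mulRight z⁻¹) _ _ fun x => ?_
    congr 1
    simp only [Equiv.coe_mulRight]
    group
  -- sums over the complement
  haveI : Fintype P := Fintype.ofFinite P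
  have hG0 : (Nat.card T : ℂ) ≠ 0 := Nat.cast_ne_zero.2 Nat.card_pos.ne'
  let D : Finset P := Finset.univ.filter fun p : P => (p : G) ∈ T
  have hTD : Nat.card T = Nat.card N * D.card := by
    rw [← Nat.card_eq_finsetCard, ← Nat.card_prod]
    refine (Nat.card_eq_of_bijective (fun x : N × D => (⟨(x.1 : G) * ((x.2 : P) : G),
      mul_mem (hNT x.1.2) (Finset.mem_filter.1 x.2.2).2⟩ : T)) ⟨fun x y h => ?_, fun t => ?_⟩).symm
    · obtain ⟨h1, h2⟩ := eq_parts hdisj x.1.2 y.1.2 x.2.1.2 y.2.1.2 (congrArg Subtype.val h)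
      exact Prod.ext (Subtype.ext h1) (Subtype.ext (Subtype.ext h2))
    · exact ⟨(⟨nu t, hnu t⟩, ⟨⟨pu t, hpu t⟩, Finset.mem_filter.2 ⟨Finset.mem_univ _, hpT t t.2⟩⟩),
        Subtype.ext (hnp t)⟩
  have hψP : ∀ (n : G) (hn : n ∈ N) (p : P),
      Cfsg.extendByZero T ψ (n * p * n⁻¹) = if (p : G) ∈ T then 1 else 0 := by
    intro n hn p
    by_cases hp : (p : G) ∈ T
    · rw [if_pos hp, extendByZero_mem ψ (mul_mem (mul_mem (hNT hn) hp) (inv_mem (hNT hn)))]
      have : (⟨n * p * n⁻¹, mul_mem (mul_mem (hNT hn) hp) (inv_mem (hNT hn))⟩ : T) =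
          ⟨n, hNT hn⟩ * ⟨(p : G), hp⟩ * ⟨n, hNT hn⟩⁻¹ := rfl
      rw [this]
      have hp1 : nu (p : G) = 1 := (hnu_eq (one_mem N) p.2 (one_mul _)).1
      have hp2 : ext ⟨(p : G), hp⟩ = 1 := by
        show lam ⟨nu (p : G), hnu _⟩ = 1
        rw [show (⟨nu (p : G), hnu _⟩ : N) = 1 from Subtype.ext hp1, map_one]
      simp only [ψ, map_mul, map_inv, hp2, mul_one, mul_inv_cancel, Units.val_one]
    · rw [if_neg hp, extendByZero_not_mem ψ]
      intro h
      apply hp
      have := mul_mem (mul_mem (inv_mem (hNT hn)) h) (hNT hn)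
      simpa [mul_assoc] using this
  have hsumP : ∀ e : G →* ℂˣ, (∀ n ∈ N, e n = 1) →
      ∑ p : P, (e (p : G) : ℂ) * (χ : G → ℂ) p = (Nat.card P : ℂ) / D.card * ∑ p ∈ D, (e (p : G) : ℂ) := by
    intro e he
    show ∑ p : P, (e (p : G) : ℂ) * Cfsg.indFun T ψ p = _
    simp only [indFun_apply, Finset.mul_sum]
    rw [Finset.sum_comm]
    have key : ∀ x : G, ∑ p : P, (e (p : G) : ℂ) * ((Nat.card T : ℂ)⁻¹ * Cfsg.extendByZero T ψ (x⁻¹ * p * x)) =
        (Nat.card T : ℂ)⁻¹ * ∑ p ∈ D, (e (p : G) : ℂ) := by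
      intro x
      rw [Finset.mul_sum, Finset.sum_filter]
      set n := nu x⁻¹
      set s : P := ⟨pu x⁻¹, hpu x⁻¹⟩
      refine Fintype.sum_equiv (MulAut.conj s).toEquiv _ _ fun p => ?_
      have hx : x⁻¹ * (p : G) * x = n * ((MulAut.conj s p : P) : G) * n⁻¹ := by
        conv_lhs => rw [← inv_inv x, inv_inv (x⁻¹), ← hnp x⁻¹]
        simp [n, s, mul_assoc]
      have he' : e ((MulAut.conj s p : P) : G) = e (p : G) := by
        simp only [MulAut.conj_apply, Subgroup.coe_mul, Subgroup.coe_inv, map_mul, map_inv, mul_inv_cancel_comm]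
      show _ = if ((MulAut.conj s p : P) : G) ∈ T then _ else 0
      simp only [MulEquiv.toEquiv_eq_coe, MulEquiv.coe_toEquiv, EquivLike.coe_coe]
      rw [hx, hψP n (hnu _), he']
      split_ifs <;> ring
    simp only [key, Finset.sum_const, Finset.card_univ, nsmul_eq_mul, ← Nat.card_eq_fintype_card]
    have hNP : Nat.card G = Nat.card N * Nat.card P :=
      hcompl.card_mul.symm.trans (Nat.mul_comm _ _)
    rw [hNP, hTD, Finset.mul_sum, Finset.mul_sum]
    refine Finset.sum_congr rfl fun p _ => ?_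
    push_cast
    field_simp
  have hD0 : (D.card : ℂ) ≠ 0 :=
    Nat.cast_ne_zero.2 (Finset.card_ne_zero.2 ⟨1, Finset.mem_filter.2 ⟨Finset.mem_univ _, one_mem T⟩⟩)
  have hν : (Nat.card G : ℂ)⁻¹ * ∑ s, (χ : G → ℂ) (s * s) = 1 := by
    refine indicator_one_of_fixed_line χ.2 hreal P ?_
    have h1 := hsumP 1 (fun n _ => rfl)
    simp only [MonoidHom.one_apply, Units.val_one, one_mul, Finset.sum_const, nsmul_eq_mul, mul_one] at h1
    rw [h1, div_mul_cancel₀ _ hD0]
  -- real linear characters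
  set R := S.filter fun c : Cfsg.IrrCharacter G => deg (c : G → ℂ) = 1 with hR
  set E := S.filter fun c : Cfsg.IrrCharacter G => ¬deg (c : G → ℂ) = 1 with hE
  have hlin : ∀ c ∈ R, ∃ f : G →* ℂˣ, (∀ g, (c : G → ℂ) g = f g) ∧ (∀ g, f g * f g = 1) ∧ ∀ n ∈ N, f n = 1 := by
    intro c hc
    obtain ⟨hcS, hc1⟩ := Finset.mem_filter.1 hc
    obtain ⟨f, hf⟩ := exists_hom_of_deg_one (isCharacter_of_irr c.2) (by rw [irr_apply_one_eq_deg, hc1, Nat.cast_one])
    have hf' : ∀ g, (c : G → ℂ) g = f g := fun g => (congrFun hf g).trans rfl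
    have hsq : ∀ g, f g * f g = 1 := by
      have h1 := ((hS c).1 hcS).2
      let f2 : G →* ℂˣ := f * f
      have h2 : Cfsg.classInner (fun g => (f2 g : ℂ)) (fun _ => (1 : ℂ)) = 1 := by
        rw [classInner_def]
        simpa [f2, hf', map_mul] using h1
      rw [classInner_irrChar (isIrrCharacter_linear f2) isIrrCharacter_one] at h2
      split_ifs at h2 with h3
      · intro g
        exact Units.ext (congrFun h3 g)
      · exact absurd h2 zero_ne_one
    refine ⟨f, hf', hsq, fun n hn => ?_⟩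
    have h2 : orderOf (f n) ∣ 2 := orderOf_dvd_of_pow_eq_one (by rw [sq, hsq])
    have h3 : orderOf (f n) ∣ Nat.card N :=
      (orderOf_map_dvd f n).trans (Subgroup.orderOf_dvd_natCard _ hn)
    exact orderOf_eq_one_iff.1 (Nat.eq_one_of_dvd_coprimes (Nat.coprime_two_left.2 hodd) h2 h3)
  choose f hfv hfsq hfN using hlin
  let Φ : {c // c ∈ R} → Cfsg.IrrCharacter G := fun c =>
    ⟨_, IsIrrCharacter.mul_linear χ.2 (f c.1 c.2)⟩
  have hΦv : ∀ c g, (Φ c : G → ℂ) g = (χ : G → ℂ) g * (f c.1 c.2 g : ℂ) := fun c g => by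
    simp [Φ, mul_comm]
  have hΦdeg : ∀ c, deg (Φ c : G → ℂ) = T.index := fun c => by
    rw [← hdeg, deg, deg, hΦv, map_one, Units.val_one, mul_one]
  have hΦE : ∀ c, Φ c ∈ E := fun c => by
    have hne1 : T.index ≠ 1 := fun h => by rw [h] at heven; omega
    refine Finset.mem_filter.2 ⟨(hS _).2 ⟨Or.inr ((hΦdeg c).symm ▸ heven), ?_⟩, (hΦdeg c).symm ▸ hne1⟩
    rw [← hν]
    refine congrArg _ (Finset.sum_congr rfl fun s _ => ?_)
    rw [hΦv, map_mul, hfsq, Units.val_one, mul_one]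
  have hfib : ∀ c₀ : {c // c ∈ R}, (Finset.univ.filter fun c => Φ c = Φ c₀).card ≤ T.index := by
    intro c₀
    let v : {c : {c // c ∈ R} // Φ c = Φ c₀} → G →* ℂˣ := fun c => f c.1.1 c.1.2 * f c₀.1 c₀.2
    have hvN : ∀ c, ∀ n ∈ N, v c n = 1 := fun c n hn => by simp [v, hfN _ _ n hn]
    have hvT : ∀ c, ∀ t ∈ T, v c t = 1 := by
      intro c t ht
      have hfix : ∀ g, (v c g : ℂ) * (χ : G → ℂ) g = (χ : G → ℂ) g := fun g => by
        have h1 : (Φ c.1 : G → ℂ) g = (Φ c₀ : G → ℂ) g := by rw [c.2]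
        rw [hΦv, hΦv] at h1
        calc (v c g : ℂ) * (χ : G → ℂ) g = (χ : G → ℂ) g * (f c.1.1 c.1.2 g : ℂ) * (f c₀.1 c₀.2 g : ℂ) := by
              simp [v]; ring
          _ = (χ : G → ℂ) g := by
              rw [h1, mul_assoc, ← Units.val_mul, hfsq, Units.val_one, mul_one]
      have h1 := hsumP (v c) (hvN c)
      simp only [hfix] at h1
      have h0 := hsumP 1 (fun n _ => rfl)
      simp only [MonoidHom.one_apply, Units.val_one, one_mul, Finset.sum_const, nsmul_eq_mul, mul_one] at h0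
      rw [h0, mul_right_inj' (div_ne_zero (Nat.cast_ne_zero.2 Nat.card_pos.ne') hD0)] at h1
      have hpm : ∀ g, (v c g : ℂ) = 1 ∨ (v c g : ℂ) = -1 := fun g => by
        refine mul_self_eq_one_iff.1 ?_
        rw [← Units.val_mul, ← Units.val_one]
        congr 1
        simp only [v, MonoidHom.mul_apply]
        rw [mul_mul_mul_comm, hfsq, hfsq, one_mul]
      have h2 : ∀ p ∈ D, 1 - (v c (p : G) : ℂ).re = 0 := by
        refine (Finset.sum_eq_zero_iff_of_nonneg fun p _ => ?_).1 ?_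
        · rcases hpm (p : G) with h | h <;> simp [h]
        · rw [Finset.sum_sub_distrib, ← Complex.re_sum, ← h1]
          simp
      rw [← hnp t, map_mul, hvN c _ (hnu t), one_mul]
      have h3 := h2 ⟨pu t, hpu t⟩ (Finset.mem_filter.2 ⟨Finset.mem_univ _, hpT t ht⟩)
      rcases hpm (pu t) with h | h
      · exact Units.ext h
      · simp only [h] at h3; norm_num at h3
    have hvinj : Function.Injective fun c => ((Units.coeHom ℂ).comp (v c) : G →* ℂ) := by
      intro a b hab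
      refine Subtype.ext (Subtype.ext (Subtype.ext (funext fun g => ?_)))
      rw [hfv _ a.1.2, hfv _ b.1.2]
      have h1 := DFunLike.congr_fun hab g
      simp only [MonoidHom.coe_comp, Function.comp_apply, Units.coeHom_apply, v, MonoidHom.mul_apply,
        Units.val_mul] at h1
      exact mul_right_cancel₀ (Units.ne_zero _) h1
    have hli : LinearIndependent ℂ (fun c : {c : {c // c ∈ R} // Φ c = Φ c₀} =>
        fun x : G ⧸ T => (v c x.out : ℂ)) := by
      let π : ((G ⧸ T) → ℂ) →ₗ[ℂ] (G → ℂ) := LinearMap.funLeft ℂ ℂ QuotientGroup.mk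
      refine LinearIndependent.of_comp π ?_
      have he : (π ∘ fun c : {c : {c // c ∈ R} // Φ c = Φ c₀} => fun x : G ⧸ T => (v c x.out : ℂ)) =
          (fun h : G →* ℂ => (h : G → ℂ)) ∘ fun c => (Units.coeHom ℂ).comp (v c) := by
        funext c g
        obtain ⟨t, ht⟩ := QuotientGroup.mk_out_eq_mul T g
        show ((v c (QuotientGroup.mk g : G ⧸ T).out : ℂˣ) : ℂ) = (v c g : ℂ)
        rw [ht, map_mul, hvT c t t.2, mul_one]
      rw [he]
      exact (linearIndependent_monoidHom G ℂ).comp _ hvinj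
    have h1 := hli.fintype_card_le_finrank
    rw [Fintype.card_subtype, Module.finrank_fintype_fun_eq_card] at h1
    rw [← Nat.card_eq_fintype_card] at h1
    exact h1
  -- counting
  have hcount : R.card ≤ T.index * (Finset.univ.image Φ).card := by
    rw [← Fintype.card_coe, ← Finset.card_univ]
    refine Finset.card_le_mul_card_image _ _ fun b hb => ?_
    obtain ⟨c₀, -, rfl⟩ := Finset.mem_image.1 hb
    exact hfib c₀
  have h4 : R.card + 4 * E.card ≤ 3 * ∑ c ∈ E, deg ((c : Cfsg.IrrCharacter G) : G → ℂ) := by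
    have h5 : ∀ c ∈ E, 2 ≤ deg (c : G → ℂ) := fun c hc => by
      obtain ⟨hcS, hc1⟩ := Finset.mem_filter.1 hc
      have := ((hS c).1 hcS).1.resolve_left hc1
      have := deg_irr_pos c
      omega
    have himg : Finset.univ.image Φ ⊆ E := fun b hb => by
      obtain ⟨c, -, rfl⟩ := Finset.mem_image.1 hb; exact hΦE c
    have h6 : ∑ c ∈ Finset.univ.image Φ, (3 * deg ((c : Cfsg.IrrCharacter G) : G → ℂ) - 4) ≤ ∑ c ∈ E, (3 * deg ((c : Cfsg.IrrCharacter G) : G → ℂ) - 4) :=
      Finset.sum_le_sum_of_subset himg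
    have h7 : T.index * (Finset.univ.image Φ).card ≤ ∑ c ∈ Finset.univ.image Φ, (3 * deg ((c : Cfsg.IrrCharacter G) : G → ℂ) - 4) := by
      rw [mul_comm, ← smul_eq_mul]
      refine Finset.card_nsmul_le_sum _ _ _ fun b hb => ?_
      obtain ⟨c, -, rfl⟩ := Finset.mem_image.1 hb
      have := h5 _ (hΦE c)
      rw [hΦdeg] at this ⊢
      omega
    have h8 : ∑ c ∈ E, (3 * deg ((c : Cfsg.IrrCharacter G) : G → ℂ) - 4) + 4 * E.card = 3 * ∑ c ∈ E, deg ((c : Cfsg.IrrCharacter G) : G → ℂ) := by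
      rw [Finset.mul_sum, mul_comm 4, ← smul_eq_mul, ← Finset.sum_const, ← Finset.sum_add_distrib]
      exact Finset.sum_congr rfl fun c hc => by have := h5 c hc; omega
    omega
  have hc1 : R.card + E.card = S.card := Finset.card_filter_add_card_filter_not _
  have hc2 : ∑ c ∈ R, deg ((c : Cfsg.IrrCharacter G) : G → ℂ) + ∑ c ∈ E, deg ((c : Cfsg.IrrCharacter G) : G → ℂ) = ∑ c ∈ S, deg ((c : Cfsg.IrrCharacter G) : G → ℂ) :=
    Finset.sum_filter_add_sum_filter_not _ _ _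
  have hc3 : ∑ c ∈ R, deg ((c : Cfsg.IrrCharacter G) : G → ℂ) = R.card := by
    rw [Finset.card_eq_sum_ones]
    exact Finset.sum_congr rfl fun c hc => (Finset.mem_filter.1 hc).2
  omega

end Split

end Cfsg.Lib.Chars.OrthMean
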