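import Mathlib
import Cfsg.Agent.Chars.PrimeDegrees

/-!
# Prime character degrees: at most three degrees
-/

set_option autoImplicit false
set_option linter.unusedSectionVars false

namespace Cfsg.Lib.Chars

open scoped ComplexConjugate commutatorElement

universe u

variable {G : Type u} [Group G] [Fintype G]

/-- A proper quotient of prime power order or a Frobenius quotient. -/
theorem quotient_data (hsolv : Group.IsSolvable G) (hGne : commutator G ≠ ⊥) :
    ∃ r : ℕ, r.Prime ∧
      ((∃ K : Subgroup G, K.Normal ∧ (∃ k, K.index = r ^ k) ∧ ∃ χ₀ : G → ℂ, Cfsg.IsIrrCharacter G χ₀ ∧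
          deg χ₀ ≠ 1 ∧ ∀ x ∈ K, χ₀ x = χ₀ 1) ∨
        ∃ N : Subgroup G, N.Normal ∧ N.index ≠ 1 ∧
          ∀ [Fintype N] (ψ : N → ℂ), Cfsg.IsIrrCharacter N ψ → ¬ r ∣ deg ψ →
            ∃ χ : G → ℂ, Cfsg.IsIrrCharacter G χ ∧ deg χ = N.index * deg ψ) := by
  classical
  obtain ⟨K, -, hK⟩ := Finite.exists_le_maximal (p := fun K : Subgroup G => K.Normal ∧ ¬ commutator G ≤ K)
    (a := ⊥) ⟨inferInstance, fun h => hGne (le_bot_iff.1 h)⟩
  obtain ⟨hKn, hKG⟩ := hK.prop
  haveI := hKn
  letI : Fintype (G ⧸ K) := Fintype.ofFinite _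
  set π := QuotientGroup.mk' K with hπ
  have hπs : Function.Surjective π := QuotientGroup.mk'_surjective K
  have hmapG : (commutator G).map π = commutator (G ⧸ K) := by
    rw [← derivedSeries_one, ← derivedSeries_one, map_derivedSeries_eq hπs]
  have hQne : commutator (G ⧸ K) ≠ ⊥ := fun h => hKG (by
    rw [← derivedSeries_one]
    exact derived_quotient_le K (by rw [derivedSeries_one]; exact h))
  have huniq : ∀ X : Subgroup (G ⧸ K), X.Normal → X ≠ ⊥ → commutator (G ⧸ K) ≤ X := by
    intro X hX hXne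
    haveI := hX
    rw [← hmapG, Subgroup.map_le_iff_le_comap]
    by_contra h
    have hle : K ≤ X.comap π := fun k hk => by
      rw [Subgroup.mem_comap, hπ, QuotientGroup.mk'_apply, (QuotientGroup.eq_one_iff k).2 hk]
      exact X.one_mem
    have h1 : X.comap π ≤ K := hK.le_of_ge ⟨inferInstance, h⟩ hle
    refine hXne (le_bot_iff.1 fun x hx => ?_)
    obtain ⟨y, rfl⟩ := hπs x
    rw [Subgroup.mem_bot, hπ, QuotientGroup.mk'_apply, QuotientGroup.eq_one_iff]
    exact h1 hx
  haveI := hsolv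
  haveI : Group.IsSolvable (G ⧸ K) := inferInstance
  have habq : ∀ x ∈ commutator (G ⧸ K), ∀ y ∈ commutator (G ⧸ K), x * y = y * x := by
    intro x hx y hy
    rw [← commutatorElement_eq_one_iff_mul_comm, ← Subgroup.mem_bot]
    by_contra hne
    have hY : ⁅commutator (G ⧸ K), commutator (G ⧸ K)⁆ ≠ ⊥ := fun h =>
      hne (h ▸ Subgroup.commutator_mem_commutator hx hy)
    have hperf := le_antisymm (Subgroup.commutator_le_self (commutator (G ⧸ K))) (huniq _ inferInstance hY)
    obtain ⟨n, hn⟩ := (inferInstance : Group.IsSolvable (G ⧸ K)).solvable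
    have hst : ∀ i, commutator (G ⧸ K) ≤ derivedSeries (G ⧸ K) (i + 1) := by
      intro i
      induction i with
      | zero => rw [derivedSeries_one]
      | succ i ih =>
        rw [derivedSeries_succ]
        exact hperf.ge.trans (Subgroup.commutator_mono ih ih)
    exact hQne (le_bot_iff.1 ((hst n).trans (hn ▸ derivedSeries_antitone _ (Nat.le_succ n))))
  obtain ⟨r, hr, hexp, hcase⟩ := minimal_derived hQne habq huniq
  haveI := Fact.mk hr
  refine ⟨r, hr, ?_⟩
  rcases hcase with hp | ⟨hfpf, -, hlt, hrn⟩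
  · refine Or.inl ⟨K, hKn, IsPGroup.iff_card.1 hp, ?_⟩
    obtain ⟨χ₀', hχ₀', hd0⟩ : ∃ χ : G ⧸ K → ℂ, Cfsg.IsIrrCharacter (G ⧸ K) χ ∧ deg χ ≠ 1 := by
      by_contra h
      push Not at h
      exact hQne (by rw [← derivedSeries_one]; exact derived_one h)
    obtain ⟨hi0, hd0', hK0⟩ := irr_quotient K hχ₀'
    exact ⟨_, hi0, hd0' ▸ hd0, hK0⟩
  · refine Or.inr ?_
    set N := (commutator (G ⧸ K)).comap π with hN
    haveI : N.Normal := inferInstance
    letI : Fintype N := Fintype.ofFinite N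
    have hKN : K ≤ N := fun k hk => by
      rw [hN, Subgroup.mem_comap, hπ, QuotientGroup.mk'_apply, (QuotientGroup.eq_one_iff k).2 hk]
      exact Subgroup.one_mem _
    have hmk : ∀ x : G, π x = 1 ↔ x ∈ K := fun x => QuotientGroup.eq_one_iff x
    have hidxN : N.index = (commutator (G ⧸ K)).index := Subgroup.index_comap_of_surjective _ hπs
    have hrel : K.relIndex N = Nat.card (commutator (G ⧸ K)) := by
      have h := Subgroup.relIndex_comap (H := (⊥ : Subgroup (G ⧸ K))) π N
      rw [MonoidHom.comap_bot, hπ, QuotientGroup.ker_mk', Subgroup.relIndex_bot_left] at h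
      rw [h, hN, Subgroup.map_comap_eq_self_of_surjective hπs]
    have htwist : ∀ ψ : N → ℂ, Cfsg.IsIrrCharacter N ψ → ¬ r ∣ deg ψ →
        ∃ χ : G → ℂ, Cfsg.IsIrrCharacter G χ ∧ deg χ = N.index * deg ψ := by
      intro ψ hψ hd
      refine exists_twist N K r hr hKN (fun n hn => ?_) (fun n hn n' hn' => ?_) (fun g hg n hn => ?_)
        (hidxN ▸ hrel ▸ hlt.le) hψ hd
      · rw [← hmk, map_pow]; exact hexp _ hn
      · rw [← hmk, map_commutatorElement, commutatorElement_eq_one_iff_mul_comm]; exact habq _ hn _ hn'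
      · obtain ⟨x, hx, hxn⟩ := hfpf (π g) hg (π n) hn
        obtain ⟨y, rfl⟩ := hπs x
        refine ⟨y, hx, ?_⟩
        rw [← hmk, map_mul, map_inv, map_commutatorElement, hxn, inv_mul_cancel]
    -- the index is one of the degrees
    have hone : deg (fun _ : N => (1 : ℂ)) = 1 := Nat.cast_injective (R := ℂ) (by
      rw [← IsCharacter.apply_one_eq_deg isCharacter_one, Nat.cast_one])
    obtain ⟨χf, hχf, hdf⟩ := htwist _ isIrrCharacter_one (by rw [hone]; exact hr.not_dvd_one)
    rw [hone, mul_one] at hdf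
    have hf1 : N.index ≠ 1 := by
      rw [hidxN, Ne, Subgroup.index_eq_one]
      intro h
      haveI : IsMulCommutative (G ⧸ K) := ⟨⟨fun x y => habq x (h ▸ Subgroup.mem_top x) y (h ▸ Subgroup.mem_top y)⟩⟩
      exact hQne (by
        rw [commutator_def, Subgroup.commutator_eq_bot_iff_le_centralizer]
        intro x _
        rw [Subgroup.mem_centralizer_iff]
        exact fun y _ => IsMulCommutative.is_comm.comm y x)
    refine ⟨N, inferInstance, hf1, ?_⟩
    intro _ ψ hψ hd
    exact htwist ψ (by convert hψ) hd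

/-- **At most three degrees for prime degrees.** -/
theorem prime_degrees_bound (hsolv : Group.IsSolvable G)
    (h : ∀ χ : G → ℂ, Cfsg.IsIrrCharacter G χ → deg χ = 1 ∨ (deg χ).Prime) :
    ∃ a b : ℕ, ∀ χ : G → ℂ, Cfsg.IsIrrCharacter G χ → deg χ = 1 ∨ deg χ = a ∨ deg χ = b := by
  classical
  by_cases hG : commutator G = ⊥
  · refine ⟨1, 1, fun χ hχ => Or.inl ?_⟩
    apply Nat.cast_injective (R := ℂ)
    rw [← IsCharacter.apply_one_eq_deg (isCharacter_of_irr hχ), Nat.cast_one]
    exact irr_deg_one_of_comm (fun x y => by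
      rw [← commutatorElement_eq_one_iff_mul_comm, ← Subgroup.mem_bot, ← hG]
      exact Subgroup.commutator_mem_commutator (Subgroup.mem_top _) (Subgroup.mem_top _)) hχ
  obtain ⟨r, hr, ⟨K, hKn, ⟨k, hk⟩, χ₀, hi0, hd0, hK0⟩ | ⟨N, hN, hN1, htw⟩⟩ := quotient_data hsolv hG
  · haveI := hKn
    letI : Fintype K := Fintype.ofFinite K
    refine ⟨r, r, fun χ hχ => ?_⟩
    have hr0 : r ∣ deg χ₀ := by
      obtain ⟨i, -, hi⟩ := (Nat.dvd_prime_pow hr).1 (hk ▸ deg_dvd_index_of_le_ker hi0 K hK0)
      rcases Nat.eq_zero_or_pos i with h0 | h0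
      · exact absurd (by rw [hi, h0, pow_zero]) hd0
      · exact hi ▸ dvd_pow_self r h0.ne'
    rcases h χ hχ with hd | hd
    · exact Or.inl hd
    refine Or.inr (Or.inl (((Nat.prime_dvd_prime_iff_eq hr hd).1 ?_).symm))
    by_contra hrd
    obtain ⟨θ, hθ, hθc⟩ := exists_constituent K (isCharacter_of_irr hχ) (IsIrrCharacter.apply_one_ne_zero hχ)
    obtain ⟨m, hm, hmd⟩ := deg_over K hχ hθ hθc
    have hm1 : m = 1 := by
      obtain ⟨i, -, rfl⟩ := (Nat.dvd_prime_pow hr).1 (hk ▸ hmd)
      rcases Nat.eq_zero_or_pos i with h0 | h0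
      · rw [h0, pow_zero]
      · exact absurd (hm ▸ dvd_mul_of_dvd_left (dvd_pow_self r h0.ne') _) hrd
    rw [hm1, one_mul] at hm
    have hres : (fun n : K => χ n) = θ := eq_of_inner_ne_zero_of_deg (IsCharacter.restrict (isCharacter_of_irr hχ) K)
      hθ hθc (by
        rw [IsCharacter.apply_one_eq_deg (isCharacter_of_irr hθ), ← hm, ← IsCharacter.apply_one_eq_deg (isCharacter_of_irr hχ)]
        simp)
    have hg := gallagher K (φ := fun _ : K => (1 : ℂ)) isIrrCharacter_one (fun g => rfl) hχ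
      (by
        have e : ((fun _ : K => (1 : ℂ)) * fun n : K => χ n) = θ := by rw [hres]; funext n; simp
        rw [e]; exact hθ)
    have hmem := hg.mapsTo (x := χ₀) ⟨hi0, by
      rw [frobenius_reciprocity K _ (isClassFunction_isChar (isCharacter_of_irr hi0)),
        show (fun x : K => χ₀ x) = (deg χ₀ : ℂ) • fun _ : K => (1 : ℂ) from funext fun x => by
          rw [Pi.smul_apply, smul_eq_mul, mul_one, ← IsCharacter.apply_one_eq_deg (isCharacter_of_irr hi0)]
          exact hK0 x x.2,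
        classInner_smul_right, classInner_self_irr isIrrCharacter_one, mul_one, Complex.conj_natCast]
      exact_mod_cast (deg_irr_pos ⟨χ₀, hi0⟩).ne'⟩
    have hprod : deg (χ₀ * χ) = deg χ₀ * deg χ := deg_mul (isCharacter_of_irr hi0) (isCharacter_of_irr hχ)
    have h0 : 1 < deg χ₀ := by
      have h1 := deg_irr_pos (⟨χ₀, hi0⟩ : Cfsg.IrrCharacter G)
      simp only at h1
      omega
    rcases h _ hmem.1 with e | e
    · rw [hprod] at e
      exact h0.ne' (Nat.eq_one_of_mul_eq_one_right e)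
    · rw [hprod] at e
      exact Nat.not_prime_mul h0.ne' hd.ne_one e
  · haveI := hN
    letI : Fintype N := Fintype.ofFinite N
    refine ⟨N.index, r, fun χ hχ => ?_⟩
    rcases h χ hχ with hd | hd
    · exact Or.inl hd
    by_cases hrχ : r ∣ deg χ
    · exact Or.inr (Or.inr ((Nat.prime_dvd_prime_iff_eq hr hd).1 hrχ).symm)
    obtain ⟨θ, hθ, hθc⟩ := exists_constituent N (isCharacter_of_irr hχ) (IsIrrCharacter.apply_one_ne_zero hχ)
    obtain ⟨m, hm, hmd⟩ := deg_over N hχ hθ hθc
    obtain ⟨χ', hχ', hd'⟩ := htw θ hθ fun h => hrχ (hm ▸ dvd_mul_of_dvd_right h m)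
    rcases h χ' hχ' with e | e
    · exact absurd (Nat.eq_one_of_mul_eq_one_right (hd'.symm.trans e)) hN1
    · rw [hd', Nat.prime_mul_iff] at e
      rcases e with ⟨hNp, hθ1⟩ | ⟨-, hN1'⟩
      · rw [hθ1, mul_one] at hm
        rcases (Nat.dvd_prime hNp).1 hmd with e1 | e1
        · exact Or.inl (hm.trans e1)
        · exact Or.inr (Or.inl (hm.trans e1))
      · exact absurd hN1' hN1

end Cfsg.Lib.Chars
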