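import Mathlib
import Cfsg.Agent.Chars.DegreeTools
import Cfsg.Agent.Chars.ExtCriteria
import Cfsg.Agent.Chars.AbelianInertia
import Cfsg.Agent.Chars.ScalarVanish
import Cfsg.Agent.Chars.IsaacsItoPrimePower
import Cfsg.Agent.Coprime.SolvableBasics

/-!
# Primitive characters of metanilpotent groups with two primes

The degree of a primitive character of a metanilpotent group whose order involves only two primes
divides some class size.
-/

set_option autoImplicit false
set_option linter.unusedSectionVars false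

namespace Cfsg.Lib.Chars

open scoped ComplexConjugate commutatorElement

universe u

variable {G : Type u} [Group G] [Fintype G]

/-- Not induced from a proper subgroup. -/
def PrimChar (χ : G → ℂ) : Prop :=
  ¬ ∃ (H : Subgroup G), H ≠ ⊤ ∧ ∃ θ : ↥H → ℂ, Cfsg.IsCharacter ↥H θ ∧ Cfsg.indFun H θ = χ

/-- Orders along a homomorphism. -/
theorem card_eq_map_mul_inf {A B : Type*} [Group A] [Group B] [Finite A] (f : A →* B) (H : Subgroup A) :
    Nat.card H = Nat.card (H.map f) * Nat.card (H ⊓ f.ker : Subgroup A) := by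
  have h1 : Nat.card (H.map f) = f.ker.relIndex H := by
    rw [← Subgroup.relIndex_bot_left, ← Subgroup.map_bot f, Subgroup.relIndex_map_map, bot_sup_eq,
      Subgroup.relIndex_sup_right]
  rw [h1, ← Subgroup.relIndex_bot_left, ← Subgroup.relIndex_bot_left, ← Subgroup.inf_relIndex_right f.ker H,
    inf_comm, mul_comm, Subgroup.relIndex_mul_relIndex _ _ _ bot_le inf_le_left]

/-- A primitive character is invariant on normal subgroups. -/
theorem PrimChar.invariant {χ : G → ℂ} (hp : PrimChar χ) (hχ : Cfsg.IsIrrCharacter G χ) (N : Subgroup G) [N.Normal]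
    [Fintype N] {θ : N → ℂ} (hθ : Cfsg.IsIrrCharacter N θ) (hc : Cfsg.classInner (fun x : N => χ x) θ ≠ 0)
    (g : G) : conjN N g θ = θ := by
  set T := inertia N θ with hT
  by_contra hne
  have hTne : T ≠ ⊤ := fun h => hne (mem_inertia.1 (h ▸ Subgroup.mem_top g : g ∈ T))
  haveI : Fintype T := Fintype.ofFinite T
  have hNT := le_inertia (isClassFunction_isChar (isCharacter_of_irr hθ))
  obtain ⟨ψ, hψ, h1, h2⟩ := exists_constituent_over T hNT (isCharacter_of_irr hχ) hc
  obtain ⟨hind, -, -⟩ := clifford_correspondence hθ T rfl hNT hχ hψ h1 h2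
  exact hp ⟨T, hTne, ψ, isCharacter_of_irr hψ, hind⟩

/-- Abelian normal subgroups are central. -/
theorem PrimChar.le_center {χ : G → ℂ} (hp : PrimChar χ) (hχ : Cfsg.IsIrrCharacter G χ)
    (hf : ∀ g, χ g = χ 1 → g = 1) (A : Subgroup G) [A.Normal] (hab : ∀ x ∈ A, ∀ y ∈ A, x * y = y * x) :
    A ≤ Subgroup.center G := by
  classical
  letI : Fintype A := Fintype.ofFinite A
  have hχc := isCharacter_of_irr hχ
  obtain ⟨θ, hθ, hθc⟩ := exists_constituent A hχc (IsIrrCharacter.apply_one_ne_zero hχ)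
  have hinv := hp.invariant hχ A hθ hθc
  obtain ⟨e, -, he⟩ := restrict_eq_mult_of_invariant A hχ hθ hinv hθc
  obtain ⟨f, hf'⟩ := exists_hom_of_deg_one (isCharacter_of_irr hθ)
    (irr_deg_one_of_comm (fun a b => Subtype.ext (hab a a.2 b b.2)) hθ)
  intro z hz
  rw [Subgroup.mem_center_iff]
  intro g
  have hconj : g * z * g⁻¹ ∈ A := Subgroup.Normal.conj_mem inferInstance z hz g
  set z' : A := ⟨g * z * g⁻¹, hconj⟩ * ⟨z, hz⟩⁻¹ with hz'
  have hfz : f z' = 1 := by
    rw [hz', map_mul, map_inv, mul_inv_eq_one]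
    apply Units.ext
    have h := congrFun (hinv g) ⟨z, hz⟩
    rw [hf'] at h
    exact h
  have h1 : (z' : G) = 1 := hf _ (by
    have e1 := congrFun he z'
    have e2 := congrFun he 1
    simp only [OneMemClass.coe_one] at e1 e2
    rw [e1, e2, Pi.smul_apply, Pi.smul_apply, hf']
    simp [hfz])
  simp only [hz', Subgroup.coe_mul, Subgroup.coe_inv] at h1
  rw [mul_inv_eq_one] at h1
  exact mul_inv_eq_iff_eq_mul.1 h1

/-- A nilpotent normal subgroup has central commutators. -/
theorem PrimChar.commutator_central {χ : G → ℂ} (hp : PrimChar χ) (hχ : Cfsg.IsIrrCharacter G χ)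
    (hf : ∀ g, χ g = χ 1 → g = 1) (F : Subgroup G) [F.Normal] [Group.IsNilpotent F] :
    ∀ x ∈ F, ∀ y ∈ F, ⁅x, y⁆ ∈ Subgroup.center G := by
  classical
  set Z1 := F ⊓ Subgroup.center G with hZ1
  set Z := Z1.subgroupOf F with hZ
  haveI : Z1.Normal := inferInstance
  haveI : Z.Normal := inferInstance
  set π := QuotientGroup.mk' Z
  haveI : Group.IsNilpotent (F ⧸ Z) := inferInstance
  set D := (commutator F).map π with hD
  haveI : D.Normal := Subgroup.Normal.map inferInstance π (QuotientGroup.mk'_surjective Z)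
  by_contra hno
  push Not at hno
  obtain ⟨x, hx, y, hy, hxy⟩ := hno
  have hDne : D ≠ ⊥ := by
    intro h
    have h1 : π ⁅(⟨x, hx⟩ : F), ⟨y, hy⟩⁆ ∈ D := Subgroup.mem_map_of_mem π
      (Subgroup.commutator_mem_commutator (Subgroup.mem_top _) (Subgroup.mem_top _))
    rw [h, Subgroup.mem_bot, QuotientGroup.mk'_apply, QuotientGroup.eq_one_iff, Subgroup.mem_subgroupOf] at h1
    exact hxy h1.2
  obtain ⟨c, hc, hc1⟩ := (Subgroup.bot_or_exists_ne_one (D ⊓ Subgroup.center (F ⧸ Z))).resolve_left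
    (Cfsg.Lib.Coprime.inf_center_ne_bot D hDne)
  obtain ⟨d, hd, hdc⟩ := hc.1
  -- the second centre
  let Z2 : Subgroup G :=
    { carrier := {a | a ∈ F ∧ ∀ b ∈ F, ⁅a, b⁆ ∈ Z1}
      one_mem' := ⟨F.one_mem, fun b _ => by simp⟩
      mul_mem' := fun {a a'} ha ha' => ⟨F.mul_mem ha.1 ha'.1, fun b hb => by
        have h1 : ⁅a * a', b⁆ = a * ⁅a', b⁆ * a⁻¹ * ⁅a, b⁆ := by simp only [commutatorElement_def]; group
        rw [h1]
        exact Z1.mul_mem (Subgroup.Normal.conj_mem inferInstance _ (ha'.2 b hb) a) (ha.2 b hb)⟩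
      inv_mem' := fun {a} ha => ⟨F.inv_mem ha.1, fun b hb => by
        have h1 : ⁅a⁻¹, b⁆ = a⁻¹ * ⁅a, b⁆⁻¹ * a⁻¹⁻¹ := by simp only [commutatorElement_def]; group
        rw [h1]
        exact Subgroup.Normal.conj_mem inferInstance _ (Z1.inv_mem (ha.2 b hb)) a⁻¹⟩ }
  haveI hZ2n : Z2.Normal := ⟨fun a ha g => ⟨Subgroup.Normal.conj_mem inferInstance a ha.1 g, fun b hb => by
    have h1 : ⁅g * a * g⁻¹, b⁆ = g * ⁅a, g⁻¹ * b * g⁆ * g⁻¹ := by simp only [commutatorElement_def]; group
    rw [h1]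
    refine Subgroup.Normal.conj_mem inferInstance _ (ha.2 _ ?_) g
    simpa using Subgroup.Normal.conj_mem (inferInstance : F.Normal) b hb g⁻¹⟩⟩
  set DG := (commutator F).map F.subtype with hDG
  haveI : DG.Normal := ConjAct.normal_of_characteristic_of_normal
  -- elements of the second centre commute with commutators
  have hcomm : ∀ a ∈ Z2, ∀ e ∈ DG, a * e = e * a := by
    intro a ha
    rintro _ ⟨e, he, rfl⟩
    let φ : F →* Subgroup.center G :=
      { toFun := fun b => ⟨⁅a, (b : G)⁆, (ha.2 b b.2).2⟩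
        map_one' := Subtype.ext (by simp)
        map_mul' := fun b b' => Subtype.ext (by
          show ⁅a, (b : G) * b'⁆ = ⁅a, (b : G)⁆ * ⁅a, (b' : G)⁆
          have h1 : ⁅a, (b : G) * b'⁆ = ⁅a, (b : G)⁆ * ((b : G) * ⁅a, (b' : G)⁆ * (b : G)⁻¹) := by
            simp only [commutatorElement_def]; group
          rw [h1, Subgroup.mem_center_iff.1 ((ha.2 b' b'.2).2) (b : G), mul_inv_cancel_right]) }
    letI : CommGroup (Subgroup.center G) :=
      { (inferInstance : Group (Subgroup.center G)) with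
        mul_comm := fun u v => Subtype.ext (Subgroup.mem_center_iff.1 v.2 u) }
    have h1 : φ e = 1 := MonoidHom.mem_ker.1 (Abelianization.commutator_subset_ker φ he)
    exact commutatorElement_eq_one_iff_mul_comm.1 (congrArg Subtype.val h1)
  have habA : ∀ a ∈ DG ⊓ Z2, ∀ b ∈ DG ⊓ Z2, a * b = b * a := fun a ha b hb => hcomm a ha.2 b hb.1
  have hA := hp.le_center hχ hf (DG ⊓ Z2) habA
  have hd2 : (d : G) ∈ Z2 := by
    refine ⟨d.2, fun b hb => ?_⟩
    have h1 : π ⁅d, (⟨b, hb⟩ : F)⁆ = 1 := by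
      rw [map_commutatorElement, hdc, commutatorElement_eq_one_iff_mul_comm]
      exact (Subgroup.mem_center_iff.1 hc.2 _).symm
    rw [QuotientGroup.mk'_apply, QuotientGroup.eq_one_iff, Subgroup.mem_subgroupOf] at h1
    exact h1
  have hdZ : (d : G) ∈ Subgroup.center G := hA ⟨Subgroup.mem_map_of_mem _ hd, hd2⟩
  exact hc1 (hdc ▸ (QuotientGroup.eq_one_iff d).2 (Subgroup.mem_subgroupOf.2 ⟨d.2, hdZ⟩))

/-- With nilpotent quotient a primitive character restricts irreducibly. -/
theorem PrimChar.restrict_irr {χ : G → ℂ} (hp : PrimChar χ) (hχ : Cfsg.IsIrrCharacter G χ) (F : Subgroup G)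
    [F.Normal] [Fintype F] (hnil : Group.IsNilpotent (G ⧸ F)) : Cfsg.IsIrrCharacter F (fun x : F => χ x) := by
  classical
  have hχc := isCharacter_of_irr hχ
  let S : Subgroup G → Prop := fun N => N.Normal ∧ ∃ h : F ≤ N, ∀ [Fintype N],
    ∃ θ : N → ℂ, Cfsg.IsIrrCharacter N θ ∧ Cfsg.classInner (fun x : N => χ x) θ ≠ 0 ∧
      Cfsg.IsIrrCharacter F (fun x : F => θ ⟨x, h x.2⟩)
  have hSF : S F := by
    refine ⟨inferInstance, le_rfl, ?_⟩
    intro _
    obtain ⟨θ, hθ, hc⟩ := exists_constituent F hχc (IsIrrCharacter.apply_one_ne_zero hχ)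
    exact ⟨θ, hθ, hc, hθ⟩
  obtain ⟨N, -, hmax⟩ := Finite.exists_le_maximal (p := S) (a := F) hSF
  obtain ⟨hNn, hFN, hN⟩ := hmax.prop
  haveI := hNn
  letI : Fintype N := Fintype.ofFinite N
  obtain ⟨θ, hθ, hc, hθF⟩ := hN
  by_cases htop : N = ⊤
  · have hirr : Cfsg.IsIrrCharacter N (fun x : N => χ x) := by
      subst htop
      exact IsIrrCharacter.comp_surjective hχ (⊤ : Subgroup G).subtype fun g => ⟨⟨g, Subgroup.mem_top g⟩, rfl⟩
    rw [classInner_irrChar hirr hθ] at hc
    have e : (fun x : N => χ x) = θ := by by_contra hne; exact hc (if_neg hne)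
    subst e
    exact hθF
  exfalso
  haveI : Nontrivial (G ⧸ N) := QuotientGroup.nontrivial_iff.2 htop
  haveI : Group.IsNilpotent (G ⧸ N) := by
    haveI := hnil
    exact Group.nilpotent_of_surjective (QuotientGroup.map F N (MonoidHom.id G) hFN) (fun c => by
      obtain ⟨g, rfl⟩ := QuotientGroup.mk_surjective c
      exact ⟨QuotientGroup.mk g, rfl⟩)
  have hZne := Cfsg.Lib.Coprime.inf_center_ne_bot (⊤ : Subgroup (G ⧸ N)) top_ne_bot
  rw [top_inf_eq] at hZne
  obtain ⟨c, hc1, hc0⟩ := (Subgroup.bot_or_exists_ne_one _).resolve_left hZne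
  set A := (Subgroup.zpowers c).comap (QuotientGroup.mk' N) with hA
  have hNA : N ≤ A := fun x hx => by
    rw [hA, Subgroup.mem_comap, QuotientGroup.mk'_apply, (QuotientGroup.eq_one_iff x).2 hx]
    exact one_mem _
  haveI hzn : (Subgroup.zpowers c).Normal := ⟨fun x hx g => by
    obtain ⟨i, rfl⟩ := Subgroup.mem_zpowers_iff.1 hx
    rw [Subgroup.mem_center_iff.1 ((Subgroup.center _).zpow_mem hc1 i) g, mul_inv_cancel_right]
    exact hx⟩
  haveI hAn : A.Normal := inferInstance
  letI : Fintype A := Fintype.ofFinite A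
  set N' := N.subgroupOf A with hN'
  letI : Fintype N' := Fintype.ofFinite _
  let eN := Subgroup.subgroupOfEquivOfLe hNA
  have hθ' : Cfsg.IsIrrCharacter N' (fun x => θ (eN x)) := IsIrrCharacter.comp_mulEquiv hθ eN
  obtain ⟨n, ρ, hρ, hρθ⟩ := hθ'
  haveI := hρ
  have hinv : ∀ a : A, conjN N' a ρ.character = ρ.character := by
    intro a
    rw [hρθ]
    funext x
    exact congrFun (hp.invariant hχ N hθ hc (a : G)) (eN x)
  let f : A ⧸ N' →* Subgroup.zpowers c :=
    QuotientGroup.lift N' (((QuotientGroup.mk' N).comp A.subtype).codRestrict _ fun a => a.2) (fun x hx =>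
      Subtype.ext ((QuotientGroup.eq_one_iff (x : G)).2 (Subgroup.mem_subgroupOf.1 hx)))
  have hfi : Function.Injective f := (injective_iff_map_eq_one f).2 fun a ha => by
    obtain ⟨a, rfl⟩ := QuotientGroup.mk_surjective a
    exact (QuotientGroup.eq_one_iff a).2 (Subgroup.mem_subgroupOf.2
      ((QuotientGroup.eq_one_iff (a : G)).1 (congrArg Subtype.val ha)))
  have hcyc : IsCyclic (A ⧸ N') := isCyclic_of_injective f hfi
  obtain ⟨R, hR⟩ := exists_extension_of_hasSplit N' ρ hinv (hasSplit_one_of_cyclic N' ρ hcyc)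
  obtain ⟨hη, hres⟩ := exists_irr_ext_of_rep N' ρ R hR
  obtain ⟨η', hη', hc', hc''⟩ := exists_constituent_over A hNA hχc hc
  obtain ⟨e', he'0, he'⟩ := restrict_of_le_inertia N hθ A hNA
    (fun g _ => mem_inertia.2 (hp.invariant hχ N hθ hc g)) hη' hc''
  have hab : ∀ a b : A, a * b * a⁻¹ * b⁻¹ ∈ N' := fun a b => by
    rw [← QuotientGroup.eq_one_iff]
    apply hfi
    rw [map_one, QuotientGroup.mk_mul, QuotientGroup.mk_mul, QuotientGroup.mk_mul, QuotientGroup.mk_inv,
      QuotientGroup.mk_inv, map_mul, map_mul, map_mul, map_inv, map_inv]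
    letI : CommGroup (Subgroup.zpowers c) := IsCyclic.commGroup
    rw [mul_comm (f a), mul_inv_cancel_right, mul_inv_cancel]
  have hres' : (fun x : N' => R.character x) = ((1 : ℕ) : ℂ) • ρ.character := by
    rw [Nat.cast_one, one_smul]; exact funext hres
  have he'' : (fun x : N' => η' x) = (e' : ℂ) • ρ.character := by
    rw [hρθ]; exact funext fun x => congrFun he' (eN x)
  have hdeg := deg_eq_of_abelian_quotient N' hab ⟨n, ρ, hρ, rfl⟩ hη hη' one_ne_zero he'0.ne' hres' he''
  have he1 : e' = 1 := by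
    have h1 := congrFun he'' 1
    have h2 := congrFun hres' 1
    simp only [OneMemClass.coe_one, Pi.smul_apply, smul_eq_mul, Nat.cast_one, one_mul] at h1 h2
    rw [h1, h2] at hdeg
    have h3 : ρ.character 1 ≠ 0 := IsIrrCharacter.apply_one_ne_zero ⟨n, ρ, hρ, rfl⟩
    exact_mod_cast mul_right_cancel₀ h3 (hdeg.trans (one_mul _).symm)
  have hSA : S A := by
    refine ⟨hAn, hFN.trans hNA, ?_⟩
    intro inst
    obtain rfl : inst = Fintype.ofFinite A := Subsingleton.elim _ _
    refine ⟨η', hη', hc', ?_⟩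
    have e : (fun x : F => η' ⟨x, (hFN.trans hNA) x.2⟩) = fun x : F => θ ⟨x, hFN x.2⟩ := funext fun x => by
      have h1 := congrFun he' ⟨x, hFN x.2⟩
      rw [he1, Nat.cast_one, one_smul] at h1
      exact h1
    rw [e]
    exact hθF
  have hAN := hmax.le_of_ge hSA hNA
  obtain ⟨g, hg⟩ := QuotientGroup.mk_surjective c
  have hgA : g ∈ A := by
    rw [hA, Subgroup.mem_comap, QuotientGroup.mk'_apply, hg]
    exact Subgroup.mem_zpowers c
  exact hc0 (hg ▸ (QuotientGroup.eq_one_iff g).2 (hAN hgA))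

/-- A coprime action without fixed points: some element has small fixed point group. -/
theorem exists_small_fixed {q : ℕ} [hq : Fact q.Prime] (Q : Subgroup G) (hQ : IsPGroup q Q) :
    ∀ (n : ℕ) (U : Subgroup G), Nat.card U = n → (∀ x ∈ U, ∀ y ∈ U, x * y = y * x) →
      (∀ h ∈ Q, ∀ x ∈ U, h * x * h⁻¹ ∈ U) → (Nat.card U).Coprime q → U ⊓ Subgroup.centralizer (Q : Set G) = ⊥ →
      ∃ h ∈ Q, Nat.card (U ⊓ Subgroup.centralizer ({h} : Set G) : Subgroup G) ^ 2 ≤ Nat.card U := by
  intro n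
  induction n using Nat.strong_induction_on with
  | _ n ih =>
  intro U hn hab hinv hcop hfix
  classical
  by_cases hU : U = ⊥
  · subst hU
    refine ⟨1, Q.one_mem, ?_⟩
    rw [bot_inf_eq, Subgroup.card_bot]
    norm_num
  -- the kernel of the action
  set KG : Subgroup G := Q ⊓ Subgroup.centralizer (U : Set G) with hKG
  set K := KG.subgroupOf Q with hK
  haveI : K.Normal := ⟨fun k hk g => by
    refine Subgroup.mem_subgroupOf.2 ⟨(g * k * g⁻¹).2, Subgroup.mem_centralizer_iff.2 fun x hx => ?_⟩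
    have hk' := Subgroup.mem_centralizer_iff.1 (Subgroup.mem_subgroupOf.1 hk).2 _ (hinv _ (Q.inv_mem g.2) x hx)
    rw [inv_inv] at hk'
    simp only [Subgroup.coe_mul, Subgroup.coe_inv]
    calc x * ((g : G) * k * (g : G)⁻¹) = (g : G) * ((g : G)⁻¹ * x * g * k) * (g : G)⁻¹ := by group
      _ = (g : G) * (k * ((g : G)⁻¹ * x * g)) * (g : G)⁻¹ := by rw [hk']
      _ = _ := by group⟩
  haveI : Nontrivial (Q ⧸ K) := by
    refine QuotientGroup.nontrivial_iff.2 fun h => hU ?_
    rw [← hfix, eq_comm, inf_eq_left]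
    intro x hx
    rw [Subgroup.mem_centralizer_iff]
    intro g hg
    have hgK : (⟨g, hg⟩ : Q) ∈ K := h ▸ Subgroup.mem_top _
    have hg' : g ∈ Subgroup.centralizer (U : Set G) := (Subgroup.mem_subgroupOf.1 hgK).2
    exact (Subgroup.mem_centralizer_iff.1 hg' x hx).symm
  haveI := (hQ.to_quotient K).center_nontrivial
  obtain ⟨c, hc1⟩ := exists_ne (1 : Subgroup.center (Q ⧸ K))
  obtain ⟨j, hj⟩ := (hQ.to_quotient K) (c : Q ⧸ K)
  obtain ⟨z₀, hz₀⟩ := QuotientGroup.mk_surjective (c : Q ⧸ K)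
  set z : G := (z₀ : G) with hz
  have hzQ : z ∈ Q := z₀.2
  have hzK : ∃ x ∈ U, z * x ≠ x * z := by
    by_contra h0
    push Not at h0
    refine hc1 (Subtype.ext ?_)
    rw [← hz₀]
    exact (QuotientGroup.eq_one_iff z₀).2 (Subgroup.mem_subgroupOf.2
      ⟨z₀.2, Subgroup.mem_centralizer_iff.2 fun x hx => (h0 x hx).symm⟩)
  have hcomm : ∀ h ∈ Q, ∀ x ∈ U, h * z * x * (h * z)⁻¹ = z * h * x * (z * h)⁻¹ := by
    intro h hh x hx
    have h1 : (QuotientGroup.mk ((⟨h, hh⟩ : Q) * z₀) : Q ⧸ K) = QuotientGroup.mk (z₀ * ⟨h, hh⟩) := by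
      rw [QuotientGroup.mk_mul, QuotientGroup.mk_mul, hz₀]
      exact Subgroup.mem_center_iff.1 c.2 _
    have h2 := (Subgroup.mem_subgroupOf.1 (QuotientGroup.eq.1 h1.symm)).2
    have h3 := Subgroup.mem_centralizer_iff.1 h2 x hx
    simp only [Subgroup.coe_mul, Subgroup.coe_inv] at h3
    calc h * z * x * (h * z)⁻¹ = (z * h) * (((z * h)⁻¹ * (h * z)) * x) * (h * z)⁻¹ := by group
      _ = (z * h) * (x * ((z * h)⁻¹ * (h * z))) * (h * z)⁻¹ := by rw [← h3]
      _ = _ := by group
  have hUc : ∀ x ∈ U, z * x * z⁻¹ * x⁻¹ ∈ U := fun x hx => U.mul_mem (hinv z hzQ x hx) (U.inv_mem hx)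
  -- fixed points and commutators
  let τ : U →* U :=
    { toFun := fun x => ⟨z * x * z⁻¹ * (x : G)⁻¹, hUc x x.2⟩
      map_one' := Subtype.ext (by simp)
      map_mul' := fun x y => Subtype.ext (by
        show z * ((x : G) * y) * z⁻¹ * ((x : G) * y)⁻¹ = z * x * z⁻¹ * (x : G)⁻¹ * (z * y * z⁻¹ * (y : G)⁻¹)
        calc z * ((x : G) * y) * z⁻¹ * ((x : G) * y)⁻¹
            = z * x * z⁻¹ * ((z * y * z⁻¹ * (y : G)⁻¹) * (x : G)⁻¹) := by group
          _ = z * x * z⁻¹ * ((x : G)⁻¹ * (z * y * z⁻¹ * (y : G)⁻¹)) := by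
              rw [hab _ (hUc y y.2) _ (U.inv_mem x.2)]
          _ = _ := by group) }
  set C := U ⊓ Subgroup.centralizer ({z} : Set G) with hC
  set R := τ.range.map U.subtype with hR
  have hRU : R ≤ U := Subgroup.map_subtype_le _
  have hker : τ.ker = C.subgroupOf U := by
    ext x
    rw [MonoidHom.mem_ker, Subgroup.mem_subgroupOf, Subtype.ext_iff]
    show z * (x : G) * z⁻¹ * (x : G)⁻¹ = 1 ↔ _
    rw [hC, Subgroup.mem_inf, Subgroup.mem_centralizer_singleton_iff, mul_inv_eq_one, mul_inv_eq_iff_eq_mul]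
    exact ⟨fun h => ⟨x.2, h.symm⟩, fun h => h.2.symm⟩
  have hcard : Nat.card C * Nat.card R = Nat.card U := by
    rw [hR, Subgroup.card_map_of_injective U.subtype_injective, ← Subgroup.index_ker, hker]
    have e := Nat.card_congr (Subgroup.subgroupOfEquivOfLe (inf_le_left : C ≤ U)).toEquiv
    rw [← e, Subgroup.card_mul_index]
  have hCR : ∀ x, x ∈ C → x ∈ R → x = 1 := by
    rintro x hxC ⟨r, ⟨u, rfl⟩, rfl⟩
    set r : G := z * u * z⁻¹ * (u : G)⁻¹ with hr
    have hzr : z * r = r * z := (Subgroup.mem_centralizer_singleton_iff.1 hxC.2).symm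
    have hiter : ∀ i : ℕ, z ^ i * u * (z ^ i)⁻¹ = r ^ i * u := by
      intro i
      induction i with
      | zero => simp
      | succ i ihi =>
        have hzi : z * r ^ i = r ^ i * z := ((show Commute z r from hzr).pow_right i).eq
        calc z ^ (i + 1) * u * (z ^ (i + 1))⁻¹ = z * (z ^ i * u * (z ^ i)⁻¹) * z⁻¹ := by rw [pow_succ']; group
          _ = z * r ^ i * u * z⁻¹ := by rw [ihi]; group
          _ = r ^ i * (z * u * z⁻¹) := by rw [hzi]; group
          _ = r ^ (i + 1) * u := by rw [pow_succ, hr]; group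
    obtain ⟨k, hk⟩ := hQ z₀
    have hk' : z ^ q ^ k = 1 := congrArg Subtype.val hk
    have h1 := hiter (q ^ k)
    rw [hk', one_mul, inv_one, mul_one] at h1
    have h2 : r ^ q ^ k = 1 := mul_right_cancel (h1.symm.trans (one_mul _).symm)
    exact orderOf_eq_one_iff.1 (Nat.eq_one_of_dvd_coprimes (hcop.pow_right k)
      (U.orderOf_dvd_natCard (hUc u u.2)) (orderOf_dvd_of_pow_eq_one h2))
  -- recursion
  have hCinv : ∀ h ∈ Q, ∀ x ∈ C, h * x * h⁻¹ ∈ C := by
    intro h hh x hx
    refine ⟨hinv h hh x hx.1, Subgroup.mem_centralizer_singleton_iff.2 ?_⟩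
    have hzx := Subgroup.mem_centralizer_singleton_iff.1 hx.2
    have h1 : z * (h * x * h⁻¹) * z⁻¹ = h * x * h⁻¹ := by
      calc z * (h * x * h⁻¹) * z⁻¹ = z * h * x * (z * h)⁻¹ := by group
        _ = h * z * x * (h * z)⁻¹ := (hcomm h hh x hx.1).symm
        _ = h * (z * x * z⁻¹) * h⁻¹ := by group
        _ = _ := by rw [← hzx, mul_inv_cancel_right]
    exact (mul_inv_eq_iff_eq_mul.1 h1).symm
  have hRinv : ∀ h ∈ Q, ∀ x ∈ R, h * x * h⁻¹ ∈ R := by
    rintro h hh _ ⟨_, ⟨u, rfl⟩, rfl⟩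
    refine ⟨_, ⟨⟨h * u * h⁻¹, hinv h hh u u.2⟩, rfl⟩, ?_⟩
    show z * (h * u * h⁻¹) * z⁻¹ * (h * u * h⁻¹)⁻¹ = h * (z * u * z⁻¹ * (u : G)⁻¹) * h⁻¹
    calc z * (h * u * h⁻¹) * z⁻¹ * (h * u * h⁻¹)⁻¹ = (z * h * u * (z * h)⁻¹) * (h * (u : G)⁻¹ * h⁻¹) := by group
      _ = (h * z * u * (h * z)⁻¹) * (h * (u : G)⁻¹ * h⁻¹) := by rw [hcomm h hh u u.2]
      _ = _ := by group
  have hClt : Nat.card C < n := by
    rw [← hn]
    refine lt_of_le_of_ne (Subgroup.card_le_of_le inf_le_left) fun e => ?_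
    obtain ⟨x, hx, hne⟩ := hzK
    have := (Subgroup.eq_of_le_of_card_ge inf_le_left e.ge).symm ▸ hx
    exact hne (Subgroup.mem_centralizer_singleton_iff.1 this.2).symm
  obtain ⟨h, hh, hbound⟩ := ih _ hClt C rfl (fun x hx y hy => hab x hx.1 y hy.1) hCinv
    (hcop.coprime_dvd_left (Subgroup.card_dvd_of_le inf_le_left))
    (eq_bot_iff.2 fun x hx => hfix ▸ ⟨hx.1.1, hx.2⟩)
  -- choosing between the two cosets
  set S₀ := R ⊓ Subgroup.centralizer ({h} : Set G) with hS₀
  set S₁ := R ⊓ Subgroup.centralizer ({h * z} : Set G) with hS₁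
  have hS : Nat.card S₀ * Nat.card S₁ ≤ Nat.card R := by
    rw [← Nat.card_prod]
    refine Nat.card_le_card_of_injective (fun x : S₀ × S₁ => (⟨(x.1 : G) * x.2, R.mul_mem x.1.2.1 x.2.2.1⟩ : R)) ?_
    rintro ⟨a, b⟩ ⟨a', b'⟩ e
    have e' : (a : G) * b = a' * b' := congrArg Subtype.val e
    have h1 : (a' : G)⁻¹ * a = b' * (b : G)⁻¹ := by
      calc (a' : G)⁻¹ * a = (a' : G)⁻¹ * ((a : G) * b) * (b : G)⁻¹ := by group
        _ = b' * (b : G)⁻¹ := by rw [e']; group
    set t := (a' : G)⁻¹ * a with ht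
    have htR : t ∈ R := R.mul_mem (R.inv_mem a'.2.1) a.2.1
    have ht0 : t ∈ Subgroup.centralizer ({h} : Set G) := Subgroup.mul_mem _ (Subgroup.inv_mem _ a'.2.2) a.2.2
    have ht1 : t ∈ Subgroup.centralizer ({h * z} : Set G) := h1 ▸ Subgroup.mul_mem _ b'.2.2 (Subgroup.inv_mem _ b.2.2)
    rw [Subgroup.mem_centralizer_singleton_iff] at ht0 ht1
    have ht2 : t * z = z * t := by
      have : h * (t * z) = h * (z * t) := by rw [← mul_assoc, ← ht0, mul_assoc, ht1, mul_assoc]
      exact mul_left_cancel this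
    have ht3 := hCR t ⟨hRU htR, Subgroup.mem_centralizer_singleton_iff.2 ht2⟩ htR
    have ea : a = a' := Subtype.ext (inv_mul_eq_one.1 ht3).symm
    subst ea
    exact Prod.ext rfl (Subtype.ext (mul_left_cancel e'))
  obtain ⟨g, hgQ, hgC, hgR⟩ : ∃ g ∈ Q, (∀ x ∈ C, g * x * g⁻¹ = h * x * h⁻¹) ∧
      Nat.card (R ⊓ Subgroup.centralizer ({g} : Set G) : Subgroup G) ^ 2 ≤ Nat.card R := by
    rcases le_total (Nat.card S₀) (Nat.card S₁) with hle | hle
    · exact ⟨h, hh, fun x _ => rfl, by rw [sq]; exact (Nat.mul_le_mul_left _ hle).trans hS⟩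
    · refine ⟨h * z, Q.mul_mem hh hzQ, fun x hx => ?_, by rw [sq]; exact (Nat.mul_le_mul_right _ hle).trans hS⟩
      have hzx := Subgroup.mem_centralizer_singleton_iff.1 hx.2
      calc h * z * x * (h * z)⁻¹ = h * (z * x * z⁻¹) * h⁻¹ := by group
        _ = _ := by rw [← hzx, mul_inv_cancel_right]
  refine ⟨g, hgQ, ?_⟩
  set CR := C ⊓ Subgroup.centralizer ({h} : Set G)
  set RR := R ⊓ Subgroup.centralizer ({g} : Set G)
  set W := U ⊓ Subgroup.centralizer ({g} : Set G)
  have hmulinj : Function.Bijective (fun x : C × R => (⟨(x.1 : G) * x.2, U.mul_mem x.1.2.1 (hRU x.2.2)⟩ : U)) := by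
    refine (Nat.bijective_iff_injective_and_card _).2 ⟨?_, by rw [Nat.card_prod, hcard]⟩
    rintro ⟨a, b⟩ ⟨a', b'⟩ e
    have e' : (a : G) * b = a' * b' := congrArg Subtype.val e
    have h1 : (a' : G)⁻¹ * a = b' * (b : G)⁻¹ := by
      calc (a' : G)⁻¹ * a = (a' : G)⁻¹ * ((a : G) * b) * (b : G)⁻¹ := by group
        _ = b' * (b : G)⁻¹ := by rw [e']; group
    have h2 := hCR _ (C.mul_mem (C.inv_mem a'.2) a.2) (h1 ▸ R.mul_mem b'.2 (R.inv_mem b.2))
    have ea : a = a' := Subtype.ext (inv_mul_eq_one.1 h2).symm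
    subst ea
    exact Prod.ext rfl (Subtype.ext (mul_left_cancel e'))
  have hle : Nat.card W ≤ Nat.card CR * Nat.card RR := by
    rw [← Nat.card_prod]
    refine Nat.card_le_card_of_surjective
      (fun x : CR × RR => (⟨(x.1 : G) * x.2, U.mul_mem x.1.2.1.1 (hRU x.2.2.1), ?_⟩ : W)) ?_
    · refine Subgroup.mul_mem _ ?_ x.2.2.2
      rw [Subgroup.mem_centralizer_singleton_iff]
      have h1 := hgC x.1 x.1.2.1
      rw [show h * (x.1 : G) * h⁻¹ = x.1 by
        rw [← Subgroup.mem_centralizer_singleton_iff.1 x.1.2.2, mul_inv_cancel_right]] at h1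
      exact (mul_inv_eq_iff_eq_mul.1 h1).symm
    · rintro ⟨w, hwU, hwg⟩
      obtain ⟨⟨a, b⟩, hab'⟩ := hmulinj.2 ⟨w, hwU⟩
      have e : (a : G) * b = w := congrArg Subtype.val hab'
      have hfa := hCinv g hgQ a a.2
      have hfb := hRinv g hgQ b b.2
      have e2 : (g * (a : G) * g⁻¹) * (g * b * g⁻¹) = (a : G) * b := by
        calc (g * (a : G) * g⁻¹) * (g * b * g⁻¹) = g * ((a : G) * b) * g⁻¹ := by group
          _ = (a : G) * b := by rw [e, ← Subgroup.mem_centralizer_singleton_iff.1 hwg, mul_inv_cancel_right]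
      have e3 := hmulinj.1 (a₁ := (⟨_, hfa⟩, ⟨_, hfb⟩)) (a₂ := (a, b)) (Subtype.ext e2)
      obtain ⟨ea, eb⟩ := Prod.ext_iff.1 e3
      have ea' : g * (a : G) * g⁻¹ = a := congrArg Subtype.val ea
      have eb' : g * (b : G) * g⁻¹ = b := congrArg Subtype.val eb
      have hah : h * (a : G) * h⁻¹ = a := (hgC a a.2).symm.trans ea'
      exact ⟨(⟨a, a.2, Subgroup.mem_centralizer_singleton_iff.2 (mul_inv_eq_iff_eq_mul.1 hah).symm⟩,
        ⟨b, b.2, Subgroup.mem_centralizer_singleton_iff.2 (mul_inv_eq_iff_eq_mul.1 eb').symm⟩), Subtype.ext e⟩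
  calc Nat.card W ^ 2 ≤ (Nat.card CR * Nat.card RR) ^ 2 := Nat.pow_le_pow_left hle 2
    _ = Nat.card CR ^ 2 * Nat.card RR ^ 2 := mul_pow _ _ _
    _ ≤ Nat.card C * Nat.card R := Nat.mul_le_mul hbound hgR
    _ = Nat.card U := hcard

/-- The order of the intersection of a Sylow subgroup with a normal subgroup. -/
theorem card_inf_sylow {p : ℕ} [Fact p.Prime] (P : Sylow p G) (N : Subgroup G) [N.Normal] :
    Nat.card ((P : Subgroup G) ⊓ N : Subgroup G) = p ^ (Nat.card N).factorization p := by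
  obtain ⟨S, hS⟩ := sylow_inf_normal P N
  rw [← S.card_eq_multiplicity, hS, ← Subgroup.inf_subgroupOf_right]
  exact (Nat.card_congr (Subgroup.subgroupOfEquivOfLe inf_le_right).toEquiv).symm

/-- The order of the centre part of the nilpotent normal subgroup. -/
theorem PrimChar.deg_sq {χ : G → ℂ} (hp : PrimChar χ) (hχ : Cfsg.IsIrrCharacter G χ)
    (hf : ∀ g, χ g = χ 1 → g = 1) (F : Subgroup G) [F.Normal] [Group.IsNilpotent F]
    (hQ : Group.IsNilpotent (G ⧸ F)) :
    deg χ ^ 2 * Nat.card (F ⊓ Subgroup.center G : Subgroup G) = Nat.card F := by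
  classical
  letI : Fintype F := Fintype.ofFinite F
  have hθ := hp.restrict_irr hχ F hQ
  set θ : F → ℂ := fun x => χ x with hθd
  have hdeg : deg θ = deg χ := by
    have h1 := IsCharacter.apply_one_eq_deg (isCharacter_of_irr hθ)
    have h2 := IsCharacter.apply_one_eq_deg (isCharacter_of_irr hχ)
    exact_mod_cast h1.symm.trans h2
  have hK : ∀ k, θ k = θ 1 ↔ k ∈ (⊥ : Subgroup F) := fun k => by
    rw [Subgroup.mem_bot]
    exact ⟨fun h => Subtype.ext (hf k h), fun h => h ▸ rfl⟩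
  have hcm : centralMod (⊥ : Subgroup F) = (F ⊓ Subgroup.center G).subgroupOf F := by
    ext x
    rw [mem_centralMod, Subgroup.mem_subgroupOf]
    refine ⟨fun h => ⟨x.2, ?_⟩, fun h y => ?_⟩
    · set A := (Subgroup.center F).map F.subtype with hA
      haveI : A.Normal := ConjAct.normal_of_characteristic_of_normal
      have hxA : (x : G) ∈ A := Subgroup.mem_map_of_mem _ (Subgroup.mem_center_iff.2 fun y =>
        (commutatorElement_eq_one_iff_mul_comm.1 (Subgroup.mem_bot.1 (h y))).symm)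
      refine hp.le_center hχ hf A ?_ hxA
      rintro _ ⟨a, ha, rfl⟩ _ ⟨b, hb, rfl⟩
      exact congrArg Subtype.val (Subgroup.mem_center_iff.1 hb a)
    · rw [Subgroup.mem_bot, commutatorElement_eq_one_iff_mul_comm]
      exact Subtype.ext (Subgroup.mem_center_iff.1 h.2 (y : G)).symm
  have hc : commutator F ≤ centralMod (⊥ : Subgroup F) := by
    rw [hcm, commutator_def, Subgroup.commutator_le]
    exact fun a _ b _ => Subgroup.mem_subgroupOf.2 ⟨⁅a, b⁆.2, hp.commutator_central hχ hf F a a.2 b b.2⟩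
  have h := deg_sq_of_commutator_le hθ hK hc
  rw [hdeg, hcm, Nat.card_congr (Subgroup.subgroupOfEquivOfLe inf_le_left).toEquiv] at h
  exact h

/-- A Sylow subgroup centralises the nilpotent normal subgroup modulo the centre, on its own prime. -/
theorem PrimChar.act_trivial {χ : G → ℂ} (hprim : PrimChar χ) (hχ : Cfsg.IsIrrCharacter G χ)
    (hf : ∀ g, χ g = χ 1 → g = 1) (F : Subgroup G) [F.Normal] [Group.IsNilpotent F]
    (hQ : Group.IsNilpotent (G ⧸ F)) {p : ℕ} [Fact p.Prime] (P : Sylow p G) :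
    ∀ h ∈ (P : Subgroup G), ∀ x ∈ (P : Subgroup G) ⊓ F, ⁅h, x⁆ ∈ Subgroup.center G := by
  classical
  haveI hQ' := hQ
  set π := QuotientGroup.mk' (Subgroup.center G) with hπ
  have hπmem : ∀ x : G, π x = 1 ↔ x ∈ Subgroup.center G := QuotientGroup.eq_one_iff
  haveI hFp : ((P : Subgroup G) ⊓ F).Normal :=
    inf_normal_of_ih F P fun S => (inferInstance : (S : Subgroup F).Normal)
  set Fp := (P : Subgroup G) ⊓ F with hFpd
  have hM : ((P : Subgroup G) ⊔ F).Normal := by
    haveI : ((P.mapSurjective (QuotientGroup.mk'_surjective F) : Sylow p (G ⧸ F)) : Subgroup (G ⧸ F)).Normal := inferInstance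
    have h1 : (((P.mapSurjective (QuotientGroup.mk'_surjective F) : Sylow p (G ⧸ F)) : Subgroup (G ⧸ F)).comap
        (QuotientGroup.mk' F)).Normal := inferInstance
    rwa [Sylow.coe_mapSurjective, Subgroup.comap_map_eq, QuotientGroup.ker_mk'] at h1
  set Y := ((P : Subgroup G) ⊔ F).map π with hY
  haveI : Y.Normal := hM.map π (QuotientGroup.mk'_surjective _)
  set N := Fp ⊓ (Subgroup.centralizer (Y : Set (G ⧸ Subgroup.center G))).comap π with hN
  haveI : N.Normal := inferInstance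
  set C := Fp ⊓ Subgroup.centralizer (N : Set G) with hC
  haveI : C.Normal := inferInstance
  have hNle : N = Fp := by
    by_cases hCZ : C ≤ Subgroup.center G
    · -- a pairing argument
      set Zn := (Subgroup.center G).subgroupOf N with hZn
      haveI : Zn.Normal := inferInstance
      have hcomm : ∀ a b : N ⧸ Zn, a * b = b * a := by
        intro a b
        obtain ⟨a, rfl⟩ := QuotientGroup.mk_surjective a
        obtain ⟨b, rfl⟩ := QuotientGroup.mk_surjective b
        rw [← commutatorElement_eq_one_iff_mul_comm, ← QuotientGroup.mk'_apply, ← QuotientGroup.mk'_apply,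
          ← map_commutatorElement, QuotientGroup.mk'_apply, QuotientGroup.eq_one_iff, Subgroup.mem_subgroupOf]
        exact hprim.commutator_central hχ hf F a a.2.1.2 b b.2.1.2
      letI : CommGroup (N ⧸ Zn) := { (inferInstance : Group (N ⧸ Zn)) with mul_comm := hcomm }
      have h1 : χ 1 ≠ 0 := IsIrrCharacter.apply_one_ne_zero hχ
      have hmul : ∀ z ∈ Subgroup.center G, ∀ y, χ (z * y) / χ 1 = χ z / χ 1 * (χ y / χ 1) := fun z hz y => by
        rw [← mul_div_mul_right (χ (z * y)) (χ 1) h1, center_mul_of_irr hχ hz y, div_mul_div_comm]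
      have hcc : ∀ x : Fp, ∀ n : N, ⁅(x : G), (n : G)⁆ ∈ Subgroup.center G := fun x n =>
        hprim.commutator_central hχ hf F x x.2.2 n n.2.1.2
      have hadd : ∀ (x : G) (a b : G), ⁅x, b⁆ ∈ Subgroup.center G → ⁅x, a * b⁆ = ⁅x, a⁆ * ⁅x, b⁆ := by
        intro x a b hb
        calc ⁅x, a * b⁆ = ⁅x, a⁆ * (a * ⁅x, b⁆ * a⁻¹) := by simp only [commutatorElement_def]; group
          _ = _ := by rw [Subgroup.mem_center_iff.1 hb a, mul_inv_cancel_right]
      have hadd' : ∀ (x y a : G), ⁅y, a⁆ ∈ Subgroup.center G → ⁅x * y, a⁆ = ⁅y, a⁆ * ⁅x, a⁆ := by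
        intro x y a hb
        calc ⁅x * y, a⁆ = x * ⁅y, a⁆ * x⁻¹ * ⁅x, a⁆ := by simp only [commutatorElement_def]; group
          _ = _ := by rw [Subgroup.mem_center_iff.1 hb x, mul_inv_cancel_right]
      let f : Fp → N →* ℂ := fun x =>
        { toFun := fun n => χ ⁅(x : G), (n : G)⁆ / χ 1
          map_one' := by simp [h1]
          map_mul' := fun a b => by
            rw [Subgroup.coe_mul, hadd _ _ _ (hcc x b), hmul _ (hcc x a)] }
      let fq : Fp → (N ⧸ Zn →* ℂˣ) := fun x => QuotientGroup.lift Zn (f x).toHomUnits fun n hn => Units.ext (by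
        show χ ⁅(x : G), (n : G)⁆ / χ 1 = 1
        rw [commutatorElement_eq_one_iff_mul_comm.2 (Subgroup.mem_center_iff.1 (Subgroup.mem_subgroupOf.1 hn) x),
          div_self h1])
      let Φ : Fp →* (N ⧸ Zn →* ℂˣ) := MonoidHom.mk' fq (fun x y => by
        refine MonoidHom.ext fun n => ?_
        obtain ⟨n, rfl⟩ := QuotientGroup.mk_surjective n
        refine Units.ext ?_
        show χ ⁅(x : G) * y, (n : G)⁆ / χ 1 = χ ⁅(x : G), (n : G)⁆ / χ 1 * (χ ⁅(y : G), (n : G)⁆ / χ 1)
        rw [hadd' _ _ _ (hcc y n), hmul _ (hcc y n), mul_comm])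
      have hker : Φ.ker ≤ (Subgroup.center G).subgroupOf Fp := by
        intro x hx
        refine Subgroup.mem_subgroupOf.2 (hCZ ⟨x.2, Subgroup.mem_centralizer_iff.2 fun n hn => ?_⟩)
        have h2 : χ ⁅(x : G), n⁆ / χ 1 = 1 :=
          congrArg Units.val (DFunLike.congr_fun (MonoidHom.mem_ker.1 hx) (QuotientGroup.mk (⟨n, hn⟩ : N)))
        exact (commutatorElement_eq_one_iff_mul_comm.1 (hf _ ((div_eq_one_iff_eq h1).1 h2))).symm
      have hcardA : Nat.card (N ⧸ Zn →* ℂˣ) = Nat.card (N ⧸ Zn) :=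
        CommGroup.card_monoidHom_of_hasEnoughRootsOfUnity _ _
      haveI : Finite (N ⧸ Zn →* ℂˣ) := Nat.finite_of_card_ne_zero (hcardA ▸ Nat.card_pos.ne')
      have hrange : Φ.ker.index ≤ Nat.card (N ⧸ Zn) := by
        rw [Subgroup.index_ker, ← hcardA]
        exact Nat.card_le_card_of_injective _ Subtype.val_injective
      have hZFp : Fp ⊓ Subgroup.center G ≤ N := fun x hx => ⟨hx.1, by
        show π x ∈ Subgroup.centralizer (Y : Set (G ⧸ Subgroup.center G))
        rw [(hπmem x).2 hx.2]; exact one_mem _⟩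
      have e1 : Nat.card Fp = Nat.card ((Subgroup.center G).subgroupOf Fp) * ((Subgroup.center G).subgroupOf Fp).index :=
        (Subgroup.card_mul_index _).symm
      have e2 : ((Subgroup.center G).subgroupOf Fp).index ≤ Φ.ker.index :=
        Nat.le_of_dvd (Nat.pos_of_ne_zero Subgroup.index_ne_zero_of_finite) (Subgroup.index_dvd_of_le hker)
      have e3 : Nat.card ((Subgroup.center G).subgroupOf Fp) = Nat.card Zn := by
        rw [hZn, ← Subgroup.inf_subgroupOf_right _ N, ← Subgroup.inf_subgroupOf_right _ Fp,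
          Nat.card_congr (Subgroup.subgroupOfEquivOfLe inf_le_right).toEquiv,
          Nat.card_congr (Subgroup.subgroupOfEquivOfLe inf_le_right).toEquiv]
        congr 2
        exact le_antisymm (le_inf inf_le_left ((inf_comm _ _).le.trans hZFp)) (le_inf inf_le_left
          (inf_le_right.trans inf_le_left))
      refine Subgroup.eq_of_le_of_card_ge inf_le_left ?_
      rw [Zn.card_eq_card_quotient_mul_card_subgroup, e1, e3, mul_comm]
      exact Nat.mul_le_mul_right _ (e2.trans hrange)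
    · exfalso
      have hCFp : C ≤ Fp := inf_le_left
      set Vc := C.map π
      haveI : Vc.Normal := Subgroup.Normal.map inferInstance π (QuotientGroup.mk'_surjective _)
      set Pb := (P : Subgroup G).map π
      have hPb : IsPGroup p Pb := P.isPGroup'.map π
      haveI : Group.IsNilpotent Pb := hPb.isNilpotent
      have hVP : Vc ≤ Pb := Subgroup.map_mono (hCFp.trans inf_le_left)
      have hne : Vc.subgroupOf Pb ≠ ⊥ := by
        intro h
        refine hCZ fun x hx => ?_
        have h2 : (⟨π x, hVP (Subgroup.mem_map_of_mem π hx)⟩ : Pb) ∈ Vc.subgroupOf Pb :=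
          Subgroup.mem_subgroupOf.2 (Subgroup.mem_map_of_mem π hx)
        rw [h, Subgroup.mem_bot] at h2
        exact (hπmem x).1 (congrArg Subtype.val h2)
      obtain ⟨c, hc, hc1⟩ := (Subgroup.bot_or_exists_ne_one _).resolve_left
        (Cfsg.Lib.Coprime.inf_center_ne_bot (Vc.subgroupOf Pb) hne)
      obtain ⟨x, hxC, hxc⟩ := Subgroup.mem_subgroupOf.1 hc.1
      have hxY : π x ∈ Subgroup.centralizer (Y : Set (G ⧸ Subgroup.center G)) := by
        suffices h : (P : Subgroup G) ⊔ F ≤ (Subgroup.centralizer ({π x} : Set (G ⧸ Subgroup.center G))).comap π by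
          rw [Subgroup.mem_centralizer_iff]
          rintro _ ⟨y, hy, rfl⟩
          exact Subgroup.mem_centralizer_singleton_iff.1 (h hy)
        refine sup_le (fun y hy => ?_) (fun y hy => ?_)
        · rw [Subgroup.mem_comap, Subgroup.mem_centralizer_singleton_iff, hxc]
          exact congrArg Subtype.val (Subgroup.mem_center_iff.1 hc.2 ⟨π y, Subgroup.mem_map_of_mem π hy⟩)
        · rw [Subgroup.mem_comap, Subgroup.mem_centralizer_singleton_iff,
            ← commutatorElement_eq_one_iff_mul_comm, ← map_commutatorElement]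
          exact (hπmem _).2 (hprim.commutator_central hχ hf F y hy x (hCFp hxC).2)
      have hxN : x ∈ N := ⟨hCFp hxC, hxY⟩
      have hA := hprim.le_center hχ hf (C ⊓ N) (fun a ha b hb =>
        (Subgroup.mem_centralizer_iff.1 ha.1.2 b hb.2).symm)
      refine hc1 (Subtype.ext ?_)
      rw [← hxc]
      exact (hπmem x).2 (hA ⟨hxC, hxN⟩)
  intro h hh x hx
  have hxN : x ∈ N := hNle.symm ▸ hx
  rw [← hπmem, map_commutatorElement, commutatorElement_eq_one_iff_mul_comm]
  exact Subgroup.mem_centralizer_iff.1 hxN.2 _ (Subgroup.mem_map_of_mem π (Subgroup.mem_sup_left hh))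

/-- Two Sylow subgroups for the two primes generate. -/
theorem sup_sylow_eq_top {p q : ℕ} [Fact p.Prime] [Fact q.Prime]
    (hG : ∀ r, r.Prime → r ∣ Nat.card G → r = p ∨ r = q) (P : Sylow p G) (Q : Sylow q G) :
    (P : Subgroup G) ⊔ Q = ⊤ := by
  refine Subgroup.index_eq_one.1 (Nat.eq_one_iff_not_exists_prime_dvd.2 fun r hr hd => ?_)
  rcases hG r hr (hd.trans ((P : Subgroup G) ⊔ Q).index_dvd_card) with rfl | rfl
  · exact P.not_dvd_index (hd.trans (Subgroup.index_dvd_of_le le_sup_left))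
  · exact Q.not_dvd_index (hd.trans (Subgroup.index_dvd_of_le le_sup_right))

/-- The contribution of one prime. -/
theorem PrimChar.exists_prime_part {χ : G → ℂ} (hprim : PrimChar χ) (hχ : Cfsg.IsIrrCharacter G χ)
    (hf : ∀ g, χ g = χ 1 → g = 1) (F : Subgroup G) [F.Normal] [Group.IsNilpotent F]
    (hQ : Group.IsNilpotent (G ⧸ F)) {p q : ℕ} [Fact p.Prime] [Fact q.Prime] (hpq : p ≠ q)
    (hG : ∀ r, r.Prime → r ∣ Nat.card G → r = p ∨ r = q) (P : Sylow p G) (S : Sylow q G) :
    ∃ g ∈ (S : Subgroup G), ∀ H : Subgroup G, H ≤ (P : Subgroup G) ⊓ F →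
      (∀ x ∈ H, ⁅g, x⁆ ∈ Subgroup.center G) →
      p ^ (deg χ).factorization p ∣ H.relIndex ((P : Subgroup G) ⊓ F) := by
  classical
  set π := QuotientGroup.mk' (Subgroup.center G) with hπ
  have hπmem : ∀ x : G, π x = 1 ↔ x ∈ Subgroup.center G := QuotientGroup.eq_one_iff
  set Fp := (P : Subgroup G) ⊓ F with hFpd
  haveI hFp : Fp.Normal := inf_normal_of_ih F P fun T => (inferInstance : (T : Subgroup F).Normal)
  set v := (deg χ).factorization p with hv
  set Zp := Fp ⊓ Subgroup.center G with hZp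
  have hker : π.ker = Subgroup.center G := QuotientGroup.ker_mk' _
  set V := Fp.map π with hV
  have hcardFp : Nat.card Fp = p ^ (2 * v) * Nat.card Zp := by
    have e := hprim.deg_sq hχ hf F hQ
    rw [hZp, hFpd, inf_assoc, card_inf_sylow, card_inf_sylow, ← pow_add, ← e]
    congr 1
    have hd : deg χ ≠ 0 := fun h => (Nat.card_pos (α := F)).ne' (by rw [← e, h]; simp)
    rw [Nat.factorization_mul (pow_ne_zero 2 hd) Nat.card_pos.ne', Nat.factorization_pow]
    simp [hv]
  have hVcard : Nat.card V = p ^ (2 * v) := by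
    have e := card_eq_map_mul_inf π Fp
    rw [hker, ← hZp, hcardFp] at e
    exact (Nat.eq_of_mul_eq_mul_right Nat.card_pos e).symm
  have hVab : ∀ a ∈ V, ∀ b ∈ V, a * b = b * a := by
    rintro _ ⟨a, ha, rfl⟩ _ ⟨b, hb, rfl⟩
    rw [← commutatorElement_eq_one_iff_mul_comm, ← map_commutatorElement]
    exact (hπmem _).2 (hprim.commutator_central hχ hf F a ha.2 b hb.2)
  set Qb := (S : Subgroup G).map π with hQb
  have hVn : V.Normal := hFp.map π (QuotientGroup.mk'_surjective _)
  have hact := hprim.act_trivial hχ hf F hQ P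
  have hfix : V ⊓ Subgroup.centralizer (Qb : Set (G ⧸ Subgroup.center G)) = ⊥ := by
    rw [eq_bot_iff]
    rintro _ ⟨⟨x, hx, rfl⟩, hxc⟩
    rw [Subgroup.mem_bot, hπmem]
    have hall : ∀ g : G, ⁅g, x⁆ ∈ Subgroup.center G := by
      have h : (P : Subgroup G) ⊔ S ≤ (Subgroup.centralizer ({π x} : Set (G ⧸ Subgroup.center G))).comap π := by
        refine sup_le (fun y hy => ?_) (fun y hy => ?_)
        · rw [Subgroup.mem_comap, Subgroup.mem_centralizer_singleton_iff,
            ← commutatorElement_eq_one_iff_mul_comm, ← map_commutatorElement]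
          exact (hπmem _).2 (hact y hy x hx)
        · rw [Subgroup.mem_comap, Subgroup.mem_centralizer_singleton_iff]
          exact Subgroup.mem_centralizer_iff.1 hxc _ (Subgroup.mem_map_of_mem π hy)
      intro g
      rw [← hπmem, map_commutatorElement, commutatorElement_eq_one_iff_mul_comm]
      exact Subgroup.mem_centralizer_singleton_iff.1
        (h (sup_sylow_eq_top hG P S ▸ Subgroup.mem_top g))
    set A := (Subgroup.zpowers (π x)).comap π with hA
    have hcen : π x ∈ Subgroup.center (G ⧸ Subgroup.center G) := by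
      rw [Subgroup.mem_center_iff]
      intro y
      obtain ⟨y, rfl⟩ := QuotientGroup.mk'_surjective _ y
      rw [← commutatorElement_eq_one_iff_mul_comm, ← map_commutatorElement]
      exact (hπmem _).2 (hall y)
    haveI : A.Normal := by
      have : (Subgroup.zpowers (π x)).Normal := ⟨fun a ha g => by
        rw [Subgroup.mem_center_iff.1 (Subgroup.zpowers_le.2 hcen ha) g, mul_inv_cancel_right]
        exact ha⟩
      infer_instance
    have hdec : ∀ a ∈ A, ∃ i : ℤ, ∃ z ∈ Subgroup.center G, a = x ^ i * z := fun a ha => by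
      obtain ⟨i, hi⟩ := Subgroup.mem_zpowers_iff.1 ha
      refine ⟨i, (x ^ i)⁻¹ * a, (hπmem _).1 ?_, (mul_inv_cancel_left _ _).symm⟩
      rw [map_mul, map_inv, map_zpow, hi, inv_mul_cancel]
    refine hprim.le_center hχ hf A (fun a ha b hb => ?_) (Subgroup.mem_zpowers (π x))
    obtain ⟨i, z, hz, rfl⟩ := hdec a ha
    obtain ⟨j, w, hw, rfl⟩ := hdec b hb
    have c1 : Commute (x ^ i) (x ^ j) := (Commute.refl x).zpow_zpow i j
    have hzc : ∀ y, Commute y z := fun y => Subgroup.mem_center_iff.1 hz y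
    have hwc : ∀ y, Commute y w := fun y => Subgroup.mem_center_iff.1 hw y
    exact ((c1.mul_right (hwc _)).mul_left (((hzc _).symm).mul_right (hwc z))).eq
  obtain ⟨h, ⟨g, hg, rfl⟩, hbound⟩ := exists_small_fixed Qb (S.isPGroup'.map π) _ V rfl hVab
    (fun h _ a ha => hVn.conj_mem a ha h)
    (hVcard ▸ ((Nat.coprime_primes Fact.out Fact.out).2 hpq).pow_left _) hfix
  refine ⟨g, hg, fun H hH hHg => ?_⟩
  set W := V ⊓ Subgroup.centralizer ({π g} : Set (G ⧸ Subgroup.center G))
  rw [hVcard, pow_mul', Nat.pow_le_pow_iff_left two_ne_zero] at hbound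
  have hHW : H.map π ≤ W := by
    rintro _ ⟨a, ha, rfl⟩
    refine ⟨Subgroup.mem_map_of_mem π (hH ha), Subgroup.mem_centralizer_singleton_iff.2 ?_⟩
    rw [eq_comm, ← commutatorElement_eq_one_iff_mul_comm, ← map_commutatorElement]
    exact (hπmem _).2 (hHg a ha)
  have hcardH : Nat.card H ≤ p ^ v * Nat.card Zp := by
    rw [card_eq_map_mul_inf π H, hker]
    exact Nat.mul_le_mul ((Subgroup.card_le_of_le hHW).trans hbound)
      (Subgroup.card_le_of_le (inf_le_inf_right _ hH))
  obtain ⟨k, -, hk⟩ : ∃ k ≤ (Nat.card F).factorization p, H.relIndex Fp = p ^ k := by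
    refine (Nat.dvd_prime_pow Fact.out).1 ?_
    rw [← card_inf_sylow P F]
    exact Subgroup.relIndex_dvd_card H Fp
  have hmul : Nat.card H * p ^ k = p ^ (2 * v) * Nat.card Zp := by
    rw [← hk, ← hcardFp, ← Subgroup.relIndex_bot_left, ← Subgroup.relIndex_bot_left,
      Subgroup.relIndex_mul_relIndex _ _ _ bot_le hH]
  rw [hk]
  refine pow_dvd_pow p ((Nat.pow_le_pow_iff_right (Fact.out : p.Prime).one_lt).1 ?_)
  refine Nat.le_of_mul_le_mul_left ?_ (Nat.mul_pos (pow_pos (Fact.out : p.Prime).pos v) Nat.card_pos : 0 < p ^ v * Nat.card Zp)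
  calc p ^ v * Nat.card Zp * p ^ v = p ^ (2 * v) * Nat.card Zp := by ring
    _ = Nat.card H * p ^ k := hmul.symm
    _ ≤ _ := Nat.mul_le_mul_right _ hcardH

/-- The faithful case. -/
theorem PrimChar.dvd_class_of_faithful {χ : G → ℂ} (hprim : PrimChar χ) (hχ : Cfsg.IsIrrCharacter G χ)
    (hf : ∀ g, χ g = χ 1 → g = 1) (F : Subgroup G) [F.Normal] [Group.IsNilpotent F]
    (hQ : Group.IsNilpotent (G ⧸ F)) {p q : ℕ} [Fact p.Prime] [Fact q.Prime] (hpq : p ≠ q)
    (hG : ∀ r, r.Prime → r ∣ Nat.card G → r = p ∨ r = q) :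
    ∃ g : G, deg χ ∣ (Subgroup.centralizer ({g} : Set G)).index := by
  classical
  obtain ⟨P⟩ : Nonempty (Sylow p G) := inferInstance
  obtain ⟨S⟩ : Nonempty (Sylow q G) := inferInstance
  obtain ⟨a, ha, hap⟩ := hprim.exists_prime_part hχ hf F hQ hpq hG P S
  obtain ⟨b, hb, hbq⟩ := hprim.exists_prime_part hχ hf F hQ hpq.symm
    (fun r hr hd => (hG r hr hd).symm) S P
  have hactP := hprim.act_trivial hχ hf F hQ P
  have hactS := hprim.act_trivial hχ hf F hQ S
  have hswap : ∀ u w : G, ∀ z ∈ Subgroup.center G, u * w * u⁻¹ = w * z → ⁅u, w⁆ ∈ Subgroup.center G := by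
    intro u w z hz h
    rw [commutatorElement_def, h, Subgroup.mem_center_iff.1 hz w, mul_inv_cancel_right]
    exact hz
  set g := a * b with hg
  refine ⟨g, ?_⟩
  set C := Subgroup.centralizer ({g} : Set G) with hC
  have key : ∀ (N : Subgroup G) [N.Normal], C.relIndex N ∣ C.index := fun N _ => by
    rw [← relIndex_sup_of_normal N C]
    exact Subgroup.relIndex_dvd_index_of_le le_sup_right
  haveI : ((P : Subgroup G) ⊓ F).Normal := inf_normal_of_ih F P fun T => (inferInstance : (T : Subgroup F).Normal)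
  haveI : ((S : Subgroup G) ⊓ F).Normal := inf_normal_of_ih F S fun T => (inferInstance : (T : Subgroup F).Normal)
  have hP : p ^ (deg χ).factorization p ∣ C.index := by
    refine (hap (C ⊓ ((P : Subgroup G) ⊓ F)) inf_le_right ?_).trans ?_
    · rintro x ⟨hxC, hx⟩
      have hxg : g * x * g⁻¹ = x := by
        rw [← Subgroup.mem_centralizer_singleton_iff.1 hxC, mul_inv_cancel_right]
      -- `b` moves `x` by a central element, hence so does `a`
      refine hswap a x ⁅b, x⁆⁻¹ (Subgroup.inv_mem _ (hactP b hb x hx)) ?_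
      have hz := Subgroup.mem_center_iff.1 (hactP b hb x hx)
      calc a * x * a⁻¹ = ⁅b, x⁆⁻¹ * (a * (⁅b, x⁆ * x) * a⁻¹) := by
            rw [← mul_assoc a, hz a]; group
        _ = ⁅b, x⁆⁻¹ * x := by
            rw [show a * (⁅b, x⁆ * x) * a⁻¹ = g * x * g⁻¹ by simp only [hg, commutatorElement_def]; group, hxg]
        _ = _ := (Subgroup.mem_center_iff.1 (Subgroup.inv_mem _ (hactP b hb x hx)) x).symm
    · rw [Subgroup.inf_relIndex_right]
      exact key _
  have hS : q ^ (deg χ).factorization q ∣ C.index := by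
    refine (hbq (C ⊓ ((S : Subgroup G) ⊓ F)) inf_le_right ?_).trans ?_
    · rintro x ⟨hxC, hx⟩
      have hxg : g * x * g⁻¹ = x := by
        rw [← Subgroup.mem_centralizer_singleton_iff.1 hxC, mul_inv_cancel_right]
      have h1 : b * x * b⁻¹ = a⁻¹ * x * a := by
        calc b * x * b⁻¹ = a⁻¹ * (g * x * g⁻¹) * a := by rw [hg]; group
          _ = _ := by rw [hxg]
      refine hswap b x ⁅a⁻¹, x⁆ (hactS _ (Subgroup.inv_mem _ ha) x hx) ?_
      rw [h1, Subgroup.mem_center_iff.1 (hactS _ (Subgroup.inv_mem _ ha) x hx) x, commutatorElement_def]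
      group
    · rw [Subgroup.inf_relIndex_right]
      exact key _
  have he := hprim.deg_sq hχ hf F hQ
  have hd : deg χ ≠ 0 := fun h => (Nat.card_pos (α := F)).ne' (by rw [← he, h]; simp)
  rw [← Nat.factorization_le_iff_dvd hd Subgroup.index_ne_zero_of_finite, Finsupp.le_iff]
  intro r hr
  have hr' := Nat.prime_of_mem_primeFactors hr
  rcases hG r hr' (((Nat.dvd_of_mem_primeFactors hr).trans (dvd_pow_self _ two_ne_zero)).trans
    ((Dvd.intro _ he).trans F.card_subgroup_dvd_card)) with rfl | rfl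
  · exact (Nat.Prime.pow_dvd_iff_le_factorization hr' Subgroup.index_ne_zero_of_finite).1 hP
  · exact (Nat.Prime.pow_dvd_iff_le_factorization hr' Subgroup.index_ne_zero_of_finite).1 hS

/-- Passing to the quotient by the kernel. -/
theorem PrimChar.dvd_class {χ : G → ℂ} (hprim : PrimChar χ) (hχ : Cfsg.IsIrrCharacter G χ)
    (F : Subgroup G) [F.Normal] [Group.IsNilpotent F]
    (hQ : Group.IsNilpotent (G ⧸ F)) {p q : ℕ} [Fact p.Prime] [Fact q.Prime] (hpq : p ≠ q)
    (hG : ∀ r, r.Prime → r ∣ Nat.card G → r = p ∨ r = q) :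
    ∃ g : G, deg χ ∣ (Subgroup.centralizer ({g} : Set G)).index := by
  classical
  have hχc := isCharacter_of_irr hχ
  set K := kerSubgroup χ hχc with hK
  haveI : K.Normal := kerSubgroup_normal hχc
  letI : Fintype (G ⧸ K) := Fintype.ofFinite _
  set f := QuotientGroup.mk' K with hf
  have hfs : Function.Surjective f := QuotientGroup.mk'_surjective K
  obtain ⟨χ', hχ', hfac⟩ := exists_factor f hfs hχc (fun k hk => by rwa [hf, QuotientGroup.ker_mk'] at hk)
  have hirr : Cfsg.IsIrrCharacter (G ⧸ K) χ' := IsIrrCharacter.descend hχ' f hfs (hfac ▸ hχ)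
  have hfac' : ∀ x, χ x = χ' (f x) := fun x => congrFun hfac x
  have hfaith : ∀ y, χ' y = χ' 1 → y = 1 := by
    intro y hy
    obtain ⟨y, rfl⟩ := hfs y
    rw [← hfac', ← map_one f, ← hfac'] at hy
    exact (QuotientGroup.eq_one_iff y).2 hy
  have hprim' : PrimChar χ' := by
    rintro ⟨H, hH, ψ, hψ, hind⟩
    refine hprim ⟨H.comap f, fun h => hH ?_, fun x => ψ ⟨f x, x.2⟩, ?_, funext fun x => ?_⟩
    · rw [← Subgroup.map_comap_eq_self_of_surjective hfs H, h, Subgroup.map_top_of_surjective _ hfs]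
    · exact IsCharacter.comp_hom hψ ((f.comp (H.comap f).subtype).codRestrict H fun x => x.2)
    · rw [indFun_comap f hfs H ψ x, hind, hfac']
  haveI : (F.map f).Normal := Subgroup.Normal.map inferInstance f hfs
  haveI : Group.IsNilpotent (F.map f) :=
    Group.nilpotent_of_surjective (f.subgroupMap F) (f.subgroupMap_surjective F)
  have hQ' : Group.IsNilpotent ((G ⧸ K) ⧸ F.map f) := by
    haveI := hQ
    exact Group.nilpotent_of_surjective (QuotientGroup.map F (F.map f) f (Subgroup.le_comap_map f F)) (fun c => by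
      obtain ⟨y, rfl⟩ := QuotientGroup.mk_surjective c
      obtain ⟨y, rfl⟩ := hfs y
      exact ⟨QuotientGroup.mk y, rfl⟩)
  obtain ⟨y, hy⟩ := hprim'.dvd_class_of_faithful hirr hfaith (F.map f) hQ' hpq
    (fun r hr hd => hG r hr (hd.trans (Subgroup.card_quotient_dvd_card K)))
  obtain ⟨y, rfl⟩ := hfs y
  have hdeg : deg χ' = deg χ := by
    have h1 := IsCharacter.apply_one_eq_deg hχ'
    have h2 := IsCharacter.apply_one_eq_deg hχc
    rw [hfac', map_one, h1] at h2
    exact_mod_cast h2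
  refine ⟨y, hdeg ▸ hy.trans ?_⟩
  rw [← Subgroup.index_comap_of_surjective (Subgroup.centralizer ({f y} : Set (G ⧸ K))) hfs]
  refine Subgroup.index_dvd_of_le fun x hx => ?_
  rw [Subgroup.mem_comap, Subgroup.mem_centralizer_singleton_iff, ← map_mul, ← map_mul,
    Subgroup.mem_centralizer_singleton_iff.1 hx]

end Cfsg.Lib.Chars
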