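import Cfsg.Agent.Chars.IrrTools

/-!
# Averaging over cosets of a normal subgroup
-/

namespace Cfsg.Lib.Chars

open scoped ComplexConjugate

universe u

variable {G : Type u} [Group G] [Fintype G]

theorem coset_average (N : Subgroup G) [N.Normal] [Fintype N] {χ : G → ℂ}
    (hχ : Cfsg.IsIrrCharacter G χ) (hχN : Cfsg.IsIrrCharacter N (fun n : N => χ n)) {ψ : G → ℂ}
    (hψ : Cfsg.IsIrrCharacter G ψ) (η : G → ℂ)
    (hη : η = fun g => (Nat.card N : ℂ)⁻¹ * ∑ n : N, ψ ((n : G) * g) * conj (χ ((n : G) * g))) :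
    (Cfsg.classInner (fun n : N => ψ n) (fun n : N => χ n) ≠ 0 →
      ∃ β : G → ℂ, Cfsg.IsIrrCharacter G β ∧ (∀ n : N, β n = β 1) ∧ ψ = β * χ ∧ η = β) ∧
    (Cfsg.classInner (fun n : N => ψ n) (fun n : N => χ n) = 0 → η = 0) := by
  classical
  have := Fintype.ofFinite (G ⧸ N)
  set π := QuotientGroup.mk' N with hπ
  have hπs : Function.Surjective π := QuotientGroup.mk'_surjective N
  have hψc := isClassFunction_isChar (isCharacter_of_irr hψ)
  have hχc := isClassFunction_isChar (isCharacter_of_irr hχ)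
  have hcos : ∀ (m : N) (g : G), η ((m : G) * g) = η g := fun m g => by
    simp only [hη]
    congr 1
    exact Fintype.sum_equiv (Equiv.mulRight m) _ _ fun n => by simp [mul_assoc]
  have hcls : ∀ g x : G, η (x * g * x⁻¹) = η g := fun g x => by
    simp only [hη]
    congr 1
    refine Fintype.sum_equiv (MulAut.conjNormal x⁻¹).toEquiv _ _ fun n => ?_
    have h1 : ((MulAut.conjNormal x⁻¹ n : N) : G) = x⁻¹ * n * x := by
      rw [MulAut.conjNormal_apply, inv_inv]
    simp only [MulEquiv.toEquiv_eq_coe, EquivLike.coe_coe, h1]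
    rw [show (n : G) * (x * g * x⁻¹) = x * (x⁻¹ * n * x * g) * x⁻¹ by group, hψc, hχc]
  set ηQ : G ⧸ N → ℂ := fun q => η q.out with hηQ
  have hηπ : ∀ g, ηQ (π g) = η g := fun g => by
    obtain ⟨m, hm⟩ := QuotientGroup.mk_out_eq_mul N g
    show η (QuotientGroup.mk g : G ⧸ N).out = η g
    rw [hm, show g * (m : G) = ((MulAut.conjNormal g m : N) : G) * g by
      rw [MulAut.conjNormal_apply]; group]
    exact hcos _ g
  have hQc : Cfsg.IsClassFunction (G ⧸ N) ηQ := fun q y => by
    obtain ⟨g, rfl⟩ := hπs q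
    obtain ⟨x, rfl⟩ := hπs y
    rw [← map_mul, ← map_inv, ← map_mul, hηπ, hηπ, hcls]
  have key : ∀ φ : G ⧸ N → ℂ, Cfsg.classInner ηQ φ =
      Cfsg.classInner ψ ((fun g => φ (π g)) * χ) := by
    intro φ
    rw [← classInner_comp_surjective π hπs]
    simp only [hηπ, hη, classInner_def, Pi.mul_apply, Finset.mul_sum, Finset.sum_mul, map_mul]
    rw [Finset.sum_comm, Finset.sum_congr rfl (g := fun n : N => ∑ g : G,
      ((Nat.card G : ℂ)⁻¹ * ((Nat.card N : ℂ)⁻¹ * (ψ g * (conj (φ (π g)) * conj (χ g))))))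
      (fun n _ => Fintype.sum_equiv (Equiv.mulLeft (n : G)) _ _ fun g => by
        have : π ((n : G) * g) = π g := by
          rw [map_mul, show π (n : G) = 1 from (QuotientGroup.eq_one_iff _).mpr n.2, one_mul]
        simp only [Equiv.coe_mulLeft, this]
        ring)]
    rw [Finset.sum_const, Finset.card_univ, nsmul_eq_mul, Finset.mul_sum]
    refine Finset.sum_congr rfl fun g _ => ?_
    have : (Fintype.card N : ℂ) ≠ 0 := by exact_mod_cast Fintype.card_ne_zero
    simp only [Nat.card_eq_fintype_card]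
    field_simp
  have hinf : ∀ φ : G ⧸ N → ℂ, Cfsg.IsIrrCharacter (G ⧸ N) φ →
      Cfsg.IsIrrCharacter G (fun g => φ (π g)) ∧ ∀ n : N, φ (π n) = φ (π 1) := fun φ hφ =>
    ⟨IsIrrCharacter.comp_surjective hφ π hπs,
      fun n => by rw [map_one, show π (n : G) = 1 from (QuotientGroup.eq_one_iff _).mpr n.2]⟩
  have hinv : ∀ g : G, conjN N g (fun n : N => χ n) = fun n : N => χ n :=
    fun g => conjN_restrict hχc g
  refine ⟨fun hne => ?_, fun h0 => ?_⟩
  · obtain ⟨e, -, he⟩ := restrict_eq_mult_of_invariant N hψ hχN hinv hne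
    obtain ⟨β, hβ, hψβ, hβN⟩ := exists_factor_extension N hχ hχN hψ (e := e) fun n => congrFun he n
    refine ⟨β, hβ, hβN, hψβ, ?_⟩
    obtain ⟨β', hβ'c, hββ'⟩ := exists_factor π hπs (isCharacter_of_irr hβ)
      fun k hk => hβN ⟨k, by rwa [hπ, QuotientGroup.ker_mk'] at hk⟩
    have : ηQ = β' := classFunction_ext hQc (isClassFunction_isChar hβ'c) fun φ hφ => by
      obtain ⟨h1, h2⟩ := hinf φ hφ
      have g1 := gallagher_trivial N hχ hχN hβ h1 hβN h2
      have g2 := gallagher_trivial N hχ hχN h1 h1 h2 h2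
      rw [key, hψβ, ← classInner_comp_surjective π hπs β' φ, ← hββ',
        classInner_irrChar g1.1 g2.1, classInner_irrChar hβ h1]
      exact if_congr ⟨g1.2, fun h => by rw [h]⟩ rfl rfl
    funext g
    rw [← hηπ g, this, hββ']
  · have : ηQ = 0 := classFunction_ext hQc (fun _ _ => rfl) fun φ hφ => by
      obtain ⟨h1, h2⟩ := hinf φ hφ
      rw [key, classInner_zero_left,
        classInner_irrChar hψ (gallagher_trivial N hχ hχN h1 h1 h2 h2).1, if_neg]
      intro h
      refine IsIrrCharacter.apply_one_ne_zero (hinf φ hφ).1 ?_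
      rw [h, show (fun n : N => ((fun g => φ (π g)) * χ) n) = φ (π 1) • fun n : N => χ n from
        funext fun n => by simp only [Pi.mul_apply, Pi.smul_apply, smul_eq_mul, h2 n],
        classInner_smul_left, classInner_self_irr hχN, mul_one] at h0
      exact h0
    funext g
    rw [← hηπ g, this]
    rfl

end Cfsg.Lib.Chars
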