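import Mathlib
import Cfsg.Agent.Chars.DegreeTools
import Cfsg.Agent.Chars.ExtCriteria
import Cfsg.Agent.Chars.TwoDegrees
import Cfsg.Agent.Chars.IsaacsItoPrimePower

/-!
# Complements of cyclic Sylow subgroups under a fully ramified character

If `χ` is fully ramified over `Z` and `Z ≤ K` are normal, then a cyclic Sylow subgroup of `G ⧸ K`
has a complement.
-/

set_option autoImplicit false
set_option linter.unusedSectionVars false

namespace Cfsg.Lib.Chars

open scoped ComplexConjugate commutatorElement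

universe u

variable {G : Type u} [Group G] [Fintype G]

/-- With cyclic quotient and a single character above, the orbit is regular. -/
theorem mem_of_fixes_of_unique (L : Subgroup G) [L.Normal] [Fintype L] (hcyc : IsCyclic (G ⧸ L))
    {ψ : L → ℂ} (hψ : Cfsg.IsIrrCharacter L ψ)
    (huniq : ∀ ξ ξ' : G → ℂ, Cfsg.IsIrrCharacter G ξ → Cfsg.IsIrrCharacter G ξ' →
      Cfsg.classInner (fun x : L => ξ x) ψ ≠ 0 → Cfsg.classInner (fun x : L => ξ' x) ψ ≠ 0 → ξ = ξ')
    (g : G) (hg : conjN L g ψ = ψ) : g ∈ L := by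
  classical
  set T := inertia L ψ with hT
  have hLT : L ≤ T := le_inertia (isClassFunction_isChar (isCharacter_of_irr hψ))
  letI : Fintype T := Fintype.ofFinite _
  set L' := L.subgroupOf T with hL'
  letI : Fintype L' := Fintype.ofFinite _
  let eL := Subgroup.subgroupOfEquivOfLe hLT
  have hψ' : Cfsg.IsIrrCharacter L' (fun x => ψ (eL x)) := IsIrrCharacter.comp_mulEquiv hψ eL
  obtain ⟨n, ρ, hρ, hρψ⟩ := hψ'
  haveI := hρ
  have hinv : ∀ t : T, conjN L' t ρ.character = ρ.character := by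
    intro t
    rw [hρψ]
    funext x
    exact congrFun (mem_inertia.1 t.2) (eL x)
  have hcyc' : IsCyclic (T ⧸ L') := by
    let f : T ⧸ L' →* G ⧸ L := QuotientGroup.map L' L T.subtype fun x hx => hx
    refine isCyclic_of_injective f ((injective_iff_map_eq_one f).2 fun a ha => ?_)
    obtain ⟨a, rfl⟩ := QuotientGroup.mk_surjective a
    exact (QuotientGroup.eq_one_iff a).2 (Subgroup.mem_subgroupOf.2 ((QuotientGroup.eq_one_iff (a : G)).1 ha))
  obtain ⟨R, hR⟩ := exists_extension_of_hasSplit L' ρ hinv (hasSplit_one_of_cyclic L' ρ hcyc')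
  obtain ⟨hη, hres⟩ := exists_irr_ext_of_rep L' ρ R hR
  have hηψ : (fun x : L' => R.character x) = fun x => ψ (eL x) := funext fun x => by
    rw [hres x, congrFun hρψ x]
  -- all characters of `T` above `ψ` coincide
  have hone : ∀ η η' : T → ℂ, Cfsg.IsIrrCharacter T η → Cfsg.IsIrrCharacter T η' →
      Cfsg.classInner (fun x : L => η ⟨x, hLT x.2⟩) ψ ≠ 0 →
      Cfsg.classInner (fun x : L => η' ⟨x, hLT x.2⟩) ψ ≠ 0 → η = η' := by
    intro η η' hη hη' h h'
    obtain ⟨ξ, hξ, hc⟩ := exists_constituent_ind T hη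
    obtain ⟨ξ', hξ', hc'⟩ := exists_constituent_ind T hη'
    have hξψ : Cfsg.classInner (fun x : L => ξ x) ψ ≠ 0 :=
      classInner_pullback_ne_zero (Subgroup.inclusion hLT) (IsCharacter.restrict (isCharacter_of_irr hξ) T)
        hη hc hψ h
    have hξψ' : Cfsg.classInner (fun x : L => ξ' x) ψ ≠ 0 :=
      classInner_pullback_ne_zero (Subgroup.inclusion hLT) (IsCharacter.restrict (isCharacter_of_irr hξ') T)
        hη' hc' hψ h'
    have e := huniq ξ ξ' hξ hξ' hξψ hξψ'
    subst e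
    obtain ⟨-, -, hu⟩ := clifford_correspondence hψ T rfl hLT hξ hη hc h
    exact (hu η' hη' hc' h').symm
  by_contra hgL
  have hgT : g ∈ T := mem_inertia.2 hg
  let C : CommGroup (T ⧸ L') := @IsCyclic.commGroup (T ⧸ L') _ hcyc'
  letI := C
  obtain ⟨l, hl⟩ := CommGroup.exists_apply_ne_one_of_hasEnoughRootsOfUnity (T ⧸ L') ℂ
    (a := QuotientGroup.mk' L' (⟨g, hgT⟩ : T)) (fun h => hgL (Subgroup.mem_subgroupOf.1 ((QuotientGroup.eq_one_iff (⟨g, hgT⟩ : T)).1 h)))
  set η := R.character with hηdef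
  let lt : T →* ℂˣ := l.comp (QuotientGroup.mk' L')
  have hη' := IsIrrCharacter.mul_linear hη lt
  have hlt : ∀ x : L', lt (x : T) = 1 := fun x => by
    show l (QuotientGroup.mk' L' (x : T)) = 1
    rw [QuotientGroup.mk'_apply, (QuotientGroup.eq_one_iff _).2 x.2, map_one]
  have hval : ∀ x : L, η ⟨x, hLT x.2⟩ = ψ x := fun x => by
    have h := congrFun hηψ (eL.symm x)
    simp only [MulEquiv.apply_symm_apply] at h
    exact h
  have hval' : ∀ x : L, (lt ⟨x, hLT x.2⟩ : ℂ) * η ⟨x, hLT x.2⟩ = ψ x := fun x => by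
    rw [show lt ⟨x, hLT x.2⟩ = 1 from hlt ⟨⟨x, hLT x.2⟩, Subgroup.mem_subgroupOf.2 x.2⟩, Units.val_one,
      one_mul, hval]
  have heq := hone _ η hη' hη (by rw [funext hval', classInner_self_irr hψ]; exact one_ne_zero)
    (by rw [funext hval, classInner_self_irr hψ]; exact one_ne_zero)
  have hirrL : Cfsg.IsIrrCharacter L' (fun x : L' => η x) := hηψ ▸ IsIrrCharacter.comp_mulEquiv hψ eL
  have hl' := isIrrCharacter_linear lt
  have h1 := (gallagher_trivial L' hη hirrL hl' isIrrCharacter_one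
    (fun x => by show (lt (x : T) : ℂ) = _; rw [hlt x, map_one]) (fun _ => rfl)).2
    (by
      funext t
      show (lt t : ℂ) * η t = 1 * η t
      rw [one_mul]
      exact congrFun heq t)
  exact hl (Units.ext (congrFun h1 (⟨g, hgT⟩ : T)))

/-- All irreducible characters of the whole group over `θ` are equal. -/
theorem unique_over_of_ramified (Z : Subgroup G) [Z.Normal] [Fintype Z] {θ : Z → ℂ}
    (hθ : Cfsg.IsIrrCharacter Z θ) (hinv : ∀ g : G, conjN Z g θ = θ) {ξ : G → ℂ} (hξ : Cfsg.IsIrrCharacter G ξ) {m : ℕ}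
    (hres : (fun z : Z => ξ z) = (m : ℂ) • θ) (hm : m * m = Z.index) (ξ' : G → ℂ)
    (hξ' : Cfsg.IsIrrCharacter G ξ') (hc : Cfsg.classInner (fun z : Z => ξ' z) θ ≠ 0) : ξ' = ξ := by
  classical
  by_contra hne
  obtain ⟨a, ha⟩ := IsCharacter.exists_decomp (IsCharacter.indFun (G := G) (isCharacter_of_irr hθ))
  have hcoef : ∀ φ : Cfsg.IrrCharacter G, Cfsg.classInner (Cfsg.indFun Z θ) (φ : G → ℂ) = a φ := fun φ => by
    rw [ha]
    simp only [← Nat.cast_smul_eq_nsmul ℂ]
    exact classInner_irrSum (fun ψ => (a ψ : ℂ)) φ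
  have haξ : a ⟨ξ, hξ⟩ = m := by
    apply Nat.cast_injective (R := ℂ)
    rw [← hcoef, frobenius_reciprocity Z θ (isClassFunction_irr ⟨ξ, hξ⟩)]
    show Cfsg.classInner θ (fun z : Z => ξ z) = m
    rw [hres, classInner_smul_right, classInner_self_irr hθ, mul_one, Complex.conj_natCast]
  have haξ' : a ⟨ξ', hξ'⟩ ≠ 0 := fun h => hc (by
    have h1 := hcoef ⟨ξ', hξ'⟩
    rw [frobenius_reciprocity Z θ (isClassFunction_irr ⟨ξ', hξ'⟩), h, Nat.cast_zero] at h1
    rw [← classInner_conj_symm]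
    show conj (Cfsg.classInner θ (fun z : Z => ξ' z)) = 0
    rw [h1, map_zero])
  have hdeg : Z.index * deg θ = ∑ φ : Cfsg.IrrCharacter G, a φ * deg (φ : G → ℂ) := by
    apply Nat.cast_injective (R := ℂ)
    rw [Nat.cast_mul, ← IsCharacter.apply_one_eq_deg (isCharacter_of_irr hθ), ← indFun_one, congrFun ha 1,
      Finset.sum_apply]
    push_cast
    simp [irr_apply_one_eq_deg]
  have hξd : deg ξ = m * deg θ := by
    apply Nat.cast_injective (R := ℂ)
    rw [Nat.cast_mul, ← IsCharacter.apply_one_eq_deg (isCharacter_of_irr hθ), ← IsCharacter.apply_one_eq_deg (isCharacter_of_irr hξ)]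
    exact congrFun hres 1
  rw [← Finset.add_sum_erase _ _ (Finset.mem_univ (⟨ξ, hξ⟩ : Cfsg.IrrCharacter G)), haξ] at hdeg
  have hdeg' : Z.index * deg θ = m * deg ξ +
      ∑ φ ∈ Finset.univ.erase (⟨ξ, hξ⟩ : Cfsg.IrrCharacter G), a φ * deg (φ : G → ℂ) := hdeg
  rw [hξd, ← mul_assoc, hm] at hdeg'
  have h0 : ∑ φ ∈ Finset.univ.erase (⟨ξ, hξ⟩ : Cfsg.IrrCharacter G), a φ * deg (φ : G → ℂ) = 0 := by omega
  have h1 := Finset.sum_eq_zero_iff.1 h0 ⟨ξ', hξ'⟩
    (Finset.mem_erase.2 ⟨fun e => hne (congrArg Subtype.val e), Finset.mem_univ _⟩)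
  exact haξ' ((mul_eq_zero.1 h1).resolve_right (deg_irr_pos _).ne')

/-- Full ramification passes to a subgroup containing a Sylow subgroup. -/
theorem ramified_over_sylow {p : ℕ} [hp : Fact p.Prime] (Z : Subgroup G) [Z.Normal] [Fintype Z] {θ : Z → ℂ}
    (hθ : Cfsg.IsIrrCharacter Z θ) {χ : G → ℂ} (hχ : Cfsg.IsIrrCharacter G χ) {e : ℕ}
    (he : e * e = Z.index) (hres : (fun z : Z => χ z) = (e : ℂ) • θ) (U : Subgroup G) [Fintype U] (hZU : Z ≤ U)
    (hU : ∃ i, Z.relIndex U = p ^ i) (hUi : ¬ p ∣ U.index) :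
    ∀ ξ ξ' : U → ℂ, Cfsg.IsIrrCharacter U ξ → Cfsg.IsIrrCharacter U ξ' →
      Cfsg.classInner (fun z : Z => ξ ⟨z, hZU z.2⟩) θ ≠ 0 →
      Cfsg.classInner (fun z : Z => ξ' ⟨z, hZU z.2⟩) θ ≠ 0 → ξ = ξ' := by
  classical
  have hinvG : ∀ g : G, conjN Z g θ = θ := by
    intro g
    have he0 : (e : ℂ) ≠ 0 := by
      intro h
      have : Z.index = 0 := by rw [← he, Nat.cast_eq_zero.1 h]
      exact Z.index_ne_zero_of_finite this
    have h1 := conjN_restrict (N := Z) (isClassFunction_isChar (isCharacter_of_irr hχ)) g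
    rw [hres] at h1
    funext z
    exact mul_left_cancel₀ he0 (congrFun h1 z)
  have hUT : U ≤ inertia Z θ := fun g _ => mem_inertia.2 (hinvG g)
  set Z' := Z.subgroupOf U with hZ'
  letI : Fintype Z' := Fintype.ofFinite _
  let eZ := Subgroup.subgroupOfEquivOfLe hZU
  have hθ' : Cfsg.IsIrrCharacter Z' (fun x => θ (eZ x)) := IsIrrCharacter.comp_mulEquiv hθ eZ
  have hinv' : ∀ u : U, conjN Z' u (fun x => θ (eZ x)) = fun x => θ (eZ x) := by
    intro u
    funext x
    exact congrFun (hinvG (u : G)) (eZ x)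
  obtain ⟨i, hi⟩ := hU
  suffices hm : ∀ ξ : U → ℂ, Cfsg.IsIrrCharacter U ξ → Cfsg.classInner (fun z : Z => ξ ⟨z, hZU z.2⟩) θ ≠ 0 →
      ∃ m : ℕ, (fun x : Z' => ξ x) = (m : ℂ) • (fun x => θ (eZ x)) ∧ m * m = Z'.index by
    intro ξ ξ' hξ hξ' hc hc'
    obtain ⟨m, hm1, hm2⟩ := hm ξ hξ hc
    refine (unique_over_of_ramified Z' hθ' hinv' hξ hm1 hm2 ξ' hξ' fun h => hc' ?_).symm
    rw [← classInner_comp_equiv eZ.toEquiv]
    exact h
  intro ξ hξ hc
  obtain ⟨m, hm0, hm⟩ := restrict_of_le_inertia Z hθ U hZU hUT hξ hc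
  have hm' : (fun x : Z' => ξ x) = (m : ℂ) • (fun x => θ (eZ x)) := funext fun x => congrFun hm (eZ x)
  refine ⟨m, hm', ?_⟩
  -- `m² ≤ |U : Z|`
  have hle : m * m ≤ Z'.index := by
    obtain ⟨a, ha⟩ := IsCharacter.exists_decomp (IsCharacter.indFun (G := U) (isCharacter_of_irr hθ'))
    have haξ : a ⟨ξ, hξ⟩ = m := by
      apply Nat.cast_injective (R := ℂ)
      have h1 : Cfsg.classInner (Cfsg.indFun Z' fun x => θ (eZ x)) ξ = (m : ℂ) := by
        rw [frobenius_reciprocity Z' _ (isClassFunction_irr ⟨ξ, hξ⟩)]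
        show Cfsg.classInner _ (fun x : Z' => ξ x) = _
        rw [hm', classInner_smul_right, classInner_self_irr hθ', mul_one, Complex.conj_natCast]
      rw [ha] at h1
      simp only [← Nat.cast_smul_eq_nsmul ℂ] at h1
      rwa [classInner_irrSum (fun ψ => (a ψ : ℂ)) ⟨ξ, hξ⟩] at h1
    have hdeg : Z'.index * deg θ = ∑ φ : Cfsg.IrrCharacter U, a φ * deg (φ : U → ℂ) := by
      apply Nat.cast_injective (R := ℂ)
      rw [Nat.cast_mul, ← IsCharacter.apply_one_eq_deg (isCharacter_of_irr hθ)]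
      have h1 := congrFun ha 1
      rw [indFun_one, map_one, Finset.sum_apply] at h1
      rw [h1]
      push_cast
      simp [irr_apply_one_eq_deg]
    have hξd : deg ξ = m * deg θ := by
      apply Nat.cast_injective (R := ℂ)
      rw [Nat.cast_mul, ← IsCharacter.apply_one_eq_deg (isCharacter_of_irr hθ), ← IsCharacter.apply_one_eq_deg (isCharacter_of_irr hξ)]
      have h1 := congrFun hm' 1
      rw [Pi.smul_apply, map_one] at h1
      exact h1
    have h2 : m * (m * deg θ) ≤ Z'.index * deg θ := by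
      rw [hdeg, ← hξd, ← haξ]
      exact Finset.single_le_sum (f := fun φ : Cfsg.IrrCharacter U => a φ * deg (φ : U → ℂ))
        (fun _ _ => Nat.zero_le _) (Finset.mem_univ (⟨ξ, hξ⟩ : Cfsg.IrrCharacter U))
    rw [← mul_assoc] at h2
    exact Nat.le_of_mul_le_mul_right h2 (Nat.pos_of_ne_zero fun h =>
      IsIrrCharacter.apply_one_ne_zero hθ (by rw [IsCharacter.apply_one_eq_deg (isCharacter_of_irr hθ), h, Nat.cast_zero]))
  have hZ'i : Z'.index = p ^ i := hi
  -- the induced character is a multiple of `χ`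
  have hindc := IsCharacter.indFun (G := G) (isCharacter_of_irr hξ)
  obtain ⟨c, hc1, hc2, -⟩ := exists_degree_decomp hindc
  have hone : ∀ φ : Cfsg.IrrCharacter G, φ ≠ ⟨χ, hχ⟩ → c φ = 0 := by
    intro φ hφ
    by_contra h0
    have hinner : Cfsg.classInner (fun x : U => (φ : G → ℂ) x) ξ ≠ 0 := fun h => h0 (by
      have h1 := hc2 φ
      rw [frobenius_reciprocity U ξ (isClassFunction_irr φ), ← classInner_conj_symm, h, map_zero] at h1
      exact_mod_cast h1.symm)
    have h2 : Cfsg.classInner (fun z : Z => (φ : G → ℂ) z) θ ≠ 0 :=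
      classInner_pullback_ne_zero (Subgroup.inclusion hZU) (IsCharacter.restrict (isCharacter_of_irr φ.2) U)
        hξ hinner hθ hc
    exact hφ (Subtype.ext (unique_over_of_ramified Z hθ hinvG hχ hres he φ φ.2 h2))
  have hind1 : U.index * m = c ⟨χ, hχ⟩ * e := by
    have h1 := congrFun hc1 1
    rw [indFun_one, Finset.sum_eq_single (⟨χ, hχ⟩ : Cfsg.IrrCharacter G)
      (fun φ _ hφ => by rw [hone φ hφ, Nat.cast_zero, zero_mul]) (by simp)] at h1
    have hξ1 : ξ 1 = (m : ℂ) * θ 1 := congrFun hm 1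
    have hχ1 : χ 1 = (e : ℂ) * θ 1 := congrFun hres 1
    rw [hξ1] at h1
    change _ = (c ⟨χ, hχ⟩ : ℂ) * χ 1 at h1
    rw [hχ1, ← mul_assoc, ← mul_assoc] at h1
    exact_mod_cast mul_right_cancel₀ (IsIrrCharacter.apply_one_ne_zero hθ) h1
  have hZi : Z.index = p ^ i * U.index := by rw [← hi]; exact (Subgroup.relIndex_mul_index hZU).symm
  have he0 : e ≠ 0 := fun h => Z.index_ne_zero_of_finite (by rw [← he, h])
  have hfac : 2 * e.factorization p = i := by
    have h1 := congrArg (fun n => n.factorization p) (he.trans hZi)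
    simp only [Nat.factorization_mul he0 he0, Nat.factorization_mul (pow_ne_zero i hp.out.ne_zero) U.index_ne_zero_of_finite,
      Finsupp.add_apply, Nat.Prime.factorization_pow hp.out, Finsupp.single_eq_same,
      Nat.factorization_eq_zero_of_not_dvd hUi, add_zero] at h1
    omega
  set r := e.factorization p with hr
  have hdvd : p ^ r ∣ U.index * m := hind1 ▸ dvd_mul_of_dvd_right (Nat.ordProj_dvd e p) _
  have hrm : p ^ r ∣ m := ((hp.out.coprime_iff_not_dvd.2 hUi).pow_left r).dvd_of_dvd_mul_left hdvd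
  have hge : p ^ r ≤ m := Nat.le_of_dvd hm0 hrm
  have h4 : p ^ r * p ^ r = p ^ i := by rw [← pow_add, ← two_mul, hfac]
  refine le_antisymm hle ?_
  rw [hZ'i, ← h4]
  exact Nat.mul_le_mul hge hge

/-- Cosets of a subgroup covered by another subgroup. -/
theorem index_eq_relIndex_of_cover (T U : Subgroup G) (h : ∀ g : G, ∃ u ∈ U, u⁻¹ * g ∈ T) :
    T.index = T.relIndex U := by
  refine (Nat.card_congr (Equiv.ofBijective
    (Quotient.map' (fun u : U => (u : G)) fun a b hab => ?_ : U ⧸ T.subgroupOf U → G ⧸ T) ⟨?_, ?_⟩)).symm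
  · rw [QuotientGroup.leftRel_apply, Subgroup.mem_subgroupOf] at hab
    rw [QuotientGroup.leftRel_apply]
    exact hab
  · intro x y hxy
    induction x using QuotientGroup.induction_on with
    | _ a =>
      induction y using QuotientGroup.induction_on with
      | _ b => exact QuotientGroup.eq.2 (Subgroup.mem_subgroupOf.2 (QuotientGroup.eq.1 hxy))
  · intro x
    induction x using QuotientGroup.induction_on with
    | _ g =>
      obtain ⟨u, hu, hug⟩ := h g
      exact ⟨QuotientGroup.mk (⟨u, hu⟩ : U), QuotientGroup.eq.2 hug⟩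

/-- A subgroup of `p`-power index from a regular orbit. -/
theorem exists_index_of_regular {p : ℕ} [hp : Fact p.Prime] (Z : Subgroup G) [Z.Normal] [Fintype Z]
    {θ : Z → ℂ} (hθ : Cfsg.IsIrrCharacter Z θ) {χ : G → ℂ} (hχ : Cfsg.IsIrrCharacter G χ) {e : ℕ}
    (he : e * e = Z.index) (hres : (fun z : Z => χ z) = (e : ℂ) • θ) (K : Subgroup G) [K.Normal] (hZK : Z ≤ K)
    (S : Sylow p G)
    (hR : ∀ ψ : ↥(Z ⊔ ((S : Subgroup G) ⊓ K)) → ℂ, Cfsg.IsIrrCharacter _ ψ →
      Cfsg.classInner (fun z : Z => ψ ⟨z, Subgroup.mem_sup_left z.2⟩) θ ≠ 0 →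
      ∀ u ∈ Z ⊔ (S : Subgroup G),
        (∀ (x : ↥(Z ⊔ ((S : Subgroup G) ⊓ K))) (hm : u * x * u⁻¹ ∈ Z ⊔ ((S : Subgroup G) ⊓ K)),
          ψ ⟨u * x * u⁻¹, hm⟩ = ψ x) → u ∈ Z ⊔ ((S : Subgroup G) ⊓ K)) :
    ∃ M : Subgroup (G ⧸ K), M.index = p ^ (Nat.card (G ⧸ K)).factorization p := by
  classical
  set π := QuotientGroup.mk' K
  have hπs : Function.Surjective π := QuotientGroup.mk'_surjective K
  set P₀ := S.mapSurjective hπs with hP₀
  -- the subgroups
  obtain ⟨SK, hSK⟩ := sylow_inf_normal S K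
  set D := (S : Subgroup G) ⊓ K with hD
  set N := Subgroup.normalizer (D : Set G) with hN
  set Kp := Z ⊔ D with hKp
  set U := Z ⊔ (S : Subgroup G) with hU
  have hDmap : (SK : Subgroup K).map K.subtype = D := by rw [hSK, Subgroup.subgroupOf_map_subtype]
  have hFr : N ⊔ K = ⊤ := by rw [hN, ← hDmap]; exact Sylow.normalizer_sup_eq_top SK
  have hSN : (S : Subgroup G) ≤ N := by
    intro s hs
    rw [hN, Subgroup.mem_normalizer_iff]
    intro x
    refine ⟨fun hx => ⟨(S : Subgroup G).mul_mem ((S : Subgroup G).mul_mem hs hx.1) ((S : Subgroup G).inv_mem hs),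
      Subgroup.Normal.conj_mem inferInstance x hx.2 s⟩, fun hx => ⟨?_, ?_⟩⟩
    · have := (S : Subgroup G).mul_mem ((S : Subgroup G).mul_mem ((S : Subgroup G).inv_mem hs) hx.1) hs
      simp [mul_assoc] at this
      exact this
    · have := Subgroup.Normal.conj_mem (inferInstance : K.Normal) _ hx.2 s⁻¹
      simpa [mul_assoc] using this
  set N' := N ⊔ Z with hN'
  have hUN : U ≤ N' := sup_le le_sup_right (hSN.trans le_sup_left)
  have hKpK : Kp ≤ K := sup_le hZK inf_le_right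
  have hKpU : Kp ≤ U := sup_le le_sup_left (inf_le_left.trans le_sup_right)
  have hKpN : Kp ≤ N' := hKpU.trans hUN
  have hnorm : ∀ g ∈ N', ∀ x ∈ Kp, g * x * g⁻¹ ∈ Kp := by
    intro g hg x hx
    obtain ⟨a, ha, z, hz, rfl⟩ := Subgroup.mem_sup_of_normal_right.1 hg
    obtain ⟨z', hz', d, hd, rfl⟩ := Subgroup.mem_sup_of_normal_left.1 hx
    have h1 : a * d * a⁻¹ ∈ D := (Subgroup.mem_normalizer_iff.1 ha d).1 hd
    have hzn := fun (y : G) (hy : y ∈ Z) (c : G) => Subgroup.Normal.conj_mem (inferInstance : Z.Normal) y hy c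
    have h2 : z * d * z⁻¹ * d⁻¹ ∈ Z := by
      have := Z.mul_mem hz (hzn _ (Z.inv_mem hz) d)
      simpa [mul_assoc] using this
    have h3 : a * z * (z' * d) * (a * z)⁻¹ =
        (a * (z * z' * z⁻¹) * a⁻¹) * (a * (z * d * z⁻¹ * d⁻¹) * a⁻¹) * (a * d * a⁻¹) := by group
    rw [h3]
    exact mul_mem (mul_mem (Subgroup.mem_sup_left (hzn _ (hzn _ hz' z) a))
      (Subgroup.mem_sup_left (hzn _ h2 a))) (Subgroup.mem_sup_right h1)
  -- `U` is `p` over `Z`
  have hUi : ¬ p ∣ U.index := fun h => S.not_dvd_index (h.trans (Subgroup.index_dvd_of_le le_sup_right))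
  have hUp : ∃ i, Z.relIndex U = p ^ i := by
    rw [hU, Subgroup.relIndex_sup_left]
    obtain ⟨j, hj⟩ := IsPGroup.iff_card.1 S.isPGroup'
    obtain ⟨i, -, hi⟩ := (Nat.dvd_prime_pow hp.out).1 (hj ▸ Subgroup.relIndex_dvd_card Z (S : Subgroup G))
    exact ⟨i, hi⟩
  letI : Fintype U := Fintype.ofFinite _
  have huniqU := ramified_over_sylow Z hθ hχ he hres U le_sup_left hUp hUi
  have hinvG : ∀ g : G, conjN Z g θ = θ := by
    intro g
    have he0 : (e : ℂ) ≠ 0 := fun h => Z.index_ne_zero_of_finite (by rw [← he, Nat.cast_eq_zero.1 h])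
    have h1 := conjN_restrict (N := Z) (isClassFunction_isChar (isCharacter_of_irr hχ)) g
    rw [hres] at h1
    funext z
    exact mul_left_cancel₀ he0 (congrFun h1 z)
  -- the subgroup `L` of `N'`
  set L := Kp.subgroupOf N' with hL
  haveI hLn : L.Normal := ⟨fun x hx g => hnorm g g.2 x hx⟩
  letI : Fintype L := Fintype.ofFinite _
  let jZ : Z →* L :=
    { toFun := fun z => ⟨⟨z, hKpN (Subgroup.mem_sup_left z.2)⟩, Subgroup.mem_subgroupOf.2 (Subgroup.mem_sup_left z.2)⟩
      map_one' := rfl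
      map_mul' := fun _ _ => rfl }
  let Over : (L → ℂ) → Prop := fun ψ => Cfsg.classInner (fun z : Z => ψ (jZ z)) θ ≠ 0
  obtain ⟨ψ, hψ, hψθ⟩ : ∃ ψ : L → ℂ, Cfsg.IsIrrCharacter L ψ ∧ Over ψ := by
    have hc : Cfsg.classInner (fun z : Z => χ z) θ ≠ 0 := by
      rw [hres, classInner_smul_left, classInner_self_irr hθ, mul_one]
      intro h
      exact Z.index_ne_zero_of_finite (by rw [← he, Nat.cast_eq_zero.1 h])
    letI : Fintype Kp := Fintype.ofFinite _
    obtain ⟨ψ₁, hψ₁, -, hψ₁θ⟩ := exists_constituent_over Kp (le_sup_left : Z ≤ Kp) (isCharacter_of_irr hχ) hc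
    exact ⟨fun x => ψ₁ (Subgroup.subgroupOfEquivOfLe hKpN x),
      IsIrrCharacter.comp_mulEquiv hψ₁ (Subgroup.subgroupOfEquivOfLe hKpN), hψ₁θ⟩
  have hOverConj : ∀ (φ : L → ℂ) (n : N'), Over φ → Over (conjN L n φ) := by
    intro φ n hφ
    show Cfsg.classInner (fun z : Z => conjN L n φ (jZ z)) θ ≠ 0
    have e1 : (fun z : Z => conjN L n φ (jZ z)) = conjN Z (n : G) (fun z : Z => φ (jZ z)) := rfl
    rw [e1, ← hinvG (n : G), classInner_conjN]
    exact hφ
  -- transfer to `U`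
  set LU := Kp.subgroupOf U with hLU
  haveI : LU.Normal := ⟨fun x hx u => hnorm u (hUN u.2) x hx⟩
  letI : Fintype LU := Fintype.ofFinite _
  let eU : LU ≃* L := (Subgroup.subgroupOfEquivOfLe hKpU).trans (Subgroup.subgroupOfEquivOfLe hKpN).symm
  let jU : Z →* LU :=
    { toFun := fun z => ⟨⟨z, Subgroup.mem_sup_left z.2⟩, Subgroup.mem_subgroupOf.2 (Subgroup.mem_sup_left z.2)⟩
      map_one' := rfl
      map_mul' := fun _ _ => rfl }
  have hup : ∀ (φ : L → ℂ), Cfsg.IsIrrCharacter L φ → Over φ → ∀ ξ : U → ℂ, Cfsg.IsIrrCharacter U ξ →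
      Cfsg.classInner (fun x : LU => ξ x) (fun x => φ (eU x)) ≠ 0 →
      Cfsg.classInner (fun z : Z => ξ ⟨z, Subgroup.mem_sup_left z.2⟩) θ ≠ 0 := by
    intro φ hφ hφθ ξ hξ hc
    exact classInner_pullback_ne_zero jU (IsCharacter.restrict (isCharacter_of_irr hξ) LU)
      (IsIrrCharacter.comp_mulEquiv hφ eU) hc hθ hφθ
  have hψU := IsIrrCharacter.comp_mulEquiv hψ eU
  have hreg : ∀ u : U, conjN L ⟨u, hUN u.2⟩ ψ = ψ → (u : G) ∈ Kp := by
    intro u hu
    letI : Fintype Kp := Fintype.ofFinite _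
    let eK := Subgroup.subgroupOfEquivOfLe hKpN
    exact hR (fun x => ψ (eK.symm x)) (IsIrrCharacter.comp_mulEquiv hψ eK.symm) hψθ u u.2
      fun x hm => congrFun hu (eK.symm x)
  have htrans : ∀ n : N', ∃ u : U, conjN L n ψ = conjN L ⟨u, hUN u.2⟩ ψ := by
    intro n
    set φ := conjN L n ψ with hφ
    have hφi := IsIrrCharacter.conjN hψ n
    obtain ⟨ξ, hξ, hc⟩ := exists_constituent_ind LU hψU
    obtain ⟨ξ', hξ', hc'⟩ := exists_constituent_ind LU (IsIrrCharacter.comp_mulEquiv hφi eU)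
    obtain rfl := huniqU ξ ξ' hξ hξ' (hup ψ hψ hψθ ξ hξ hc) (hup φ hφi (hOverConj ψ n hψθ) ξ' hξ' hc')
    obtain ⟨u, hu⟩ := exists_conjN_of_constituents LU hξ hψU (IsIrrCharacter.comp_mulEquiv hφi eU) hc hc'
    refine ⟨u, funext fun x => ?_⟩
    have h1 := congrFun hu (eU.symm x)
    simp only [MulEquiv.apply_symm_apply] at h1
    refine h1.trans ?_
    show ψ (eU ⟨_, _⟩) = ψ ⟨_, _⟩
    rfl
  -- the stabilizer
  set T := inertia L ψ with hT
  set U' := U.subgroupOf N' with hU'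
  have hTi : T.index = Kp.relIndex U := by
    rw [index_eq_relIndex_of_cover T U' fun n => ?_]
    · have e1 : T.subgroupOf U' = L.subgroupOf U' := by
        ext x
        rw [Subgroup.mem_subgroupOf, Subgroup.mem_subgroupOf, hL, Subgroup.mem_subgroupOf]
        constructor
        · intro hx
          exact hreg ⟨((x : N') : G), x.2⟩ (mem_inertia.1 hx)
        · intro hx
          exact le_inertia (isClassFunction_isChar (isCharacter_of_irr hψ)) (Subgroup.mem_subgroupOf.2 hx)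
      show (T.subgroupOf U').index = _
      rw [e1]
      exact Subgroup.relIndex_subgroupOf hUN
    · obtain ⟨u, hu⟩ := htrans n⁻¹
      set u' : N' := ⟨u, hUN u.2⟩ with hu'
      refine ⟨u'⁻¹, U'.inv_mem u.2, ?_⟩
      rw [inv_inv, mem_inertia]
      have h1 : u' * n = u' * n⁻¹⁻¹ := by rw [inv_inv]
      rw [h1, conjN_mul, ← hu, ← conjN_mul, mul_inv_cancel, conjN_one]
  -- `K` fixes the orbit pointwise
  set W := K.subgroupOf N' with hW
  have hLT : L ≤ T := le_inertia (isClassFunction_isChar (isCharacter_of_irr hψ))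
  have hWT : W ≤ T := by
    rw [← Subgroup.relIndex_eq_one]
    have h1 : T.relIndex W ∣ Kp.relIndex U := by
      rw [← hTi, ← relIndex_sup_of_normal W T]
      exact Subgroup.relIndex_dvd_index_of_le le_sup_right
    have h2 : T.relIndex W ∣ D.relIndex K := by
      refine (Subgroup.relIndex_dvd_of_le_left W hLT).trans ?_
      have e1 : L.relIndex W = Kp.relIndex (K ⊓ N') := by
        rw [hW, ← Subgroup.inf_subgroupOf_right K N', hL, Subgroup.relIndex_subgroupOf inf_le_right]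
      rw [e1]
      have h3 : Kp.relIndex (K ⊓ N') ∣ Kp.relIndex K :=
        Dvd.intro _ (Subgroup.relIndex_mul_relIndex Kp (K ⊓ N') K (le_inf hKpK hKpN) inf_le_left)
      exact h3.trans (Subgroup.relIndex_dvd_of_le_left K le_sup_right)
    obtain ⟨i, hi⟩ : ∃ i, Kp.relIndex U = p ^ i := by
      obtain ⟨i, hi⟩ := hUp
      have h3 : Z.relIndex Kp * Kp.relIndex U = p ^ i := hi ▸ Subgroup.relIndex_mul_relIndex Z Kp U le_sup_left hKpU
      obtain ⟨k, -, hk⟩ := (Nat.dvd_prime_pow hp.out).1 (Dvd.intro_left _ h3)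
      exact ⟨k, hk⟩
    have hpD : ¬ p ∣ D.relIndex K := by
      rw [hD, Subgroup.inf_relIndex_right]
      show ¬ p ∣ ((S : Subgroup G).subgroupOf K).index
      rw [← hSK]
      exact SK.not_dvd_index
    exact Nat.eq_one_of_dvd_coprimes (Nat.Coprime.pow_left i (hp.out.coprime_iff_not_dvd.2 hpD)) (hi ▸ h1) h2
  -- the complement
  set f : N' →* G ⧸ K := π.comp N'.subtype with hf
  have hfs : Function.Surjective f := by
    intro c
    obtain ⟨g, rfl⟩ := hπs c
    obtain ⟨a, ha, k, hk, rfl⟩ := Subgroup.mem_sup_of_normal_right.1 (hFr ▸ Subgroup.mem_top g : g ∈ N ⊔ K)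
    refine ⟨⟨a, Subgroup.mem_sup_left ha⟩, ?_⟩
    show π a = π (a * k)
    rw [map_mul, show π k = 1 from (QuotientGroup.eq_one_iff k).2 hk, mul_one]
  have hker : f.ker ≤ T := fun x hx => hWT (Subgroup.mem_subgroupOf.2 ((QuotientGroup.eq_one_iff (x : G)).1 hx))
  refine ⟨T.map f, ?_⟩
  rw [Subgroup.index_map_eq T hfs hker, hTi]
  have hUK : U ⊓ K = Kp := by
    refine le_antisymm ?_ (le_inf hKpU hKpK)
    rintro x ⟨hxU, hxK⟩
    obtain ⟨z, hz, s, hs, rfl⟩ := Subgroup.mem_sup_of_normal_left.1 hxU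
    have hsK : s ∈ K := by simpa using K.mul_mem (K.inv_mem (hZK hz)) hxK
    exact mul_mem (Subgroup.mem_sup_left hz) (Subgroup.mem_sup_right ⟨hs, hsK⟩)
  rw [← P₀.card_eq_multiplicity, hP₀, Sylow.coe_mapSurjective, ← Subgroup.relIndex_bot_left, ← Subgroup.map_bot π,
    Subgroup.relIndex_map_map, QuotientGroup.ker_mk', bot_sup_eq, ← hUK, Subgroup.inf_relIndex_left]
  rw [Subgroup.relIndex_sup_right, ← Subgroup.relIndex_sup_right U K]
  have e : U ⊔ K = (S : Subgroup G) ⊔ K := by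
    rw [hU, sup_comm Z, sup_assoc, sup_eq_right.2 hZK]
  rw [e, Subgroup.relIndex_sup_right]

/-- A subgroup of `p`-power index complements a Sylow subgroup. -/
theorem isComplement'_of_index {Q : Type u} [Group Q] [Finite Q] {p : ℕ} [hp : Fact p.Prime] (P : Sylow p Q)
    (M : Subgroup Q) (hM : M.index = p ^ (Nat.card Q).factorization p) :
    M.IsComplement' (P : Subgroup Q) := by
  have hcard : Nat.card M * Nat.card P = Nat.card Q := by
    rw [P.card_eq_multiplicity, ← hM, Subgroup.card_mul_index]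
  refine Subgroup.isComplement'_of_coprime hcard ?_
  rw [P.card_eq_multiplicity]
  refine Nat.Coprime.pow_right _ (Nat.Coprime.symm (hp.out.coprime_iff_not_dvd.2 fun h => ?_))
  have h2 : p ^ ((Nat.card Q).factorization p + 1) ∣ Nat.card Q := by
    conv_rhs => rw [← hcard, P.card_eq_multiplicity, mul_comm]
    rw [pow_succ]
    exact mul_dvd_mul_left _ h
  have h3 := (hp.out.pow_dvd_iff_le_factorization Nat.card_pos.ne').1 h2
  omega

/-- **The complement of a cyclic Sylow subgroup.** -/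
theorem exists_complement_of_ramified {p : ℕ} [hp : Fact p.Prime] (Z : Subgroup G) [Z.Normal] [Fintype Z]
    {θ : Z → ℂ} (hθ : Cfsg.IsIrrCharacter Z θ) {χ : G → ℂ} (hχ : Cfsg.IsIrrCharacter G χ) {e : ℕ}
    (he : e * e = Z.index) (hres : (fun z : Z => χ z) = (e : ℂ) • θ) (K : Subgroup G) [K.Normal] (hZK : Z ≤ K)
    (P : Sylow p (G ⧸ K)) (hcyc : IsCyclic P) :
    ∃ M : Subgroup (G ⧸ K), M.IsComplement' (P : Subgroup (G ⧸ K)) := by
  classical
  obtain ⟨S⟩ : Nonempty (Sylow p G) := inferInstance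
  set π := QuotientGroup.mk' K
  have hπs : Function.Surjective π := QuotientGroup.mk'_surjective K
  set P₀ := S.mapSurjective hπs with hP₀
  have hP₀c : IsCyclic P₀ := by
    haveI := hcyc
    exact isCyclic_of_injective (Sylow.equiv P₀ P).toMonoidHom (Sylow.equiv P₀ P).injective
  suffices h : ∃ M : Subgroup (G ⧸ K), M.index = p ^ (Nat.card (G ⧸ K)).factorization p by
    obtain ⟨M, hM⟩ := h
    exact ⟨M, isComplement'_of_index P M hM⟩
  refine exists_index_of_regular Z hθ hχ he hres K hZK S ?_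
  set D := (S : Subgroup G) ⊓ K with hD
  set Kp := Z ⊔ D with hKp
  set U := Z ⊔ (S : Subgroup G) with hU
  intro ψ hψ hψθ u hu hfix
  have hKpK : Kp ≤ K := sup_le hZK inf_le_right
  have hKpU : Kp ≤ U := sup_le le_sup_left (inf_le_left.trans le_sup_right)
  have hUi : ¬ p ∣ U.index := fun h => S.not_dvd_index (h.trans (Subgroup.index_dvd_of_le le_sup_right))
  have hUp : ∃ i, Z.relIndex U = p ^ i := by
    rw [hU, Subgroup.relIndex_sup_left]
    obtain ⟨j, hj⟩ := IsPGroup.iff_card.1 S.isPGroup'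
    obtain ⟨i, -, hi⟩ := (Nat.dvd_prime_pow hp.out).1 (hj ▸ Subgroup.relIndex_dvd_card Z (S : Subgroup G))
    exact ⟨i, hi⟩
  letI : Fintype U := Fintype.ofFinite _
  letI : Fintype Kp := Fintype.ofFinite _
  have huniqU := ramified_over_sylow Z hθ hχ he hres U le_sup_left hUp hUi
  set LU := Kp.subgroupOf U with hLU
  have hUK : ∀ x : G, x ∈ U → x ∈ K → x ∈ Kp := by
    intro x hxU hxK
    obtain ⟨z, hz, s, hs, rfl⟩ := Subgroup.mem_sup_of_normal_left.1 hxU
    have hsK : s ∈ K := by simpa using K.mul_mem (K.inv_mem (hZK hz)) hxK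
    exact mul_mem (Subgroup.mem_sup_left hz) (Subgroup.mem_sup_right ⟨hs, hsK⟩)
  haveI : LU.Normal := ⟨fun x hx v => hUK _ (v * x * v⁻¹).2 (Subgroup.Normal.conj_mem inferInstance _ (hKpK hx) (v : G))⟩
  letI : Fintype LU := Fintype.ofFinite _
  let eU := Subgroup.subgroupOfEquivOfLe hKpU
  have hcycU : IsCyclic (U ⧸ LU) := by
    let f : U →* (P₀ : Subgroup (G ⧸ K)) := (π.comp U.subtype).codRestrict _ fun u => by
      obtain ⟨z, hz, s, hs, he'⟩ := Subgroup.mem_sup_of_normal_left.1 u.2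
      show π (u : G) ∈ (P₀ : Subgroup (G ⧸ K))
      rw [← he', map_mul, show π z = 1 from (QuotientGroup.eq_one_iff z).2 (hZK hz), one_mul, hP₀, Sylow.coe_mapSurjective]
      exact Subgroup.mem_map_of_mem π hs
    have hker : f.ker = LU := by
      ext u
      rw [MonoidHom.mem_ker, Subgroup.mem_subgroupOf, Subtype.ext_iff]
      show π (u : G) = 1 ↔ _
      rw [QuotientGroup.mk'_apply, QuotientGroup.eq_one_iff]
      refine ⟨fun hu => ?_, fun hu => hKpK hu⟩
      obtain ⟨z, hz, s, hs, he'⟩ := Subgroup.mem_sup_of_normal_left.1 u.2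
      have hsK : s ∈ K := by
        have h := K.mul_mem (K.inv_mem (hZK hz)) hu
        rwa [← he', inv_mul_cancel_left] at h
      rw [← he']
      exact mul_mem (Subgroup.mem_sup_left hz) (Subgroup.mem_sup_right ⟨hs, hsK⟩)
    haveI := hP₀c
    let f' : U ⧸ LU →* (P₀ : Subgroup (G ⧸ K)) := QuotientGroup.lift LU f hker.ge
    refine isCyclic_of_injective f' ((injective_iff_map_eq_one f').2 fun a ha => ?_)
    obtain ⟨a, rfl⟩ := QuotientGroup.mk_surjective a
    exact (QuotientGroup.eq_one_iff a).2 (hker ▸ MonoidHom.mem_ker.2 ha)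
  have hψU := IsIrrCharacter.comp_mulEquiv hψ eU
  let jU : Z →* LU :=
    { toFun := fun z => ⟨⟨z, Subgroup.mem_sup_left z.2⟩, Subgroup.mem_subgroupOf.2 (Subgroup.mem_sup_left z.2)⟩
      map_one' := rfl
      map_mul' := fun _ _ => rfl }
  have hup : ∀ ξ : U → ℂ, Cfsg.IsIrrCharacter U ξ →
      Cfsg.classInner (fun x : LU => ξ x) (fun x => ψ (eU x)) ≠ 0 →
      Cfsg.classInner (fun z : Z => ξ ⟨z, Subgroup.mem_sup_left z.2⟩) θ ≠ 0 := fun ξ hξ hc =>
    classInner_pullback_ne_zero jU (IsCharacter.restrict (isCharacter_of_irr hξ) LU) hψU hc hθ hψθ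
  refine Subgroup.mem_subgroupOf.1 (mem_of_fixes_of_unique LU hcycU hψU (fun ξ ξ' hξ hξ' hc hc' =>
    huniqU ξ ξ' hξ hξ' (hup ξ hξ hc) (hup ξ' hξ' hc')) ⟨u, hu⟩ ?_)
  funext x
  exact hfix (eU x) _

end Cfsg.Lib.Chars
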