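import Mathlib
import Cfsg.Agent.Chars.RamifiedComplement

/-!
# Induced fully ramified characters

If a fully ramified character is induced from a normal subgroup `K`, then the quotient by `K` has a
Hall `p'`-subgroup for every prime `p`.
-/

set_option autoImplicit false
set_option linter.unusedSectionVars false

namespace Cfsg.Lib.Chars

open scoped ComplexConjugate

universe u

variable {G : Type u} [Group G] [Fintype G]

/-- **Hall subgroups under an induced fully ramified character.** -/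
theorem exists_index_of_induced {p : ℕ} [hp : Fact p.Prime] (Z : Subgroup G) [Z.Normal] [Fintype Z]
    {θ : Z → ℂ} (hθ : Cfsg.IsIrrCharacter Z θ) {χ : G → ℂ} (hχ : Cfsg.IsIrrCharacter G χ) {e : ℕ}
    (he : e * e = Z.index) (hres : (fun z : Z => χ z) = (e : ℂ) • θ) (K : Subgroup G) [K.Normal] [Fintype K]
    (hZK : Z ≤ K) (φ : K → ℂ) (hφ : Cfsg.IsCharacter K φ) (hind : Cfsg.indFun K φ = χ) :
    ∃ M : Subgroup (G ⧸ K), M.index = p ^ (Nat.card (G ⧸ K)).factorization p := by
  classical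
  obtain ⟨S⟩ : Nonempty (Sylow p G) := inferInstance
  refine exists_index_of_regular Z hθ hχ he hres K hZK S ?_
  obtain ⟨SK, hSK⟩ := sylow_inf_normal S K
  set D := (S : Subgroup G) ⊓ K with hD
  set Kp := Z ⊔ D with hKp
  set U := Z ⊔ (S : Subgroup G) with hU
  intro ψ hψ hψθ u hu hfix
  have hKpK : Kp ≤ K := sup_le hZK inf_le_right
  have hKpU : Kp ≤ U := sup_le le_sup_left (inf_le_left.trans le_sup_right)
  have hZKp : Z ≤ Kp := le_sup_left
  have hUi : ¬ p ∣ U.index := fun h => S.not_dvd_index (h.trans (Subgroup.index_dvd_of_le le_sup_right))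
  have hUp : ∃ i, Z.relIndex U = p ^ i := by
    rw [hU, Subgroup.relIndex_sup_left]
    obtain ⟨j, hj⟩ := IsPGroup.iff_card.1 S.isPGroup'
    obtain ⟨i, -, hi⟩ := (Nat.dvd_prime_pow hp.out).1 (hj ▸ Subgroup.relIndex_dvd_card Z (S : Subgroup G))
    exact ⟨i, hi⟩
  letI : Fintype U := Fintype.ofFinite _
  letI : Fintype Kp := Fintype.ofFinite _
  have huniqU := ramified_over_sylow Z hθ hχ he hres U le_sup_left hUp hUi
  have he0 : (e : ℂ) ≠ 0 := fun h => Z.index_ne_zero_of_finite (by rw [← he, Nat.cast_eq_zero.1 h])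
  have hinvG : ∀ g : G, conjN Z g θ = θ := by
    intro g
    have h1 := conjN_restrict (N := Z) (isClassFunction_isChar (isCharacter_of_irr hχ)) g
    rw [hres] at h1
    funext z
    exact mul_left_cancel₀ he0 (congrFun h1 z)
  -- degrees
  set θ1 := deg θ with hθ1
  have hθ0 : 0 < θ1 := deg_irr_pos ⟨θ, hθ⟩
  obtain ⟨a, ha0, ha⟩ := restrict_of_le_inertia Z hθ Kp hZKp (fun g _ => mem_inertia.2 (hinvG g)) hψ hψθ
  have hψd : deg ψ = a * θ1 := by
    apply Nat.cast_injective (R := ℂ)
    rw [Nat.cast_mul, ← IsCharacter.apply_one_eq_deg (isCharacter_of_irr hψ),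
      ← IsCharacter.apply_one_eq_deg (isCharacter_of_irr hθ)]
    exact congrFun ha 1
  -- the action of `U`
  set LU := Kp.subgroupOf U with hLU
  have hUK : ∀ x : G, x ∈ U → x ∈ K → x ∈ Kp := by
    intro x hxU hxK
    obtain ⟨z, hz, s, hs, rfl⟩ := Subgroup.mem_sup_of_normal_left.1 hxU
    have hsK : s ∈ K := by simpa using K.mul_mem (K.inv_mem (hZK hz)) hxK
    exact mul_mem (Subgroup.mem_sup_left hz) (Subgroup.mem_sup_right ⟨hs, hsK⟩)
  haveI : LU.Normal := ⟨fun x hx v =>
    hUK _ (v * x * v⁻¹).2 (Subgroup.Normal.conj_mem inferInstance _ (hKpK hx) (v : G))⟩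
  letI : Fintype LU := Fintype.ofFinite _
  let eU := Subgroup.subgroupOfEquivOfLe hKpU
  let jU : Z →* LU :=
    { toFun := fun z => ⟨⟨z, Subgroup.mem_sup_left z.2⟩, Subgroup.mem_subgroupOf.2 (Subgroup.mem_sup_left z.2)⟩
      map_one' := rfl
      map_mul' := fun _ _ => rfl }
  set ψU : LU → ℂ := fun x => ψ (eU x) with hψUdef
  have hψU : Cfsg.IsIrrCharacter LU ψU := IsIrrCharacter.comp_mulEquiv hψ eU
  have hup : ∀ (η : Kp → ℂ), Cfsg.IsIrrCharacter Kp η →
      Cfsg.classInner (fun z : Z => η ⟨z, hZKp z.2⟩) θ ≠ 0 → ∀ ξ : U → ℂ, Cfsg.IsIrrCharacter U ξ →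
      Cfsg.classInner (fun x : LU => ξ x) (fun x => η (eU x)) ≠ 0 →
      Cfsg.classInner (fun z : Z => ξ ⟨z, Subgroup.mem_sup_left z.2⟩) θ ≠ 0 := fun η hη hηθ ξ hξ hc =>
    classInner_pullback_ne_zero jU (IsCharacter.restrict (isCharacter_of_irr hξ) LU)
      (IsIrrCharacter.comp_mulEquiv hη eU) hc hθ hηθ
  -- the constituents over `θ` form one orbit
  have htrans : ∀ η : Kp → ℂ, Cfsg.IsIrrCharacter Kp η → Cfsg.classInner (fun z : Z => η ⟨z, hZKp z.2⟩) θ ≠ 0 →
      (fun x => η (eU x)) ∈ conjOrbit LU ψU := by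
    intro η hη hηθ
    have hηU := IsIrrCharacter.comp_mulEquiv hη eU
    obtain ⟨ξ, hξ, hc⟩ := exists_constituent_ind LU hψU
    obtain ⟨ξ', hξ', hc'⟩ := exists_constituent_ind LU hηU
    obtain rfl := huniqU ξ ξ' hξ hξ' (hup ψ hψ hψθ ξ hξ hc) (hup η hη hηθ ξ' hξ' hc')
    obtain ⟨v, hv⟩ := exists_conjN_of_constituents LU hξ hψU hηU hc hc'
    exact (mem_conjOrbit LU).2 ⟨v, hv.symm⟩
  have hdegsame : ∀ η : Kp → ℂ, Cfsg.IsIrrCharacter Kp η → Cfsg.classInner (fun z : Z => η ⟨z, hZKp z.2⟩) θ ≠ 0 →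
      (fun z : Z => η ⟨z, hZKp z.2⟩) = (a : ℂ) • θ := by
    intro η hη hηθ
    obtain ⟨v, hv⟩ := (mem_conjOrbit LU).1 (htrans η hη hηθ)
    obtain ⟨b, -, hb⟩ := restrict_of_le_inertia Z hθ Kp hZKp (fun g _ => mem_inertia.2 (hinvG g)) hη hηθ
    have h1 : η 1 = ψ 1 := by
      have h := congrFun hv 1
      simp only [conjN, OneMemClass.coe_one, mul_one, mul_inv_cancel] at h
      rw [show (⟨1, _⟩ : LU) = 1 from rfl, hψUdef] at h
      simp only [map_one] at h
      exact h.symm
    have h2 : (b : ℂ) * θ 1 = (a : ℂ) * θ 1 := by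
      have e1 := congrFun hb 1
      have e2 := congrFun ha 1
      simp only [OneMemClass.coe_one, Pi.smul_apply, smul_eq_mul] at e1 e2
      rw [← e1, ← e2]
      exact h1
    rw [hb, mul_right_cancel₀ (IsIrrCharacter.apply_one_ne_zero hθ) h2]
  -- the sum of squares
  set Z' := Z.subgroupOf Kp with hZ'
  letI : Fintype Z' := Fintype.ofFinite _
  let eZ := Subgroup.subgroupOfEquivOfLe hZKp
  set θ' : Z' → ℂ := fun x => θ (eZ x) with hθ'def
  have hθ' : Cfsg.IsIrrCharacter Z' θ' := IsIrrCharacter.comp_mulEquiv hθ eZ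
  obtain ⟨m, hm, hm', -⟩ := exists_degree_decomp (IsCharacter.indFun (G := Kp) (isCharacter_of_irr hθ'))
  have hmval : ∀ η : Cfsg.IrrCharacter Kp,
      (m η = a ↔ Cfsg.classInner (fun z : Z => (η : Kp → ℂ) ⟨z, hZKp z.2⟩) θ ≠ 0) ∧ (m η ≠ 0 → m η = a) := by
    intro η
    have h1 := hm' η
    rw [frobenius_reciprocity Z' θ' (isClassFunction_irr η)] at h1
    have h2 : Cfsg.classInner θ' (fun x : Z' => (η : Kp → ℂ) x) =
        Cfsg.classInner θ (fun z : Z => (η : Kp → ℂ) ⟨z, hZKp z.2⟩) :=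
      classInner_comp_equiv eZ.toEquiv θ (fun z : Z => (η : Kp → ℂ) ⟨z, hZKp z.2⟩)
    rw [h2] at h1
    have h3 : ∀ h : Cfsg.classInner (fun z : Z => (η : Kp → ℂ) ⟨z, hZKp z.2⟩) θ ≠ 0, m η = a := by
      intro h
      rw [hdegsame _ η.2 h, classInner_smul_right, classInner_self_irr hθ, mul_one, Complex.conj_natCast] at h1
      exact_mod_cast h1.symm
    refine ⟨⟨fun hma h0 => ?_, h3⟩, fun hne => h3 fun h0 => hne ?_⟩
    · rw [← classInner_conj_symm, h1, hma, Complex.conj_natCast, Nat.cast_eq_zero] at h0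
      omega
    · rw [← classInner_conj_symm, h1, Complex.conj_natCast, Nat.cast_eq_zero] at h0
      exact h0
  set F := Finset.univ.filter fun η : Cfsg.IrrCharacter Kp => m η = a with hF
  have hsum : Z'.index = F.card * (a * a) := by
    have h1 := congrFun hm 1
    rw [indFun_one] at h1
    have h2 : ∀ η : Cfsg.IrrCharacter Kp, (m η : ℂ) * (η : Kp → ℂ) 1 = if m η = a then (a : ℂ) * (a * θ1 : ℕ) else 0 := by
      intro η
      split_ifs with hη
      · rw [hη]
        congr 1
        have h3 := congrFun (hdegsame _ η.2 ((hmval η).1.1 hη)) 1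
        simp only [OneMemClass.coe_one, Pi.smul_apply, smul_eq_mul] at h3
        rw [show (⟨1, _⟩ : Kp) = 1 from rfl] at h3
        rw [h3, Nat.cast_mul, IsCharacter.apply_one_eq_deg (isCharacter_of_irr hθ)]
      · rcases Nat.eq_zero_or_pos (m η) with h | h
        · rw [h, Nat.cast_zero, zero_mul]
        · exact absurd ((hmval η).2 h.ne') hη
    rw [Finset.sum_congr rfl (fun η _ => h2 η), ← Finset.sum_filter, Finset.sum_const, ← hF, hθ'def] at h1
    simp only [map_one] at h1
    rw [IsCharacter.apply_one_eq_deg (isCharacter_of_irr hθ), ← hθ1, nsmul_eq_mul] at h1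
    have h3 : Z'.index * θ1 = F.card * (a * a) * θ1 := by
      apply Nat.cast_injective (R := ℂ)
      push_cast at h1 ⊢
      rw [h1]; ring
    exact Nat.eq_of_mul_eq_mul_right hθ0 h3
  have hFO : F.card = (conjOrbit LU ψU).card := by
    refine Finset.card_bij (fun η _ => fun x => (η : Kp → ℂ) (eU x))
      (fun η hη => htrans _ η.2 ((hmval η).1.1 (Finset.mem_filter.1 hη).2)) ?_ ?_
    · intro η _ η' _ h
      apply Subtype.ext
      funext x
      simpa using congrFun h (eU.symm x)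
    · intro f hf
      obtain ⟨v, rfl⟩ := (mem_conjOrbit LU).1 hf
      have hirr : Cfsg.IsIrrCharacter Kp (fun x => conjN LU v ψU (eU.symm x)) :=
        IsIrrCharacter.comp_mulEquiv (IsIrrCharacter.conjN hψU v) eU.symm
      refine ⟨⟨_, hirr⟩, Finset.mem_filter.2 ⟨Finset.mem_univ _, (hmval _).1.2 ?_⟩, funext fun x => ?_⟩
      · show Cfsg.classInner (fun z : Z => conjN LU v ψU (eU.symm ⟨z, hZKp z.2⟩)) θ ≠ 0
        have e1 : (fun z : Z => conjN LU v ψU (eU.symm ⟨z, hZKp z.2⟩)) =
            conjN Z (v : G) (fun z : Z => ψ ⟨z, hZKp z.2⟩) := rfl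
        rw [e1, ← hinvG (v : G), classInner_conjN]
        exact hψθ
      · show conjN LU v ψU (eU.symm (eU x)) = _
        rw [MulEquiv.symm_apply_apply]
  -- the divisibility
  have hφi : Cfsg.IsIrrCharacter K φ := irr_of_indFun_irr K hφ (hind ▸ hχ)
  have hφc : Cfsg.classInner (fun x : K => χ x) φ ≠ 0 := by
    rw [← classInner_conj_symm, ← frobenius_reciprocity K φ (isClassFunction_isChar (isCharacter_of_irr hχ)), hind,
      classInner_self_irr hχ, map_one]
    exact one_ne_zero
  have honly : ∀ η : Z → ℂ, Cfsg.IsIrrCharacter Z η → Cfsg.classInner (fun z : Z => χ z) η ≠ 0 → η = θ := by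
    intro η hη hc
    rw [hres, classInner_smul_left, classInner_irrChar hθ hη] at hc
    by_contra hne
    rw [if_neg (Ne.symm hne), mul_zero] at hc
    exact hc rfl
  have hφθ : Cfsg.classInner (fun z : Z => φ ⟨z, hZK z.2⟩) θ ≠ 0 := by
    let jK : Z →* K := Subgroup.inclusion hZK
    obtain ⟨η, hη, hc⟩ : ∃ η : Z → ℂ, Cfsg.IsIrrCharacter Z η ∧
        Cfsg.classInner (fun z : Z => φ ⟨z, hZK z.2⟩) η ≠ 0 := by
      by_contra h
      push Not at h
      have := eq_zero_of_classInner_eq_zero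
        (isClassFunction_isChar (IsCharacter.comp_hom (isCharacter_of_irr hφi) jK)) fun η => h η η.2
      exact IsIrrCharacter.apply_one_ne_zero hφi (congrFun this 1)
    have h1 := classInner_pullback_ne_zero jK (IsCharacter.restrict (isCharacter_of_irr hχ) K) hφi hφc hη hc
    exact honly η hη h1 ▸ hc
  obtain ⟨d, hd0, hd⟩ := restrict_of_le_inertia Z hθ K hZK (fun g _ => mem_inertia.2 (hinvG g)) hφi hφθ
  have hφd : deg φ = d * θ1 := by
    apply Nat.cast_injective (R := ℂ)
    rw [Nat.cast_mul, ← IsCharacter.apply_one_eq_deg (isCharacter_of_irr hφi),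
      ← IsCharacter.apply_one_eq_deg (isCharacter_of_irr hθ)]
    exact congrFun hd 1
  have hed : K.index * d = e := by
    have h1 : χ 1 = (K.index : ℂ) * φ 1 := by rw [← hind, indFun_one]
    rw [show χ 1 = (e : ℂ) * θ 1 from congrFun hres 1, show φ 1 = (d : ℂ) * θ 1 from congrFun hd 1, ← mul_assoc] at h1
    exact_mod_cast (mul_right_cancel₀ (IsIrrCharacter.apply_one_ne_zero hθ) h1).symm
  have had : a ∣ d := by
    obtain ⟨c, hc, hc', hcd⟩ := exists_degree_decomp (IsCharacter.comp_hom (isCharacter_of_irr hφi) (Subgroup.inclusion hKpK))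
    have hdvd : a * θ1 ∣ d * θ1 := by
      have e1 : deg (fun x : Kp => φ (Subgroup.inclusion hKpK x)) = d * θ1 := by
        rw [← hφd]
        apply Nat.cast_injective (R := ℂ)
        rw [← IsCharacter.apply_one_eq_deg (IsCharacter.comp_hom (isCharacter_of_irr hφi) _),
          ← IsCharacter.apply_one_eq_deg (isCharacter_of_irr hφi), map_one]
      rw [← e1, hcd]
      refine Finset.dvd_sum fun η _ => ?_
      rcases Nat.eq_zero_or_pos (c η) with h | h
      · rw [h, zero_mul]; exact dvd_zero _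
      refine dvd_mul_of_dvd_right (dvd_of_eq ?_) _
      have hne : Cfsg.classInner (fun x : Kp => φ (Subgroup.inclusion hKpK x)) (η : Kp → ℂ) ≠ 0 := by
        rw [hc' η]; exact_mod_cast h.ne'
      obtain ⟨ν, hν, hνc⟩ : ∃ ν : Z → ℂ, Cfsg.IsIrrCharacter Z ν ∧
          Cfsg.classInner (fun z : Z => (η : Kp → ℂ) ⟨z, hZKp z.2⟩) ν ≠ 0 := by
        by_contra h'
        push Not at h'
        have := eq_zero_of_classInner_eq_zero
          (isClassFunction_isChar (IsCharacter.comp_hom (isCharacter_of_irr η.2) (Subgroup.inclusion hZKp))) fun ν => h' ν ν.2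
        exact IsIrrCharacter.apply_one_ne_zero η.2 (congrFun this 1)
      have h1 := classInner_pullback_ne_zero (Subgroup.inclusion hZKp)
        (IsCharacter.comp_hom (isCharacter_of_irr hφi) (Subgroup.inclusion hKpK)) η.2 hne hν hνc
      have h2 := classInner_pullback_ne_zero (Subgroup.inclusion hZK) (IsCharacter.restrict (isCharacter_of_irr hχ) K)
        hφi hφc hν h1
      obtain rfl := honly ν hν h2
      apply Nat.cast_injective (R := ℂ)
      rw [Nat.cast_mul, hθ1, ← IsCharacter.apply_one_eq_deg (isCharacter_of_irr hθ), ← irr_apply_one_eq_deg η]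
      exact (congrFun (hdegsame _ η.2 hνc) 1).symm
    exact Nat.dvd_of_mul_dvd_mul_right hθ0 hdvd
  -- the count of the primes
  set T := inertia LU ψU with hT
  have hTle : LU ≤ T := le_inertia (isClassFunction_isChar (isCharacter_of_irr hψU))
  have htT : (conjOrbit LU ψU).card = T.index := by
    have h1 := card_conjOrbit LU ψU
    rw [← T.index_mul_card] at h1
    exact Nat.eq_of_mul_eq_mul_right Nat.card_pos h1
  obtain ⟨i, hi⟩ := hUp
  have hsplit : Z.relIndex Kp * Kp.relIndex U = p ^ i := hi ▸ Subgroup.relIndex_mul_relIndex Z Kp U hZKp hKpU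
  obtain ⟨k, -, hk⟩ := (Nat.dvd_prime_pow hp.out).1 (Dvd.intro _ hsplit)
  obtain ⟨n, -, hn⟩ := (Nat.dvd_prime_pow hp.out).1 (Dvd.intro_left _ hsplit)
  have hLUi : LU.index = p ^ n := hn
  obtain ⟨τ, hτn, hτ⟩ := (Nat.dvd_prime_pow hp.out).1 (hLUi ▸ Subgroup.index_dvd_of_le hTle)
  have hk' : Z'.index = p ^ k := hk
  rw [hFO, htT, hτ, hk'] at hsum
  obtain ⟨α, -, hα⟩ := (Nat.dvd_prime_pow hp.out).1 (dvd_trans (dvd_mul_right a a) (Dvd.intro_left _ hsum.symm) : a ∣ p ^ k)
  have hKi : ¬ p ∣ Kp.relIndex K := by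
    intro h
    apply SK.not_dvd_index
    rw [hSK]
    show p ∣ (S : Subgroup G).relIndex K
    rw [← Subgroup.inf_relIndex_right, ← hD]
    exact h.trans (Subgroup.relIndex_dvd_of_le_left K le_sup_right)
  have hd0' : d ≠ 0 := by omega
  have hKi0 : K.index ≠ 0 := K.index_ne_zero_of_finite
  have hKp0 : Kp.relIndex K ≠ 0 := Subgroup.index_ne_zero_of_finite
  have e1 : Z.index = p ^ i * U.index := by rw [← hi]; exact (Subgroup.relIndex_mul_index le_sup_left).symm
  have e2 : Z.index = p ^ k * Kp.relIndex K * K.index := by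
    rw [← hk, Subgroup.relIndex_mul_relIndex Z Kp K hZKp hKpK, Subgroup.relIndex_mul_index hZK]
  have e3 : K.index * d * (K.index * d) = Z.index := by rw [hed, he]
  have e4 : i = k + n := by
    rw [hk, hn, ← pow_add] at hsplit
    exact (Nat.pow_right_injective hp.out.two_le hsplit).symm
  have f1 := congrArg (fun x => x.factorization p) (e3.trans e1)
  have f2 := congrArg (fun x => x.factorization p) (e3.trans e2)
  simp only [Nat.factorization_mul (mul_ne_zero hKi0 hd0') (mul_ne_zero hKi0 hd0'), Nat.factorization_mul hKi0 hd0',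
    Nat.factorization_mul (pow_ne_zero i hp.out.ne_zero) U.index_ne_zero_of_finite,
    Nat.factorization_mul (mul_ne_zero (pow_ne_zero k hp.out.ne_zero) hKp0) hKi0,
    Nat.factorization_mul (pow_ne_zero k hp.out.ne_zero) hKp0, Finsupp.add_apply,
    Nat.Prime.factorization_pow hp.out, Finsupp.single_eq_same, Nat.factorization_eq_zero_of_not_dvd hUi,
    Nat.factorization_eq_zero_of_not_dvd hKi, add_zero] at f1 f2
  have hα' : α ≤ d.factorization p := by
    rw [← hp.out.pow_dvd_iff_le_factorization hd0', ← hα]; exact had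
  have e5 : k = τ + 2 * α := by
    rw [hα, ← pow_add, ← pow_add] at hsum
    have := Nat.pow_right_injective hp.out.two_le hsum
    omega
  have hτe : τ = n := by omega
  have hTL : T = LU := by
    refine (Subgroup.eq_of_le_of_card_ge hTle ?_).symm
    have h1 := T.card_mul_index
    have h2 := LU.card_mul_index
    rw [hτ, hτe] at h1
    rw [hLUi] at h2
    exact (Nat.eq_of_mul_eq_mul_right (pow_pos hp.out.pos n) (h1.trans h2.symm)).le
  have hmem : (⟨u, hu⟩ : U) ∈ T := mem_inertia.2 (funext fun x => hfix (eU x) _)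
  rw [hTL] at hmem
  exact hmem

end Cfsg.Lib.Chars
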