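import Mathlib
import Cfsg.Agent.Chars.Real
import Cfsg.Agent.Chars.Inertia
import Cfsg.Agent.Chars.IrrTools
import Cfsg.Agent.Chars.DegreeTools
import Cfsg.Agent.Chars.Gallagher
import Cfsg.Agent.Blocks.RationalExtension

/-!
# Real characters of odd degree
-/

set_option autoImplicit false
set_option linter.unusedSectionVars false
set_option linter.style.haveILetI false

namespace Cfsg.Lib.Chars.RealOdd

open Cfsg Cfsg.Lib.Chars
open scoped ComplexConjugate

universe u v

variable {G : Type u} [Group G] [Fintype G]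

/-- Real-valued functions. -/
def RealC (χ : G → ℂ) : Prop := ∀ g, (χ g).im = 0

/-- The number of real irreducible characters of odd degree. -/
noncomputable def numRealOdd (G : Type u) [Group G] : ℕ :=
  Nat.card {χ : IrrCharacter G // (∀ g, ((χ : G → ℂ) g).im = 0) ∧ Odd (deg (χ : G → ℂ))}

theorem realC_iff {χ : G → ℂ} : RealC χ ↔ ∀ g, conj (χ g) = χ g :=
  forall_congr' fun _ => Complex.conj_eq_iff_im.symm

/-- A linear real character squares to one. -/
theorem sq_eq_one_of_real {A : Type v} [Group A] [Finite A] (f : A →* ℂˣ)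
    (h : ∀ a, ((f a : ℂ)).im = 0) (a : A) : f a ^ 2 = 1 := by
  apply Units.ext
  have hn : ‖(f a : ℂ)‖ = 1 := Complex.norm_eq_one_of_pow_eq_one (n := Nat.card A)
    (by rw [← Units.val_pow_eq_pow_val, ← map_pow, pow_card_eq_one', map_one, Units.val_one])
    Nat.card_pos.ne'
  have hc : conj (f a : ℂ) = (f a : ℂ) := Complex.conj_eq_iff_im.2 (h a)
  rw [Units.val_pow_eq_pow_val, sq, Units.val_one]
  nth_rw 2 [← hc]
  rw [Complex.mul_conj, Complex.normSq_eq_norm_sq, hn]
  norm_num

theorem real_of_sq_eq_one {A : Type v} [Group A] (f : A →* ℂˣ) (h : ∀ a, f a ^ 2 = 1) (a : A) :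
    ((f a : ℂ)).im = 0 := by
  have h2 : (f a : ℂ) ^ 2 = 1 := by rw [← Units.val_pow_eq_pow_val, h, Units.val_one]
  rcases sq_eq_one_iff.1 h2 with e | e <;> simp [e]

/-- A character of odd degree has a constituent of odd degree. -/
theorem exists_odd_constituent {f : G → ℂ} (hf : IsCharacter G f) {d : ℕ} (hd : f 1 = d)
    (hodd : Odd d) : ∃ χ : IrrCharacter G, classInner f (χ : G → ℂ) ≠ 0 ∧ Odd (deg (χ : G → ℂ)) := by
  obtain ⟨m, hm⟩ := IsCharacter.exists_decomp hf
  have h1 : d = ∑ χ : IrrCharacter G, m χ * deg (χ : G → ℂ) := by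
    apply Nat.cast_injective (R := ℂ)
    rw [← hd, congrFun hm 1]
    simp [Finset.sum_apply, irr_apply_one_eq_deg]
  by_contra hno
  push Not at hno
  have : Even d := by
    rw [h1]
    refine Finset.even_sum _ fun χ _ => ?_
    by_cases hχ : m χ = 0
    · simp [hχ]
    · refine Even.mul_left (Nat.not_odd_iff_even.1 (hno χ ?_)) _
      rw [hm]
      simp only [← Nat.cast_smul_eq_nsmul ℂ]
      rw [classInner_irrSum (fun ψ => (m ψ : ℂ)) χ]
      exact_mod_cast hχ
  exact (Nat.not_even_iff_odd.2 hodd) this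

theorem deg_conjIrr (χ : IrrCharacter G) :
    deg (conjIrr χ : G → ℂ) = deg (χ : G → ℂ) := by
  apply Nat.cast_injective (R := ℂ)
  rw [← irr_apply_one_eq_deg, ← irr_apply_one_eq_deg]
  show conj ((χ : G → ℂ) 1) = _
  rw [irr_apply_one_eq_deg, Complex.conj_natCast]

theorem conjIrr_conjIrr (χ : IrrCharacter G) : conjIrr (conjIrr χ) = χ :=
  Subtype.ext (funext fun g => Complex.conj_conj _)

/-- A real character of odd degree has a real constituent of odd degree. -/
theorem exists_real_odd_constituent {f : G → ℂ} (hf : IsCharacter G f) (hr : RealC f) {d : ℕ}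
    (hd : f 1 = d) (hodd : Odd d) :
    ∃ χ : IrrCharacter G, classInner f (χ : G → ℂ) ≠ 0 ∧ RealC (χ : G → ℂ) ∧
      Odd (deg (χ : G → ℂ)) := by
  classical
  obtain ⟨m, hm⟩ := IsCharacter.exists_decomp hf
  have hin : ∀ χ : IrrCharacter G, classInner f (χ : G → ℂ) = m χ := fun χ => by
    rw [hm]
    simp only [← Nat.cast_smul_eq_nsmul ℂ]
    rw [classInner_irrSum (fun ψ => (m ψ : ℂ)) χ]
  have hsym : ∀ χ : IrrCharacter G, m (conjIrr χ) = m χ := fun χ => by
    apply Nat.cast_injective (R := ℂ)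
    rw [← hin, ← hin]
    have e : classInner f (conjIrr χ : G → ℂ) = conj (classInner f (χ : G → ℂ)) := by
      simp only [classInner_def, map_mul, map_inv₀, Complex.conj_natCast, map_sum]
      congr 1
      refine Finset.sum_congr rfl fun g _ => ?_
      rw [realC_iff.1 hr g]
      rfl
    rw [e, hin, Complex.conj_natCast]
  have h1 : d = ∑ χ : IrrCharacter G, m χ * deg (χ : G → ℂ) := by
    apply Nat.cast_injective (R := ℂ)
    rw [← hd, congrFun hm 1]
    simp [Finset.sum_apply, irr_apply_one_eq_deg]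
  have hz : ∑ χ : IrrCharacter G, ((m χ * deg (χ : G → ℂ) : ℕ) : ZMod 2) ≠ 0 := by
    rw [← Nat.cast_sum, ← h1, ne_eq, ZMod.natCast_eq_zero_iff_even]
    exact Nat.not_even_iff_odd.2 hodd
  rw [← Finset.sum_filter_add_sum_filter_not Finset.univ (fun χ : IrrCharacter G => conjIrr χ = χ)]
    at hz
  have h0 : ∑ χ ∈ Finset.univ.filter (fun χ : IrrCharacter G => ¬ conjIrr χ = χ),
      ((m χ * deg (χ : G → ℂ) : ℕ) : ZMod 2) = 0 := by
    refine Finset.sum_involution (fun χ _ => conjIrr χ) (fun χ _ => ?_)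
      (fun χ hχ _ => (Finset.mem_filter.1 hχ).2) (fun χ hχ => ?_) (fun χ _ => conjIrr_conjIrr χ)
    · rw [hsym, deg_conjIrr]
      exact CharTwo.add_self_eq_zero _
    · refine Finset.mem_filter.2 ⟨Finset.mem_univ _, fun h => (Finset.mem_filter.1 hχ).2 ?_⟩
      rwa [conjIrr_conjIrr, eq_comm] at h
  rw [h0, add_zero] at hz
  obtain ⟨χ, hχ, hne⟩ := Finset.exists_ne_zero_of_sum_ne_zero hz
  rw [ne_eq, ZMod.natCast_eq_zero_iff_even, Nat.not_even_iff_odd, Nat.odd_mul] at hne
  refine ⟨χ, ?_, (conjIrr_eq_self_iff χ).1 (Finset.mem_filter.1 hχ).2, hne.2⟩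
  rw [hin]
  exact Nat.cast_ne_zero.2 fun h => by simp [h] at hne

/-- Irreducible characters of odd degree of a `2`-group are linear. -/
theorem exists_linear_of_odd {P : Type v} [Group P] [Fintype P] (hP : IsPGroup 2 P)
    (χ : IrrCharacter P) (hodd : Odd (deg (χ : P → ℂ))) :
    ∃ f : P →* ℂˣ, (χ : P → ℂ) = fun x => (f x : ℂ) := by
  obtain ⟨k, hk⟩ := IsPGroup.iff_card.1 hP
  obtain ⟨i, -, hi⟩ := (Nat.dvd_prime_pow Nat.prime_two).1 (hk ▸ IsIrrCharacter.deg_dvd χ.2)
  refine exists_hom_of_deg_one (isCharacter_of_irr χ.2) ?_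
  rw [irr_apply_one_eq_deg, hi]
  rcases Nat.eq_zero_or_pos i with rfl | h
  · simp
  · rw [hi] at hodd
    exact absurd hodd (Nat.not_odd_iff_even.2 (Nat.even_pow.2 ⟨even_two, h.ne'⟩))

/-- Constituents of constituents are constituents. -/
theorem over_trans {A : Type v} [Group A] [Fintype A] (ι : A →* G) {f : G → ℂ}
    (hf : IsCharacter G f) {χ : G → ℂ} (hχ : IsIrrCharacter G χ) (hfχ : classInner f χ ≠ 0)
    {θ : A → ℂ} (hθ : IsIrrCharacter A θ) (hc : classInner (fun a => χ (ι a)) θ ≠ 0) :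
    classInner (fun a => f (ι a)) θ ≠ 0 := by
  classical
  obtain ⟨m, hm⟩ := IsCharacter.exists_decomp hf
  choose k hk using fun ψ : IrrCharacter G =>
    IsCharacter.exists_mult (IsCharacter.comp_hom (isCharacter_of_irr ψ.2) ι) hθ
  have hres : (fun a => f (ι a)) =
      ∑ ψ : IrrCharacter G, m ψ • (fun a => (ψ : G → ℂ) (ι a)) := by
    funext a
    rw [congrFun hm (ι a)]
    simp [Finset.sum_apply]
  rw [hres, classInner_sum_left]
  simp only [classInner_nsmul_left, hk, ← Nat.cast_mul, ← Nat.cast_sum, ne_eq, Nat.cast_eq_zero,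
    Finset.sum_eq_zero_iff, Finset.mem_univ, true_implies, not_forall]
  refine ⟨⟨χ, hχ⟩, mul_ne_zero (fun h => hfχ ?_) fun h => hc ?_⟩
  · rw [hm]
    simp only [← Nat.cast_smul_eq_nsmul ℂ]
    rw [classInner_irrSum (fun ψ => (m ψ : ℂ)) ⟨χ, hχ⟩, h, Nat.cast_zero]
  · rw [hk ⟨χ, hχ⟩, h, Nat.cast_zero]

theorem realC_indFun (H : Subgroup G) {θ : H → ℂ} (hθ : ∀ h, (θ h).im = 0) :
    RealC (indFun H θ) := by
  classical
  refine realC_iff.2 fun g => ?_
  rw [indFun_apply, map_mul, map_inv₀, Complex.conj_natCast, map_sum]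
  congr 1
  refine Finset.sum_congr rfl fun x _ => ?_
  by_cases hx : x⁻¹ * g * x ∈ H
  · rw [extendByZero_mem _ hx, Complex.conj_eq_iff_im]
    exact hθ _
  · rw [extendByZero_not_mem _ hx, map_zero]

/-- Linear characters as functions. -/
theorem exists_linear_constituent {A : Type v} [Group A] [Fintype A]
    (hA : ∀ a b : A, a * b = b * a) {f : A → ℂ} (hf : IsCharacter A f) (h1 : f 1 ≠ 0) :
    ∃ lam : A →* ℂˣ, classInner f (fun a => (lam a : ℂ)) ≠ 0 := by
  by_contra hno
  push Not at hno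
  refine h1 (congrFun (eq_zero_of_classInner_eq_zero (isClassFunction_isChar hf) fun θ => ?_) 1)
  obtain ⟨l, hl⟩ := exists_hom_of_deg_one (isCharacter_of_irr θ.2) (irr_deg_one_of_comm hA θ.2)
  rw [hl]
  exact hno l

/-- The orbit of a constituent has size dividing the degree. -/
theorem card_conjOrbit_dvd (N : Subgroup G) [N.Normal] [Fintype N] {χ : G → ℂ}
    (hχ : IsIrrCharacter G χ) {θ : N → ℂ} (hθ : IsIrrCharacter N θ)
    (hc : classInner (fun n : N => χ n) θ ≠ 0) : (conjOrbit N θ).card ∣ deg χ := by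
  obtain ⟨e, he⟩ := IsCharacter.exists_mult (IsCharacter.restrict (isCharacter_of_irr hχ) N) hθ
  have h := congrFun (clifford N hχ hθ hc) 1
  simp only [OneMemClass.coe_one, Pi.smul_apply, Finset.sum_apply, smul_eq_mul] at h
  rw [he, Finset.sum_congr rfl (g := fun _ => (deg θ : ℂ)) (fun ψ hψ => by
    obtain ⟨g, rfl⟩ := (mem_conjOrbit N).1 hψ
    simp only [conjN_eq_comp, map_one]
    exact IsCharacter.apply_one_eq_deg (isCharacter_of_irr hθ)),
    Finset.sum_const, nsmul_eq_mul, IsCharacter.apply_one_eq_deg (isCharacter_of_irr hχ)] at h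
  exact ⟨e * deg θ, Nat.cast_injective (R := ℂ) (by rw [h]; push_cast; ring)⟩

/-- A real character of odd degree is trivial on normal subgroups of odd order. -/
theorem trivial_on_odd (K : Subgroup G) [K.Normal] (hK : Odd (Nat.card K)) (χ : IrrCharacter G)
    (hr : RealC (χ : G → ℂ)) (hodd : Odd (deg (χ : G → ℂ))) :
    ∀ k ∈ K, (χ : G → ℂ) k = (χ : G → ℂ) 1 := by
  classical
  letI : Fintype K := Fintype.ofFinite K
  obtain ⟨θ, hθ, hc⟩ := exists_constituent K (isCharacter_of_irr χ.2)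
    (IsIrrCharacter.apply_one_ne_zero χ.2)
  set O := conjOrbit K θ
  have hOodd : Odd O.card := Odd.of_dvd_nat hodd (card_conjOrbit_dvd K χ.2 hθ hc)
  let σ : (K → ℂ) → (K → ℂ) := fun ψ n => conj (ψ n)
  have hσσ : ∀ ψ, σ (σ ψ) = ψ := fun ψ => funext fun n => Complex.conj_conj _
  have hcls : IsClassFunction G (χ : G → ℂ) := isClassFunction_irr χ
  have hmem : ∀ ψ ∈ O, σ ψ ∈ O := by
    intro ψ hψ
    obtain ⟨g, rfl⟩ := (mem_conjOrbit K).1 hψ
    have hi : IsIrrCharacter K (conjN K g θ) := IsIrrCharacter.conjN hθ g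
    have hc' : classInner (fun n : K => (χ : G → ℂ) n) (σ (conjN K g θ)) ≠ 0 := by
      have e : classInner (fun n : K => (χ : G → ℂ) n) (σ (conjN K g θ)) =
          conj (classInner (fun n : K => (χ : G → ℂ) n) (conjN K g θ)) := by
        simp only [classInner_def, map_mul, map_inv₀, Complex.conj_natCast, map_sum, σ]
        congr 1
        exact Finset.sum_congr rfl fun n _ => by rw [realC_iff.1 hr]
      rw [e, classInner_restrict_conjN K hcls, map_ne_zero]
      exact hc
    obtain ⟨g', hg'⟩ := exists_conjN_of_constituents K χ.2 hθ (IsIrrCharacter.conjugate hi) hc hc'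
    exact (mem_conjOrbit K).2 ⟨g', hg'.symm⟩
  obtain ⟨ψ, hψ, hfix⟩ : ∃ ψ ∈ O, σ ψ = ψ := by
    by_contra hno
    push Not at hno
    have h0 : ∑ ψ ∈ O, (1 : ZMod 2) = 0 := Finset.sum_involution (fun ψ _ => σ ψ)
      (fun _ _ => CharTwo.add_self_eq_zero _) (fun ψ hψ _ => hno ψ hψ) hmem (fun ψ _ => hσσ ψ)
    rw [Finset.sum_const, nsmul_eq_mul, mul_one, ZMod.natCast_eq_zero_iff_even] at h0
    exact Nat.not_even_iff_odd.2 hOodd h0
  obtain ⟨g, rfl⟩ := (mem_conjOrbit K).1 hψ
  have hone : conjN K g θ = fun _ => 1 := by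
    have := eq_principal_of_real hK ⟨_, IsIrrCharacter.conjN hθ g⟩
      (fun n => Complex.conj_eq_iff_im.1 (congrFun hfix n))
    exact congrArg Subtype.val this
  have hc1 : classInner (fun n : K => (χ : G → ℂ) n) (fun _ => 1) ≠ 0 := by
    rw [← hone, classInner_restrict_conjN K hcls]; exact hc
  obtain ⟨e, -, he⟩ := restrict_eq_mult_of_invariant K χ.2 isIrrCharacter_one
    (fun g => funext fun n => rfl) hc1
  intro k hk
  have h1 := congrFun he ⟨k, hk⟩
  have h2 := congrFun he 1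
  simp only [Pi.smul_apply, OneMemClass.coe_one] at h1 h2
  rw [h1, h2]

/-- Descent along a surjection. -/
theorem numRealOdd_surj {Q : Type v} [Group Q] [Fintype Q] (f : G →* Q)
    (hf : Function.Surjective f) :
    numRealOdd Q = Nat.card {χ : IrrCharacter G // RealC (χ : G → ℂ) ∧ Odd (deg (χ : G → ℂ)) ∧
      ∀ k ∈ f.ker, (χ : G → ℂ) k = (χ : G → ℂ) 1} := by
  classical
  have hdeg : ∀ β : IrrCharacter Q, deg (fun x => (β : Q → ℂ) (f x)) = deg (β : Q → ℂ) := fun β =>
    Nat.cast_injective (R := ℂ) (by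
      rw [← IsCharacter.apply_one_eq_deg (IsCharacter.comp_hom (isCharacter_of_irr β.2) f),
        map_one, irr_apply_one_eq_deg])
  refine Nat.card_congr (Equiv.ofBijective (fun β =>
    ⟨⟨fun x => (β.1 : Q → ℂ) (f x), IsIrrCharacter.comp_surjective β.1.2 f hf⟩,
      fun x => β.2.1 (f x), by rw [hdeg]; exact β.2.2, fun k hk => by
        show (β.1 : Q → ℂ) (f k) = (β.1 : Q → ℂ) (f 1)
        rw [MonoidHom.mem_ker.1 hk, map_one]⟩) ⟨?_, ?_⟩)
  · intro β β' h
    refine Subtype.ext (Subtype.ext (funext fun q => ?_))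
    obtain ⟨x, rfl⟩ := hf q
    exact congrFun (congrArg (fun z => (z.1.1 : G → ℂ)) h) x
  · rintro ⟨χ, hr, ho, hk⟩
    obtain ⟨b, hb, hbχ⟩ := exists_factor f hf (isCharacter_of_irr χ.2) hk
    have hbi : IsIrrCharacter Q b := IsIrrCharacter.descend hb _ hf (hbχ ▸ χ.2)
    refine ⟨⟨⟨b, hbi⟩, fun q => ?_, ?_⟩, Subtype.ext (Subtype.ext hbχ.symm)⟩
    · obtain ⟨x, rfl⟩ := hf q
      have := hr x
      rwa [congrFun hbχ x] at this
    · rw [← hdeg ⟨b, hbi⟩]
      show Odd (deg fun x => b (f x))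
      rw [← hbχ]; exact ho

/-- A surjection with kernel of odd order preserves the number of real characters of odd degree. -/
theorem numRealOdd_of_odd_ker {Q : Type v} [Group Q] [Fintype Q] (f : G →* Q)
    (hf : Function.Surjective f) (hk : Odd (Nat.card f.ker)) : numRealOdd G = numRealOdd Q := by
  rw [numRealOdd_surj f hf]
  refine Nat.card_congr (Equiv.subtypeEquivRight fun χ => ?_)
  exact ⟨fun h => ⟨h.1, h.2, trivial_on_odd f.ker hk χ h.1 h.2⟩, fun h => ⟨h.1, h.2.1⟩⟩

/-- The number of real characters of odd degree is invariant under isomorphism. -/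
theorem numRealOdd_congr {Q : Type v} [Group Q] [Fintype Q] (e : G ≃* Q) :
    numRealOdd G = numRealOdd Q :=
  numRealOdd_of_odd_ker e.toMonoidHom e.surjective (by
    rw [show e.toMonoidHom.ker = ⊥ from (MonoidHom.ker_eq_bot_iff _).2 e.injective,
      Subgroup.card_bot]
    exact odd_one)

/-- Some conjugate of a character with an odd orbit is fixed by a given Sylow 2-subgroup. -/
theorem exists_fixed_conj (N : Subgroup G) [N.Normal] (θ : N → ℂ) (hO : Odd (conjOrbit N θ).card)
    (P : Sylow 2 G) : ∃ g : G, (P : Subgroup G) ≤ inertia N (conjN N g θ) := by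
  classical
  set I := inertia N θ with hI
  have hfac : (Nat.card I).factorization 2 = (Nat.card G).factorization 2 := by
    rw [← card_conjOrbit N θ, Nat.factorization_mul (fun h => by simp [h] at hO) Nat.card_pos.ne',
      Finsupp.add_apply, Nat.factorization_eq_zero_of_not_dvd hO.not_two_dvd_nat, zero_add]
  obtain ⟨S⟩ : Nonempty (Sylow 2 I) := inferInstance
  have hcard : Nat.card ((S : Subgroup I).map I.subtype) = 2 ^ (Nat.card G).factorization 2 := by
    rw [Subgroup.card_map_of_injective I.subtype_injective, S.card_eq_multiplicity, hfac]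
  obtain ⟨g, hg⟩ := MulAction.exists_smul_eq G (Sylow.ofCard _ hcard) P
  refine ⟨g⁻¹, fun x hx => ?_⟩
  rw [← hg] at hx
  obtain ⟨y, hy, rfl⟩ := hx
  obtain ⟨z, -, rfl⟩ := hy
  rw [mem_inertia, ← conjN_mul]
  have hz : conjN N (z : G) θ = θ := mem_inertia.1 z.2
  simp only [MulDistribMulAction.toMonoidEnd_apply, MulDistribMulAction.toMonoidHom_apply,
    MulAut.smul_def, MulAut.conj_apply]
  conv_rhs => rw [← hz, ← conjN_mul]
  congr 1
  simp [mul_assoc]

end Cfsg.Lib.Chars.RealOdd
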