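import Mathlib
import Cfsg.Agent.Chars.RealOddDegree
import Cfsg.Agent.Chars.AbelianInertia
import Cfsg.Agent.Blocks.Covering
import Cfsg.Agent.Blocks.SylowNormalize
import Cfsg.Agent.Coprime.Hall
import Cfsg.Agent.Coprime.Fitting
import Cfsg.Agent.PGroups.Basic

/-!
# Real characters of odd degree of solvable groups and Sylow 2-normalisers
-/

set_option autoImplicit false
set_option linter.unusedSectionVars false
set_option linter.style.haveILetI false

namespace Cfsg.Lib.Chars.RealOdd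

open Cfsg Cfsg.Lib.Chars Cfsg.Lib.Blocks
open scoped ComplexConjugate

universe u v

section

variable {G : Type u} [Group G] [Fintype G] (V : Subgroup G) [V.Normal] [Fintype V]
  (P : Sylow 2 G)

/-- The linear characters of an elementary abelian group have real values. -/
theorem exists_lin (hVc : ∀ a b : V, a * b = b * a) (θ : IrrCharacter V) :
    ∃ lam : V →* ℂˣ, (θ : V → ℂ) = fun v => (lam v : ℂ) :=
  exists_hom_of_deg_one (isCharacter_of_irr θ.2) (irr_deg_one_of_comm hVc θ.2)

/-- A real extension of a stable character. -/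
theorem exists_real_ext (hVP : V ≤ P) (hV2 : ∀ v ∈ V, v ^ 2 = 1) (lam : V →* ℂˣ)
    (hinv : ∀ g : G, conjN V g (fun v => (lam v : ℂ)) = fun v => (lam v : ℂ))
    (ν : (P : Subgroup G) →* ℂˣ) (hν : ∀ x, ν x ^ 2 = 1) (hνV : ∀ v : V, ν ⟨v, hVP v.2⟩ = lam v) :
    ∃ μ : G →* ℂˣ, (∀ g, μ g ^ 2 = 1) ∧ ∀ v : V, μ v = lam v := by
  classical
  letI := Fintype.ofFinite (P : Subgroup G)
  set f := indFun (P : Subgroup G) (fun x => (ν x : ℂ)) with hf
  have hfc : IsCharacter G f := IsCharacter.indFun (isCharacter_of_irr (isIrrCharacter_linear ν))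
  have hf1 : f 1 = ((P : Subgroup G).index : ℂ) := by
    rw [hf, indFun_one]; simp
  obtain ⟨χ, hfχ, hr, hodd⟩ := exists_real_odd_constituent hfc
    (realC_indFun _ (real_of_sq_eq_one ν hν)) hf1 (Nat.odd_iff.2 (by
      have := P.not_dvd_index; omega))
  have h1 : classInner (fun x : (P : Subgroup G) => (χ : G → ℂ) x) (fun x => (ν x : ℂ)) ≠ 0 := by
    rw [hf, frobenius_reciprocity _ _ (isClassFunction_irr χ)] at hfχ
    rw [← classInner_conj_symm, map_ne_zero]
    exact hfχ
  have h2 : classInner (fun v : V => (χ : G → ℂ) v) (fun v => (lam v : ℂ)) ≠ 0 :=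
    over_trans (Subgroup.inclusion hVP) (IsCharacter.restrict (isCharacter_of_irr χ.2) _)
      (isIrrCharacter_linear ν) h1 (isIrrCharacter_linear lam) (by
        rw [show (fun a : V => (ν (Subgroup.inclusion hVP a) : ℂ)) = fun v => (lam v : ℂ) from
          funext fun v => congrArg Units.val (hνV v), classInner_self_irr (isIrrCharacter_linear lam)]
        exact one_ne_zero)
  obtain ⟨e, -, he⟩ := restrict_eq_mult_of_invariant V χ.2 (isIrrCharacter_linear lam) hinv h2
  have hde : e = deg (χ : G → ℂ) := by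
    apply Nat.cast_injective (R := ℂ)
    rw [← irr_apply_one_eq_deg]
    have := congrFun he 1
    simp only [OneMemClass.coe_one, Pi.smul_apply, map_one, Units.val_one, smul_eq_mul, mul_one] at this
    exact this.symm
  obtain ⟨δ, hδ⟩ := detChar_is_hom (isCharacter_of_irr χ.2)
  refine ⟨δ, fun g => sq_eq_one_of_real δ (fun a => ?_) g, fun v => ?_⟩
  · have h3 := congrFun (detChar_map_auto (isCharacter_of_irr χ.2) (starRingAut (R := ℂ))) a
    have e1 : (fun g => (starRingAut (R := ℂ)) ((χ : G → ℂ) g)) = (χ : G → ℂ) :=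
      funext fun g => Complex.conj_eq_iff_im.2 (hr g)
    rw [e1, hδ] at h3
    exact Complex.conj_eq_iff_im.1 h3.symm
  · let τ : Representation ℂ V (Fin e → ℂ) := Representation.trivial ℂ V (Fin e → ℂ)
    have hτ : τ.character = fun _ => (e : ℂ) := funext fun v => by
      simp [τ, Representation.character]
    have hc : IsCharacter V (fun _ : V => (e : ℂ)) := hτ ▸ ⟨e, τ, rfl⟩
    have hdet1 : detChar (fun _ : V => (e : ℂ)) = fun _ => 1 := funext fun v => by
      rw [← hτ, detChar_character τ v]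
      simp [τ]
    have hres : ∀ v : V, (χ : G → ℂ) v = ((fun v => (lam v : ℂ) : V → ℂ) * (fun _ => (e : ℂ) : V → ℂ)) v := fun v => by
      have := congrFun he v
      simp only [Pi.smul_apply, smul_eq_mul] at this
      rw [this, Pi.mul_apply, mul_comm]
    have h4 := detChar_restrict V (isCharacter_of_irr χ.2) hres v
    rw [hδ, detChar_linear_mul lam hc (d := e) rfl, hdet1] at h4
    simp only [Pi.mul_apply, Pi.pow_apply, mul_one] at h4
    rw [← Units.val_pow_eq_pow_val, Units.val_inj] at h4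
    rw [h4]
    obtain ⟨k, hk⟩ := (hde ▸ hodd : Odd e)
    have hl : lam v ^ 2 = 1 := by
      rw [← map_pow, show v ^ 2 = 1 from Subtype.ext (hV2 v v.2), map_one]
    rw [hk, pow_succ, pow_mul, hl, one_pow, one_mul]

/-- A character of odd degree lies over a character fixed by the Sylow 2-subgroup. -/
theorem exists_fixed_over (χ : IrrCharacter G) (hodd : Odd (deg (χ : G → ℂ))) :
    ∃ θ : IrrCharacter V, (P : Subgroup G) ≤ inertia V (θ : V → ℂ) ∧
      classInner (fun v : V => (χ : G → ℂ) v) (θ : V → ℂ) ≠ 0 := by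
  obtain ⟨θ, hθ, hc⟩ := exists_constituent V (isCharacter_of_irr χ.2)
    (IsIrrCharacter.apply_one_ne_zero χ.2)
  obtain ⟨g, hg⟩ := exists_fixed_conj V θ (Odd.of_dvd_nat hodd (card_conjOrbit_dvd V χ.2 hθ hc)) P
  exact ⟨⟨_, IsIrrCharacter.conjN hθ g⟩, hg,
    by rw [classInner_restrict_conjN V (isClassFunction_irr χ)]; exact hc⟩

/-- Fixed constituents are conjugate under the normaliser. -/
theorem fusion (χ : IrrCharacter G) (θ θ' : IrrCharacter V)
    (h : (P : Subgroup G) ≤ inertia V (θ : V → ℂ)) (h' : (P : Subgroup G) ≤ inertia V (θ' : V → ℂ))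
    (hc : classInner (fun v : V => (χ : G → ℂ) v) (θ : V → ℂ) ≠ 0)
    (hc' : classInner (fun v : V => (χ : G → ℂ) v) (θ' : V → ℂ) ≠ 0) :
    ∃ n ∈ Subgroup.normalizer ((P : Subgroup G) : Set G), cjIrr V n θ = θ' := by
  classical
  obtain ⟨g, hg⟩ := exists_conjN_of_constituents V χ.2 θ.2 θ'.2 hc hc'
  set T := inertia V (θ : V → ℂ) with hT
  have hgP : ((g • P : Sylow 2 G) : Subgroup G) ≤ T := by
    rintro _ ⟨x, hx, rfl⟩
    have hx' : conjN V x (θ' : V → ℂ) = θ' := mem_inertia.1 (h' hx)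
    rw [hT, mem_inertia]
    simp only [MulDistribMulAction.toMonoidEnd_apply, MulDistribMulAction.toMonoidHom_apply,
      MulAut.smul_def, MulAut.conj_apply]
    rw [hg, ← conjN_mul] at hx'
    rw [conjN_mul, hx', ← conjN_mul, mul_inv_cancel, conjN_one]
  obtain ⟨t, ht⟩ := MulAction.exists_smul_eq T ((g • P).subtype hgP) (P.subtype h)
  rw [Sylow.smul_subtype hgP t] at ht
  have hn := Sylow.smul_eq_iff_mem_normalizer.1
    (show ((t : G) * g) • P = P by rw [mul_smul]; exact Sylow.subtype_injective ht)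
  refine ⟨_, hn, Subtype.ext ?_⟩
  rw [cjIrr_val, conjN_mul, show conjN V (t : G) (θ : V → ℂ) = θ from mem_inertia.1 t.2, ← hg]

/-- The extension to the Sylow subgroup of a fixed constituent. -/
theorem exists_ext (hVP : V ≤ P) (χ : IrrCharacter G) (hodd : Odd (deg (χ : G → ℂ))) (θ : IrrCharacter V)
    (h : (P : Subgroup G) ≤ inertia V (θ : V → ℂ))
    (hc : classInner (fun v : V => (χ : G → ℂ) v) (θ : V → ℂ) ≠ 0) :
    ∃ ν : (P : Subgroup G) →* ℂˣ, (∀ v : V, (ν ⟨v, hVP v.2⟩ : ℂ) = (θ : V → ℂ) v) ∧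
      (RealC (χ : G → ℂ) → ∀ x, ν x ^ 2 = 1) := by
  classical
  letI := Fintype.ofFinite (P : Subgroup G)
  set f := fun x : (P : Subgroup G) => (χ : G → ℂ) x with hf
  have hfc : IsCharacter (P : Subgroup G) f := IsCharacter.restrict (isCharacter_of_irr χ.2) _
  have hf1 : f 1 = (deg (χ : G → ℂ) : ℂ) := by
    rw [hf]; exact irr_apply_one_eq_deg χ
  obtain ⟨ψ, hψ, hψr, hψo⟩ : ∃ ψ : IrrCharacter (P : Subgroup G), classInner f (ψ : ↥(P : Subgroup G) → ℂ) ≠ 0 ∧
      (RealC (χ : G → ℂ) → RealC (ψ : ↥(P : Subgroup G) → ℂ)) ∧ Odd (deg (ψ : ↥(P : Subgroup G) → ℂ)) := by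
    by_cases hr : RealC (χ : G → ℂ)
    · obtain ⟨ψ, h1, h2, h3⟩ := exists_real_odd_constituent hfc (fun x => hr x) hf1 hodd
      exact ⟨ψ, h1, fun _ => h2, h3⟩
    · obtain ⟨ψ, h1, h2⟩ := exists_odd_constituent hfc hf1 hodd
      exact ⟨ψ, h1, fun h => absurd h hr, h2⟩
  obtain ⟨ν₀, hν₀⟩ := exists_linear_of_odd P.2 ψ hψo
  set lam₀ : V →* ℂˣ := ν₀.comp (Subgroup.inclusion hVP) with hlam₀
  set θ₀ : IrrCharacter V := ⟨fun v => (lam₀ v : ℂ), isIrrCharacter_linear lam₀⟩ with hθ₀
  have hP₀ : (P : Subgroup G) ≤ inertia V (θ₀ : V → ℂ) := fun x hx => mem_inertia.2 (funext fun v => by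
    show ((ν₀ ⟨x * v * x⁻¹, _⟩ : ℂˣ) : ℂ) = (ν₀ ⟨v, _⟩ : ℂ)
    rw [show (⟨x * v * x⁻¹, hVP (Subgroup.Normal.conj_mem ‹V.Normal› _ v.2 x)⟩ : (P : Subgroup G)) =
      ⟨x, hx⟩ * ⟨v, hVP v.2⟩ * ⟨x, hx⟩⁻¹ from rfl, map_mul, map_mul, map_inv, mul_inv_cancel_comm])
  have hc₀ : classInner (fun v : V => (χ : G → ℂ) v) (θ₀ : V → ℂ) ≠ 0 :=
    over_trans (Subgroup.inclusion hVP) hfc ψ.2 hψ θ₀.2 (by
      rw [show (fun a : V => (ψ : ↥(P : Subgroup G) → ℂ) (Subgroup.inclusion hVP a)) = (θ₀ : V → ℂ) from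
        funext fun a => by rw [hν₀]; rfl, classInner_self_irr θ₀.2]
      exact one_ne_zero)
  obtain ⟨n, hn, hnθ⟩ := fusion V P χ θ₀ θ hP₀ h hc₀ hc
  let c : (P : Subgroup G) →* (P : Subgroup G) :=
    ((MulAut.conj n).toMonoidHom.comp (P : Subgroup G).subtype).codRestrict (P : Subgroup G)
      fun x => (Subgroup.mem_normalizer_iff.1 hn x).1 x.2
  refine ⟨ν₀.comp c, fun v => ?_, fun hr x => ?_⟩
  · rw [← hnθ, cjIrr_val]
    show _ = ((ν₀ ⟨n * v * n⁻¹, _⟩ : ℂˣ) : ℂ)
    rfl
  · refine sq_eq_one_of_real ν₀ (fun a => ?_) (c x)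
    have := hψr hr a
    rwa [hν₀] at this

/-- Characters of the inertia group over a linear character with a real extension. -/
theorem card_over (hVP : V ≤ P) (hV2 : ∀ v ∈ V, v ^ 2 = 1) (θ : IrrCharacter V)
    (lam : V →* ℂˣ) (hθ : (θ : V → ℂ) = fun v => (lam v : ℂ))
    (ν : (P : Subgroup G) →* ℂˣ) (hν : ∀ x, ν x ^ 2 = 1) (hνV : ∀ v : V, ν ⟨v, hVP v.2⟩ = lam v)
    (hP : (P : Subgroup G) ≤ inertia V (θ : V → ℂ)) [Fintype (inertia V (θ : V → ℂ))]
    [Fintype (↥(inertia V (θ : V → ℂ)) ⧸ V.subgroupOf (inertia V (θ : V → ℂ)))] :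
    Nat.card {χ : IrrCharacter G // (RealC (χ : G → ℂ) ∧ Odd (deg (χ : G → ℂ))) ∧
        classInner (fun v : V => (χ : G → ℂ) v) (θ : V → ℂ) ≠ 0} =
      numRealOdd (↥(inertia V (θ : V → ℂ)) ⧸ V.subgroupOf (inertia V (θ : V → ℂ))) := by
  classical
  set T := inertia V (θ : V → ℂ) with hTdef
  have hVT : V ≤ T := hVP.trans hP
  set V' := V.subgroupOf T with hV'
  letI : Fintype V' := Fintype.ofFinite _
  haveI : V'.Normal := Subgroup.normal_subgroupOf
  let e := Subgroup.subgroupOfEquivOfLe hVT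
  set lam' : V' →* ℂˣ := lam.comp e.toMonoidHom with hlam'
  obtain ⟨μ, hμ2, hμV⟩ := exists_real_ext V' (P.subtype hP)
    (fun v hv => hVP hv) (fun v hv => Subtype.ext (hV2 _ hv)) lam'
    (fun g => funext fun x => by
      have h := congrFun (mem_inertia.1 g.2) (e x)
      rw [hθ] at h
      exact h)
    (ν.comp ((T.subtype.comp (P.subtype hP : Subgroup T).subtype).codRestrict _ fun x => x.2))
    (fun x => hν _) (fun v => hνV (e v))
  have hμv : ∀ (v : V), (μ ⟨v, hVT v.2⟩ : ℂ) = (θ : V → ℂ) v := fun v => by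
    rw [show μ ⟨v, hVT v.2⟩ = lam v from hμV ⟨⟨v, hVT v.2⟩, v.2⟩, hθ]
  have hμμ : ∀ t : T, (μ t : ℂ) * (μ t : ℂ) = 1 := fun t => by
    rw [← sq, ← Units.val_pow_eq_pow_val, hμ2, Units.val_one]
  have hindex : Odd T.index := Nat.odd_iff.2 (by
    have h1 : T.index ∣ (P : Subgroup G).index := Subgroup.index_dvd_of_le hP
    have h2 := P.not_dvd_index
    have h3 : ¬ 2 ∣ T.index := fun h => h2 (h.trans h1)
    omega)
  rw [numRealOdd_surj (QuotientGroup.mk' V') (QuotientGroup.mk'_surjective V'),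
    QuotientGroup.ker_mk']
  -- the map `β ↦ (β μ)^G`
  have hψ : ∀ β : IrrCharacter T, (∀ k ∈ V', (β : T → ℂ) k = (β : T → ℂ) 1) →
      IsIrrCharacter T (fun t => (μ t : ℂ) * (β : T → ℂ) t) ∧
      classInner (fun v : V => (μ ⟨v, hVT v.2⟩ : ℂ) * (β : T → ℂ) ⟨v, hVT v.2⟩) (θ : V → ℂ) ≠ 0 := by
    intro β hβ
    refine ⟨IsIrrCharacter.mul_linear β.2 μ, ?_⟩
    rw [show (fun v : V => (μ ⟨v, hVT v.2⟩ : ℂ) * (β : T → ℂ) ⟨v, hVT v.2⟩) =
      (β : T → ℂ) 1 • (θ : V → ℂ) from funext fun v => by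
        rw [hμv, hβ ⟨v, hVT v.2⟩ v.2, Pi.smul_apply, smul_eq_mul, mul_comm],
      classInner_smul_left, classInner_self_irr θ.2, mul_one]
    exact IsIrrCharacter.apply_one_ne_zero β.2
  have hirr : ∀ β : IrrCharacter T, (∀ k ∈ V', (β : T → ℂ) k = (β : T → ℂ) 1) →
      ∃ χ : IrrCharacter G, (χ : G → ℂ) = indFun T (fun t => (μ t : ℂ) * (β : T → ℂ) t) ∧
        classInner (fun t : T => (χ : G → ℂ) t) (fun t => (μ t : ℂ) * (β : T → ℂ) t) ≠ 0 ∧
        classInner (fun v : V => (χ : G → ℂ) v) (θ : V → ℂ) ≠ 0 := by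
    intro β hβ
    obtain ⟨h1, h2⟩ := hψ β hβ
    obtain ⟨χ, hχ⟩ : ∃ χ : IrrCharacter G,
        classInner (indFun T (fun t => (μ t : ℂ) * (β : T → ℂ) t)) (χ : G → ℂ) ≠ 0 := by
      by_contra hno
      push Not at hno
      have h0 := congrFun (eq_zero_of_classInner_eq_zero
        (isClassFunction_isChar (IsCharacter.indFun (isCharacter_of_irr h1))) fun χ => hno χ) 1
      rw [indFun_one, Pi.zero_apply, mul_eq_zero, Nat.cast_eq_zero] at h0
      exact IsIrrCharacter.apply_one_ne_zero h1 (h0.resolve_left Subgroup.index_ne_zero_of_finite)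
    have hχ' : classInner (fun t : T => (χ : G → ℂ) t) (fun t => (μ t : ℂ) * (β : T → ℂ) t) ≠ 0 := by
      rw [frobenius_reciprocity _ _ (isClassFunction_irr χ)] at hχ
      rw [← classInner_conj_symm, map_ne_zero]
      exact hχ
    obtain ⟨hind, hcc, -⟩ := clifford_correspondence θ.2 T hTdef hVT χ.2 h1 hχ' h2
    exact ⟨χ, hind.symm, hχ', hcc ▸ h2⟩
  have hdeg : ∀ (β : IrrCharacter T) (χ : IrrCharacter G),
      (χ : G → ℂ) = indFun T (fun t => (μ t : ℂ) * (β : T → ℂ) t) →
      deg (χ : G → ℂ) = T.index * deg (β : T → ℂ) := fun β χ h => by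
    apply Nat.cast_injective (R := ℂ)
    rw [Nat.cast_mul, ← irr_apply_one_eq_deg, ← irr_apply_one_eq_deg, h, indFun_one, map_one,
      Units.val_one, one_mul]
  have hreal : ∀ β : IrrCharacter T, RealC (β : T → ℂ) →
      ∀ t, ((μ t : ℂ) * (β : T → ℂ) t).im = 0 := fun β h t => by
    rw [Complex.mul_im, real_of_sq_eq_one μ hμ2 t, h t]; simp
  symm
  let F : {β : IrrCharacter T // RealC (β : T → ℂ) ∧ Odd (deg (β : T → ℂ)) ∧
      ∀ k ∈ V', (β : T → ℂ) k = (β : T → ℂ) 1} →
      {χ : IrrCharacter G // (RealC (χ : G → ℂ) ∧ Odd (deg (χ : G → ℂ))) ∧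
        classInner (fun v : V => (χ : G → ℂ) v) (θ : V → ℂ) ≠ 0} := fun β =>
    ⟨(hirr β.1 β.2.2.2).choose, ⟨by
      rw [(hirr β.1 β.2.2.2).choose_spec.1]
      exact realC_indFun T (hreal β.1 β.2.1), by
      rw [hdeg β.1 _ (hirr β.1 β.2.2.2).choose_spec.1]
      exact hindex.mul β.2.2.1⟩, (hirr β.1 β.2.2.2).choose_spec.2.2⟩
  refine Nat.card_congr (Equiv.ofBijective F ⟨?_, ?_⟩)
  · rintro ⟨β, hβr, hβo, hβk⟩ ⟨β', hβr', hβo', hβk'⟩ h
    have h' : (hirr β hβk).choose = (hirr β' hβk').choose := congrArg Subtype.val h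
    obtain ⟨he1, hc1, -⟩ := (hirr β hβk).choose_spec
    obtain ⟨he2, hc2, -⟩ := (hirr β' hβk').choose_spec
    rw [h'] at hc1
    obtain ⟨-, -, huniq⟩ := clifford_correspondence θ.2 T hTdef hVT (hirr β' hβk').choose.2
      (hψ β' hβk').1 hc2 (hψ β' hβk').2
    have := huniq _ (hψ β hβk).1 hc1 (hψ β hβk).2
    refine Subtype.ext (Subtype.ext (funext fun t => ?_))
    exact mul_left_cancel₀ (Units.ne_zero _) (congrFun this t)
  · rintro ⟨χ, ⟨hr, ho⟩, hc⟩
    obtain ⟨ψ, hψi, hχψ, hψθ⟩ := exists_constituent_over T hVT (isCharacter_of_irr χ.2) hc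
    obtain ⟨hind, -, huniq⟩ := clifford_correspondence θ.2 T hTdef hVT χ.2 hψi hχψ hψθ
    have hθr : ∀ v : V, conj ((θ : V → ℂ) v) = (θ : V → ℂ) v := fun v => by
      rw [hθ, Complex.conj_eq_iff_im]
      exact real_of_sq_eq_one lam (fun w => by
        rw [← map_pow, show w ^ 2 = 1 from Subtype.ext (hV2 w w.2), map_one]) v
    have hconj : (fun t => conj (ψ t)) = ψ := by
      refine huniq _ (IsIrrCharacter.conjugate hψi) ?_ ?_
      · have e1 : classInner (fun t : T => (χ : G → ℂ) t) (fun t => conj (ψ t)) =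
            conj (classInner (fun t : T => (χ : G → ℂ) t) ψ) := by
          simp only [classInner_def, map_mul, map_inv₀, Complex.conj_natCast, map_sum]
          congr 1
          exact Finset.sum_congr rfl fun t _ => by rw [realC_iff.1 hr]
        rw [e1, map_ne_zero]; exact hχψ
      · have e1 : classInner (fun v : V => conj (ψ ⟨v, hVT v.2⟩)) (θ : V → ℂ) =
            conj (classInner (fun v : V => ψ ⟨v, hVT v.2⟩) (θ : V → ℂ)) := by
          simp only [classInner_def, map_mul, map_inv₀, Complex.conj_natCast, map_sum]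
          congr 1
          exact Finset.sum_congr rfl fun v _ => by rw [Complex.conj_conj, hθr]
        rw [e1, map_ne_zero]; exact hψθ
    obtain ⟨k, -, hk⟩ := restrict_of_le_inertia V θ.2 T hVT hTdef.le hψi hψθ
    let β : IrrCharacter T := ⟨fun t => (μ t : ℂ) * ψ t, IsIrrCharacter.mul_linear hψi μ⟩
    have hβψ : (fun t => (μ t : ℂ) * (β : T → ℂ) t) = ψ := funext fun t => by
      show (μ t : ℂ) * ((μ t : ℂ) * ψ t) = ψ t
      rw [← mul_assoc, hμμ, one_mul]
    have hψ1 : (β : T → ℂ) 1 = ψ 1 := by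
      show (μ 1 : ℂ) * ψ 1 = ψ 1
      rw [map_one, Units.val_one, one_mul]
    have hβk : ∀ x ∈ V', (β : T → ℂ) x = (β : T → ℂ) 1 := fun x hx => by
      have e1 := congrFun hk ⟨(x : G), hx⟩
      have e2 := congrFun hk 1
      simp only [Pi.smul_apply, smul_eq_mul] at e1 e2
      have hx1 := hμv ⟨(x : G), hx⟩
      have hθ1 : (θ : V → ℂ) 1 = 1 := by rw [hθ]; simp
      rw [hψ1]
      show (μ x : ℂ) * ψ x = ψ 1
      rw [show ψ x = ψ ⟨(x : G), hVT hx⟩ from rfl, e1,
        show ψ 1 = ψ ⟨((1 : V) : G), hVT (1 : V).2⟩ from rfl, e2, hθ1,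
        show (μ x : ℂ) = (θ : V → ℂ) ⟨(x : G), hx⟩ from hx1, ← mul_assoc, mul_comm _ (k : ℂ),
        mul_assoc, ← hx1]
      rw [hμμ, mul_one]
    have hβr : RealC (β : T → ℂ) := fun t => by
      show ((μ t : ℂ) * ψ t).im = 0
      rw [Complex.mul_im, real_of_sq_eq_one μ hμ2 t,
        Complex.conj_eq_iff_im.1 (congrFun hconj t)]
      simp
    have hχβ : (χ : G → ℂ) = indFun T (fun t => (μ t : ℂ) * (β : T → ℂ) t) := by rw [hβψ, hind]
    have hβo : Odd (deg (β : T → ℂ)) := by
      rw [hdeg β χ hχβ, Nat.odd_mul] at ho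
      exact ho.2
    refine ⟨⟨β, hβr, hβo, hβk⟩, Subtype.ext (Subtype.ext ?_)⟩
    rw [(hirr β hβk).choose_spec.1, hχβ]

open scoped Classical in
/-- The characters fixed by the Sylow subgroup. -/
noncomputable def fixSet : Finset (IrrCharacter V) :=
  Finset.univ.filter fun θ => (P : Subgroup G) ≤ inertia V (θ : V → ℂ)

open scoped Classical in
/-- The orbit of the normaliser. -/
noncomputable def nOrbit (θ : IrrCharacter V) : Finset (IrrCharacter V) :=
  (Finset.univ.filter fun n : G => n ∈ Subgroup.normalizer ((P : Subgroup G) : Set G)).image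
    fun n => cjIrr V n θ

/-- The real characters of odd degree over `θ`. -/
noncomputable def overCount (θ : IrrCharacter V) : ℕ :=
  Nat.card {χ : IrrCharacter G // (RealC (χ : G → ℂ) ∧ Odd (deg (χ : G → ℂ))) ∧
    classInner (fun v : V => (χ : G → ℂ) v) (θ : V → ℂ) ≠ 0}

/-- Counting through the fixed constituents. -/
theorem numRealOdd_formula :
    (numRealOdd G : ℚ) = ∑ θ ∈ fixSet V P, (overCount V θ : ℚ) / ((nOrbit V P θ).card : ℚ) := by
  classical
  set S := Finset.univ.filter fun χ : IrrCharacter G =>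
    RealC (χ : G → ℂ) ∧ Odd (deg (χ : G → ℂ)) with hS
  have hR : numRealOdd G = S.card := by
    rw [numRealOdd, Nat.card_eq_fintype_card, Fintype.card_subtype]
    congr 1
    ext
    simp only [hS, Finset.mem_filter, Finset.mem_univ, true_and]; rfl
  have hO : ∀ θ : IrrCharacter V, overCount V θ =
      (S.filter fun χ : IrrCharacter G => classInner (fun v : V => (χ : G → ℂ) v) (θ : V → ℂ) ≠ 0).card := by
    intro θ
    rw [overCount, Nat.card_eq_fintype_card, Fintype.card_subtype, hS, Finset.filter_filter]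
  have key : ∀ χ ∈ S, ∑ θ ∈ (fixSet V P).filter
      (fun θ : IrrCharacter V => classInner (fun v : V => (χ : G → ℂ) v) (θ : V → ℂ) ≠ 0),
        (1 : ℚ) / ((nOrbit V P θ).card : ℚ) = 1 := by
    intro χ hχ
    obtain ⟨-, hr, hodd⟩ := Finset.mem_filter.1 hχ
    set A := (fixSet V P).filter
      (fun θ : IrrCharacter V => classInner (fun v : V => (χ : G → ℂ) v) (θ : V → ℂ) ≠ 0) with hA
    have horb : ∀ θ ∈ A, nOrbit V P θ = A := by
      intro θ hθ
      obtain ⟨hθf, hθc⟩ := Finset.mem_filter.1 hθ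
      have hθP := (Finset.mem_filter.1 hθf).2
      ext η
      simp only [nOrbit, Finset.mem_image, Finset.mem_filter, Finset.mem_univ, true_and, hA, fixSet]
      constructor
      · rintro ⟨n, hn, rfl⟩
        refine ⟨fun x hx => mem_inertia.2 ?_, constituent_cjIrr hθc n⟩
        have hx' := (Subgroup.mem_normalizer_iff.1 hn x).1 hx
        rw [cjIrr_val, ← conjN_mul, show n * x = (n * x * n⁻¹) * n by group, conjN_mul,
          show conjN V (n * x * n⁻¹) (θ : V → ℂ) = θ from mem_inertia.1 (hθP hx')]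
      · rintro ⟨hη, hηc⟩
        obtain ⟨n, hn, hne⟩ := fusion V P χ θ η hθP hη hθc hηc
        exact ⟨n, hn, hne⟩
    obtain ⟨θ, hθP, hθc⟩ := exists_fixed_over V P χ hodd
    have hAne : A.Nonempty := ⟨θ, Finset.mem_filter.2 ⟨Finset.mem_filter.2 ⟨Finset.mem_univ _, hθP⟩, hθc⟩⟩
    rw [Finset.sum_congr rfl fun η hη => by rw [horb η hη], Finset.sum_const, nsmul_eq_mul,
      mul_one_div, div_self (Nat.cast_ne_zero.2 hAne.card_pos.ne')]
  rw [hR, Finset.card_eq_sum_ones, Nat.cast_sum, Nat.cast_one,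
    ← Finset.sum_congr rfl key]
  simp only [Finset.sum_filter]
  rw [Finset.sum_comm]
  refine Finset.sum_congr rfl fun θ _ => ?_
  rw [hO, ← Finset.sum_filter, Finset.sum_const, nsmul_eq_mul, mul_one_div]

end

/-- The normaliser of the image of the Sylow subgroup. -/
theorem map_normalizer_mapSurjective {G : Type u} [Group G] [Fintype G] (V : Subgroup G) [V.Normal]
    (P : Sylow 2 G) :
    (Subgroup.normalizer ((P : Subgroup G) : Set G)).map (QuotientGroup.mk' V) =
      Subgroup.normalizer (((P.mapSurjective (QuotientGroup.mk'_surjective V) : Sylow 2 (G ⧸ V)) :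
        Subgroup (G ⧸ V)) : Set (G ⧸ V)) := by
  rw [Cfsg.Lib.Blocks.SylowNorm.map_normalizer_sylow, Sylow.coe_mapSurjective]

/-- The quotient of the normaliser inside an inertia group. -/
theorem numRealOdd_normalizer_quotient {G : Type u} [Group G] [Fintype G] (V T : Subgroup G)
    [V.Normal] [Fintype T] [Fintype (↥T ⧸ V.subgroupOf T)] (P : Sylow 2 G)
    (hPT : (P : Subgroup G) ≤ T)
    (T' : Subgroup ↥(Subgroup.normalizer ((P : Subgroup G) : Set G))) [Fintype T']
    (hT' : ∀ n, n ∈ T' ↔ (n : G) ∈ T)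
    [Fintype (↥T' ⧸ (V.subgroupOf (Subgroup.normalizer ((P : Subgroup G) : Set G))).subgroupOf T')]
    [Fintype ↥(Subgroup.normalizer ((((P.subtype hPT).mapSurjective
        (QuotientGroup.mk'_surjective (V.subgroupOf T)) : Sylow 2 (↥T ⧸ V.subgroupOf T)) :
          Subgroup (↥T ⧸ V.subgroupOf T)) : Set (↥T ⧸ V.subgroupOf T)))] :
    numRealOdd ↥(Subgroup.normalizer ((((P.subtype hPT).mapSurjective
        (QuotientGroup.mk'_surjective (V.subgroupOf T)) : Sylow 2 (↥T ⧸ V.subgroupOf T)) :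
          Subgroup (↥T ⧸ V.subgroupOf T)) : Set (↥T ⧸ V.subgroupOf T))) =
      numRealOdd (↥T' ⧸ (V.subgroupOf (Subgroup.normalizer ((P : Subgroup G) : Set G))).subgroupOf T') := by
  classical
  let g : T' →* T := ((Subgroup.normalizer ((P : Subgroup G) : Set G)).subtype.comp T'.subtype).codRestrict T fun t => (hT' _).1 t.2
  let f := (QuotientGroup.mk' (V.subgroupOf T)).comp g
  have hker : f.ker = (V.subgroupOf (Subgroup.normalizer ((P : Subgroup G) : Set G))).subgroupOf T' := by
    ext t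
    rw [MonoidHom.mem_ker, MonoidHom.comp_apply, QuotientGroup.mk'_apply, QuotientGroup.eq_one_iff]
    rfl
  have hPN : Subgroup.normalizer (((P.subtype hPT : Sylow 2 T) : Subgroup T) : Set T) =
      (Subgroup.normalizer ((P : Subgroup G) : Set G)).subgroupOf T := by
    rw [Sylow.coe_subtype, Subgroup.subgroupOf_normalizer_eq hPT]
  have hrange : f.range = Subgroup.normalizer ((((P.subtype hPT).mapSurjective
      (QuotientGroup.mk'_surjective (V.subgroupOf T)) : Sylow 2 (↥T ⧸ V.subgroupOf T)) :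
        Subgroup (↥T ⧸ V.subgroupOf T)) : Set (↥T ⧸ V.subgroupOf T)) := by
    rw [← map_normalizer_mapSurjective, hPN, MonoidHom.range_comp]
    congr 1
    ext t
    constructor
    · rintro ⟨s, rfl⟩
      exact s.1.2
    · intro ht
      exact ⟨⟨⟨(t : G), ht⟩, (hT' _).2 t.2⟩, Subtype.ext rfl⟩
  exact (numRealOdd_congr ((QuotientGroup.quotientMulEquivOfEq hker.symm).trans
    ((QuotientGroup.quotientKerEquivRange f).trans (MulEquiv.subgroupCongr hrange)))).symm

/-- The step over a minimal normal 2-subgroup. -/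
theorem step_two {G : Type u} [Group G] [Fintype G] (P : Sylow 2 G) (V : Subgroup G) [V.Normal]
    [Fintype V] [Fintype ↥(Subgroup.normalizer ((P : Subgroup G) : Set G))] (hVP : V ≤ P)
    (hVc : ∀ a b : V, a * b = b * a) (hV2 : ∀ v ∈ V, v ^ 2 = 1)
    (hIH : ∀ (T : Subgroup G) [Fintype T] [Fintype (↥T ⧸ V.subgroupOf T)] (hPT : (P : Subgroup G) ≤ T)
      [Fintype ↥(Subgroup.normalizer ((((P.subtype hPT).mapSurjective
        (QuotientGroup.mk'_surjective (V.subgroupOf T)) : Sylow 2 (↥T ⧸ V.subgroupOf T)) :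
          Subgroup (↥T ⧸ V.subgroupOf T)) : Set (↥T ⧸ V.subgroupOf T)))],
      numRealOdd (↥T ⧸ V.subgroupOf T) =
        numRealOdd ↥(Subgroup.normalizer ((((P.subtype hPT).mapSurjective
          (QuotientGroup.mk'_surjective (V.subgroupOf T)) : Sylow 2 (↥T ⧸ V.subgroupOf T)) :
            Subgroup (↥T ⧸ V.subgroupOf T)) : Set (↥T ⧸ V.subgroupOf T)))) :
    numRealOdd G = numRealOdd ↥(Subgroup.normalizer ((P : Subgroup G) : Set G)) := by
  classical
  set N := Subgroup.normalizer ((P : Subgroup G) : Set G) with hN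
  have hPN : (P : Subgroup G) ≤ N := Subgroup.le_normalizer
  have hVN : V ≤ N := hVP.trans hPN
  haveI : (V.subgroupOf N).Normal := Subgroup.normal_subgroupOf
  letI : Fintype (V.subgroupOf N) := Fintype.ofFinite _
  set P' := P.subtype hPN with hP'
  let e := Subgroup.subgroupOfEquivOfLe hVN
  let E : IrrCharacter V ≃ IrrCharacter (V.subgroupOf N) := irrEquiv e
  have hin : ∀ (θ : IrrCharacter V) (n : N),
      n ∈ inertia (V.subgroupOf N) (E θ : V.subgroupOf N → ℂ) ↔ (n : G) ∈ inertia V (θ : V → ℂ) := by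
    intro θ n
    rw [mem_inertia, mem_inertia, funext_iff, funext_iff, e.symm.surjective.forall]
    refine forall_congr' fun v => ?_
    show (θ : V → ℂ) _ = (θ : V → ℂ) (e (e.symm v)) ↔ _
    rw [e.apply_symm_apply]
    exact Iff.rfl
  have hnorm : Subgroup.normalizer ((P' : Subgroup N) : Set N) = ⊤ := by
    rw [hP', Sylow.coe_subtype, ← Subgroup.subgroupOf_normalizer_eq hPN, Subgroup.subgroupOf_self]
  have hcj : ∀ (θ : IrrCharacter V) (n : N),
      cjIrr (V.subgroupOf N) n (E θ) = E (cjIrr V (n : G) θ) := fun θ n => Subtype.ext (by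
    rw [cjIrr_val]
    funext x
    show (θ : V → ℂ) _ = ((cjIrr V (n : G) θ : IrrCharacter V) : V → ℂ) (e x)
    rw [cjIrr_val]
    rfl)
  have horb : ∀ θ : IrrCharacter V,
      (nOrbit (V.subgroupOf N) P' (E θ)).card = (nOrbit V P θ).card := by
    intro θ
    rw [show nOrbit (V.subgroupOf N) P' (E θ) = (nOrbit V P θ).map E.toEmbedding from ?_,
      Finset.card_map]
    ext η
    simp only [nOrbit, hnorm, Subgroup.mem_top, Finset.filter_true, Finset.mem_image,
      Finset.mem_map_equiv, Finset.mem_filter, Finset.mem_univ, true_and]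
    constructor
    · rintro ⟨n, rfl⟩
      exact ⟨n, n.2, by rw [hcj, E.symm_apply_apply]⟩
    · rintro ⟨n, hn, hne⟩
      exact ⟨⟨n, hn⟩, by rw [hcj]; simp only; rw [hne, E.apply_symm_apply]⟩
  have hfix : fixSet (V.subgroupOf N) P' = (fixSet V P).map E.toEmbedding := by
    ext η
    obtain ⟨θ, rfl⟩ := E.surjective η
    simp only [fixSet, Finset.mem_map_equiv, E.symm_apply_apply, Finset.mem_filter, Finset.mem_univ,
      true_and]
    constructor
    · intro h x hx
      exact (hin θ ⟨x, hPN hx⟩).1 (h (show (⟨x, hPN hx⟩ : N) ∈ (P' : Subgroup N) from hx))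
    · intro h n hn
      exact (hin θ n).2 (h hn)
  have hover : ∀ θ ∈ fixSet V P, overCount V θ = overCount (V.subgroupOf N) (E θ) := by
    intro θ hθ
    have hP := (Finset.mem_filter.1 hθ).2
    have hP₂ : (P' : Subgroup N) ≤ inertia (V.subgroupOf N) (E θ : V.subgroupOf N → ℂ) :=
      fun n hn => (hin θ n).2 (hP hn)
    have hVP' : V.subgroupOf N ≤ (P' : Subgroup N) := fun x hx => hVP hx
    have hV2' : ∀ v ∈ V.subgroupOf N, v ^ 2 = 1 := fun v hv => Subtype.ext (hV2 _ hv)
    obtain ⟨lam, hlam⟩ := exists_lin V hVc θ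
    by_cases hν : ∃ ν : (P : Subgroup G) →* ℂˣ, (∀ x, ν x ^ 2 = 1) ∧
        ∀ v : V, ν ⟨v, hVP v.2⟩ = lam v
    · obtain ⟨ν, hν2, hνV⟩ := hν
      set T := inertia V (θ : V → ℂ) with hT
      set T' := inertia (V.subgroupOf N) (E θ : V.subgroupOf N → ℂ) with hT'
      letI : Fintype T := Fintype.ofFinite T
      letI : Fintype T' := Fintype.ofFinite T'
      letI : Fintype (↥T ⧸ V.subgroupOf T) := Fintype.ofFinite _
      letI : Fintype (↥T' ⧸ (V.subgroupOf N).subgroupOf T') := Fintype.ofFinite _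
      letI := Fintype.ofFinite ↥(Subgroup.normalizer ((((P.subtype hP).mapSurjective
          (QuotientGroup.mk'_surjective (V.subgroupOf T)) : Sylow 2 (↥T ⧸ V.subgroupOf T)) :
            Subgroup (↥T ⧸ V.subgroupOf T)) : Set (↥T ⧸ V.subgroupOf T)))
      let c : (P' : Subgroup N) →* (P : Subgroup G) :=
        (N.subtype.comp (P' : Subgroup N).subtype).codRestrict _ fun x => x.2
      rw [overCount, card_over V P hVP hV2 θ lam hlam ν hν2 hνV hP, hIH T hP,
        numRealOdd_normalizer_quotient V T P hP T' (hin θ), overCount,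
        card_over (V.subgroupOf N) P' hVP' hV2' (E θ) (lam.comp e.toMonoidHom)
          (funext fun x => by
            show (θ : V → ℂ) (e x) = _
            rw [hlam]; rfl)
          (ν.comp c) (fun x => hν2 _) (fun v => hνV (e v)) hP₂]
    · rw [overCount, overCount, Nat.card_eq_zero.2 (Or.inl ?_), Nat.card_eq_zero.2 (Or.inl ?_)]
      · refine ⟨fun ⟨χ, ⟨hr, ho⟩, hc⟩ => hν ?_⟩
        obtain ⟨ν', hν'V, hν'2⟩ := exists_ext (V.subgroupOf N) P' hVP' χ ho (E θ) hP₂ hc
        let d : (P : Subgroup G) →* (P' : Subgroup N) :=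
          { toFun := fun x => ⟨⟨(x : G), hPN x.2⟩, x.2⟩
            map_one' := rfl
            map_mul' := fun _ _ => rfl }
        refine ⟨ν'.comp d, fun x => hν'2 hr _, fun v => Units.ext ?_⟩
        have := hν'V (e.symm v)
        show (ν' _ : ℂ) = _
        refine this.trans ?_
        show (θ : V → ℂ) (e (e.symm v)) = _
        rw [e.apply_symm_apply, hlam]
      · refine ⟨fun ⟨χ, ⟨hr, ho⟩, hc⟩ => hν ?_⟩
        obtain ⟨ν', hν'V, hν'2⟩ := exists_ext V P hVP χ ho θ hP hc
        exact ⟨ν', hν'2 hr, fun v => Units.ext (by rw [hν'V, hlam])⟩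
  have hmain : (numRealOdd G : ℚ) = numRealOdd N := by
    rw [numRealOdd_formula V P, numRealOdd_formula (V.subgroupOf N) P', hfix, Finset.sum_map]
    refine Finset.sum_congr rfl fun θ hθ => ?_
    rw [Equiv.coe_toEmbedding, hover θ hθ, horb θ]
  exact_mod_cast hmain

/-- **Real characters of odd degree of a solvable group and of the Sylow normaliser.** -/
theorem numRealOdd_eq_normalizer : ∀ (n : ℕ) (G : Type u) [Group G] [Fintype G], Nat.card G = n →
    Group.IsSolvable G → ∀ (P : Sylow 2 G)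
      [Fintype ↥(Subgroup.normalizer ((P : Subgroup G) : Set G))],
      numRealOdd G = numRealOdd ↥(Subgroup.normalizer ((P : Subgroup G) : Set G)) := by
  intro n
  induction n using Nat.strong_induction_on with
  | _ n ih =>
  intro G _ _ hn hsol P _
  classical
  rcases subsingleton_or_nontrivial G with hs | hnt
  · have : Subgroup.normalizer ((P : Subgroup G) : Set G) = ⊤ := Subsingleton.elim _ _
    exact (numRealOdd_congr ((MulEquiv.subgroupCongr this).trans Subgroup.topEquiv)).symm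
  haveI := hsol
  obtain ⟨V, -, hVn, hVb, hmin⟩ :=
    Cfsg.Lib.Coprime.exists_minimal_normal (K := (⊤ : Subgroup G)) inferInstance top_ne_bot
  haveI := hVn
  obtain ⟨hVc, r, hr, hrV, hexp⟩ :=
    Cfsg.Lib.Coprime.minimal_normal_solvable inferInstance hVb hmin
  letI : Fintype V := Fintype.ofFinite V
  have hlt : ∀ T : Subgroup G, V ≤ T → Nat.card (↥T ⧸ V.subgroupOf T) < n := fun T hT => by
    have h1 := Subgroup.card_eq_card_quotient_mul_card_subgroup (V.subgroupOf T)
    rw [Nat.card_congr (Subgroup.subgroupOfEquivOfLe hT).toEquiv] at h1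
    have h2 : 1 < Nat.card V := (Subgroup.one_lt_card_iff_ne_bot V).2 hVb
    have h3 : 0 < Nat.card (↥T ⧸ V.subgroupOf T) := Nat.card_pos
    have h4 := Nat.le_of_dvd Nat.card_pos T.card_subgroup_dvd_card
    nlinarith
  by_cases hr2 : r = 2
  · subst hr2
    have hVP : V ≤ (P : Subgroup G) :=
      le_sup_right.trans (P.3 (P.2.to_sup_of_normal_right hrV) le_sup_left).le
    refine step_two P V hVP (fun a b => mul_comm' a b) hexp fun T _ _ hPT _ => ?_
    exact ih _ (hlt T (hVP.trans hPT)) _ rfl inferInstance _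
  · have hodd : Odd (Nat.card V) := by
      haveI := Fact.mk hr
      obtain ⟨k, hk⟩ := IsPGroup.iff_card.1 hrV
      rw [hk]
      exact (hr.odd_of_ne_two hr2).pow
    letI : Fintype (G ⧸ V) := Fintype.ofFinite _
    have hlt' : Nat.card (G ⧸ V) < n := by
      have h1 := Subgroup.card_eq_card_quotient_mul_card_subgroup V
      have h2 : 1 < Nat.card V := (Subgroup.one_lt_card_iff_ne_bot V).2 hVb
      have h3 : 0 < Nat.card (G ⧸ V) := Nat.card_pos
      nlinarith
    set N := Subgroup.normalizer ((P : Subgroup G) : Set G) with hN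
    set π := QuotientGroup.mk' V with hπ
    letI := Fintype.ofFinite ↥(Subgroup.normalizer (((P.mapSurjective
        (QuotientGroup.mk'_surjective V) : Sylow 2 (G ⧸ V)) : Subgroup (G ⧸ V)) : Set (G ⧸ V)))
    letI := Fintype.ofFinite ↥(N.map π)
    rw [numRealOdd_of_odd_ker π (QuotientGroup.mk'_surjective V) (by
        rw [hπ, QuotientGroup.ker_mk']; exact hodd),
      ih _ hlt' (G ⧸ V) rfl inferInstance (P.mapSurjective (QuotientGroup.mk'_surjective V)),
      numRealOdd_of_odd_ker (π.subgroupMap N) (π.subgroupMap_surjective N) ?_]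
    · exact numRealOdd_congr (MulEquiv.subgroupCongr (map_normalizer_mapSurjective V P)).symm
    · refine Odd.of_dvd_nat hodd (Subgroup.card_dvd_of_injective
        ((N.subtype.comp (π.subgroupMap N).ker.subtype).codRestrict V fun k => ?_) fun a b h => ?_)
      · exact (QuotientGroup.eq_one_iff _).1 (congrArg Subtype.val k.2)
      · exact Subtype.ext (Subtype.ext (congrArg Subtype.val h :))

/-- All irreducible characters of odd degree are real. -/
def AllReal (G : Type u) [Group G] : Prop :=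
  ∀ χ : IrrCharacter G, Odd (deg (χ : G → ℂ)) → RealC (χ : G → ℂ)

/-- All linear characters square to one. -/
def SqTriv (A : Type u) [Group A] : Prop := ∀ (ν : A →* ℂˣ) (x : A), ν x ^ 2 = 1

theorem SqTriv.of_surjective {A B : Type u} [Group A] [Group B] (h : SqTriv A) (r : A →* B)
    (hr : Function.Surjective r) : SqTriv B := fun ν x => by
  obtain ⟨a, rfl⟩ := hr x
  exact h (ν.comp r) a

theorem AllReal.quotient {G : Type u} [Group G] [Fintype G] (h : AllReal G) (V : Subgroup G) [V.Normal]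
    [Fintype (G ⧸ V)] : AllReal (G ⧸ V) := fun β hβ q => by
  obtain ⟨g, rfl⟩ := QuotientGroup.mk'_surjective V q
  have hi : IsIrrCharacter G (fun x => (β : G ⧸ V → ℂ) (QuotientGroup.mk' V x)) :=
    IsIrrCharacter.comp_surjective β.2 _ (QuotientGroup.mk'_surjective V)
  refine h ⟨_, hi⟩ ?_ g
  rwa [show deg (fun x => (β : G ⧸ V → ℂ) (QuotientGroup.mk' V x)) = deg (β : G ⧸ V → ℂ) from
    Nat.cast_injective (R := ℂ) (by
      rw [← IsCharacter.apply_one_eq_deg (isCharacter_of_irr hi), map_one, irr_apply_one_eq_deg])]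

/-- Descent of a character trivial on the kernel. -/
theorem AllReal.of_kernel {G : Type u} [Group G] [Fintype G] {V : Subgroup G} [V.Normal]
    [Fintype (G ⧸ V)] (h : AllReal (G ⧸ V)) (χ : IrrCharacter G) (hodd : Odd (deg (χ : G → ℂ)))
    (hk : ∀ v ∈ V, (χ : G → ℂ) v = (χ : G → ℂ) 1) : RealC (χ : G → ℂ) := by
  obtain ⟨b, hb, hbχ⟩ := exists_factor (QuotientGroup.mk' V) (QuotientGroup.mk'_surjective V)
    (isCharacter_of_irr χ.2) (fun k hk' => hk k (by rwa [QuotientGroup.ker_mk'] at hk'))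
  have hbi : IsIrrCharacter (G ⧸ V) b :=
    IsIrrCharacter.descend hb _ (QuotientGroup.mk'_surjective V) (hbχ ▸ χ.2)
  intro g
  rw [hbχ]
  refine h ⟨b, hbi⟩ ?_ _
  rwa [show deg b = deg (χ : G → ℂ) from Nat.cast_injective (R := ℂ) (by
    rw [← IsCharacter.apply_one_eq_deg hb, ← irr_apply_one_eq_deg, congrFun hbχ 1, map_one])]

/-- The step over a minimal normal subgroup of odd order. -/
theorem allReal_step_odd {G : Type u} [Group G] [Fintype G] (P : Sylow 2 G) (V : Subgroup G)
    [V.Normal] [Fintype V] [Fintype (G ⧸ V)] (hVc : ∀ a b : V, a * b = b * a)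
    (hodd : Odd (Nat.card V))
    (hIH : AllReal (G ⧸ V) ↔
      (SqTriv ↥((P.mapSurjective (QuotientGroup.mk'_surjective V) : Sylow 2 (G ⧸ V)) : Subgroup (G ⧸ V)) ∧
        Subgroup.normalizer (((P.mapSurjective (QuotientGroup.mk'_surjective V) : Sylow 2 (G ⧸ V)) :
          Subgroup (G ⧸ V)) : Set (G ⧸ V)) =
          ((P.mapSurjective (QuotientGroup.mk'_surjective V) : Sylow 2 (G ⧸ V)) : Subgroup (G ⧸ V)))) :
    AllReal G ↔ (SqTriv ↥(P : Subgroup G) ∧
      Subgroup.normalizer ((P : Subgroup G) : Set G) = (P : Subgroup G)) := by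
  classical
  letI : Fintype (P : Subgroup G) := Fintype.ofFinite _
  letI : CommGroup V := { (inferInstance : Group V) with mul_comm := hVc }
  set π := QuotientGroup.mk' V with hπ
  set P₁ := P.mapSurjective (QuotientGroup.mk'_surjective V) with hP₁
  have hP₁c : (P₁ : Subgroup (G ⧸ V)) = (P : Subgroup G).map π := Sylow.coe_mapSurjective _ _
  obtain ⟨k, hk⟩ := IsPGroup.iff_card.1 P.2
  have hcop : (Nat.card (P : Subgroup G)).Coprime (Nat.card V) := by
    rw [hk]; exact ((Nat.Prime.coprime_iff_not_dvd Nat.prime_two).2 hodd.not_two_dvd_nat).pow_left k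
  have hPV : ∀ x : G, x ∈ (P : Subgroup G) → x ∈ V → x = 1 := fun x h1 h2 =>
    Cfsg.Lib.Coprime.eq_one_of_coprime hcop h1 h2
  let r : (P : Subgroup G) →* (P₁ : Subgroup (G ⧸ V)) :=
    (MulEquiv.subgroupCongr hP₁c.symm).toMonoidHom.comp (π.subgroupMap (P : Subgroup G))
  have hr : Function.Surjective r :=
    (MulEquiv.subgroupCongr hP₁c.symm).surjective.comp (π.subgroupMap_surjective _)
  have hri : Function.Injective r := (MulEquiv.subgroupCongr hP₁c.symm).injective.comp (by
    rw [← MonoidHom.ker_eq_bot_iff, eq_bot_iff]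
    intro x hx
    exact Subtype.ext (hPV x x.2 ((QuotientGroup.eq_one_iff _).1 (congrArg Subtype.val hx))))
  have hcj : ∀ (x y : G) (v : V),
      MulAut.conjNormal (x * y) v = MulAut.conjNormal x (MulAut.conjNormal y v) := fun x y v => by
    rw [map_mul]; rfl
  have hpow : ∀ (lam : V →* ℂˣ) (v : V), lam v ^ Nat.card (P : Subgroup G) = 1 → lam v = 1 := by
    intro lam v h
    have h2 : lam v ^ Nat.card V = 1 := by rw [← map_pow, pow_card_eq_one', map_one]
    have := (pow_gcd_eq_one (m := Nat.card (P : Subgroup G)) (n := Nat.card V)).mpr ⟨h, h2⟩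
    rwa [show Nat.gcd _ _ = 1 from hcop, pow_one] at this
  constructor
  · intro h
    obtain ⟨hsq, hnorm⟩ := hIH.1 (h.quotient V)
    have htriv : ∀ θ : IrrCharacter V, (P : Subgroup G) ≤ inertia V (θ : V → ℂ) → θ = principal V := by
      intro θ hθ
      by_contra hne
      set Q := V ⊔ (P : Subgroup G) with hQ
      have hVQ : V ≤ Q := le_sup_left
      letI : Fintype Q := Fintype.ofFinite Q
      haveI : (V.subgroupOf Q).Normal := Subgroup.normal_subgroupOf
      letI : Fintype (V.subgroupOf Q) := Fintype.ofFinite _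
      let e := Subgroup.subgroupOfEquivOfLe hVQ
      have hQI : Q ≤ inertia V (θ : V → ℂ) := sup_le (le_inertia (isClassFunction_irr θ)) hθ
      obtain ⟨μ, hμ, hμV⟩ := exists_extension_of_coprime_index (V.subgroupOf Q)
        (IsIrrCharacter.comp_mulEquiv θ.2 e)
        (fun g => funext fun x => congrFun (mem_inertia.1 (hQI g.2)) (e x)) (by
          rw [Nat.card_congr e.toEquiv]
          refine (hcop.coprime_dvd_left ?_).symm
          show V.relIndex Q ∣ _
          rw [hQ, sup_comm, Subgroup.relIndex_sup_right]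
          exact Subgroup.relIndex_dvd_card _ _)
      have hμ1 : μ 1 = 1 := by
        have := hμV 1
        rw [OneMemClass.coe_one, map_one] at this
        rw [this]
        exact irr_deg_one_of_comm hVc θ.2
      have hf1 : indFun Q μ 1 = (Q.index : ℂ) := by rw [indFun_one, hμ1, mul_one]
      have hQodd : Odd Q.index := Nat.odd_iff.2 (by
        have h3 : ¬ 2 ∣ Q.index := fun h => P.not_dvd_index
          (h.trans (Subgroup.index_dvd_of_le (le_sup_right : (P : Subgroup G) ≤ Q)))
        omega)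
      obtain ⟨χ, hχ, hχo⟩ := exists_odd_constituent (IsCharacter.indFun (isCharacter_of_irr hμ)) hf1 hQodd
      have h1 : classInner (fun x : Q => (χ : G → ℂ) x) μ ≠ 0 := by
        rw [frobenius_reciprocity _ _ (isClassFunction_irr χ)] at hχ
        rw [← classInner_conj_symm, map_ne_zero]
        exact hχ
      have h2 := over_trans (Subgroup.inclusion hVQ) (IsCharacter.restrict (isCharacter_of_irr χ.2) Q)
        hμ h1 θ.2 (by
          rw [show (fun a : V => μ (Subgroup.inclusion hVQ a)) = (θ : V → ℂ) from funext fun a => by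
            refine Eq.trans ?_ ((hμV (e.symm a)).trans (by rw [e.apply_symm_apply]))
            rfl, classInner_self_irr θ.2]
          exact one_ne_zero)
      refine h2 ?_
      have hk' := trivial_on_odd V hodd χ (h χ hχo) hχo
      rw [show (fun a : V => (χ : G → ℂ) (Subgroup.inclusion hVQ a : Q)) =
        (χ : G → ℂ) 1 • ((principal V : IrrCharacter V) : V → ℂ) from funext fun a => by
          show (χ : G → ℂ) (a : G) = _
          rw [hk' a a.2]; simp [principal], classInner_smul_left,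
        classInner_irr_ne (Ne.symm hne), mul_zero]
    have hcent : ∀ v ∈ V, (∀ y ∈ (P : Subgroup G), y * v * y⁻¹ = v) → v = 1 := by
      intro v hv hvc
      by_contra hv1
      obtain ⟨lam, hlam⟩ := CommGroup.exists_apply_ne_one_of_hasEnoughRootsOfUnity V ℂ
        (a := ⟨v, hv⟩) (fun h => hv1 (congrArg Subtype.val h))
      let lam' : V →* ℂˣ := ∏ x : (P : Subgroup G),
        lam.comp (MulAut.conjNormal (x : G) : V ≃* V).toMonoidHom
      have hlam' : ∀ w, lam' w = ∏ x : (P : Subgroup G), lam (MulAut.conjNormal (x : G) w) := fun w => by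
        simp [lam', MonoidHom.finsetProd_apply]
      have hfix : (P : Subgroup G) ≤ inertia V (fun w => (lam' w : ℂ)) := fun y hy => mem_inertia.2 (by
        rw [conjN_eq_comp]
        funext w
        refine congrArg Units.val ?_
        rw [hlam', hlam']
        refine Fintype.prod_equiv (Equiv.mulRight (⟨y, hy⟩ : (P : Subgroup G))) _ _ fun x => ?_
        rw [Equiv.coe_mulRight, Subgroup.coe_mul, hcj])
      have h1 := congrFun (congrArg Subtype.val (htriv ⟨_, isIrrCharacter_linear lam'⟩ hfix)) ⟨v, hv⟩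
      refine hlam (hpow lam _ (Units.ext ?_))
      have hp : lam' ⟨v, hv⟩ = lam ⟨v, hv⟩ ^ Nat.card (P : Subgroup G) := by
        rw [hlam', Finset.prod_congr rfl (g := fun _ => lam ⟨v, hv⟩) fun x _ => by
          congr 1; exact Subtype.ext (by rw [MulAut.conjNormal_apply]; exact hvc x x.2),
          Finset.prod_const, Finset.card_univ, Nat.card_eq_fintype_card]
      rw [← hp, Units.val_one]
      exact h1
    have hN : Subgroup.normalizer ((P : Subgroup G) : Set G) = (P : Subgroup G) := by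
      refine le_antisymm (fun x hx => ?_) Subgroup.le_normalizer
      have hxm : π x ∈ (P : Subgroup G).map π := by
        rw [← hP₁c, ← hnorm, ← map_normalizer_mapSurjective]
        exact ⟨x, hx, rfl⟩
      obtain ⟨y, hy, hyx⟩ := hxm
      have hv : y⁻¹ * x ∈ V := by
        rw [← QuotientGroup.eq_one_iff]
        show π (y⁻¹ * x) = 1
        rw [map_mul, map_inv, hyx, inv_mul_cancel]
      have hvN : y⁻¹ * x ∈ Subgroup.normalizer ((P : Subgroup G) : Set G) :=
        mul_mem (inv_mem (Subgroup.le_normalizer hy)) hx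
      have hcomm : ∀ z ∈ (P : Subgroup G), z * (y⁻¹ * x) * z⁻¹ = y⁻¹ * x := by
        intro z hz
        have h1 : (y⁻¹ * x) * z * (y⁻¹ * x)⁻¹ * z⁻¹ ∈ (P : Subgroup G) :=
          mul_mem ((Subgroup.mem_normalizer_iff.1 hvN z).1 hz) (inv_mem hz)
        have h2 : (y⁻¹ * x) * z * (y⁻¹ * x)⁻¹ * z⁻¹ ∈ V := by
          rw [show (y⁻¹ * x) * z * (y⁻¹ * x)⁻¹ * z⁻¹ = (y⁻¹ * x) * (z * (y⁻¹ * x)⁻¹ * z⁻¹) by group]
          exact mul_mem hv (Subgroup.Normal.conj_mem ‹V.Normal› _ (inv_mem hv) z)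
        have h3 := hPV _ h1 h2
        rw [mul_inv_eq_one, mul_inv_eq_iff_eq_mul] at h3
        exact mul_inv_eq_iff_eq_mul.2 h3.symm
      have := hcent _ hv hcomm
      rw [inv_mul_eq_one] at this
      exact this ▸ hy
    refine ⟨fun ν x => ?_, hN⟩
    let s := (MulEquiv.ofBijective r ⟨hri, hr⟩)
    have := hsq (ν.comp s.symm.toMonoidHom) (s x)
    simpa using this
  · rintro ⟨hsq, hN⟩
    have hQ : AllReal (G ⧸ V) := hIH.2 ⟨hsq.of_surjective r hr, by
      rw [← map_normalizer_mapSurjective, hN, hP₁c]⟩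
    intro χ hχ
    obtain ⟨θ, hθ, hθc⟩ := exists_fixed_over V P χ hχ
    obtain ⟨lam, hlam⟩ := exists_lin V hVc θ
    have hl : ∀ v : V, lam v = 1 := by
      intro v
      let w : V := ∏ x : (P : Subgroup G), MulAut.conjNormal (x : G) v
      have hw : (w : G) ∈ Subgroup.normalizer ((P : Subgroup G) : Set G) := by
        refine Subgroup.centralizer_le_normalizer _ (Subgroup.mem_centralizer_iff.2 fun y hy => ?_)
        have : MulAut.conjNormal y w = w := by
          rw [map_prod]
          refine Fintype.prod_equiv (Equiv.mulLeft (⟨y, hy⟩ : (P : Subgroup G))) _ _ fun x => ?_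
          rw [Equiv.coe_mulLeft, Subgroup.coe_mul, hcj]
        have h := congrArg Subtype.val this
        rw [MulAut.conjNormal_apply] at h
        exact mul_inv_eq_iff_eq_mul.1 h
      rw [hN] at hw
      have hw1 : w = 1 := Subtype.ext (hPV _ hw w.2)
      refine hpow lam v ?_
      have h := congrArg lam hw1
      rw [map_one, map_prod, Finset.prod_congr rfl (g := fun _ => lam v) fun x _ => ?_,
        Finset.prod_const, Finset.card_univ] at h
      · rwa [Nat.card_eq_fintype_card]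
      · have h' := congrFun (mem_inertia.1 (hθ x.2)) v
        rw [conjN_eq_comp, hlam] at h'
        exact Units.ext h'
    have hθ1 : (θ : V → ℂ) = fun _ => 1 := by rw [hlam]; funext v; rw [hl, Units.val_one]
    obtain ⟨k', -, hk'⟩ := restrict_eq_mult_of_invariant V χ.2 θ.2
      (fun g => funext fun v => by rw [hθ1]; rfl) hθc
    refine hQ.of_kernel χ hχ fun v hv => ?_
    have h1 := congrFun hk' ⟨v, hv⟩
    have h2 := congrFun hk' 1
    simp only [Pi.smul_apply, hθ1, OneMemClass.coe_one] at h1 h2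
    rw [h1, h2]

/-- The step over a minimal normal 2-subgroup. -/
theorem allReal_step_two {G : Type u} [Group G] [Fintype G] (P : Sylow 2 G) (V : Subgroup G)
    [V.Normal] [Fintype V] [Fintype (G ⧸ V)] (hVP : V ≤ P) (hVc : ∀ a b : V, a * b = b * a)
    (hV2 : ∀ v ∈ V, v ^ 2 = 1)
    (hIH : ∀ (T : Subgroup G) [Fintype T] [Fintype (↥T ⧸ V.subgroupOf T)] (hPT : (P : Subgroup G) ≤ T),
      AllReal (↥T ⧸ V.subgroupOf T) ↔
      (SqTriv ↥(((P.subtype hPT).mapSurjective (QuotientGroup.mk'_surjective (V.subgroupOf T)) :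
          Sylow 2 (↥T ⧸ V.subgroupOf T)) : Subgroup (↥T ⧸ V.subgroupOf T)) ∧
        Subgroup.normalizer ((((P.subtype hPT).mapSurjective
          (QuotientGroup.mk'_surjective (V.subgroupOf T)) : Sylow 2 (↥T ⧸ V.subgroupOf T)) :
            Subgroup (↥T ⧸ V.subgroupOf T)) : Set (↥T ⧸ V.subgroupOf T)) =
          (((P.subtype hPT).mapSurjective (QuotientGroup.mk'_surjective (V.subgroupOf T)) :
            Sylow 2 (↥T ⧸ V.subgroupOf T)) : Subgroup (↥T ⧸ V.subgroupOf T))))
    (hIH' : AllReal (G ⧸ V) ↔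
      (SqTriv ↥((P.mapSurjective (QuotientGroup.mk'_surjective V) : Sylow 2 (G ⧸ V)) : Subgroup (G ⧸ V)) ∧
        Subgroup.normalizer (((P.mapSurjective (QuotientGroup.mk'_surjective V) : Sylow 2 (G ⧸ V)) :
          Subgroup (G ⧸ V)) : Set (G ⧸ V)) =
          ((P.mapSurjective (QuotientGroup.mk'_surjective V) : Sylow 2 (G ⧸ V)) : Subgroup (G ⧸ V)))) :
    AllReal G ↔ (SqTriv ↥(P : Subgroup G) ∧
      Subgroup.normalizer ((P : Subgroup G) : Set G) = (P : Subgroup G)) := by
  classical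
  letI : Fintype (P : Subgroup G) := Fintype.ofFinite _
  set π := QuotientGroup.mk' V with hπ
  set P₁ := P.mapSurjective (QuotientGroup.mk'_surjective V) with hP₁
  have hP₁c : (P₁ : Subgroup (G ⧸ V)) = (P : Subgroup G).map π := Sylow.coe_mapSurjective _ _
  constructor
  · intro h
    obtain ⟨hsq, hnorm⟩ := hIH'.1 (h.quotient V)
    have hN : Subgroup.normalizer ((P : Subgroup G) : Set G) = (P : Subgroup G) := by
      refine le_antisymm (fun x hx => ?_) Subgroup.le_normalizer
      have hxm : π x ∈ (P : Subgroup G).map π := by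
        rw [← hP₁c, ← hnorm, ← map_normalizer_mapSurjective]
        exact ⟨x, hx, rfl⟩
      have h' : x ∈ ((P : Subgroup G).map π).comap π := hxm
      rwa [Subgroup.comap_map_eq_self (by rw [hπ, QuotientGroup.ker_mk']; exact hVP)] at h'
    refine ⟨fun ν x => ?_, hN⟩
    set lam : V →* ℂˣ := ν.comp (Subgroup.inclusion hVP) with hlam
    set θ : IrrCharacter V := ⟨fun v => (lam v : ℂ), isIrrCharacter_linear lam⟩ with hθ
    have hθP : (P : Subgroup G) ≤ inertia V (θ : V → ℂ) := fun y hy => mem_inertia.2 (funext fun v => by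
      show ((ν ⟨y * v * y⁻¹, _⟩ : ℂˣ) : ℂ) = (ν ⟨v, _⟩ : ℂ)
      rw [show (⟨y * v * y⁻¹, hVP (Subgroup.Normal.conj_mem ‹V.Normal› _ v.2 y)⟩ : (P : Subgroup G)) =
        ⟨y, hy⟩ * ⟨v, hVP v.2⟩ * ⟨y, hy⟩⁻¹ from rfl, map_mul, map_mul, map_inv, mul_inv_cancel_comm])
    have hf1 : indFun (P : Subgroup G) (fun x => (ν x : ℂ)) 1 = ((P : Subgroup G).index : ℂ) := by
      rw [indFun_one]; simp
    obtain ⟨χ, hχ, hχo⟩ := exists_odd_constituent
      (IsCharacter.indFun (isCharacter_of_irr (isIrrCharacter_linear ν))) hf1 (Nat.odd_iff.2 (by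
        have := P.not_dvd_index; omega))
    have h1 : classInner (fun x : (P : Subgroup G) => (χ : G → ℂ) x) (fun x => (ν x : ℂ)) ≠ 0 := by
      rw [frobenius_reciprocity _ _ (isClassFunction_irr χ)] at hχ
      rw [← classInner_conj_symm, map_ne_zero]
      exact hχ
    have h2 : classInner (fun v : V => (χ : G → ℂ) v) (θ : V → ℂ) ≠ 0 :=
      over_trans (Subgroup.inclusion hVP) (IsCharacter.restrict (isCharacter_of_irr χ.2) _)
        (isIrrCharacter_linear ν) h1 θ.2 (by
          rw [show (fun a : V => (ν (Subgroup.inclusion hVP a) : ℂ)) = (θ : V → ℂ) from rfl,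
            classInner_self_irr θ.2]
          exact one_ne_zero)
    obtain ⟨ν₀, hν₀V, hν₀r⟩ := exists_ext V P hVP χ hχo θ hθP h2
    have hν₀2 := hν₀r (h χ hχo)
    let r : (P : Subgroup G) →* (P₁ : Subgroup (G ⧸ V)) :=
      (MulEquiv.subgroupCongr hP₁c.symm).toMonoidHom.comp (π.subgroupMap (P : Subgroup G))
    have hr : Function.Surjective r :=
      (MulEquiv.subgroupCongr hP₁c.symm).surjective.comp (π.subgroupMap_surjective _)
    have hker : r.ker ≤ (ν * ν₀⁻¹).ker := fun y hy => by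
      have hyV : (y : G) ∈ V := (QuotientGroup.eq_one_iff _).1 (congrArg Subtype.val hy :)
      rw [MonoidHom.mem_ker, MonoidHom.mul_apply, MonoidHom.inv_apply, mul_inv_eq_one]
      apply Units.ext
      exact ((hν₀V ⟨y, hyV⟩).symm :)
    have h3 := hsq (r.liftOfSurjective hr ⟨ν * ν₀⁻¹, hker⟩) (r x)
    rw [MonoidHom.liftOfSurjective, MonoidHom.liftOfRightInverse_comp_apply] at h3
    simpa [mul_pow, hν₀2 x] using h3
  · rintro ⟨hsq, hN⟩ χ hχ
    obtain ⟨θ, hθ, hθc⟩ := exists_fixed_over V P χ hχ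
    obtain ⟨ν, hνV, -⟩ := exists_ext V P hVP χ hχ θ hθ hθc
    obtain ⟨lam, hlam⟩ := exists_lin V hVc θ
    set T := inertia V (θ : V → ℂ) with hTdef
    have hVT : V ≤ T := hVP.trans hθ
    letI : Fintype T := Fintype.ofFinite T
    haveI : (V.subgroupOf T).Normal := Subgroup.normal_subgroupOf
    letI : Fintype (V.subgroupOf T) := Fintype.ofFinite _
    letI : Fintype (↥T ⧸ V.subgroupOf T) := Fintype.ofFinite _
    set P₂ := P.subtype hθ with hP₂
    set P₃ := P₂.mapSurjective (QuotientGroup.mk'_surjective (V.subgroupOf T)) with hP₃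
    have hP₃c : (P₃ : Subgroup (↥T ⧸ V.subgroupOf T)) =
        (P₂ : Subgroup T).map (QuotientGroup.mk' (V.subgroupOf T)) := Sylow.coe_mapSurjective _ _
    let d : (P : Subgroup G) →* (P₂ : Subgroup T) :=
      { toFun := fun x => ⟨⟨(x : G), hθ x.2⟩, x.2⟩
        map_one' := rfl
        map_mul' := fun _ _ => rfl }
    have hd : Function.Surjective d := fun y => ⟨⟨(y : G), y.2⟩, rfl⟩
    have hTQ : AllReal (↥T ⧸ V.subgroupOf T) := by
      refine (hIH T hθ).2 ⟨(hsq.of_surjective d hd).of_surjective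
        ((MulEquiv.subgroupCongr hP₃c.symm).toMonoidHom.comp
          ((QuotientGroup.mk' (V.subgroupOf T)).subgroupMap (P₂ : Subgroup T)))
        ((MulEquiv.subgroupCongr hP₃c.symm).surjective.comp (MonoidHom.subgroupMap_surjective _ _)), ?_⟩
      rw [← map_normalizer_mapSurjective, Sylow.coe_subtype, ← Subgroup.subgroupOf_normalizer_eq hθ,
        hN]
      exact hP₃c.symm
    let c : (P₂ : Subgroup T) →* (P : Subgroup G) :=
      (T.subtype.comp (P₂ : Subgroup T).subtype).codRestrict _ fun x => x.2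
    let e := Subgroup.subgroupOfEquivOfLe hVT
    obtain ⟨μ, hμ2, hμV⟩ := exists_real_ext (V.subgroupOf T) P₂
      (fun v hv => hVP hv) (fun v hv => Subtype.ext (hV2 _ hv)) (lam.comp e.toMonoidHom)
      (fun g => funext fun x => by
        have h := congrFun (mem_inertia.1 g.2) (e x)
        rw [hlam] at h
        exact h)
      (ν.comp c) (fun x => hsq ν _) (fun v => Units.ext (by
        refine (hνV (e v)).trans ?_
        rw [hlam]; rfl))
    obtain ⟨ψ, hψi, hχψ, hψθ⟩ := exists_constituent_over T hVT (isCharacter_of_irr χ.2) hθc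
    obtain ⟨hind, -, -⟩ := clifford_correspondence θ.2 T hTdef hVT χ.2 hψi hχψ hψθ
    obtain ⟨k, -, hk⟩ := restrict_of_le_inertia V θ.2 T hVT hTdef.le hψi hψθ
    let β : IrrCharacter T := ⟨fun t => (μ t : ℂ) * ψ t, IsIrrCharacter.mul_linear hψi μ⟩
    have hdeg : deg (χ : G → ℂ) = T.index * deg (β : T → ℂ) := by
      apply Nat.cast_injective (R := ℂ)
      rw [Nat.cast_mul, ← irr_apply_one_eq_deg, ← irr_apply_one_eq_deg, ← hind, indFun_one]
      show _ = _ * ((μ 1 : ℂ) * ψ 1)
      rw [map_one, Units.val_one, one_mul]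
    have hβo : Odd (deg (β : T → ℂ)) := by
      rw [hdeg, Nat.odd_mul] at hχ
      exact hχ.2
    have hβk : ∀ x ∈ V.subgroupOf T, (β : T → ℂ) x = (β : T → ℂ) 1 := fun x hx => by
      have e1 := congrFun hk ⟨(x : G), hx⟩
      have e2 := congrFun hk 1
      simp only [Pi.smul_apply, smul_eq_mul] at e1 e2
      have hx1 : μ x = lam ⟨(x : G), hx⟩ := hμV ⟨x, hx⟩
      show (μ x : ℂ) * ψ x = (μ 1 : ℂ) * ψ 1
      rw [show ψ x = ψ ⟨(x : G), hVT hx⟩ from rfl, e1,
        show ψ 1 = ψ ⟨((1 : V) : G), hVT (1 : V).2⟩ from rfl, e2, hlam, hx1]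
      simp only [map_one, Units.val_one, mul_one, one_mul]
      rw [← mul_assoc, mul_comm _ (k : ℂ), mul_assoc, ← Units.val_mul, ← sq, ← map_pow,
        show (⟨(x : G), hx⟩ : V) ^ 2 = 1 from Subtype.ext (hV2 _ hx), map_one, Units.val_one, mul_one]
    have hβr : RealC (β : T → ℂ) := hTQ.of_kernel β hβo hβk
    rw [← hind]
    refine realC_indFun T fun t => ?_
    have : ψ t = (μ t : ℂ) * (β : T → ℂ) t := by
      show _ = (μ t : ℂ) * ((μ t : ℂ) * ψ t)
      rw [← mul_assoc, ← Units.val_mul, ← sq, hμ2, Units.val_one, one_mul]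
    rw [this, Complex.mul_im, real_of_sq_eq_one μ hμ2 t, hβr t]
    simp

/-- **All characters of odd degree are real.** -/
theorem allReal_iff : ∀ (n : ℕ) (G : Type u) [Group G] [Fintype G], Nat.card G = n →
    Group.IsSolvable G → ∀ (P : Sylow 2 G), AllReal G ↔ (SqTriv ↥(P : Subgroup G) ∧
      Subgroup.normalizer ((P : Subgroup G) : Set G) = (P : Subgroup G)) := by
  intro n
  induction n using Nat.strong_induction_on with
  | _ n ih =>
  intro G _ _ hn hsol P
  classical
  rcases subsingleton_or_nontrivial G with hs | hnt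
  · refine iff_of_true (fun χ _ g => ?_) ⟨fun ν x => ?_, Subsingleton.elim _ _⟩
    · rw [Subsingleton.elim g 1, irr_apply_one_eq_deg]
      simp
    · rw [Subsingleton.elim x 1, map_one, one_pow]
  haveI := hsol
  obtain ⟨V, -, hVn, hVb, hmin⟩ :=
    Cfsg.Lib.Coprime.exists_minimal_normal (K := (⊤ : Subgroup G)) inferInstance top_ne_bot
  haveI := hVn
  obtain ⟨hVc, r, hr, hrV, hexp⟩ :=
    Cfsg.Lib.Coprime.minimal_normal_solvable inferInstance hVb hmin
  letI : Fintype V := Fintype.ofFinite V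
  letI : Fintype (G ⧸ V) := Fintype.ofFinite _
  have h2 : 1 < Nat.card V := (Subgroup.one_lt_card_iff_ne_bot V).2 hVb
  have hlt : Nat.card (G ⧸ V) < n := by
    have h1 := Subgroup.card_eq_card_quotient_mul_card_subgroup V
    have h3 : 0 < Nat.card (G ⧸ V) := Nat.card_pos
    nlinarith
  have hIH' := ih _ hlt (G ⧸ V) rfl inferInstance (P.mapSurjective (QuotientGroup.mk'_surjective V))
  by_cases hr2 : r = 2
  · subst hr2
    have hVP : V ≤ (P : Subgroup G) :=
      le_sup_right.trans (P.3 (P.2.to_sup_of_normal_right hrV) le_sup_left).le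
    refine allReal_step_two P V hVP (fun a b => mul_comm' a b) hexp (fun T _ _ hPT => ?_) hIH'
    have hlt' : Nat.card (↥T ⧸ V.subgroupOf T) < n := by
      have h1 := Subgroup.card_eq_card_quotient_mul_card_subgroup (V.subgroupOf T)
      rw [Nat.card_congr (Subgroup.subgroupOfEquivOfLe (hVP.trans hPT)).toEquiv] at h1
      have h3 : 0 < Nat.card (↥T ⧸ V.subgroupOf T) := Nat.card_pos
      have h4 := Nat.le_of_dvd Nat.card_pos T.card_subgroup_dvd_card
      nlinarith
    exact ih _ hlt' _ rfl inferInstance _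
  · refine allReal_step_odd P V (fun a b => mul_comm' a b) ?_ hIH'
    haveI := Fact.mk hr
    obtain ⟨k, hk⟩ := IsPGroup.iff_card.1 hrV
    rw [hk]
    exact (hr.odd_of_ne_two hr2).pow

/-- A 2-group has derived subgroup equal to its Frattini subgroup iff its linear characters square
to one. -/
theorem sqTriv_iff {A : Type u} [Group A] [Finite A] (hA : IsPGroup 2 A) :
    SqTriv A ↔ commutator A = frattini A := by
  constructor
  · intro h
    refine le_antisymm (Cfsg.Lib.PGroups.commutator_le_frattini hA) fun x hx => ?_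
    by_contra hne
    have hne' : Abelianization.of x ≠ 1 := by
      intro h'; apply hne
      rw [← Abelianization.ker_of (G := A)]
      exact MonoidHom.mem_ker.2 h'
    obtain ⟨μ, hμ⟩ := CommGroup.exists_apply_ne_one_of_hasEnoughRootsOfUnity (Abelianization A) ℂ hne'
    set ν := μ.comp Abelianization.of with hν
    have hνx : ν x ≠ 1 := hμ
    have hidx : ν.ker.index = 2 := by
      rw [Subgroup.index_eq_two_iff]
      refine ⟨x, fun b => ?_⟩
      have hval : ∀ z, ν z = 1 ∨ ν z = ν x := fun z => by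
        have hsq : ∀ z, (ν z : ℂ) = 1 ∨ (ν z : ℂ) = -1 := fun z =>
          sq_eq_one_iff.1 (by rw [← Units.val_pow_eq_pow_val, h ν z, Units.val_one])
        rcases hsq z with e | e
        · exact Or.inl (Units.ext e)
        · refine Or.inr (Units.ext ?_)
          rcases hsq x with e' | e'
          · exact absurd (Units.ext e') hνx
          · rw [e, e']
      simp only [MonoidHom.mem_ker, map_mul]
      rcases hval b with e | e
      · exact Or.inr ⟨e, by rw [e, one_mul]; exact hνx⟩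
      · exact Or.inl ⟨by rw [e, ← sq, h ν x], by rw [e]; exact hνx⟩
    have hco : IsCoatom ν.ker := by
      refine ⟨fun htop => hνx (MonoidHom.mem_ker.1 (htop ▸ Subgroup.mem_top x)), fun H hH => ?_⟩
      have hd := Subgroup.relIndex_mul_index hH.le
      rw [hidx] at hd
      have h1 : ν.ker.relIndex H ≠ 1 := fun h1 => hH.not_ge (Subgroup.relIndex_eq_one.1 h1)
      refine Subgroup.index_eq_one.1 ?_
      rcases (Nat.dvd_prime Nat.prime_two).1 ⟨H.index, hd.symm⟩ with h2 | h2
      · exact absurd h2 h1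
      · rw [h2] at hd; omega
    exact hνx (MonoidHom.mem_ker.1 (frattini_le_coatom hco hx))
  · intro h ν x
    haveI := Fact.mk Nat.prime_two
    have hx : x ^ 2 ∈ frattini A := by
      rw [← QuotientGroup.eq_one_iff, QuotientGroup.mk_pow]
      exact Cfsg.Lib.PGroups.pow_prime_quotient_frattini hA _
    rw [← h] at hx
    rw [← map_pow]
    exact MonoidHom.mem_ker.1 (Abelianization.commutator_subset_ker ν hx)

end Cfsg.Lib.Chars.RealOdd
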