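import Mathlib
import Cfsg.Agent.Chars.RealOddDegree

/-!
# Real characters over inverted linear characters
-/

set_option autoImplicit false
set_option linter.unusedSectionVars false
set_option linter.style.haveILetI false

namespace Cfsg.Lib.Chars.RealOdd

open Cfsg Cfsg.Lib.Chars
open scoped ComplexConjugate

universe u v

variable {G : Type u} [Group G] [Fintype G]

/-- A real character whose constituent degrees share a divisor with odd cofactor has a real
constituent. -/
theorem exists_real_constituent {f : G → ℂ} (hf : IsCharacter G f) (hr : RealC f) {t o : ℕ}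
    (ht : 0 < t) (hd : f 1 = (t * o : ℕ)) (ho : Odd o)
    (hdiv : ∀ χ : IrrCharacter G, classInner f (χ : G → ℂ) ≠ 0 → t ∣ deg (χ : G → ℂ)) :
    ∃ χ : IrrCharacter G, classInner f (χ : G → ℂ) ≠ 0 ∧ RealC (χ : G → ℂ) := by
  classical
  obtain ⟨m, hm⟩ := IsCharacter.exists_decomp hf
  have hin : ∀ χ : IrrCharacter G, classInner f (χ : G → ℂ) = m χ := fun χ => by
    rw [hm]
    simp only [← Nat.cast_smul_eq_nsmul ℂ]
    rw [classInner_irrSum (fun ψ => (m ψ : ℂ)) χ]
  have hsym : ∀ χ : IrrCharacter G, m (conjIrr χ) = m χ := fun χ => by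
    apply Nat.cast_injective (R := ℂ)
    rw [← hin, ← hin]
    have e : classInner f (conjIrr χ : G → ℂ) = conj (classInner f (χ : G → ℂ)) := by
      simp only [classInner_def, map_mul, map_inv₀, Complex.conj_natCast, map_sum]
      congr 1
      refine Finset.sum_congr rfl fun g _ => ?_
      rw [realC_iff.1 hr g]
      rfl
    rw [e, hin, Complex.conj_natCast]
  have h1 : o = ∑ χ : IrrCharacter G, m χ * (deg (χ : G → ℂ) / t) := by
    refine Nat.eq_of_mul_eq_mul_left ht ?_
    apply Nat.cast_injective (R := ℂ)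
    rw [← hd, congrFun hm 1, Finset.mul_sum, Nat.cast_sum, Finset.sum_apply]
    refine Finset.sum_congr rfl fun χ _ => ?_
    by_cases hχ : m χ = 0
    · simp [hχ]
    · rw [mul_left_comm, Nat.mul_div_cancel' (hdiv χ (by rw [hin]; exact_mod_cast hχ))]
      simp [irr_apply_one_eq_deg]
  have hz : ∑ χ : IrrCharacter G, ((m χ * (deg (χ : G → ℂ) / t) : ℕ) : ZMod 2) ≠ 0 := by
    rw [← Nat.cast_sum, ← h1, ne_eq, ZMod.natCast_eq_zero_iff_even]
    exact Nat.not_even_iff_odd.2 ho
  rw [← Finset.sum_filter_add_sum_filter_not Finset.univ (fun χ : IrrCharacter G => conjIrr χ = χ)]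
    at hz
  have h0 : ∑ χ ∈ Finset.univ.filter (fun χ : IrrCharacter G => ¬ conjIrr χ = χ),
      ((m χ * (deg (χ : G → ℂ) / t) : ℕ) : ZMod 2) = 0 := by
    refine Finset.sum_involution (fun χ _ => conjIrr χ) (fun χ _ => ?_)
      (fun χ hχ _ => (Finset.mem_filter.1 hχ).2) (fun χ hχ => ?_) (fun χ _ => conjIrr_conjIrr χ)
    · rw [hsym, deg_conjIrr]
      exact CharTwo.add_self_eq_zero _
    · refine Finset.mem_filter.2 ⟨Finset.mem_univ _, fun h => (Finset.mem_filter.1 hχ).2 ?_⟩
      rwa [conjIrr_conjIrr, eq_comm] at h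
  rw [h0, add_zero] at hz
  obtain ⟨χ, hχ, hne⟩ := Finset.exists_ne_zero_of_sum_ne_zero hz
  refine ⟨χ, ?_, (conjIrr_eq_self_iff χ).1 (Finset.mem_filter.1 hχ).2⟩
  rw [hin]
  exact Nat.cast_ne_zero.2 fun h => hne (by simp [h])

/-- Constituents of the restriction to a normal subgroup divide in degree. -/
theorem deg_dvd_of_constituent (N : Subgroup G) [N.Normal] [Fintype N] {χ : G → ℂ}
    (hχ : IsIrrCharacter G χ) {θ : N → ℂ} (hθ : IsIrrCharacter N θ)
    (hc : classInner (fun n : N => χ n) θ ≠ 0) : deg θ ∣ deg χ := by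
  obtain ⟨e, he⟩ := IsCharacter.exists_mult (IsCharacter.restrict (isCharacter_of_irr hχ) N) hθ
  have h := congrFun (clifford N hχ hθ hc) 1
  simp only [OneMemClass.coe_one, Pi.smul_apply, Finset.sum_apply, smul_eq_mul] at h
  rw [he, Finset.sum_congr rfl (g := fun _ => (deg θ : ℂ)) (fun ψ hψ => by
    obtain ⟨g, rfl⟩ := (mem_conjOrbit N).1 hψ
    simp only [conjN_eq_comp, map_one]
    exact IsCharacter.apply_one_eq_deg (isCharacter_of_irr hθ)),
    Finset.sum_const, nsmul_eq_mul, IsCharacter.apply_one_eq_deg (isCharacter_of_irr hχ)] at h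
  exact ⟨(conjOrbit N θ).card * e, Nat.cast_injective (R := ℂ) (by rw [h]; push_cast; ring)⟩

/-- A real character of a normal subgroup of odd index lies under a real character. -/
theorem exists_real_above (N : Subgroup G) [N.Normal] [Fintype N] (hN : Odd N.index)
    (θ : IrrCharacter N) (hθ : RealC (θ : N → ℂ)) :
    ∃ χ : IrrCharacter G, RealC (χ : G → ℂ) ∧ deg (θ : N → ℂ) ∣ deg (χ : G → ℂ) := by
  classical
  have hf := IsCharacter.indFun (isCharacter_of_irr θ.2) (H := N)
  have hcon : ∀ χ : IrrCharacter G, classInner (indFun N (θ : N → ℂ)) (χ : G → ℂ) ≠ 0 →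
      deg (θ : N → ℂ) ∣ deg (χ : G → ℂ) := fun χ h => by
    rw [frobenius_reciprocity _ _ (isClassFunction_irr χ)] at h
    refine deg_dvd_of_constituent N χ.2 θ.2 ?_
    rw [← classInner_conj_symm, map_ne_zero]
    exact h
  have hpos : 0 < deg (θ : N → ℂ) := Nat.pos_of_ne_zero fun h =>
    IsIrrCharacter.apply_one_ne_zero θ.2 (by rw [irr_apply_one_eq_deg, h, Nat.cast_zero])
  obtain ⟨χ, hc, hr⟩ := exists_real_constituent hf (realC_indFun N hθ) hpos
    (by rw [indFun_one, irr_apply_one_eq_deg, Nat.cast_mul, mul_comm]) hN hcon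
  exact ⟨χ, hr, hcon χ hc⟩

/-- A real character of a normal subgroup of odd index lies under a real character. -/
theorem exists_real_over_real (N : Subgroup G) [N.Normal] [Fintype N] (hN : Odd N.index)
    (θ : IrrCharacter N) (hθ : RealC (θ : N → ℂ)) :
    ∃ χ : IrrCharacter G, RealC (χ : G → ℂ) ∧
      classInner (fun n : N => (χ : G → ℂ) n) (θ : N → ℂ) ≠ 0 := by
  classical
  have hcon : ∀ χ : IrrCharacter G, classInner (indFun N (θ : N → ℂ)) (χ : G → ℂ) ≠ 0 →
      classInner (fun n : N => (χ : G → ℂ) n) (θ : N → ℂ) ≠ 0 := fun χ h => by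
    rw [frobenius_reciprocity _ _ (isClassFunction_irr χ)] at h
    rw [← classInner_conj_symm, map_ne_zero]
    exact h
  have hpos : 0 < deg (θ : N → ℂ) := Nat.pos_of_ne_zero fun h =>
    IsIrrCharacter.apply_one_ne_zero θ.2 (by rw [irr_apply_one_eq_deg, h, Nat.cast_zero])
  obtain ⟨χ, hc, hr⟩ := exists_real_constituent (IsCharacter.indFun (isCharacter_of_irr θ.2))
    (realC_indFun N hθ) hpos (by rw [indFun_one, irr_apply_one_eq_deg, Nat.cast_mul, mul_comm]) hN
    (fun χ h => deg_dvd_of_constituent N χ.2 θ.2 (hcon χ h))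
  exact ⟨χ, hr, hcon χ hc⟩

/-- Twisting by a normalising element conjugates the induced character. -/
theorem realC_indFun_twist (W : Subgroup G) (f : W → ℂ) (t : G)
    (hW : ∀ w : G, w ∈ W ↔ t * w * t⁻¹ ∈ W)
    (hf : ∀ (w : G) (hw : w ∈ W), f ⟨t * w * t⁻¹, (hW w).1 hw⟩ = conj (f ⟨w, hw⟩)) :
    RealC (indFun W f) := by
  classical
  refine realC_iff.2 fun g => ?_
  rw [indFun_apply, map_mul, map_inv₀, Complex.conj_natCast, map_sum]
  congr 1
  refine Fintype.sum_equiv (Equiv.mulRight t⁻¹) _ _ fun x => ?_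
  have e : (x * t⁻¹)⁻¹ * g * (x * t⁻¹) = t * (x⁻¹ * g * x) * t⁻¹ := by group
  rw [Equiv.coe_mulRight, e]
  by_cases hx : x⁻¹ * g * x ∈ W
  · rw [extendByZero_mem _ hx, extendByZero_mem _ ((hW _).1 hx), hf _ hx]
  · rw [extendByZero_not_mem _ hx, extendByZero_not_mem _ (fun h => hx ((hW _).2 h)), map_zero]

/-- Extension of a stable linear character across a complement. -/
theorem exists_hom_compl (M H : Subgroup G) [M.Normal] (hd : Disjoint M H) {A : Type v} [CommGroup A]
    (lam : M →* A) (hlam : ∀ h ∈ H, ∀ m : M, lam (MulAut.conjNormal h m) = lam m) :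
    ∃ f : ↥(M ⊔ H) →* A, (∀ (m : M), f ⟨m, le_sup_left (b := H) m.2⟩ = lam m) ∧
      ∀ (h : H), f ⟨h, le_sup_right (a := M) h.2⟩ = 1 := by
  classical
  have hdec : ∀ w : ↥(M ⊔ H), ∃ m : M, ∃ h : H, (w : G) = m * h := fun w => by
    obtain ⟨m, hm, h, hh, e⟩ := Subgroup.mem_sup_of_normal_left.1 w.2
    exact ⟨⟨m, hm⟩, ⟨h, hh⟩, e.symm⟩
  choose α β hαβ using hdec
  have huniq : ∀ (w : ↥(M ⊔ H)) (m : M) (h : H), (w : G) = m * h → α w = m := fun w m h e => by
    have e' : (m : G)⁻¹ * α w = h * (β w : G)⁻¹ := by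
      rw [eq_mul_inv_iff_mul_eq, mul_assoc, ← hαβ, e]; group
    have h1 : (m : G)⁻¹ * α w = 1 := Subgroup.disjoint_def.1 hd
      (mul_mem (inv_mem m.2) (α w).2) (e' ▸ mul_mem h.2 (inv_mem (β w).2))
    rw [inv_mul_eq_one] at h1
    exact Subtype.ext h1.symm
  refine ⟨MonoidHom.mk' (fun w => lam (α w)) fun a b => ?_, fun m => ?_, fun h => ?_⟩
  · rw [huniq (a * b) (α a * MulAut.conjNormal (β a : G) (α b)) (β a * β b) (by
      push_cast
      rw [MulAut.conjNormal_apply, hαβ a, hαβ b]; group), map_mul, hlam _ (β a).2]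
  · show lam (α _) = _
    rw [huniq _ m 1 (by simp)]
  · show lam (α _) = _
    rw [huniq _ 1 h (by simp), map_one]

/-- A real character over an inverted linear character. -/
theorem exists_real_over (M H : Subgroup G) [M.Normal] [Fintype M] (lam : M →* ℂˣ)
    (hHT : H ≤ inertia M (fun m => (lam m : ℂ))) (hd : Disjoint M H)
    (hodd : Odd ((M ⊔ H).relIndex (inertia M (fun m => (lam m : ℂ))))) (t : G)
    (htH : ∀ h : G, h ∈ H ↔ t * h * t⁻¹ ∈ H)
    (ht : ∀ m : M, lam (MulAut.conjNormal t m) = (lam m)⁻¹) :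
    ∃ χ : IrrCharacter G, RealC (χ : G → ℂ) ∧
      classInner (fun m : M => (χ : G → ℂ) m) (fun m => (lam m : ℂ)) ≠ 0 := by
  classical
  set θ : M → ℂ := fun m => (lam m : ℂ) with hθdef
  have hθ : IsIrrCharacter M θ := isIrrCharacter_linear lam
  set T := inertia M θ with hTdef
  set W := M ⊔ H with hWdef
  letI : Fintype W := Fintype.ofFinite W
  have hlamH : ∀ h ∈ H, ∀ m : M, lam (MulAut.conjNormal h m) = lam m := fun h hh m => by
    have h1 := congrFun (mem_inertia.1 (hHT hh)) m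
    rw [conjN_eq_comp] at h1
    exact Units.ext h1
  obtain ⟨f, hfM, hfH⟩ := exists_hom_compl M H hd lam hlamH
  have hWT : W ≤ T := sup_le (le_inertia (isClassFunction_irr ⟨θ, hθ⟩)) hHT
  have htW : ∀ w : G, w ∈ W ↔ t * w * t⁻¹ ∈ W := fun w => by
    have hto : ∀ s : G, (∀ h ∈ H, s * h * s⁻¹ ∈ H) → ∀ w ∈ W, s * w * s⁻¹ ∈ W := by
      intro s hs w hw
      obtain ⟨m, hm, h, hh, rfl⟩ := Subgroup.mem_sup_of_normal_left.1 hw
      rw [show s * (m * h) * s⁻¹ = (s * m * s⁻¹) * (s * h * s⁻¹) by group]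
      exact Subgroup.mul_mem_sup (Subgroup.Normal.conj_mem ‹M.Normal› m hm s) (hs h hh)
    refine ⟨hto t (fun h hh => (htH h).1 hh) w, fun hw => ?_⟩
    have h2 := hto t⁻¹ (fun h hh => (htH _).2 (by
      rw [show t * (t⁻¹ * h * t⁻¹⁻¹) * t⁻¹ = h by group]; exact hh)) _ hw
    rwa [show t⁻¹ * (t * w * t⁻¹) * t⁻¹⁻¹ = w by group] at h2
  have hconj : ∀ x : ℂˣ, ‖(x : ℂ)‖ = 1 → conj (x : ℂ) = ((x⁻¹ : ℂˣ) : ℂ) := fun x hx => by
    rw [Units.val_inv_eq_inv_val, Complex.inv_def, Complex.normSq_eq_norm_sq, hx]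
    simp
  have hreal : RealC (indFun W (fun w => (f w : ℂ))) := by
    refine realC_indFun_twist W _ t htW fun w hw => ?_
    have hn : ‖(f ⟨w, hw⟩ : ℂ)‖ = 1 := Complex.norm_eq_one_of_pow_eq_one (n := Nat.card W)
      (by rw [← Units.val_pow_eq_pow_val, ← map_pow, pow_card_eq_one', map_one, Units.val_one])
      Nat.card_pos.ne'
    rw [hconj _ hn, Units.val_inj]
    obtain ⟨m, hm, h, hh, e⟩ := Subgroup.mem_sup_of_normal_left.1 hw
    have e1 : (⟨w, hw⟩ : W) = ⟨m, le_sup_left (b := H) hm⟩ * ⟨h, le_sup_right (a := M) hh⟩ :=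
      Subtype.ext e.symm
    have e2 : (⟨t * w * t⁻¹, (htW w).1 hw⟩ : W) =
        ⟨(MulAut.conjNormal t (⟨m, hm⟩ : M) : G), le_sup_left (b := H) (SetLike.coe_mem _)⟩ *
          ⟨t * h * t⁻¹, le_sup_right (a := M) ((htH h).1 hh)⟩ := Subtype.ext (by
      simp only [Subgroup.coe_mul, MulAut.conjNormal_apply]
      rw [← e]; group)
    rw [e1, e2, map_mul, map_mul, hfM ⟨m, hm⟩, hfM, ht, hfH ⟨h, hh⟩, hfH ⟨_, (htH h).1 hh⟩,
      mul_one, mul_one]
  have hcon : ∀ χ : IrrCharacter G, classInner (indFun W (fun w => (f w : ℂ))) (χ : G → ℂ) ≠ 0 →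
      classInner (fun m : M => (χ : G → ℂ) m) θ ≠ 0 := fun χ h => by
    rw [frobenius_reciprocity _ _ (isClassFunction_irr χ)] at h
    refine over_trans (Subgroup.inclusion (le_sup_left : M ≤ W))
      (IsCharacter.restrict (isCharacter_of_irr χ.2) W) (isIrrCharacter_linear f)
      (by rw [← classInner_conj_symm, map_ne_zero]; exact h) hθ ?_
    rw [show (fun a : M => ((f (Subgroup.inclusion (le_sup_left : M ≤ W) a) : ℂˣ) : ℂ)) = θ from
      funext fun a => congrArg Units.val (hfM a), classInner_self_irr hθ]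
    exact one_ne_zero
  have hidx : W.index = (conjOrbit M θ).card * W.relIndex T := by
    have h1 := card_conjOrbit M θ
    rw [← Subgroup.card_mul_index T, mul_comm] at h1
    rw [← Subgroup.relIndex_mul_index hWT, mul_comm,
      ← Nat.eq_of_mul_eq_mul_left Nat.card_pos h1]
  have hpos : 0 < (conjOrbit M θ).card := Nat.pos_of_ne_zero fun h => by
    rw [h, zero_mul] at hidx
    exact Subgroup.index_ne_zero_of_finite hidx
  obtain ⟨χ, hc, hr⟩ := exists_real_constituent
    (IsCharacter.indFun (isCharacter_of_irr (isIrrCharacter_linear f))) hreal hpos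
    (by rw [indFun_one, map_one, Units.val_one, mul_one, hidx]) hodd
    (fun χ h => card_conjOrbit_dvd M χ.2 hθ (hcon χ h))
  exact ⟨χ, hr, hcon χ hc⟩

/-- An element with square centralising inverts some nontrivial linear character it moves. -/
theorem exists_inverted (M : Subgroup G) [M.Normal] (g : G)
    (hg2 : ∀ m : M, MulAut.conjNormal (g * g) m = m) (lam : M →* ℂˣ)
    (hlam : ∃ m : M, lam (MulAut.conjNormal g m) ≠ lam m) :
    ∃ μ : M →* ℂˣ, μ ≠ 1 ∧ ∀ m : M, μ (MulAut.conjNormal g m) = (μ m)⁻¹ := by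
  obtain ⟨m₀, hm₀⟩ := hlam
  refine ⟨lam.comp (MulAut.conjNormal g).toMonoidHom * lam⁻¹, fun h => hm₀ ?_, fun m => ?_⟩
  · have h1 := DFunLike.congr_fun h m₀
    exact mul_inv_eq_one.1 h1
  · have h2 := hg2 m
    rw [map_mul] at h2
    show lam (MulAut.conjNormal g (MulAut.conjNormal g m)) * (lam (MulAut.conjNormal g m))⁻¹ =
      (lam (MulAut.conjNormal g m) * (lam m)⁻¹)⁻¹
    rw [show MulAut.conjNormal g (MulAut.conjNormal g m) = m from h2, mul_inv_rev, inv_inv]

/-- Some conjugate of a character with an orbit prime to `p` is fixed by a given Sylow subgroup. -/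
theorem exists_fixed_conj_prime {p : ℕ} [Fact p.Prime] (N : Subgroup G) [N.Normal] (θ : N → ℂ)
    (hO : ¬ p ∣ (conjOrbit N θ).card) (P : Sylow p G) :
    ∃ g : G, (P : Subgroup G) ≤ inertia N (conjN N g θ) := by
  classical
  set I := inertia N θ with hI
  have hfac : (Nat.card I).factorization p = (Nat.card G).factorization p := by
    rw [← card_conjOrbit N θ, Nat.factorization_mul (fun h => by simp [h] at hO) Nat.card_pos.ne',
      Finsupp.add_apply, Nat.factorization_eq_zero_of_not_dvd hO, zero_add]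
  obtain ⟨S⟩ : Nonempty (Sylow p I) := inferInstance
  have hcard : Nat.card ((S : Subgroup I).map I.subtype) = p ^ (Nat.card G).factorization p := by
    rw [Subgroup.card_map_of_injective I.subtype_injective, S.card_eq_multiplicity, hfac]
  obtain ⟨g, hg⟩ := MulAction.exists_smul_eq G (Sylow.ofCard _ hcard) P
  refine ⟨g⁻¹, fun x hx => ?_⟩
  rw [← hg] at hx
  obtain ⟨y, hy, rfl⟩ := hx
  obtain ⟨z, -, rfl⟩ := hy
  rw [mem_inertia, ← conjN_mul]
  have hz : conjN N (z : G) θ = θ := mem_inertia.1 z.2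
  simp only [MulDistribMulAction.toMonoidEnd_apply, MulDistribMulAction.toMonoidHom_apply,
    MulAut.smul_def, MulAut.conj_apply]
  conv_rhs => rw [← hz, ← conjN_mul]
  congr 1
  simp [mul_assoc]

end Cfsg.Lib.Chars.RealOdd
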