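import Mathlib
import Cfsg.Agent.Chars.RealOverLinear
import Cfsg.Agent.Coprime.Hall
import Cfsg.Agent.Coprime.Sylow
import Cfsg.Agent.PGroups.Basic

/-!
# Groups whose real characters have degree prime to `p`
-/

set_option autoImplicit false
set_option linter.unusedSectionVars false
set_option linter.style.haveILetI false

namespace Cfsg.Lib.Chars.RealOdd

open Cfsg Cfsg.Lib.Chars
open scoped ComplexConjugate

universe u v

/-- The subgroup generated by the `p`-elements. -/
def pGen (p : ℕ) (G : Type u) [Group G] : Subgroup G :=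
  Subgroup.closure {g : G | ∃ k : ℕ, orderOf g = p ^ k}

instance pGen_normal (p : ℕ) (G : Type u) [Group G] : (pGen p G).Normal := by
  constructor
  intro n hn g
  have h : pGen p G ≤ (pGen p G).comap (MulAut.conj g).toMonoidHom := by
    refine (Subgroup.closure_le _).2 fun x hx => Subgroup.subset_closure ?_
    obtain ⟨k, hk⟩ := hx
    exact ⟨k, by rw [orderOf_injective _ (MulAut.conj g).injective x]; exact hk⟩
  exact h hn

theorem le_pGen {p : ℕ} [Fact p.Prime] {G : Type u} [Group G] {S : Subgroup G} (hS : IsPGroup p S) :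
    S ≤ pGen p G := fun x hx => by
  obtain ⟨k, hk⟩ := IsPGroup.iff_orderOf.1 hS ⟨x, hx⟩
  exact Subgroup.subset_closure ⟨k, by rwa [Subgroup.orderOf_mk] at hk⟩

theorem odd_index_pGen_two {G : Type u} [Group G] [Finite G] : Odd (pGen 2 G).index := by
  haveI := Fact.mk Nat.prime_two
  obtain ⟨S⟩ : Nonempty (Sylow 2 G) := inferInstance
  refine Nat.odd_iff.2 (Nat.two_dvd_ne_zero.1 fun h => S.not_dvd_index ?_)
  exact h.trans (Subgroup.index_dvd_of_le (le_pGen S.2))

theorem pGen_le_map {p : ℕ} [hp : Fact p.Prime] {G : Type u} {Q : Type v} [Group G] [Group Q]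
    [Finite G] (π : G →* Q) (hπ : Function.Surjective π) : pGen p Q ≤ (pGen p G).map π := by
  refine (Subgroup.closure_le _).2 fun q ⟨k, hk⟩ => ?_
  obtain ⟨g, rfl⟩ := hπ q
  obtain ⟨a, m, hm, he⟩ := Nat.exists_eq_pow_mul_and_not_dvd (orderOf_pos g).ne' p hp.out.ne_one
  have hga : g ^ m ∈ pGen p G := by
    have hd : orderOf (g ^ m) ∣ p ^ a := orderOf_dvd_of_pow_eq_one (by
      rw [← pow_mul, mul_comm, ← he, pow_orderOf_eq_one])
    obtain ⟨i, -, hi⟩ := (Nat.dvd_prime_pow hp.out).1 hd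
    exact Subgroup.subset_closure ⟨i, hi⟩
  have hcop : (orderOf (π g)).Coprime m := by
    rw [hk]
    exact (hp.out.coprime_iff_not_dvd.2 hm).pow_left k
  obtain ⟨n, hn⟩ := exists_pow_eq_self_of_coprime hcop.symm
  show π g ∈ (pGen p G).map π
  rw [← hn, ← map_pow]
  exact pow_mem (Subgroup.mem_map_of_mem π hga) n

theorem map_pGen_le {p : ℕ} [hp : Fact p.Prime] {G : Type u} {Q : Type v} [Group G] [Group Q]
    (π : G →* Q) : (pGen p G).map π ≤ pGen p Q := by
  rw [pGen, MonoidHom.map_closure, Subgroup.closure_le]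
  rintro _ ⟨g, ⟨k, hk⟩, rfl⟩
  have hd : orderOf (π g) ∣ p ^ k := hk ▸ orderOf_map_dvd π g
  obtain ⟨i, -, hi⟩ := (Nat.dvd_prime_pow hp.out).1 hd
  exact Subgroup.subset_closure ⟨i, hi⟩

theorem pGen_subgroup {p : ℕ} [Fact p.Prime] {G : Type u} [Group G] (L : Subgroup G)
    (h : pGen p G ≤ L) : (pGen p L).map L.subtype = pGen p G := by
  refine le_antisymm (map_pGen_le _) ?_
  refine (Subgroup.closure_le _).2 fun g hg => ?_
  refine ⟨⟨g, h (Subgroup.subset_closure hg)⟩, Subgroup.subset_closure ?_, rfl⟩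
  obtain ⟨k, hk⟩ := hg
  exact ⟨k, by rwa [Subgroup.orderOf_mk]⟩

/-- Real irreducible characters have degree prime to `p`. -/
def RealPrime (p : ℕ) (G : Type u) [Group G] : Prop :=
  ∀ χ : IrrCharacter G, RealC (χ : G → ℂ) → ¬ p ∣ deg (χ : G → ℂ)

theorem RealPrime.quotient {p : ℕ} {G : Type u} [Group G] [Fintype G] (h : RealPrime p G)
    (V : Subgroup G) [V.Normal] [Fintype (G ⧸ V)] : RealPrime p (G ⧸ V) := fun β hβ hd => by
  have hi : IsIrrCharacter G (fun x => (β : G ⧸ V → ℂ) (QuotientGroup.mk' V x)) :=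
    IsIrrCharacter.comp_surjective β.2 _ (QuotientGroup.mk'_surjective V)
  refine h ⟨_, hi⟩ (fun x => hβ _) ?_
  rwa [show deg (fun x => (β : G ⧸ V → ℂ) (QuotientGroup.mk' V x)) = deg (β : G ⧸ V → ℂ) from
    Nat.cast_injective (R := ℂ) (by
      rw [← IsCharacter.apply_one_eq_deg (isCharacter_of_irr hi), map_one, irr_apply_one_eq_deg])]

theorem RealPrime.of_odd_index {p : ℕ} {G : Type u} [Group G] [Fintype G] (h : RealPrime p G)
    (N : Subgroup G) [N.Normal] [Fintype N] (hN : Odd N.index) : RealPrime p N := fun θ hθ hd => by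
  obtain ⟨χ, hr, hdvd⟩ := exists_real_above N hN θ hθ
  exact h χ hr (hd.trans hdvd)

theorem exists_lin_apply_ne_one {G : Type u} [Group G] (V : Subgroup G) [Finite V]
    (hVc : ∀ a b : V, a * b = b * a) {a : V} (ha : a ≠ 1) : ∃ lam : V →* ℂˣ, lam a ≠ 1 := by
  letI : CommGroup V := { (inferInstance : Group V) with mul_comm := hVc }
  exact CommGroup.exists_apply_ne_one_of_hasEnoughRootsOfUnity V ℂ ha

/-- Squaring down to an element acting as an involution. -/
theorem exists_square_mem {G : Type u} [Group G] (C : Subgroup G) {g : G} {k : ℕ}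
    (hk : orderOf g = 2 ^ k) (hg : g ∉ C) : ∃ x : G, x ∉ C ∧ x * x ∈ C := by
  classical
  have hex : ∃ i, g ^ 2 ^ i ∈ C := ⟨k, by rw [← hk, pow_orderOf_eq_one]; exact one_mem C⟩
  obtain ⟨i, hi⟩ : ∃ i, Nat.find hex = i + 1 := by
    refine Nat.exists_eq_succ_of_ne_zero fun h0 => hg ?_
    simpa [h0] using Nat.find_spec hex
  refine ⟨g ^ 2 ^ i, Nat.find_min hex (by omega), ?_⟩
  rw [← pow_add, ← two_mul, ← pow_succ', ← hi]
  exact Nat.find_spec hex

/-- A character of degree prime to `p` has a constituent of degree prime to `p`. -/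
theorem exists_prime_constituent {p : ℕ} {G : Type u} [Group G] [Fintype G] {f : G → ℂ}
    (hf : IsCharacter G f) {d : ℕ} (hd : f 1 = d) (hp : ¬ p ∣ d) :
    ∃ χ : IrrCharacter G, classInner f (χ : G → ℂ) ≠ 0 ∧ ¬ p ∣ deg (χ : G → ℂ) := by
  obtain ⟨m, hm⟩ := IsCharacter.exists_decomp hf
  have h1 : d = ∑ χ : IrrCharacter G, m χ * deg (χ : G → ℂ) := by
    apply Nat.cast_injective (R := ℂ)
    rw [← hd, congrFun hm 1]
    simp [Finset.sum_apply, irr_apply_one_eq_deg]
  by_contra hno
  push Not at hno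
  refine hp (h1 ▸ Finset.dvd_sum fun χ _ => ?_)
  by_cases hχ : m χ = 0
  · simp [hχ]
  · refine Dvd.dvd.mul_left (hno χ ?_) _
    rw [hm]
    simp only [← Nat.cast_smul_eq_nsmul ℂ]
    rw [classInner_irrSum (fun ψ => (m ψ : ℂ)) χ]
    exact_mod_cast hχ

/-- Under the hypothesis on real characters the Sylow `p`-subgroup is normal, provided the group is
generated by its 2-elements up to a `p`-group. -/
theorem normal_sylow_of_realPrime {p : ℕ} [hp : Fact p.Prime] : ∀ (n : ℕ) (G : Type u) [Group G]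
    [Fintype G], Nat.card G = n → Group.IsSolvable ↥(pGen p G) → RealPrime p G →
      (∃ a : ℕ, (pGen 2 G).index = p ^ a) → ∀ P : Sylow p G, (P : Subgroup G).Normal := by
  intro n
  induction n using Nat.strong_induction_on with
  | _ n ih =>
  intro G _ _ hn hsol hreal hidx P
  classical
  haveI := Fact.mk Nat.prime_two
  set O := pGen p G with hO
  set K := pGen 2 G with hK
  have hPO : (P : Subgroup G) ≤ O := le_pGen P.2
  by_cases hbot : K ⊓ O = ⊥
  · obtain ⟨a, ha⟩ := hidx
    have hGK : IsPGroup p (G ⧸ K) := IsPGroup.of_card (n := a) (by rwa [← Subgroup.index_eq_card])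
    have hOp : IsPGroup p O := hGK.of_injective ((QuotientGroup.mk' K).comp O.subtype) (by
      rw [← MonoidHom.ker_eq_bot_iff, eq_bot_iff]
      intro x hx
      refine Subtype.ext ?_
      have : (x : G) ∈ K ⊓ O := ⟨(QuotientGroup.eq_one_iff _).1 hx, x.2⟩
      rwa [hbot, Subgroup.mem_bot] at this)
    have hPe : O = (P : Subgroup G) := P.3 hOp hPO
    rw [← hPe]
    exact pGen_normal p G
  obtain ⟨V, hVKO, hVn, hVb, hmin⟩ :=
    Cfsg.Lib.Coprime.exists_minimal_normal (K := K ⊓ O) inferInstance hbot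
  haveI := hVn
  haveI : Group.IsSolvable O := hsol
  have hVs : Group.IsSolvable V :=
    Cfsg.Lib.Coprime.isSolvable_of_le (hVKO.trans inf_le_right) hsol
  obtain ⟨hVm, r, hr, hrV, hexp⟩ := Cfsg.Lib.Coprime.minimal_normal_solvable hVs hVb hmin
  have hVc : ∀ a b : V, a * b = b * a := fun a b => mul_comm' a b
  haveI := Fact.mk hr
  letI : Fintype V := Fintype.ofFinite V
  letI : Fintype (G ⧸ V) := Fintype.ofFinite _
  set π := QuotientGroup.mk' V with hπ
  have hπs : Function.Surjective π := QuotientGroup.mk'_surjective V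
  have hlt : Nat.card (G ⧸ V) < n := by
    have h1 := Subgroup.card_eq_card_quotient_mul_card_subgroup V
    have h2 : 1 < Nat.card V := (Subgroup.one_lt_card_iff_ne_bot V).2 hVb
    have h3 : 0 < Nat.card (G ⧸ V) := Nat.card_pos
    nlinarith
  have hsolQ : Group.IsSolvable ↥(pGen p (G ⧸ V)) := by
    haveI : Group.IsSolvable ↥(O.map π) :=
      Group.isSolvable_of_surjective (π.subgroupMap_surjective O)
    exact Cfsg.Lib.Coprime.isSolvable_of_le (pGen_le_map π hπs) inferInstance
  have hidxQ : ∃ a : ℕ, (pGen 2 (G ⧸ V)).index = p ^ a := by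
    obtain ⟨a, ha⟩ := hidx
    have hd : (pGen 2 (G ⧸ V)).index ∣ p ^ a := by
      rw [← le_antisymm (map_pGen_le π) (pGen_le_map π hπs), ← ha]
      exact Subgroup.index_map_dvd _ hπs
    obtain ⟨i, -, hi⟩ := (Nat.dvd_prime_pow hp.out).1 hd
    exact ⟨i, hi⟩
  have hP₁ := ih _ hlt (G ⧸ V) rfl hsolQ (hreal.quotient V) hidxQ (P.mapSurjective hπs)
  rw [Sylow.coe_mapSurjective] at hP₁
  haveI hPVn : ((P : Subgroup G) ⊔ V).Normal := by
    have := hP₁.comap π
    rwa [Subgroup.comap_map_eq, hπ, QuotientGroup.ker_mk'] at this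
  by_cases hrp : r = p
  · subst hrp
    have hVP : V ≤ (P : Subgroup G) :=
      le_sup_right.trans (P.3 (P.2.to_sup_of_normal_right hrV) le_sup_left).le
    rwa [sup_eq_left.2 hVP] at hPVn
  set NP := Subgroup.normalizer ((P : Subgroup G) : Set G) with hNP
  have htop : NP ⊔ V = ⊤ := by
    have h1 := Sylow.normalizer_sup_eq_top (P.subtype (le_sup_left : (P : Subgroup G) ≤ (P : Subgroup G) ⊔ V))
    rw [Sylow.coe_subtype, Subgroup.map_subgroupOf_eq_of_le le_sup_left, ← sup_assoc,
      sup_eq_left.2 (Subgroup.le_normalizer : (P : Subgroup G) ≤ NP)] at h1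
    exact h1
  have hdec : ∀ g : G, ∃ v ∈ V, ∃ x ∈ NP, g = v * x := fun g => by
    have hg : g ∈ V ⊔ NP := by rw [sup_comm, htop]; exact Subgroup.mem_top g
    obtain ⟨v, hv, x, hx, e⟩ := Subgroup.mem_sup_of_normal_left.1 hg
    exact ⟨v, hv, x, hx, e.symm⟩
  haveI hCn : (V ⊓ NP).Normal := by
    constructor
    rintro c ⟨hcV, hcN⟩ g
    obtain ⟨v, hv, x, hx, rfl⟩ := hdec g
    have h1 : x * c * x⁻¹ ∈ V := Subgroup.Normal.conj_mem hVn c hcV x
    have h2 : v * x * c * (v * x)⁻¹ = x * c * x⁻¹ := by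
      have h3 := congrArg Subtype.val (hVc ⟨v, hv⟩ ⟨_, h1⟩)
      simp only [Subgroup.coe_mul] at h3
      rw [show v * x * c * (v * x)⁻¹ = v * (x * c * x⁻¹) * v⁻¹ by group, h3, mul_inv_cancel_right]
    rw [h2]
    exact ⟨h1, (mul_mem (mul_mem hx (hcN : c ∈ NP)) (inv_mem hx) : x * c * x⁻¹ ∈ NP)⟩
  rcases hmin (V ⊓ NP) hCn inf_le_left with hC | hC
  swap
  · refine Subgroup.normalizer_eq_top_iff.1 (top_le_iff.1 ?_)
    rw [← htop]
    exact sup_le le_rfl (inf_eq_left.1 hC)
  exfalso
  have hCmem : ∀ x : G, x ∈ V → x ∈ NP → x = 1 := fun x h1 h2 => by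
    have : x ∈ V ⊓ NP := ⟨h1, h2⟩
    rwa [hC, Subgroup.mem_bot] at this
  obtain ⟨kP, hkP⟩ := IsPGroup.iff_card.1 P.2
  obtain ⟨kV, hkV⟩ := IsPGroup.iff_card.1 hrV
  have hcop : (Nat.card (P : Subgroup G)).Coprime (Nat.card V) := by
    rw [hkP, hkV]
    exact ((Nat.coprime_primes hp.out hr).2 (Ne.symm hrp)).pow _ _
  have hcj : ∀ (x y : G) (v : V),
      MulAut.conjNormal (x * y) v = MulAut.conjNormal x (MulAut.conjNormal y v) := fun x y v => by
    rw [map_mul]; rfl
  have hfixtriv : ∀ lam : V →* ℂˣ,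
      (∀ x ∈ (P : Subgroup G), ∀ v : V, lam (MulAut.conjNormal x v) = lam v) → lam = 1 := by
    intro lam hfix
    letI : CommGroup V := { (inferInstance : Group V) with mul_comm := hVc }
    letI := Fintype.ofFinite (P : Subgroup G)
    refine MonoidHom.ext fun v => ?_
    let w : V := ∏ x : (P : Subgroup G), MulAut.conjNormal (x : G) v
    have hw : (w : G) ∈ NP := by
      refine Subgroup.centralizer_le_normalizer _ (Subgroup.mem_centralizer_iff.2 fun y hy => ?_)
      have : MulAut.conjNormal y w = w := by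
        rw [map_prod]
        refine Fintype.prod_equiv (Equiv.mulLeft (⟨y, hy⟩ : (P : Subgroup G))) _ _ fun x => ?_
        rw [Equiv.coe_mulLeft, Subgroup.coe_mul, hcj]
      have h := congrArg Subtype.val this
      rw [MulAut.conjNormal_apply] at h
      exact mul_inv_eq_iff_eq_mul.1 h
    have hw1 : w = 1 := Subtype.ext (hCmem _ w.2 hw)
    have h := congrArg lam hw1
    rw [map_one, map_prod, Finset.prod_congr rfl (g := fun _ => lam v) (fun (x : (P : Subgroup G)) _ => hfix (x : G) x.2 v),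
      Finset.prod_const, Finset.card_univ, ← Nat.card_eq_fintype_card] at h
    have h2 : lam v ^ Nat.card V = 1 := by rw [← map_pow, pow_card_eq_one', map_one]
    have h3 := (pow_gcd_eq_one (m := Nat.card (P : Subgroup G)) (n := Nat.card V)).mpr ⟨h, h2⟩
    rwa [show Nat.gcd _ _ = 1 from hcop, pow_one] at h3
  have hover : ∀ μ : V →* ℂˣ, μ ≠ 1 → ∀ t ∈ NP,
      (∀ v : V, μ (MulAut.conjNormal t v) = (μ v)⁻¹) → False := by
    intro μ hμ t ht hinv
    set θ : V → ℂ := fun v => (μ v : ℂ) with hθdef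
    set T := inertia V θ with hT
    have hVT : V ≤ T := le_inertia (isClassFunction_irr ⟨θ, isIrrCharacter_linear μ⟩)
    have hmemT : ∀ x, x ∈ T ↔ ∀ v : V, μ (MulAut.conjNormal x v) = μ v := fun x => by
      rw [hT, mem_inertia, conjN_eq_comp, funext_iff]
      exact forall_congr' fun v => Units.val_inj
    have hinv' : ∀ v : V, μ (MulAut.conjNormal t⁻¹ v) = (μ v)⁻¹ := fun v => by
      have h1 := hinv (MulAut.conjNormal t⁻¹ v)
      rw [← hcj, mul_inv_cancel, map_one, MulAut.one_apply] at h1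
      rw [h1, inv_inv]
    have hTt : ∀ s : G, (∀ v : V, μ (MulAut.conjNormal s v) = (μ v)⁻¹) →
        (∀ v : V, μ (MulAut.conjNormal s⁻¹ v) = (μ v)⁻¹) → ∀ h ∈ T, s * h * s⁻¹ ∈ T := by
      intro s hs hs' h hh
      refine (hmemT _).2 fun v => ?_
      rw [hcj, hcj, hs, (hmemT h).1 hh, hs', inv_inv]
    have htH : ∀ h : G, h ∈ T ⊓ NP ↔ t * h * t⁻¹ ∈ T ⊓ NP := fun h => by
      refine ⟨fun hh => ⟨hTt t hinv hinv' h hh.1,
        (mul_mem (mul_mem ht (hh.2 : h ∈ NP)) (inv_mem ht) : t * h * t⁻¹ ∈ NP)⟩,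
        fun hh => ⟨?_, ?_⟩⟩
      · have := hTt t⁻¹ hinv' (by rw [inv_inv]; exact hinv) _ hh.1
        rwa [show t⁻¹ * (t * h * t⁻¹) * t⁻¹⁻¹ = h by group] at this
      · have := mul_mem (mul_mem (inv_mem ht) (hh.2 : t * h * t⁻¹ ∈ NP)) ht
        rwa [show t⁻¹ * (t * h * t⁻¹) * t = h by group] at this
    have hW : V ⊔ (T ⊓ NP) = T := by
      refine le_antisymm (sup_le hVT inf_le_left) fun x hx => ?_
      obtain ⟨v, hv, y, hy, rfl⟩ := hdec x
      refine Subgroup.mul_mem_sup hv ⟨?_, hy⟩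
      have := mul_mem (inv_mem (hVT hv)) hx
      rwa [inv_mul_cancel_left] at this
    obtain ⟨χ, hχr, hχ⟩ := exists_real_over V (T ⊓ NP) μ inf_le_left
      (Subgroup.disjoint_def.2 fun {x} h1 h2 => hCmem x h1 h2.2)
      (by rw [hW, ← hT, Subgroup.relIndex_self]; exact odd_one) t htH hinv
    have hdvd : p ∣ (conjOrbit V θ).card := by
      by_contra hnd
      obtain ⟨g, hg⟩ := exists_fixed_conj_prime V θ hnd P
      refine hμ (MonoidHom.ext fun v => ?_)
      have h1 := hfixtriv (μ.comp (MulAut.conjNormal g).toMonoidHom) fun x hx w => by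
        have h2 := congrFun (mem_inertia.1 (hg hx)) w
        rw [conjN_eq_comp, conjN_eq_comp] at h2
        exact Units.ext h2
      have h3 := DFunLike.congr_fun h1 (MulAut.conjNormal g⁻¹ v)
      rw [MonoidHom.comp_apply, MulEquiv.coe_toMonoidHom, ← hcj, mul_inv_cancel, map_one,
        MulAut.one_apply] at h3
      exact h3
    exact hreal χ hχr (hdvd.trans (card_conjOrbit_dvd V χ.2 (isIrrCharacter_linear μ) hχ))
  obtain ⟨v₀, hv₀⟩ : ∃ v : V, v ≠ 1 := by
    haveI := (Subgroup.nontrivial_iff_ne_bot V).2 hVb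
    exact exists_ne 1
  by_cases hr2 : r = 2
  · obtain ⟨lam, hlam⟩ := exists_lin_apply_ne_one V hVc hv₀
    refine hover lam (fun h => hlam (by rw [h]; rfl)) 1 (one_mem _) fun v => ?_
    rw [map_one, MulAut.one_apply, eq_inv_iff_mul_eq_one, ← map_mul, ← map_one lam]
    congr 1
    refine Subtype.ext ?_
    rw [Subgroup.coe_mul, ← pow_two, Subgroup.coe_one]
    subst hr2
    exact hexp v v.2
  have hodd : Odd (Nat.card V) := by
    rw [hkV]
    exact (hr.odd_of_ne_two hr2).pow
  have hKV : K ≤ Subgroup.centralizer (V : Set G) := by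
    refine (Subgroup.closure_le _).2 fun g ⟨k, hk⟩ => ?_
    by_contra hg
    obtain ⟨x, hx, hx2⟩ := exists_square_mem _ hk hg
    have hxx : ∀ m : V, MulAut.conjNormal (x * x) m = m := fun m => Subtype.ext (by
      rw [MulAut.conjNormal_apply, ← Subgroup.mem_centralizer_iff.1 hx2 m m.2, mul_inv_cancel_right])
    obtain ⟨v, hv⟩ : ∃ v : V, MulAut.conjNormal x v ≠ v := by
      by_contra hno
      push Not at hno
      refine hx (Subgroup.mem_centralizer_iff.2 fun v hv => ?_)
      have h := congrArg Subtype.val (hno ⟨v, hv⟩)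
      rw [MulAut.conjNormal_apply] at h
      exact (mul_inv_eq_iff_eq_mul.1 h).symm
    obtain ⟨lam, hlam⟩ := exists_lin_apply_ne_one V hVc (a := MulAut.conjNormal x v * v⁻¹)
      (fun h => hv (mul_inv_eq_one.1 h))
    obtain ⟨μ, hμ1, hμ⟩ := exists_inverted V x hxx lam ⟨v, fun h => hlam (by
      rw [map_mul, map_inv, h, mul_inv_cancel])⟩
    obtain ⟨a, ha, y, hy, rfl⟩ := hdec x
    refine hover μ hμ1 y hy fun w => ?_
    have h1 := hμ w
    rw [hcj] at h1
    rwa [show MulAut.conjNormal a (MulAut.conjNormal y w) = MulAut.conjNormal y w from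
      Subtype.ext (by
        rw [MulAut.conjNormal_apply]
        have h3 := congrArg Subtype.val (hVc ⟨a, ha⟩ (MulAut.conjNormal y w))
        simp only [Subgroup.coe_mul] at h3
        rw [h3, mul_inv_cancel_right])] at h1
  have hKN : K ≤ NP := by
    refine (Subgroup.closure_le _).2 fun g ⟨k, hk⟩ => ?_
    obtain ⟨v, hv, y, hy, rfl⟩ := hdec g
    have hg : v * y ∈ K := Subgroup.subset_closure ⟨k, hk⟩
    have hyK : y ∈ K := by
      have := mul_mem (inv_mem ((hVKO.trans inf_le_left) hv)) hg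
      rwa [inv_mul_cancel_left] at this
    have hc : Commute v y := Subgroup.mem_centralizer_iff.1 (hKV hyK) v hv
    have h1 : v ^ 2 ^ k * y ^ 2 ^ k = 1 := by rw [← hc.mul_pow, ← hk, pow_orderOf_eq_one]
    have h2 : v ^ 2 ^ k = 1 := hCmem _ (pow_mem hv _)
      (by rw [eq_inv_of_mul_eq_one_left h1]; exact inv_mem (pow_mem hy _))
    have h3 : (⟨v, hv⟩ : V) ^ 2 ^ k = 1 := Subtype.ext h2
    have h4 : orderOf (⟨v, hv⟩ : V) = 1 := Nat.eq_one_of_dvd_coprimes
      (((Nat.prime_two.coprime_iff_not_dvd).2 hodd.not_two_dvd_nat).pow_left k)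
      (orderOf_dvd_of_pow_eq_one h3) (orderOf_dvd_natCard _)
    rw [show v = 1 from congrArg Subtype.val (orderOf_eq_one_iff.1 h4), one_mul]
    exact hy
  exact hv₀ (Subtype.ext (hCmem _ v₀.2 (hKN ((hVKO.trans inf_le_left) v₀.2))))

/-- An action of order at most two which is trivial modulo the Frattini subgroup of a group of odd
order is trivial. -/
theorem mem_centralizer_of_mod_frattini {p : ℕ} [hp : Fact p.Prime] {G : Type u} [Group G]
    [Finite G] {M : Subgroup G} [M.Normal] (hMp : IsPGroup p M) (hp2 : p ≠ 2) {x : G}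
    (hxx : ∀ m : M, MulAut.conjNormal (x * x) m = m)
    (hin : ∀ m : M, MulAut.conjNormal x m * m⁻¹ ∈ frattini M) :
    x ∈ Subgroup.centralizer (M : Set G) := by
  obtain ⟨j, n, hn, he⟩ := Nat.exists_eq_pow_mul_and_not_dvd (orderOf_pos x).ne' 2 (by norm_num)
  have hcomm : x ^ n ∈ Subgroup.centralizer (M : Set G) := by
    refine Cfsg.Lib.Coprime.le_centralizer_of_frattini (A := Subgroup.zpowers (x ^ n)) (K := M)
      (le_top.trans (Subgroup.normalizer_eq_top M).ge) ?_ ?_ (Subgroup.mem_zpowers _)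
    · rw [Nat.card_zpowers]
      obtain ⟨a, ha⟩ := IsPGroup.iff_card.1 (hMp.to_subgroup (frattini M))
      rw [ha]
      refine Nat.Coprime.coprime_dvd_left (orderOf_dvd_of_pow_eq_one (n := 2 ^ j) ?_)
        (((Nat.coprime_primes Nat.prime_two hp.out).2 hp2.symm).pow _ _)
      rw [← pow_mul, mul_comm, ← he, pow_orderOf_eq_one]
    · let S : Subgroup G :=
        { carrier := {a | ∀ m : M, MulAut.conjNormal a m * m⁻¹ ∈ frattini M}
          one_mem' := fun m => by simp [one_mem]
          mul_mem' := fun {a b} ha hb m => by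
            have h := mul_mem (ha (MulAut.conjNormal b m)) (hb m)
            rwa [mul_assoc, inv_mul_cancel_left, ← MulAut.mul_apply, ← map_mul] at h
          inv_mem' := fun {a} ha m => by
            have h := inv_mem (ha (MulAut.conjNormal a⁻¹ m))
            rwa [mul_inv_rev, inv_inv, ← MulAut.mul_apply, ← map_mul, mul_inv_cancel, map_one,
              MulAut.one_apply] at h }
      intro a ha k hk
      have hle : Subgroup.zpowers (x ^ n) ≤ S :=
        Subgroup.zpowers_le.2 (pow_mem (show x ∈ S from hin) n)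
      exact ⟨_, hle ha ⟨k, hk⟩, by simp [MulAut.conjNormal_apply]⟩
  have hxn : x ^ n * x⁻¹ ∈ Subgroup.centralizer (M : Set G) := by
    obtain ⟨q, hq⟩ : Odd n := Nat.odd_iff.2 (by omega)
    rw [hq, pow_succ, mul_inv_cancel_right, pow_mul, pow_two]
    refine pow_mem (Subgroup.mem_centralizer_iff.2 fun m hm => ?_) q
    have h := congrArg Subtype.val (hxx ⟨m, hm⟩)
    rw [MulAut.conjNormal_apply] at h
    exact (mul_inv_eq_iff_eq_mul.1 h).symm
  have := mul_mem (inv_mem hxn) hcomm
  rwa [mul_inv_rev, inv_inv, inv_mul_cancel_right] at this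

/-- A normal subgroup inside the derived subgroup of a Sylow subgroup is centralised by the
2-elements. -/
theorem pGen_two_le_centralizer {p : ℕ} [hp : Fact p.Prime] (hp2 : p ≠ 2) {G : Type u} [Group G]
    [Fintype G] (hreal : RealPrime p G) (P : Sylow p G) (M : Subgroup G) [M.Normal]
    (hMP : M ≤ ⁅(P : Subgroup G), (P : Subgroup G)⁆) :
    pGen 2 G ≤ Subgroup.centralizer (M : Set G) := by
  classical
  haveI := Fact.mk Nat.prime_two
  letI : Fintype M := Fintype.ofFinite M
  letI : Fintype (P : Subgroup G) := Fintype.ofFinite _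
  have hMleP : M ≤ (P : Subgroup G) := hMP.trans (Subgroup.commutator_le_self _)
  have hMp : IsPGroup p M := P.2.to_le hMleP
  refine (Subgroup.closure_le _).2 fun g ⟨k, hk⟩ => ?_
  by_contra hg
  obtain ⟨x, hx, hx2⟩ := exists_square_mem _ hk hg
  have hxx : ∀ m : M, MulAut.conjNormal (x * x) m = m := fun m => Subtype.ext (by
    rw [MulAut.conjNormal_apply, ← Subgroup.mem_centralizer_iff.1 hx2 m m.2, mul_inv_cancel_right])
  have hcj : ∀ (x y : G) (v : M),
      MulAut.conjNormal (x * y) v = MulAut.conjNormal x (MulAut.conjNormal y v) := fun x y v => by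
    rw [map_mul]; rfl
  obtain ⟨lam, hlam⟩ : ∃ lam : M →* ℂˣ, ∃ m : M, lam (MulAut.conjNormal x m) ≠ lam m := by
    by_contra hno
    push Not at hno
    have hin : ∀ m : M, MulAut.conjNormal x m * m⁻¹ ∈ frattini M := fun m => by
      refine Cfsg.Lib.PGroups.commutator_le_frattini hMp ?_
      rw [← Abelianization.ker_of, MonoidHom.mem_ker]
      by_contra h
      obtain ⟨l, hl⟩ := CommGroup.exists_apply_ne_one_of_hasEnoughRootsOfUnity
        (Abelianization M) ℂ h
      refine hl ?_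
      have h1 := hno (l.comp Abelianization.of) m
      show (l.comp Abelianization.of) (MulAut.conjNormal x m * m⁻¹) = 1
      rw [map_mul, map_inv, h1, mul_inv_cancel]
    exact hx (mem_centralizer_of_mod_frattini hMp hp2 hxx hin)
  obtain ⟨μ, hμ1, hμ⟩ := exists_inverted M x hxx lam hlam
  set θ : M → ℂ := fun m => (μ m : ℂ) with hθdef
  set T := inertia M θ with hT
  have hmemT : ∀ y, y ∈ T ↔ ∀ v : M, μ (MulAut.conjNormal y v) = μ v := fun y => by
    rw [hT, mem_inertia, conjN_eq_comp, funext_iff]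
    exact forall_congr' fun v => Units.val_inj
  have hμ' : ∀ v : M, μ (MulAut.conjNormal x⁻¹ v) = (μ v)⁻¹ := fun v => by
    have h1 := hμ (MulAut.conjNormal x⁻¹ v)
    rw [← hcj, mul_inv_cancel, map_one, MulAut.one_apply] at h1
    rw [h1, inv_inv]
  obtain ⟨S⟩ : Nonempty (Sylow 2 T) := inferInstance
  set S₀ := (S : Subgroup T).map T.subtype with hS₀
  have hS₀T : S₀ ≤ T := Subgroup.map_subtype_le _
  let c : T →* T := ((MulAut.conj x).toMonoidHom.comp T.subtype).codRestrict T fun y =>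
    (hmemT _).2 fun v => by
      show μ (MulAut.conjNormal (x * (y : G) * x⁻¹) v) = μ v
      rw [hcj, hcj, hμ, (hmemT y).1 y.2, hμ', inv_inv]
  have hci : Function.Injective c := fun a b h => Subtype.ext
    ((MulAut.conj x).injective (congrArg Subtype.val h :))
  have hcard : Nat.card ((S : Subgroup T).map c) = 2 ^ (Nat.card T).factorization 2 := by
    rw [Subgroup.card_map_of_injective hci, S.card_eq_multiplicity]
  obtain ⟨s, hs⟩ := MulAction.exists_smul_eq T (Sylow.ofCard _ hcard) S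
  set t := (s : G) * x with ht
  have htinv : ∀ v : M, μ (MulAut.conjNormal t v) = (μ v)⁻¹ := fun v => by
    rw [ht, hcj, (hmemT s).1 s.2, hμ]
  have hmap : ∀ y : T, y ∈ (S : Subgroup T) → s * c y * s⁻¹ ∈ (S : Subgroup T) := fun y hy => by
    have h := Sylow.coe_subgroup_smul (g := s) (P := Sylow.ofCard _ hcard)
    rw [hs] at h
    rw [h]
    exact ⟨c y, ⟨y, hy, rfl⟩, by simp [MulAut.smul_def, MulAut.conj_apply]⟩
  have htS : ∀ h ∈ S₀, t * h * t⁻¹ ∈ S₀ := by
    rintro _ ⟨y, hy, rfl⟩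
    refine ⟨_, hmap y hy, ?_⟩
    show (s : G) * (x * (y : G) * x⁻¹) * (s : G)⁻¹ = t * (y : G) * t⁻¹
    rw [ht]; group
  have htH : ∀ h : G, h ∈ S₀ ↔ t * h * t⁻¹ ∈ S₀ := fun h => by
    refine ⟨htS h, fun hh => ?_⟩
    have hnorm : t ∈ Subgroup.normalizer (S₀ : Set G) :=
      Subgroup.mem_normalizer_iff.2 fun y => ⟨htS y, fun hy => by
        have he : S₀.map (MulAut.conj t).toMonoidHom = S₀ :=
          Subgroup.eq_of_le_of_card_ge (Subgroup.map_le_iff_le_comap.2 htS)
            (Subgroup.card_map_of_injective (MulAut.conj t).injective).ge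
        rw [← he] at hy
        obtain ⟨z, hz, hzy⟩ := hy
        rwa [(MulAut.conj t).injective hzy] at hz⟩
    exact (Subgroup.mem_normalizer_iff.1 hnorm h).2 hh
  have hS2 : IsPGroup 2 S₀ := S.2.map _
  have hd : Disjoint M S₀ := Subgroup.disjoint_def.2 fun {y} h1 h2 => by
    obtain ⟨a, ha⟩ := IsPGroup.iff_card.1 hMp
    obtain ⟨b, hb⟩ := IsPGroup.iff_card.1 hS2
    exact Cfsg.Lib.Coprime.eq_one_of_coprime
      (by rw [ha, hb]; exact ((Nat.coprime_primes hp.out Nat.prime_two).2 hp2).pow _ _) h1 h2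
  have hodd : Odd ((M ⊔ S₀).relIndex T) := by
    refine Nat.odd_iff.2 (Nat.two_dvd_ne_zero.1 fun h => S.not_dvd_index ?_)
    have e : S₀.relIndex T = (S : Subgroup T).index := by
      rw [Subgroup.relIndex, hS₀, Subgroup.subgroupOf,
        Subgroup.comap_map_eq_self_of_injective T.subtype_injective]
    rw [← e]
    exact h.trans (Subgroup.relIndex_dvd_of_le_left T le_sup_right)
  obtain ⟨χ, hχr, hχ⟩ := exists_real_over M S₀ μ hS₀T hd hodd t htH htinv
  obtain ⟨ψ, hψ, hψd⟩ : ∃ ψ : IrrCharacter (P : Subgroup G),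
      classInner (fun y : (P : Subgroup G) => (χ : G → ℂ) y) (ψ : ↥(P : Subgroup G) → ℂ) ≠ 0 ∧
        ¬ p ∣ deg (ψ : ↥(P : Subgroup G) → ℂ) :=
    exists_prime_constituent (IsCharacter.restrict (isCharacter_of_irr χ.2) _)
      (irr_apply_one_eq_deg χ) (hreal χ hχr)
  obtain ⟨kP, hkP⟩ := IsPGroup.iff_card.1 P.2
  obtain ⟨i, -, hi⟩ := (Nat.dvd_prime_pow hp.out).1 (hkP ▸ IsIrrCharacter.deg_dvd ψ.2)
  obtain ⟨ν, hν⟩ := exists_hom_of_deg_one (isCharacter_of_irr ψ.2) (by
    rw [irr_apply_one_eq_deg, hi]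
    rcases Nat.eq_zero_or_pos i with rfl | h
    · simp
    · exact absurd (hi ▸ dvd_pow_self p h.ne') hψd)
  have hνM : ∀ m : M, ν (Subgroup.inclusion hMleP m) = 1 := fun m => by
    have h1 : (m : G) ∈ (commutator (P : Subgroup G)).map (P : Subgroup G).subtype := by
      rw [Subgroup.map_subtype_commutator]
      exact hMP m.2
    obtain ⟨y, hy, hye⟩ := h1
    rw [show Subgroup.inclusion hMleP m = y from Subtype.ext hye.symm]
    exact MonoidHom.mem_ker.1 (Abelianization.commutator_subset_ker ν hy)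
  have h1 : classInner (fun m : M => (χ : G → ℂ) m) (fun _ : M => (1 : ℂ)) ≠ 0 :=
    over_trans (Subgroup.inclusion hMleP) (IsCharacter.restrict (isCharacter_of_irr χ.2) _)
      ψ.2 hψ isIrrCharacter_one (by
      rw [show (fun a : M => (ψ : ↥(P : Subgroup G) → ℂ) (Subgroup.inclusion hMleP a)) =
        fun _ => (1 : ℂ) from funext fun a => by rw [hν]; simp [hνM a],
        classInner_self_irr isIrrCharacter_one]
      exact one_ne_zero)
  obtain ⟨g', hg'⟩ := exists_conjN_of_constituents M χ.2 isIrrCharacter_one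
    (isIrrCharacter_linear μ) h1 hχ
  refine hμ1 (MonoidHom.ext fun m => Units.ext ?_)
  rw [congrFun hg' m, conjN_eq_comp]
  rfl

/-- The normal subgroups above the 2-generated subgroup with `p`-power index over it. -/
theorem normal_sylow_above {p : ℕ} [hp : Fact p.Prime] {G : Type u} [Group G] [Fintype G]
    (hsolv : Group.IsSolvable ↥(pGen p G)) (hreal : RealPrime p G) (L : Subgroup G) [L.Normal]
    (hKL : pGen 2 G ≤ L) {a : ℕ} (ha : (pGen 2 G).relIndex L = p ^ a) (Q : Sylow p L) :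
    (Q : Subgroup L).Normal := by
  haveI := Fact.mk Nat.prime_two
  letI : Fintype L := Fintype.ofFinite L
  have hodd : Odd L.index := Odd.of_dvd_nat odd_index_pGen_two (Subgroup.index_dvd_of_le hKL)
  refine normal_sylow_of_realPrime _ L rfl ?_ (hreal.of_odd_index L hodd) ⟨a, ?_⟩ Q
  · haveI := Cfsg.Lib.Coprime.isSolvable_of_le (map_pGen_le (p := p) L.subtype) hsolv
    let e := (Subgroup.equivMapOfInjective (pGen p L) L.subtype L.subtype_injective).symm
    exact Group.isSolvable_of_surjective (f := e.toMonoidHom) e.surjective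
  · rw [← ha, Subgroup.relIndex]
    congr 1
    refine Subgroup.map_injective L.subtype_injective ?_
    rw [pGen_subgroup L hKL, Subgroup.map_subgroupOf_eq_of_le hKL]

end Cfsg.Lib.Chars.RealOdd
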