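import Mathlib
import Cfsg.Agent.Chars.RealPrimeDegree
import Cfsg.Agent.Chars.Count
import Cfsg.Agent.Blocks.LocalRing
import Cfsg.Agent.Blocks.Covering
import Cfsg.Agent.Blocks.Feit3

/-!
# Real classes and a Sylow normaliser

If every real character has degree prime to `p`, the orbits of a `p'`-group's characters and classes
with a point fixed by a Sylow `p`-subgroup are matched by the character table modulo `p`.
-/

set_option autoImplicit false
set_option linter.unusedSectionVars false
set_option linter.style.haveILetI false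

namespace Cfsg.Lib.Chars.RealOdd

open Cfsg Cfsg.Lib.Chars Cfsg.Lib.Blocks
open scoped ComplexConjugate

universe u v w

/-- Conjugate permutations through an invertible matrix fix equally many points. -/
theorem fixed_card_eq_of_inverse {ι : Type v} {κ : Type w} [Fintype ι] [Fintype κ] [DecidableEq ι]
    [DecidableEq κ] (σ : Equiv.Perm ι) (τ : Equiv.Perm κ) (A : Matrix ι κ ℂ) (B : Matrix κ ι ℂ)
    (h1 : A * B = 1) (h2 : B * A = 1) (hint : ∀ i k, A (σ i) (τ k) = A i k) :
    Nat.card {i // σ i = i} = Nat.card {k // τ k = k} := by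
  classical
  have hl : ∑ i, (A * B) i (σ i) = (Nat.card {i // σ i = i} : ℂ) := by
    rw [h1, Nat.card_eq_fintype_card, Fintype.card_subtype, ← Finset.sum_boole]
    exact Finset.sum_congr rfl fun i _ => by rw [Matrix.one_apply]; simp only [eq_comm]
  have hr : ∑ k, (B * A) k (τ k) = (Nat.card {k // τ k = k} : ℂ) := by
    rw [h2, Nat.card_eq_fintype_card, Fintype.card_subtype, ← Finset.sum_boole]
    exact Finset.sum_congr rfl fun i _ => by rw [Matrix.one_apply]; simp only [eq_comm]
  apply Nat.cast_injective (R := ℂ)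
  rw [← hl, ← hr]
  simp only [Matrix.mul_apply]
  rw [Finset.sum_comm]
  refine Finset.sum_congr rfl fun k _ => ?_
  refine Fintype.sum_equiv σ _ _ fun i => ?_
  rw [hint, mul_comm]

/-- The same when the inverse is only known in the residue field. -/
theorem fixed_card_eq_of_residue {M : Ideal AlgInt} {ι : Type v} {κ : Type w} [Fintype ι]
    [Fintype κ] [DecidableEq ι] [DecidableEq κ] (σ : Equiv.Perm ι) (τ : Equiv.Perm κ)
    (A : Matrix ι κ (place M)) (B : Matrix κ ι (place M)) {c : Res M} (hc : c ≠ 0)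
    (h1 : A.map (IsLocalRing.residue (place M)) * B.map (IsLocalRing.residue (place M)) = c • 1)
    (h2 : B.map (IsLocalRing.residue (place M)) * A.map (IsLocalRing.residue (place M)) = c • 1)
    (hint : ∀ i k, A (σ i) (τ k) = A i k) :
    Nat.card {i // σ i = i} = Nat.card {k // τ k = k} := by
  classical
  set r := IsLocalRing.residue (place M) with hr
  have h1' : A.map r * (c⁻¹ • B.map r) = 1 := by
    rw [Matrix.mul_smul, h1, smul_smul, inv_mul_cancel₀ hc, one_smul]
  have h2' : (c⁻¹ • B.map r) * A.map r = 1 := by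
    rw [Matrix.smul_mul, h2, smul_smul, inv_mul_cancel₀ hc, one_smul]
  have hcard : Fintype.card κ = Fintype.card ι :=
    (Matrix.square_of_invertible (A.map r) (c⁻¹ • B.map r) h1' h2').symm
  let e : κ ≃ ι := Fintype.equivOfCardEq hcard
  set A' : Matrix ι ι (place M) := A.submatrix id e.symm with hA'
  have hdet : IsUnit A'.det := by
    rw [← IsLocalRing.residue_ne_zero_iff_isUnit, RingHom.map_det]
    refine Matrix.det_ne_zero_of_right_inverse
      (B := (c⁻¹ • B.map r).submatrix e.symm id) ?_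
    rw [RingHom.mapMatrix_apply, hA', ← Matrix.submatrix_map, Matrix.submatrix_mul_equiv, h1',
      Matrix.submatrix_id_id]
  set f := (place M).subtype with hf
  have hA1 : A'.map f * (A'⁻¹).map f = 1 := by
    rw [← Matrix.map_mul, Matrix.mul_nonsing_inv A' hdet, Matrix.map_one f (map_zero f) (map_one f)]
  have hA2 : (A'⁻¹).map f * A'.map f = 1 := by
    rw [← Matrix.map_mul, Matrix.nonsing_inv_mul A' hdet, Matrix.map_one f (map_zero f) (map_one f)]
  rw [fixed_card_eq_of_inverse σ ((e.symm.trans τ).trans e) (A'.map f) ((A'⁻¹).map f) hA1 hA2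
    fun i k => by
      simp only [Matrix.map_apply, hA', Matrix.submatrix_apply, id_eq, Equiv.trans_apply,
        Equiv.symm_apply_apply, hint]]
  exact Nat.card_congr (Equiv.subtypeEquiv e.symm fun k => by
    simp only [Equiv.trans_apply]
    exact ⟨fun h => by conv_rhs => rw [← h, Equiv.symm_apply_apply],
      fun h => by rw [h, Equiv.apply_symm_apply]⟩)

/-- An invariant sum over a `p`-group set without fixed points vanishes modulo `p`. -/
theorem small_sum_of_no_fixed {p : ℕ} [hp : Fact p.Prime] {M : Ideal AlgInt} (hM : IsPModular p M)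
    {P : Type v} [Group P] [Finite P] (hP : IsPGroup p P) {α : Type w} [Fintype α] [MulAction P α]
    (f : α → ℂ) (hf : ∀ a, f a ∈ place M) (hinv : ∀ (x : P) (a : α), f (x • a) = f a)
    (hno : ∀ a : α, ∃ x : P, x • a ≠ a) : Small M (∑ a, f a) := by
  classical
  rw [← Finset.sum_fiberwise Finset.univ (fun a => (Quotient.mk'' a : MulAction.orbitRel.Quotient P α)) f]
  refine small_sum _ _ fun ω _ => ?_
  induction ω using Quotient.inductionOn' with
  | _ a =>
  have hset : (Finset.univ.filter fun b : α =>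
      (Quotient.mk'' b : MulAction.orbitRel.Quotient P α) = Quotient.mk'' a) =
      (MulAction.orbit P a).toFinset := by
    ext b
    simp [Quotient.eq'', MulAction.orbitRel_apply]
  rw [hset, Finset.sum_congr rfl (g := fun _ => f a) fun b hb => by
    obtain ⟨x, rfl⟩ := Set.mem_toFinset.1 hb
    exact hinv x a, Finset.sum_const, nsmul_eq_mul, Set.toFinset_card]
  obtain ⟨n, hn⟩ := hP.card_orbit a
  refine Small.mul_mem (small_natCast hM ?_) (hf a)
  rw [← Nat.card_eq_fintype_card, hn]
  refine dvd_pow_self p fun h0 => ?_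
  obtain ⟨x, hx⟩ := hno a
  rw [h0, pow_zero, Nat.card_eq_one_iff_unique] at hn
  exact hx (congrArg Subtype.val (hn.1.elim (⟨x • a, x, rfl⟩ : MulAction.orbit P a) ⟨a, 1, one_smul _ _⟩))

section Setting

variable {G : Type u} [Group G] [Fintype G] (K : Subgroup G) [K.Normal] [Fintype K]

/-- Characters are equal up to conjugation in the ambient group. -/
def charSetoid : Setoid (IrrCharacter K) where
  r a b := ∃ g : G, cjIrr K g a = b
  iseqv :=
    ⟨fun a => ⟨1, cjIrr_one K a⟩, fun {a b} ⟨g, hg⟩ => ⟨g⁻¹, by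
        rw [← hg, ← cjIrr_mul, mul_inv_cancel, cjIrr_one]⟩,
      fun {a b c} ⟨g, hg⟩ ⟨h, hh⟩ => ⟨g * h, by rw [cjIrr_mul, hg, hh]⟩⟩

/-- Elements are equal up to conjugation in the ambient group. -/
def elemSetoid : Setoid K where
  r a b := ∃ g : G, MulAut.conjNormal g a = b
  iseqv :=
    ⟨fun a => ⟨1, by rw [map_one]; rfl⟩, fun {a b} ⟨g, hg⟩ => ⟨g⁻¹, by
        rw [← hg, ← MulAut.mul_apply, ← map_mul, inv_mul_cancel, map_one]; rfl⟩,
      fun {a b c} ⟨g, hg⟩ ⟨h, hh⟩ => ⟨h * g, by rw [map_mul, MulAut.mul_apply, hg, hh]⟩⟩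

abbrev COrb := Quotient (charSetoid K)

abbrev EOrb := Quotient (elemSetoid K)

noncomputable instance : Fintype (COrb K) := Fintype.ofFinite _

noncomputable instance : Fintype (EOrb K) := Fintype.ofFinite _

theorem conjIrr_cjIrr (g : G) (θ : IrrCharacter K) :
    conjIrr (cjIrr K g θ) = cjIrr K g (conjIrr θ) := by
  refine Subtype.ext (funext fun n => ?_)
  show conj ((cjIrr K g θ : K → ℂ) n) = (cjIrr K g (conjIrr θ) : K → ℂ) n
  rw [cjIrr_val, cjIrr_val, conjN_eq_comp, conjN_eq_comp]
  rfl

/-- Complex conjugation on the orbits of characters. -/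
noncomputable def cConj : Equiv.Perm (COrb K) :=
  Quotient.congr ⟨conjIrr, conjIrr, conjIrr_conjIrr, conjIrr_conjIrr⟩ fun a b => by
    refine ⟨fun ⟨g, hg⟩ => ⟨g, ?_⟩, fun ⟨g, hg⟩ => ⟨g, ?_⟩⟩
    · show cjIrr K g (conjIrr a) = conjIrr b
      rw [← conjIrr_cjIrr, hg]
    · have h := congrArg conjIrr (show cjIrr K g (conjIrr a) = conjIrr b from hg)
      rwa [conjIrr_cjIrr, conjIrr_conjIrr, conjIrr_conjIrr] at h

/-- Inversion on the orbits of elements. -/
noncomputable def eInv : Equiv.Perm (EOrb K) :=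
  Quotient.congr (Equiv.inv K) fun a b => by
    refine ⟨fun ⟨g, hg⟩ => ⟨g, ?_⟩, fun ⟨g, hg⟩ => ⟨g, ?_⟩⟩
    · show MulAut.conjNormal g a⁻¹ = b⁻¹
      rw [map_inv, hg]
    · have h := (show MulAut.conjNormal g a⁻¹ = b⁻¹ from hg)
      rwa [map_inv, inv_inj] at h

theorem cConj_mk (θ : IrrCharacter K) :
    cConj K (Quotient.mk _ θ) = Quotient.mk _ (conjIrr θ) := rfl

theorem eInv_mk (k : K) : eInv K (Quotient.mk _ k) = Quotient.mk _ k⁻¹ := rfl

open scoped Classical in
/-- The sum of a character over an orbit of elements, scaled by the co-degree. -/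
noncomputable def rowEntry (θ : IrrCharacter K) (c : EOrb K) : ℂ :=
  ((Nat.card K / deg (θ : K → ℂ) : ℕ) : ℂ) *
    ∑ k ∈ Finset.univ.filter (fun k : K => Quotient.mk (elemSetoid K) k = c), (θ : K → ℂ) k

open scoped Classical in
/-- The weighted conjugate sum over an orbit of characters. -/
noncomputable def colEntry (k : K) (ω : COrb K) : ℂ :=
  ∑ θ ∈ Finset.univ.filter (fun θ : IrrCharacter K => Quotient.mk (charSetoid K) θ = ω),
    (deg (θ : K → ℂ) : ℂ) * conj ((θ : K → ℂ) k)

theorem deg_cjIrr (g : G) (θ : IrrCharacter K) :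
    deg (cjIrr K g θ : K → ℂ) = deg (θ : K → ℂ) := by
  apply Nat.cast_injective (R := ℂ)
  rw [← irr_apply_one_eq_deg, ← irr_apply_one_eq_deg, cjIrr_val, conjN_eq_comp]
  simp only [map_one]

theorem rowEntry_congr {θ θ' : IrrCharacter K} (h : Quotient.mk (charSetoid K) θ = Quotient.mk _ θ')
    (c : EOrb K) : rowEntry K θ' c = rowEntry K θ c := by
  classical
  obtain ⟨g, rfl⟩ := Quotient.exact h
  rw [rowEntry, rowEntry, deg_cjIrr]
  congr 1
  refine Finset.sum_equiv (MulAut.conjNormal g).toEquiv (fun k => ?_) (fun k _ => ?_)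
  · simp only [Finset.mem_filter, Finset.mem_univ, true_and]
    rw [show Quotient.mk (elemSetoid K) ((MulAut.conjNormal g).toEquiv k) = Quotient.mk _ k from
      (Quotient.sound (s := elemSetoid K) ⟨g, rfl⟩).symm]
  · rw [cjIrr_val, conjN_eq_comp]; rfl

theorem colEntry_congr {k k' : K} (h : Quotient.mk (elemSetoid K) k = Quotient.mk _ k')
    (ω : COrb K) : colEntry K k' ω = colEntry K k ω := by
  classical
  obtain ⟨g, rfl⟩ := Quotient.exact h
  rw [colEntry, colEntry]
  refine Finset.sum_equiv (cjIrr K g) (fun θ => ?_) (fun θ _ => ?_)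
  · simp only [Finset.mem_filter, Finset.mem_univ, true_and]
    rw [show Quotient.mk (charSetoid K) (cjIrr K g θ) = Quotient.mk _ θ from
      (Quotient.sound (s := charSetoid K) ⟨g, rfl⟩).symm]
  · rw [deg_cjIrr, cjIrr_val, conjN_eq_comp]

open scoped Classical in
theorem row_col (θ : IrrCharacter K) (ω : COrb K) :
    ∑ c : EOrb K, rowEntry K θ c * colEntry K c.out ω =
      if Quotient.mk _ θ = ω then ((Nat.card K ^ 2 : ℕ) : ℂ) else 0 := by
  have h1 : ∀ c : EOrb K, rowEntry K θ c * colEntry K c.out ω =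
      ((Nat.card K / deg (θ : K → ℂ) : ℕ) : ℂ) *
        ∑ k ∈ Finset.univ.filter (fun k : K => Quotient.mk (elemSetoid K) k = c),
          (θ : K → ℂ) k * colEntry K k ω := fun c => by
    rw [rowEntry, mul_assoc, Finset.sum_mul]
    congr 1
    refine Finset.sum_congr rfl fun k hk => ?_
    rw [colEntry_congr K (k := c.out) (k' := k)
      ((Quotient.out_eq c).trans (Finset.mem_filter.1 hk).2.symm)]
  rw [Finset.sum_congr rfl fun c _ => h1 c, ← Finset.mul_sum, Finset.sum_fiberwise]
  simp only [colEntry]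
  rw [Finset.sum_congr rfl fun k _ => Finset.mul_sum _ _ _, Finset.sum_comm]
  have h2 : ∀ θ' : IrrCharacter K,
      ∑ k : K, (θ : K → ℂ) k * ((deg (θ' : K → ℂ) : ℂ) * conj ((θ' : K → ℂ) k)) =
        (deg (θ' : K → ℂ) : ℂ) * ((Nat.card K : ℂ) * if θ = θ' then 1 else 0) := fun θ' => by
    rw [show (if θ = θ' then (1 : ℂ) else 0) = classInner (θ : K → ℂ) (θ' : K → ℂ) from by
      split_ifs with h
      · rw [h, classInner_self_irr θ'.2]
      · rw [classInner_irr_ne h], classInner_def, mul_inv_cancel_left₀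
        (by exact_mod_cast Nat.card_pos.ne'), Finset.mul_sum]
    exact Finset.sum_congr rfl fun k _ => by ring
  rw [Finset.sum_congr rfl fun θ' _ => h2 θ']
  simp only [mul_ite, mul_one, mul_zero, Finset.sum_ite_eq, Finset.mem_filter, Finset.mem_univ,
    true_and]
  split_ifs with h
  · rw [← mul_assoc, ← Nat.cast_mul, Nat.div_mul_cancel (IsIrrCharacter.deg_dvd θ.2), sq,
      Nat.cast_mul]
  · rfl

open scoped Classical in
theorem col_row (k : K) (c : EOrb K) :
    ∑ ω : COrb K, colEntry K k ω * rowEntry K ω.out c =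
      if Quotient.mk _ k = c then ((Nat.card K ^ 2 : ℕ) : ℂ) else 0 := by
  have h1 : ∀ ω : COrb K, colEntry K k ω * rowEntry K ω.out c =
      ∑ θ ∈ Finset.univ.filter (fun θ : IrrCharacter K => Quotient.mk (charSetoid K) θ = ω),
        (Nat.card K : ℂ) * ∑ k' ∈ Finset.univ.filter (fun k' : K => Quotient.mk (elemSetoid K) k' = c),
          (θ : K → ℂ) k' * conj ((θ : K → ℂ) k) := fun ω => by
    rw [colEntry, Finset.sum_mul]
    refine Finset.sum_congr rfl fun θ hθ => ?_
    rw [rowEntry_congr K (θ := θ) (θ' := ω.out)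
      ((Finset.mem_filter.1 hθ).2.trans (Quotient.out_eq ω).symm), rowEntry,
      show (Nat.card K : ℂ) = ((Nat.card K / deg (θ : K → ℂ) : ℕ) : ℂ) * (deg (θ : K → ℂ) : ℂ) from by
        rw [← Nat.cast_mul, Nat.div_mul_cancel (IsIrrCharacter.deg_dvd θ.2)],
      ← Finset.sum_mul]
    ring
  rw [Finset.sum_congr rfl fun ω _ => h1 ω, Finset.sum_fiberwise, ← Finset.mul_sum,
    Finset.sum_comm]
  have h2 : ∀ k' : K, ∑ θ : IrrCharacter K, (θ : K → ℂ) k' * conj ((θ : K → ℂ) k) =
      if IsConj k k' then (Nat.card (Subgroup.centralizer ({k} : Set K)) : ℂ) else 0 := fun k' => by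
    have e : ∑ θ : IrrCharacter K, (θ : K → ℂ) k' * conj ((θ : K → ℂ) k) =
        conj (∑ θ : IrrCharacter K, (θ : K → ℂ) k * conj ((θ : K → ℂ) k')) := by
      rw [map_sum]
      exact Finset.sum_congr rfl fun θ _ => by rw [map_mul, Complex.conj_conj, mul_comm]
    rw [e, second_orthogonality]
    split_ifs with h3
    · exact Complex.conj_natCast _
    · exact map_zero _
  rw [Finset.sum_congr rfl fun k' _ => h2 k']
  by_cases hc : Quotient.mk _ k = c
  · rw [if_pos hc, Finset.sum_ite, Finset.sum_const_zero, add_zero, Finset.sum_const, nsmul_eq_mul,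
      sq, Nat.cast_mul]
    congr 1
    rw [← Nat.cast_mul]
    congr 1
    rw [Finset.filter_filter, ← card_isConj_mul k, Nat.card_eq_fintype_card (α := {x : K // IsConj k x}),
      Fintype.card_subtype]
    congr 2
    ext k'
    simp only [Finset.mem_filter, Finset.mem_univ, true_and]
    refine ⟨fun h => h.2, fun h => ⟨?_, h⟩⟩
    obtain ⟨a, ha⟩ := isConj_iff.1 h
    rw [← hc]
    exact (Quotient.sound (s := elemSetoid K) ⟨(a : G), Subtype.ext (by
      rw [MulAut.conjNormal_apply, ← ha]; rfl)⟩).symm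
  · rw [if_neg hc, Finset.sum_eq_zero, mul_zero]
    intro k' hk'
    rw [if_neg fun h => hc ?_]
    obtain ⟨a, ha⟩ := isConj_iff.1 h
    refine Eq.trans ?_ (Finset.mem_filter.1 hk').2
    exact Quotient.sound (s := elemSetoid K) ⟨(a : G), Subtype.ext (by
      rw [MulAut.conjNormal_apply, ← ha]; rfl)⟩

theorem rowEntry_conj (θ : IrrCharacter K) (c : EOrb K) :
    rowEntry K (conjIrr θ) (eInv K c) = rowEntry K θ c := by
  classical
  rw [rowEntry, rowEntry, deg_conjIrr]
  congr 1
  refine Finset.sum_equiv (Equiv.inv K) (fun k => ?_) (fun k _ => ?_)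
  · simp only [Finset.mem_filter, Finset.mem_univ, true_and, Equiv.inv_apply, ← eInv_mk]
    constructor
    · intro h
      rw [h]
      induction c using Quotient.inductionOn with
      | _ a => rw [eInv_mk, eInv_mk, inv_inv]
    · intro h
      rw [← h]
      rw [eInv_mk, eInv_mk, inv_inv]
  · show conj ((θ : K → ℂ) k) = (θ : K → ℂ) k⁻¹
    rw [IsCharacter.conj_inv (isCharacter_of_irr θ.2)]

variable {p : ℕ} [hp : Fact p.Prime] (P : Sylow p G)

/-- Orbits of characters with a member fixed by `P`. -/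
def CGood (ω : COrb K) : Prop :=
  ∃ θ : IrrCharacter K, Quotient.mk _ θ = ω ∧ ∀ x ∈ (P : Subgroup G), cjIrr K x θ = θ

/-- Orbits of elements with a member fixed by `P`. -/
def EGood (c : EOrb K) : Prop :=
  ∃ k : K, Quotient.mk _ k = c ∧ ∀ x ∈ (P : Subgroup G), MulAut.conjNormal x k = k

theorem CGood.conj_iff (ω : COrb K) : CGood K P (cConj K ω) ↔ CGood K P ω := by
  have hmp : ∀ ω : COrb K, CGood K P ω → CGood K P (cConj K ω) := by
    rintro ω ⟨θ, rfl, hθ⟩
    exact ⟨conjIrr θ, rfl, fun x hx => by rw [← conjIrr_cjIrr, hθ x hx]⟩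
  refine ⟨fun h => ?_, hmp ω⟩
  have h2 := hmp _ h
  induction ω using Quotient.inductionOn with
  | _ θ => rwa [cConj_mk, cConj_mk, conjIrr_conjIrr] at h2

theorem EGood.inv_iff (c : EOrb K) : EGood K P (eInv K c) ↔ EGood K P c := by
  have hmp : ∀ c : EOrb K, EGood K P c → EGood K P (eInv K c) := by
    rintro c ⟨k, rfl, hk⟩
    exact ⟨k⁻¹, rfl, fun x hx => by rw [map_inv, hk x hx]⟩
  refine ⟨fun h => ?_, hmp c⟩
  have h2 := hmp _ h
  induction c using Quotient.inductionOn with
  | _ k => rwa [eInv_mk, eInv_mk, inv_inv] at h2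

variable {M : Ideal AlgInt}

theorem rowEntry_mem (hM : IsPModular p M) (θ : IrrCharacter K) (c : EOrb K) :
    rowEntry K θ c ∈ place M :=
  mul_mem (natCast_mem_place _) (sum_mem fun k _ =>
    isIntegral_mem_place hM (IsCharacter.isIntegral (isCharacter_of_irr θ.2) k))

theorem colEntry_mem (hM : IsPModular p M) (k : K) (ω : COrb K) : colEntry K k ω ∈ place M :=
  sum_mem fun θ _ => mul_mem (natCast_mem_place _) (by
    rw [← IsCharacter.conj_inv (isCharacter_of_irr θ.2)]
    exact isIntegral_mem_place hM (IsCharacter.isIntegral (isCharacter_of_irr θ.2) _))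

theorem rowEntry_small (hM : IsPModular p M) (θ : IrrCharacter K)
    (hθ : ∀ x ∈ (P : Subgroup G), cjIrr K x θ = θ) (c : EOrb K) (hc : ¬ EGood K P c) :
    Small M (rowEntry K θ c) := by
  classical
  refine Small.mem_mul ?_ (natCast_mem_place _)
  rw [Finset.sum_subtype (p := fun k => Quotient.mk (elemSetoid K) k = c) _ (by simp)]
  letI : MulAction (P : Subgroup G) {k : K // Quotient.mk (elemSetoid K) k = c} :=
    { smul := fun x k => ⟨MulAut.conjNormal (x : G) k.1,
        (Quotient.sound (s := elemSetoid K) ⟨(x : G), rfl⟩).symm.trans k.2⟩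
      one_smul := fun k => Subtype.ext (by
        show MulAut.conjNormal ((1 : (P : Subgroup G)) : G) k.1 = k.1
        rw [OneMemClass.coe_one, map_one]; rfl)
      mul_smul := fun x y k => Subtype.ext (by
        show MulAut.conjNormal ((x * y : (P : Subgroup G)) : G) k.1 = _
        rw [Subgroup.coe_mul, map_mul]; rfl) }
  refine small_sum_of_no_fixed hM P.2 _
    (fun k => isIntegral_mem_place hM (IsCharacter.isIntegral (isCharacter_of_irr θ.2) _)) (fun x k => ?_)
    (fun k => ?_)
  · show (θ : K → ℂ) (MulAut.conjNormal (x : G) k.1) = _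
    conv_rhs => rw [← hθ x x.2, cjIrr_val, conjN_eq_comp]
  · by_contra hno
    push Not at hno
    exact hc ⟨k.1, k.2, fun x hx => congrArg Subtype.val (hno ⟨x, hx⟩)⟩

theorem colEntry_small (hM : IsPModular p M) (k : K)
    (hk : ∀ x ∈ (P : Subgroup G), MulAut.conjNormal x k = k) (ω : COrb K) (hω : ¬ CGood K P ω) :
    Small M (colEntry K k ω) := by
  classical
  rw [colEntry, Finset.sum_subtype (p := fun θ => Quotient.mk (charSetoid K) θ = ω) _ (by simp)]
  letI : MulAction (P : Subgroup G) {θ : IrrCharacter K // Quotient.mk (charSetoid K) θ = ω} :=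
    { smul := fun x θ => ⟨cjIrr K (x : G)⁻¹ θ.1,
        (Quotient.sound (s := charSetoid K) ⟨(x : G)⁻¹, rfl⟩).symm.trans θ.2⟩
      one_smul := fun θ => Subtype.ext (by
        show cjIrr K ((1 : (P : Subgroup G)) : G)⁻¹ θ.1 = θ.1
        rw [OneMemClass.coe_one, inv_one, cjIrr_one])
      mul_smul := fun x y θ => Subtype.ext (by
        show cjIrr K ((x * y : (P : Subgroup G)) : G)⁻¹ θ.1 = _
        rw [Subgroup.coe_mul, mul_inv_rev, cjIrr_mul]; rfl) }
  refine small_sum_of_no_fixed hM P.2 _
    (fun θ => mul_mem (natCast_mem_place _) ?_) (fun x θ => ?_) (fun θ => ?_)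
  · rw [← IsCharacter.conj_inv (isCharacter_of_irr θ.1.2)]
    exact isIntegral_mem_place hM (IsCharacter.isIntegral (isCharacter_of_irr θ.1.2) _)
  · show (deg (cjIrr K (x : G)⁻¹ θ.1 : K → ℂ) : ℂ) * conj ((cjIrr K (x : G)⁻¹ θ.1 : K → ℂ) k) = _
    rw [deg_cjIrr, cjIrr_val, conjN_eq_comp]
    show _ * conj ((θ.1 : K → ℂ) (MulAut.conjNormal (x : G)⁻¹ k)) = _
    rw [hk _ (inv_mem x.2)]
  · by_contra hno
    push Not at hno
    refine hω ⟨θ.1, θ.2, fun x hx => ?_⟩
    have h := congrArg Subtype.val (hno ⟨x⁻¹, inv_mem hx⟩)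
    show cjIrr K x θ.1 = θ.1
    conv_lhs => rw [← inv_inv x]
    exact h

theorem card_fixed_all :
    Nat.card {ω : COrb K // cConj K ω = ω} = Nat.card {c : EOrb K // eInv K c = c} := by
  classical
  have hK : ((Nat.card K ^ 2 : ℕ) : ℂ) ≠ 0 := by exact_mod_cast pow_ne_zero 2 Nat.card_pos.ne'
  refine fixed_card_eq_of_inverse (cConj K) (eInv K)
    (Matrix.of fun ω c => rowEntry K ω.out c)
    (Matrix.of fun c ω => ((Nat.card K ^ 2 : ℕ) : ℂ)⁻¹ * colEntry K c.out ω) ?_ ?_ fun ω c => ?_
  · ext ω ω'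
    rw [Matrix.mul_apply, Matrix.one_apply]
    simp only [Matrix.of_apply, mul_left_comm (rowEntry K _ _)]
    rw [← Finset.mul_sum, row_col, Quotient.out_eq]
    split_ifs with h
    · exact inv_mul_cancel₀ hK
    · exact mul_zero _
  · ext c c'
    rw [Matrix.mul_apply, Matrix.one_apply]
    simp only [Matrix.of_apply, mul_assoc]
    rw [← Finset.mul_sum, col_row, Quotient.out_eq]
    split_ifs with h
    · exact inv_mul_cancel₀ hK
    · exact mul_zero _
  · simp only [Matrix.of_apply]
    rw [rowEntry_congr K (θ := conjIrr ω.out) (θ' := (cConj K ω).out) (by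
      rw [Quotient.out_eq, ← cConj_mk, Quotient.out_eq]), rowEntry_conj]

theorem card_fixed_good (hM : IsPModular p M) (hK : ¬ p ∣ Nat.card K) :
    Nat.card {ω : COrb K // CGood K P ω ∧ cConj K ω = ω} =
      Nat.card {c : EOrb K // EGood K P c ∧ eInv K c = c} := by
  classical
  let σ : Equiv.Perm {ω : COrb K // CGood K P ω} :=
    (cConj K).subtypeEquiv fun ω => (CGood.conj_iff K P ω).symm
  let τ : Equiv.Perm {c : EOrb K // EGood K P c} :=
    (eInv K).subtypeEquiv fun c => (EGood.inv_iff K P c).symm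
  have key := fixed_card_eq_of_residue (M := M) σ τ
    (Matrix.of fun ω c => ⟨rowEntry K ω.1.out c.1, rowEntry_mem K hM _ _⟩)
    (Matrix.of fun c ω => ⟨colEntry K c.1.out ω.1, colEntry_mem K hM _ _⟩)
    (c := ((Nat.card K ^ 2 : ℕ) : Res M)) ?_ ?_ ?_ ?_
  · have e : ∀ {α : Type u} (q r : α → Prop),
        Nat.card {a // q a ∧ r a} = Nat.card {a : {a // q a} // r a.1} := fun q r =>
      Nat.card_congr (Equiv.subtypeSubtypeEquivSubtypeInter q r).symm
    rw [e, e]
    refine Eq.trans ?_ (key.trans ?_)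
    · exact Nat.card_congr (Equiv.subtypeEquivRight fun ω => by rw [Subtype.ext_iff]; rfl)
    · exact Nat.card_congr (Equiv.subtypeEquivRight fun ω => by rw [Subtype.ext_iff]; rfl)
  · rw [ne_eq, res_natCast_eq_zero_iff hM]
    exact fun h => hK (hp.out.dvd_of_dvd_pow h)
  · ext ω ω'
    rw [Matrix.mul_apply, Matrix.smul_apply, Matrix.one_apply]
    simp only [Matrix.map_apply, Matrix.of_apply, ← res_coe]
    obtain ⟨θ, hθ, hθP⟩ := ω.2
    have e : ∀ c : EOrb K, rowEntry K ω.1.out c = rowEntry K θ c := fun c =>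
      rowEntry_congr K (hθ.trans (Quotient.out_eq ω.1).symm) c
    simp only [e]
    rw [Finset.sum_congr rfl fun c _ => (res_mul (rowEntry_mem K hM _ _) (colEntry_mem K hM _ _)).symm,
      ← res_sum _ _ fun c _ => mul_mem (rowEntry_mem K hM _ _) (colEntry_mem K hM _ _)]
    have h := row_col K θ ω'.1
    rw [← Finset.sum_filter_add_sum_filter_not Finset.univ (EGood K P)] at h
    rw [show ∑ c : {c : EOrb K // EGood K P c}, rowEntry K θ c.1 * colEntry K c.1.out ω'.1 =
      ∑ c ∈ Finset.univ.filter (EGood K P), rowEntry K θ c * colEntry K c.out ω'.1 from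
      (Finset.sum_subtype (p := EGood K P) (Finset.univ.filter (EGood K P))
        (fun x => Finset.mem_filter.trans (and_iff_right (Finset.mem_univ x)))
        (fun c => rowEntry K θ c * colEntry K c.out ω'.1)).symm, eq_sub_of_add_eq h]
    have hs : Small M (∑ c ∈ Finset.univ.filter (fun c => ¬ EGood K P c),
        rowEntry K θ c * colEntry K c.out ω'.1) :=
      small_sum _ _ fun c hc => (rowEntry_small K P hM θ hθP c (Finset.mem_filter.1 hc).2).mul_mem
        (colEntry_mem K hM _ _)
    rw [hθ]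
    split_ifs with h1 h2 h2
    · rw [res_sub (natCast_mem_place _) hs.mem_place, (res_eq_zero_iff hs.mem_place).2 hs, sub_zero,
        res_natCast, smul_eq_mul, mul_one]
    · exact absurd (Subtype.ext h1) h2
    · exact absurd (congrArg Subtype.val h2) h1
    · rw [res_sub (zero_mem _) hs.mem_place, (res_eq_zero_iff hs.mem_place).2 hs, res_zero, sub_zero,
        smul_zero]
  · ext c c'
    rw [Matrix.mul_apply, Matrix.smul_apply, Matrix.one_apply]
    simp only [Matrix.map_apply, Matrix.of_apply, ← res_coe]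
    obtain ⟨k, hk, hkP⟩ := c.2
    have e : ∀ ω : COrb K, colEntry K c.1.out ω = colEntry K k ω := fun ω =>
      colEntry_congr K (hk.trans (Quotient.out_eq c.1).symm) ω
    simp only [e]
    rw [Finset.sum_congr rfl fun ω _ => (res_mul (colEntry_mem K hM _ _) (rowEntry_mem K hM _ _)).symm,
      ← res_sum _ _ fun ω _ => mul_mem (colEntry_mem K hM _ _) (rowEntry_mem K hM _ _)]
    have h := col_row K k c'.1
    rw [← Finset.sum_filter_add_sum_filter_not Finset.univ (CGood K P)] at h
    rw [show ∑ ω : {ω : COrb K // CGood K P ω}, colEntry K k ω.1 * rowEntry K ω.1.out c'.1 =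
      ∑ ω ∈ Finset.univ.filter (CGood K P), colEntry K k ω * rowEntry K ω.out c'.1 from
      (Finset.sum_subtype (p := CGood K P) (Finset.univ.filter (CGood K P))
        (fun x => Finset.mem_filter.trans (and_iff_right (Finset.mem_univ x)))
        (fun ω => colEntry K k ω * rowEntry K ω.out c'.1)).symm, eq_sub_of_add_eq h]
    have hs : Small M (∑ ω ∈ Finset.univ.filter (fun ω => ¬ CGood K P ω),
        colEntry K k ω * rowEntry K ω.out c'.1) :=
      small_sum _ _ fun ω hω => (colEntry_small K P hM k hkP ω (Finset.mem_filter.1 hω).2).mul_mem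
        (rowEntry_mem K hM _ _)
    rw [hk]
    split_ifs with h1 h2 h2
    · rw [res_sub (natCast_mem_place _) hs.mem_place, (res_eq_zero_iff hs.mem_place).2 hs, sub_zero,
        res_natCast, smul_eq_mul, mul_one]
    · exact absurd (Subtype.ext h1) h2
    · exact absurd (congrArg Subtype.val h2) h1
    · rw [res_sub (zero_mem _) hs.mem_place, (res_eq_zero_iff hs.mem_place).2 hs, res_zero, sub_zero,
        smul_zero]
  · intro ω c
    refine Subtype.ext ?_
    show rowEntry K (cConj K ω.1).out (eInv K c.1) = rowEntry K ω.1.out c.1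
    rw [rowEntry_congr K (θ := conjIrr ω.1.out) (θ' := (cConj K ω.1).out) (by
      rw [Quotient.out_eq, ← cConj_mk, Quotient.out_eq]), rowEntry_conj]

/-- A real class in a normal `p'`-subgroup of odd index has a member centralised by `P`. -/
theorem exists_fixed_of_real (hodd : Odd K.index) (hK : ¬ p ∣ Nat.card K) (hreal : RealPrime p G)
    (k : K) (hk : IsConj (k : G) (k : G)⁻¹) :
    ∃ g : G, ∀ x ∈ (P : Subgroup G), x * (g * k * g⁻¹) * x⁻¹ = g * k * g⁻¹ := by
  classical
  obtain ⟨M, hM⟩ := exists_isPModular hp.out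
  have hgood : ∀ ω : COrb K, cConj K ω = ω → CGood K P ω := by
    intro ω hω
    induction ω using Quotient.inductionOn with
    | _ θ =>
    rw [cConj_mk] at hω
    obtain ⟨g, hg⟩ := Quotient.exact hω
    have hpow : ∀ i : ℕ, cjIrr K (g ^ (2 * i + 1)) (conjIrr θ) = θ := by
      intro i
      induction i with
      | zero => rw [Nat.mul_zero, zero_add, pow_one]; exact hg
      | succ i ih =>
        have hg2 : cjIrr K g θ = conjIrr θ := by
          have := congrArg conjIrr hg
          rwa [conjIrr_cjIrr, conjIrr_conjIrr] at this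
        rw [show 2 * (i + 1) + 1 = (2 * i + 1) + 1 + 1 by ring, pow_succ, pow_succ, cjIrr_mul,
          cjIrr_mul, ih, hg2, hg]
    have hθr : RealC (θ : K → ℂ) := by
      obtain ⟨i, hi⟩ := hodd
      have h := hpow i
      rw [← hi] at h
      have hfix : ∀ a : IrrCharacter K, cjIrr K (g ^ K.index) a = a := fun a => Subtype.ext (by
        rw [cjIrr_val]
        exact mem_inertia.1 (le_inertia (isClassFunction_irr a) (Subgroup.pow_index_mem K g)))
      rw [hfix] at h
      exact (conjIrr_eq_self_iff θ).1 h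
    obtain ⟨χ, hχr, hχ⟩ := exists_real_over_real K hodd θ hθr
    have hnd : ¬ p ∣ (conjOrbit K (θ : K → ℂ)).card := fun h =>
      hreal χ hχr (h.trans (card_conjOrbit_dvd K χ.2 θ.2 hχ))
    obtain ⟨g', hg'⟩ := exists_fixed_conj_prime K (θ : K → ℂ) hnd P
    refine ⟨cjIrr K g' θ, (Quotient.sound (s := charSetoid K) ⟨g', rfl⟩).symm, fun x hx => ?_⟩
    refine Subtype.ext ?_
    rw [cjIrr_val, cjIrr_val]
    exact mem_inertia.1 (hg' hx)
  have hcard : Nat.card {c : EOrb K // EGood K P c ∧ eInv K c = c} =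
      Nat.card {c : EOrb K // eInv K c = c} := by
    rw [← card_fixed_good K P hM hK, ← card_fixed_all K]
    exact Nat.card_congr (Equiv.subtypeEquivRight fun ω => ⟨fun h => h.2, fun h => ⟨hgood ω h, h⟩⟩)
  have hsur : ∀ c : EOrb K, eInv K c = c → EGood K P c := by
    intro c hc
    by_contra hno
    have hlt : Nat.card {c : EOrb K // EGood K P c ∧ eInv K c = c} <
        Nat.card {c : EOrb K // eInv K c = c} := by
      rw [Nat.card_eq_fintype_card, Nat.card_eq_fintype_card, Fintype.card_subtype,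
        Fintype.card_subtype]
      refine Finset.card_lt_card (Finset.ssubset_iff_of_subset
        (Finset.monotone_filter_right _ fun _ _ h => h.2) |>.2 ⟨c, ?_, ?_⟩)
      · simp [hc]
      · simp [hno]
    omega
  obtain ⟨a, ha⟩ := isConj_iff.1 hk
  have hc : eInv K (Quotient.mk _ k) = Quotient.mk _ k := by
    rw [eInv_mk]
    exact (Quotient.sound (s := elemSetoid K) ⟨a, Subtype.ext (by
      rw [MulAut.conjNormal_apply, ha]; rfl)⟩).symm
  obtain ⟨k', hk', hfix⟩ := hsur _ hc
  obtain ⟨g, hg⟩ := Quotient.exact hk'.symm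
  refine ⟨g, fun x hx => ?_⟩
  have h := congrArg Subtype.val (hfix x hx)
  rw [← hg] at h
  simpa only [MulAut.conjNormal_apply] using h

end Setting

/-- Every real class meets the normaliser of a Sylow subgroup. -/
theorem real_meets_normalizer {G : Type u} [Group G] [Fintype G] {p : ℕ} [hp : Fact p.Prime]
    (hsolv : Group.IsSolvable ↥(pGen p G)) (hreal : RealPrime p G) (P : Sylow p G) (x : G)
    (hx : IsConj x x⁻¹) :
    ∃ y ∈ Subgroup.normalizer ((P : Subgroup G) : Set G), IsConj x y := by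
  classical
  haveI := Fact.mk Nat.prime_two
  set K := pGen 2 G with hK
  have hxK : x ∈ K := by
    rw [← QuotientGroup.eq_one_iff]
    refine eq_one_of_isConj_inv (by rw [← Subgroup.index_eq_card]; exact odd_index_pGen_two) ?_
    have := (QuotientGroup.mk' K).map_isConj hx
    rwa [map_inv] at this
  obtain ⟨Q⟩ : Nonempty (Sylow p K) := inferInstance
  haveI hQn : (Q : Subgroup K).Normal :=
    normal_sylow_above hsolv hreal K le_rfl (a := 0) (by rw [Subgroup.relIndex_self, pow_zero]) Q
  haveI : (Q : Subgroup K).Characteristic := Q.characteristic_of_normal hQn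
  set P₀ := (Q : Subgroup K).map K.subtype with hP₀
  haveI : P₀.Normal := inferInstance
  have hP₀P : P₀ ≤ (P : Subgroup G) :=
    le_sup_right.trans (P.3 (P.2.to_sup_of_normal_right (Q.2.map _)) le_sup_left).le
  letI : Fintype (G ⧸ P₀) := Fintype.ofFinite _
  set π := QuotientGroup.mk' P₀ with hπ
  have hπs : Function.Surjective π := QuotientGroup.mk'_surjective P₀
  haveI : (K.map π).Normal := Subgroup.Normal.map inferInstance π hπs
  letI : Fintype (K.map π) := Fintype.ofFinite _
  have hodd : Odd (K.map π).index :=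
    Odd.of_dvd_nat odd_index_pGen_two (Subgroup.index_map_dvd _ hπs)
  have hcard : ¬ p ∣ Nat.card (K.map π) := by
    have e : Nat.card (K.map π) = (Q : Subgroup K).index := by
      rw [← Subgroup.relIndex_ker, hπ, QuotientGroup.ker_mk', Subgroup.relIndex, hP₀,
        Subgroup.subgroupOf, Subgroup.comap_map_eq_self_of_injective K.subtype_injective]
    rw [e]
    exact Q.not_dvd_index
  obtain ⟨g, hg⟩ := exists_fixed_of_real (K.map π) (P.mapSurjective hπs) hodd hcard
    (hreal.quotient P₀) ⟨π x, Subgroup.mem_map_of_mem π hxK⟩ (by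
      have := π.map_isConj hx
      rwa [map_inv] at this)
  obtain ⟨g, rfl⟩ := hπs g
  have hy : ∀ a ∈ (P : Subgroup G), (g * x * g⁻¹) * a * (g * x * g⁻¹)⁻¹ ∈ (P : Subgroup G) := by
    intro a ha
    have h := hg (π a⁻¹) (by
      rw [Sylow.coe_mapSurjective]
      exact Subgroup.mem_map_of_mem π (inv_mem ha))
    simp only [← map_inv, ← map_mul] at h
    rw [← mul_inv_eq_one, ← map_inv, ← map_mul] at h
    have h2 := hP₀P ((QuotientGroup.eq_one_iff _).1 h)
    have h3 := mul_mem ha h2
    rw [show a * (a⁻¹ * (g * x * g⁻¹) * a⁻¹⁻¹ * (g * x * g⁻¹)⁻¹) =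
      (g * x * g⁻¹) * a * (g * x * g⁻¹)⁻¹ by group] at h3
    exact h3
  refine ⟨g * x * g⁻¹, ?_, isConj_iff.2 ⟨g, rfl⟩⟩
  set y := g * x * g⁻¹
  refine Subgroup.mem_normalizer_iff.2 fun a => ⟨hy a, fun ha => ?_⟩
  have he : (P : Subgroup G).map (MulAut.conj y).toMonoidHom = (P : Subgroup G) :=
    Subgroup.eq_of_le_of_card_ge (Subgroup.map_le_iff_le_comap.2 hy)
      (Subgroup.card_map_of_injective (MulAut.conj y).injective).ge
  rw [← he] at ha
  obtain ⟨z, hz, hzy⟩ := ha
  rwa [(MulAut.conj y).injective hzy] at hz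

end Cfsg.Lib.Chars.RealOdd
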