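import Mathlib
import Cfsg.Agent.Chars.RealPrimeClasses
import Cfsg.Agent.Chars.GaloisOdd
import Cfsg.Agent.Blocks.RelativeGlauberman

/-!
# Real characters of degree prime to `p` and the Sylow normaliser

Over an invariant real character of a normal subgroup of odd index lies exactly one real character,
and it extends from the inertia group; the relative correspondence of invariant characters then
matches the real characters with those of the normaliser.
-/

set_option autoImplicit false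
set_option linter.unusedSectionVars false
set_option linter.style.haveILetI false

namespace Cfsg.Lib.Chars.RealOdd

open Cfsg Cfsg.Lib.Chars Cfsg.Lib.Blocks Cfsg.Lib.Glauberman Cfsg.Lib.RelGlauberman
open scoped ComplexConjugate

universe u v

theorem modEq_of_eq {n a b : ℕ} (h : a = b) : a ≡ b [MOD n] := congrArg (· % n) h

section Odd

variable {G : Type u} [Group G] [Fintype G]

theorem pow_card_sub_one (g : G) : g ^ (Nat.card G - 1) = g⁻¹ :=
  eq_inv_of_mul_eq_one_left (by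
    rw [← pow_succ, Nat.sub_add_cancel Nat.card_pos, pow_card_eq_one'])

theorem invOdd_card : GaloisOdd.InvOdd G (Nat.card G - 1) := by
  refine ⟨?_, fun g _ => pow_card_sub_one g⟩
  have h : 1 ≤ Nat.card G := Nat.card_pos
  rcases Nat.eq_or_lt_of_le h with h1 | h1
  · rw [← h1]; exact Nat.coprime_one_right _
  · exact (Nat.coprime_self_sub_left h).2 (Nat.coprime_one_left _)

theorem realC_iff_pow {χ : G → ℂ} (hχ : IsCharacter G χ) :
    RealC χ ↔ ∀ g : G, χ (g ^ (Nat.card G - 1)) = χ g := by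
  rw [realC_iff]
  refine forall_congr' fun g => ?_
  rw [pow_card_sub_one, IsCharacter.conj_inv hχ]

variable (K : Subgroup G) [K.Normal] [Fintype K]

theorem fixed_of_real {θ : K → ℂ} (hθc : IsCharacter K θ) (hθ : RealC θ) (n : K) :
    θ (n ^ (Nat.card G - 1)) = θ n := by
  have e : n ^ (Nat.card G - 1) = n⁻¹ := Subtype.ext (by
    rw [Subgroup.coe_pow, pow_card_sub_one, Subgroup.coe_inv])
  rw [e, IsCharacter.conj_inv hθc, realC_iff.1 hθ n]

/-- At most one real character lies over a real character of a normal subgroup of odd index. -/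
theorem real_unique (hodd : Odd K.index) (θ : IrrCharacter K) (hθ : RealC (θ : K → ℂ))
    (χ χ' : IrrCharacter G) (hr : RealC (χ : G → ℂ)) (hr' : RealC (χ' : G → ℂ))
    (hc : classInner (fun n : K => (χ : G → ℂ) n) (θ : K → ℂ) ≠ 0)
    (hc' : classInner (fun n : K => (χ' : G → ℂ) n) (θ : K → ℂ) ≠ 0) : χ = χ' :=
  (GaloisOdd.existsUnique_fixed invOdd_card hodd θ.2
    (fixed_of_real K (isCharacter_of_irr θ.2) hθ)).unique
    ⟨hc, (realC_iff_pow (isCharacter_of_irr χ.2)).1 hr⟩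
    ⟨hc', (realC_iff_pow (isCharacter_of_irr χ'.2)).1 hr'⟩

/-- Constituents of a real character on a normal subgroup of odd index are real. -/
theorem real_of_constituent (hodd : Odd K.index) (χ : IrrCharacter G) (hr : RealC (χ : G → ℂ))
    (θ : IrrCharacter K) (hc : classInner (fun n : K => (χ : G → ℂ) n) (θ : K → ℂ) ≠ 0) :
    RealC (θ : K → ℂ) := by
  have hc' : classInner (fun n : K => (χ : G → ℂ) n) (conjIrr θ : K → ℂ) ≠ 0 := by
    have e : classInner (fun n : K => (χ : G → ℂ) n) (conjIrr θ : K → ℂ) =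
        conj (classInner (fun n : K => (χ : G → ℂ) n) (θ : K → ℂ)) := by
      simp only [classInner_def, map_mul, map_inv₀, Complex.conj_natCast, map_sum]
      congr 1
      refine Finset.sum_congr rfl fun n _ => ?_
      rw [realC_iff.1 hr]
      rfl
    rw [e, map_ne_zero]
    exact hc
  obtain ⟨g, hg⟩ := exists_conjN_of_constituents K χ.2 θ.2 (conjIrr θ).2 hc hc'
  have hg2 : cjIrr K g θ = conjIrr θ := Subtype.ext (by rw [cjIrr_val]; exact hg.symm)
  have hg1 : cjIrr K g (conjIrr θ) = θ := by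
    rw [← conjIrr_cjIrr, hg2, conjIrr_conjIrr]
  have hpow : ∀ i : ℕ, cjIrr K (g ^ (2 * i + 1)) (conjIrr θ) = θ := by
    intro i
    induction i with
    | zero => rw [Nat.mul_zero, zero_add, pow_one]; exact hg1
    | succ i ih =>
      rw [show 2 * (i + 1) + 1 = (2 * i + 1) + 1 + 1 by ring, pow_succ, pow_succ, cjIrr_mul,
        cjIrr_mul, ih, hg2, hg1]
  obtain ⟨i, hi⟩ := hodd
  have h := hpow i
  rw [← hi] at h
  have hfix : cjIrr K (g ^ K.index) (conjIrr θ) = conjIrr θ := Subtype.ext (by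
    rw [cjIrr_val]
    exact mem_inertia.1 (le_inertia (isClassFunction_irr (conjIrr θ)) (Subgroup.pow_index_mem K g)))
  rw [hfix] at h
  exact (conjIrr_eq_self_iff θ).1 h

/-- The degree of the real character over a real character. -/
theorem deg_real_over (hodd : Odd K.index) (θ : IrrCharacter K) (hθ : RealC (θ : K → ℂ))
    (χ : IrrCharacter G) (hr : RealC (χ : G → ℂ))
    (hc : classInner (fun n : K => (χ : G → ℂ) n) (θ : K → ℂ) ≠ 0) :
    deg (χ : G → ℂ) = (conjOrbit K (θ : K → ℂ)).card * deg (θ : K → ℂ) := by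
  classical
  set T := inertia K (θ : K → ℂ) with hT
  have hKT : K ≤ T := le_inertia (isClassFunction_irr θ)
  letI : Fintype T := Fintype.ofFinite T
  haveI : (K.subgroupOf T).Normal := Subgroup.normal_subgroupOf
  letI : Fintype (K.subgroupOf T) := Fintype.ofFinite _
  let e := Subgroup.subgroupOfEquivOfLe hKT
  have hoddT : Odd (K.subgroupOf T).index :=
    Odd.of_dvd_nat hodd (Dvd.intro _ (Subgroup.relIndex_mul_index hKT))
  have hθe : IsIrrCharacter (K.subgroupOf T) (fun n => (θ : K → ℂ) (e n)) :=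
    IsIrrCharacter.comp_mulEquiv θ.2 e
  obtain ⟨ξ, hξ, hξK, hξr⟩ := GaloisOdd.exists_ext (G := T) (N := K.subgroupOf T) invOdd_card hoddT
    hθe (fixed_of_real (K.subgroupOf T) (isCharacter_of_irr hθe) fun n => hθ (e n))
    (fun x => funext fun n => congrFun (mem_inertia.1 x.2) (e n))
  have hξreal : RealC ξ := (realC_iff_pow (isCharacter_of_irr hξ)).2 hξr
  have hf1 : indFun T ξ 1 ≠ 0 := by
    rw [indFun_one]
    exact mul_ne_zero (Nat.cast_ne_zero.2 Subgroup.index_ne_zero_of_finite)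
      (IsIrrCharacter.apply_one_ne_zero hξ)
  obtain ⟨χ₀, hχ₀⟩ : ∃ χ₀ : IrrCharacter G, classInner (indFun T ξ) (χ₀ : G → ℂ) ≠ 0 := by
    by_contra hno
    push Not at hno
    exact hf1 (congrFun (eq_zero_of_classInner_eq_zero (isClassFunction_indFun (G := G) T ξ) hno) 1)
  have h1 : classInner (fun t : T => (χ₀ : G → ℂ) t) ξ ≠ 0 := by
    rw [frobenius_reciprocity _ _ (isClassFunction_irr χ₀)] at hχ₀
    rw [← classInner_conj_symm, map_ne_zero]
    exact hχ₀
  have hres : (fun n : K => ξ ⟨n, hKT n.2⟩) = (θ : K → ℂ) := funext fun n => by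
    have := hξK ⟨⟨n, hKT n.2⟩, n.2⟩
    exact this.trans (congrArg (θ : K → ℂ) (Subtype.ext rfl))
  have h2 : classInner (fun n : K => ξ ⟨n, hKT n.2⟩) (θ : K → ℂ) ≠ 0 := by
    rw [hres, classInner_self_irr θ.2]; exact one_ne_zero
  obtain ⟨hind, hm, -⟩ := clifford_correspondence θ.2 T rfl hKT χ₀.2 hξ h1 h2
  have hχ : χ₀ = χ := real_unique K hodd θ hθ χ₀ χ
    (by rw [← hind]; exact realC_indFun T hξreal) hr (by rw [← hm]; exact h2) hc
  have hidx : T.index = (conjOrbit K (θ : K → ℂ)).card := by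
    have h4 := card_conjOrbit K (θ : K → ℂ)
    rw [← hT, ← T.card_mul_index, mul_comm] at h4
    exact (Nat.eq_of_mul_eq_mul_left Nat.card_pos h4).symm
  apply Nat.cast_injective (R := ℂ)
  rw [← hχ, ← irr_apply_one_eq_deg, ← hind, indFun_one, hidx, Nat.cast_mul, ← irr_apply_one_eq_deg,
    ← congrFun hres 1]
  rfl

variable {p : ℕ} [Fact p.Prime] (P : Sylow p G)

/-- Constituents fixed by a Sylow subgroup are conjugate under the normaliser. -/
theorem fusion_prime (χ : IrrCharacter G) (θ θ' : IrrCharacter K)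
    (h : (P : Subgroup G) ≤ inertia K (θ : K → ℂ)) (h' : (P : Subgroup G) ≤ inertia K (θ' : K → ℂ))
    (hc : classInner (fun v : K => (χ : G → ℂ) v) (θ : K → ℂ) ≠ 0)
    (hc' : classInner (fun v : K => (χ : G → ℂ) v) (θ' : K → ℂ) ≠ 0) :
    ∃ n ∈ Subgroup.normalizer ((P : Subgroup G) : Set G), cjIrr K n θ = θ' := by
  classical
  obtain ⟨g, hg⟩ := exists_conjN_of_constituents K χ.2 θ.2 θ'.2 hc hc'
  set T := inertia K (θ : K → ℂ) with hT
  have hgP : ((g • P : Sylow p G) : Subgroup G) ≤ T := by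
    rintro _ ⟨x, hx, rfl⟩
    have hx' : conjN K x (θ' : K → ℂ) = θ' := mem_inertia.1 (h' hx)
    rw [hT, mem_inertia]
    simp only [MulDistribMulAction.toMonoidEnd_apply, MulDistribMulAction.toMonoidHom_apply,
      MulAut.smul_def, MulAut.conj_apply]
    rw [hg, ← conjN_mul] at hx'
    rw [conjN_mul, hx', ← conjN_mul, mul_inv_cancel, conjN_one]
  obtain ⟨t, ht⟩ := MulAction.exists_smul_eq T ((g • P).subtype hgP) (P.subtype h)
  rw [Sylow.smul_subtype hgP t] at ht
  have hn := Sylow.smul_eq_iff_mem_normalizer.1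
    (show ((t : G) * g) • P = P by rw [mul_smul]; exact Sylow.subtype_injective ht)
  refine ⟨_, hn, Subtype.ext ?_⟩
  rw [cjIrr_val, conjN_mul, show conjN K (t : G) (θ : K → ℂ) = θ from mem_inertia.1 t.2, ← hg]

/-- The fixed members of an orbit count the orbit modulo `p`. -/
theorem card_fixed_orbit (θ : IrrCharacter K) :
    Nat.card {ψ : IrrCharacter K // Quotient.mk (charSetoid K) ψ = Quotient.mk _ θ ∧
        (P : Subgroup G) ≤ inertia K (ψ : K → ℂ)} ≡
      (conjOrbit K (θ : K → ℂ)).card [MOD p] := by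
  classical
  set α := {ψ : IrrCharacter K // Quotient.mk (charSetoid K) ψ = Quotient.mk _ θ}
  have hcard : (conjOrbit K (θ : K → ℂ)).card = Nat.card α := by
    rw [Nat.card_eq_fintype_card, ← Finset.card_univ,
      ← Finset.card_image_of_injective (s := (Finset.univ : Finset α))
        (f := fun ψ : α => (ψ.1 : K → ℂ)) fun a b h => Subtype.ext (Subtype.ext h)]
    congr 1
    ext φ
    rw [Finset.mem_image, mem_conjOrbit]
    constructor
    · rintro ⟨g, rfl⟩
      exact ⟨⟨cjIrr K g θ, (Quotient.sound (s := charSetoid K) ⟨g, rfl⟩).symm⟩, Finset.mem_univ _,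
        cjIrr_val K g θ⟩
    · rintro ⟨⟨ψ, hψ⟩, -, rfl⟩
      obtain ⟨g, hg⟩ := Quotient.exact hψ.symm
      exact ⟨g, by rw [← cjIrr_val, hg]⟩
  letI : MulAction (P : Subgroup G) α :=
    { smul := fun x ψ => ⟨cjIrr K (x : G)⁻¹ ψ.1,
        (Quotient.sound (s := charSetoid K) ⟨(x : G)⁻¹, rfl⟩).symm.trans ψ.2⟩
      one_smul := fun ψ => Subtype.ext (by
        show cjIrr K ((1 : (P : Subgroup G)) : G)⁻¹ ψ.1 = ψ.1
        rw [OneMemClass.coe_one, inv_one, cjIrr_one])
      mul_smul := fun x y ψ => Subtype.ext (by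
        show cjIrr K ((x * y : (P : Subgroup G)) : G)⁻¹ ψ.1 = _
        rw [Subgroup.coe_mul, mul_inv_rev, cjIrr_mul]; rfl) }
  rw [hcard]
  refine ((P.2.card_modEq_card_fixedPoints α).trans ?_).symm
  rw [← Nat.card_congr (Equiv.subtypeSubtypeEquivSubtypeInter
    (fun ψ : IrrCharacter K => Quotient.mk (charSetoid K) ψ = Quotient.mk _ θ)
    (fun ψ => (P : Subgroup G) ≤ inertia K (ψ : K → ℂ)))]
  refine modEq_of_eq (Nat.card_congr (Equiv.subtypeEquivRight fun ψ => ?_))
  simp only [MulAction.mem_fixedPoints]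
  constructor
  · intro h x hx
    have h1 := congrArg Subtype.val (h ⟨x⁻¹, inv_mem hx⟩)
    change cjIrr K (x⁻¹)⁻¹ ψ.1 = ψ.1 at h1
    rw [inv_inv] at h1
    rw [mem_inertia, ← cjIrr_val, h1]
  · intro h x
    refine Subtype.ext (Subtype.ext ?_)
    show ((cjIrr K (x : G)⁻¹ ψ.1 : IrrCharacter K) : K → ℂ) = _
    rw [cjIrr_val]
    exact mem_inertia.1 (h (inv_mem x.2))

end Odd

/-- **Real characters and the Sylow normaliser.** -/
theorem exists_real_bijection {G : Type u} [Group G] [Fintype G] {p : ℕ} [hp : Fact p.Prime]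
    (hsolv : Group.IsSolvable ↥(pGen p G)) (hreal : RealPrime p G) (P : Sylow p G)
    [Fintype ↥(Subgroup.normalizer ((P : Subgroup G) : Set G))] :
    ∃ F : {χ : IrrCharacter G // RealC (χ : G → ℂ)} →
        {η : IrrCharacter ↥(Subgroup.normalizer ((P : Subgroup G) : Set G)) //
          RealC (η : ↥(Subgroup.normalizer ((P : Subgroup G) : Set G)) → ℂ) ∧
          ¬ p ∣ deg (η : ↥(Subgroup.normalizer ((P : Subgroup G) : Set G)) → ℂ)},
      Function.Bijective F ∧ ∀ χ,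
        ((deg ((F χ).1 : ↥(Subgroup.normalizer ((P : Subgroup G) : Set G)) → ℂ) : ZMod p) =
            deg (χ.1 : G → ℂ) ∨
          (deg ((F χ).1 : ↥(Subgroup.normalizer ((P : Subgroup G) : Set G)) → ℂ) : ZMod p) =
            -(deg (χ.1 : G → ℂ) : ZMod p)) := by
  classical
  haveI := Fact.mk Nat.prime_two
  set K := pGen 2 G with hK
  letI : Fintype K := Fintype.ofFinite K
  have hodd : Odd K.index := odd_index_pGen_two
  obtain ⟨Q⟩ : Nonempty (Sylow p K) := inferInstance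
  haveI hQn : (Q : Subgroup K).Normal :=
    normal_sylow_above hsolv hreal K le_rfl (a := 0) (by rw [Subgroup.relIndex_self, pow_zero]) Q
  haveI : (Q : Subgroup K).Characteristic := Q.characteristic_of_normal hQn
  haveI : ((Q : Subgroup K).map K.subtype).Normal := inferInstance
  have hQP : (Q : Subgroup K).map K.subtype ≤ (P : Subgroup G) :=
    le_sup_right.trans (P.3 (P.2.to_sup_of_normal_right (Q.2.map _)) le_sup_left).le
  have hPK : ∀ k : K, (k : G) ∈ (P : Subgroup G) → k ∈ (Q : Subgroup K) := by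
    intro k hk
    have h1 : (Q : Subgroup K) ≤ (P : Subgroup G).subgroupOf K := fun x hx =>
      hQP (Subgroup.mem_map_of_mem _ hx)
    have h2 : (P : Subgroup G).subgroupOf K = (Q : Subgroup K) :=
      Q.3 (P.2.comap_subtype) h1
    rw [← h2]
    exact hk
  set N := Subgroup.normalizer ((P : Subgroup G) : Set G) with hN
  set C := K.subgroupOf N with hC
  letI : Fintype C := Fintype.ofFinite C
  haveI : C.Normal := Subgroup.normal_subgroupOf
  let ι : C →* K :=
    { toFun := fun c => ⟨((c : N) : G), Subgroup.mem_subgroupOf.1 c.2⟩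
      map_one' := rfl
      map_mul' := fun _ _ => rfl }
  let φ : (P : Subgroup G) →* MulAut K := (MulAut.conjNormal).comp (P : Subgroup G).subtype
  have hS : Setup p φ (Q : Subgroup K) ι := by
    refine ⟨P.2, Q.2, Q.not_dvd_index, fun a q hq => ?_,
      fun x y hxy => Subtype.ext (Subtype.ext (congrArg Subtype.val hxy :)), fun k => ⟨fun hk => ?_, ?_⟩⟩
    · refine hPK _ ?_
      show ((MulAut.conjNormal (a : G) q : K) : G) ∈ (P : Subgroup G)
      rw [MulAut.conjNormal_apply]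
      exact mul_mem (mul_mem a.2 (hQP (Subgroup.mem_map_of_mem _ hq))) (inv_mem a.2)
    · have hy : ∀ a ∈ (P : Subgroup G), (k : G) * a * (k : G)⁻¹ ∈ (P : Subgroup G) := by
        intro a ha
        have h := hQP (Subgroup.mem_map_of_mem K.subtype (hk ⟨a⁻¹, inv_mem ha⟩))
        change ((MulAut.conjNormal a⁻¹ k : K) : G) * (k : G)⁻¹ ∈ (P : Subgroup G) at h
        rw [MulAut.conjNormal_apply] at h
        have h3 := mul_mem ha h
        rwa [show a * (a⁻¹ * (k : G) * a⁻¹⁻¹ * (k : G)⁻¹) = (k : G) * a * (k : G)⁻¹ by group] at h3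
      have hkN : (k : G) ∈ N := by
        refine Subgroup.mem_normalizer_iff.2 fun a => ⟨hy a, fun ha => ?_⟩
        have he : (P : Subgroup G).map (MulAut.conj (k : G)).toMonoidHom = (P : Subgroup G) :=
          Subgroup.eq_of_le_of_card_ge (Subgroup.map_le_iff_le_comap.2 hy)
            (Subgroup.card_map_of_injective (MulAut.conj (k : G)).injective).ge
        rw [← he] at ha
        obtain ⟨z, hz, hzy⟩ := ha
        rwa [(MulAut.conj (k : G)).injective hzy] at hz
      exact ⟨⟨⟨k, hkN⟩, Subgroup.mem_subgroupOf.2 k.2⟩, rfl⟩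
    · rintro ⟨c, rfl⟩ a
      refine hPK _ ?_
      show ((MulAut.conjNormal (a : G) (ι c) : K) : G) * ((c : N) : G)⁻¹ ∈ (P : Subgroup G)
      rw [MulAut.conjNormal_apply]
      show (a : G) * ((c : N) : G) * (a : G)⁻¹ * ((c : N) : G)⁻¹ ∈ (P : Subgroup G)
      rw [show (a : G) * ((c : N) : G) * (a : G)⁻¹ * ((c : N) : G)⁻¹ =
        (a : G) * (((c : N) : G) * (a : G)⁻¹ * ((c : N) : G)⁻¹) by group]
      exact mul_mem a.2 ((Subgroup.mem_normalizer_iff.1 (c : N).2 _).1 (inv_mem a.2))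
  obtain ⟨f, hfb, hf⟩ := exists_corr hS
  have hinv : ∀ θ : IrrCharacter K,
      Inv φ (θ : K → ℂ) ↔ (P : Subgroup G) ≤ inertia K (θ : K → ℂ) := fun θ => by
    constructor
    · intro h x hx
      rw [mem_inertia, conjN_eq_comp]
      exact funext fun k => h ⟨x, hx⟩ k
    · intro h a k
      have h1 := congrFun (mem_inertia.1 (h a.2)) k
      rwa [conjN_eq_comp] at h1
  have hPN : (P : Subgroup G) ≤ N := Subgroup.le_normalizer
  have hinvC : ∀ ξ : IrrCharacter C, InvC φ ι (ξ : C → ℂ) ↔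
      ((P : Subgroup G).subgroupOf N) ≤ inertia C (ξ : C → ℂ) := fun ξ => by
    constructor
    · intro h x hx
      rw [mem_inertia, conjN_eq_comp]
      refine funext fun c => h ⟨(x : G), hx⟩ c _ (Subtype.ext ?_)
      show (((MulAut.conjNormal x c : C) : N) : G) = ((MulAut.conjNormal (x : G) (ι c) : K) : G)
      rw [MulAut.conjNormal_apply, MulAut.conjNormal_apply]
      rfl
    · intro h a c c' hc
      have h1 := congrFun (mem_inertia.1 (h (show (⟨(a : G), hPN a.2⟩ : N) ∈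
        (P : Subgroup G).subgroupOf N from a.2))) c
      rw [conjN_eq_comp] at h1
      rw [← h1]
      refine congrArg (ξ : C → ℂ) (Subtype.ext (Subtype.ext ?_))
      have h2 := congrArg Subtype.val hc
      change (((c' : C) : N) : G) = ((MulAut.conjNormal (a : G) (ι c) : K) : G) at h2
      rw [h2, MulAut.conjNormal_apply]
      show (a : G) * (((c : C) : N) : G) * (a : G)⁻¹ = _
      rw [MulAut.conjNormal_apply]
      rfl
  have hchar : ∀ (χ : {χ : IrrCharacter K // Inv φ (χ : K → ℂ)})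
      (ξ : {ξ : IrrCharacter C // InvC φ ι (ξ : C → ℂ)}) (m : ℕ),
      classInner (fun c => (χ.1 : K → ℂ) (ι c)) (ξ.1 : C → ℂ) = (m : ℂ) → ¬ p ∣ m → ξ = f χ := by
    intro χ ξ m hm hpm
    obtain ⟨m', hm', -, hne⟩ := (hf χ).1 ξ
    by_contra h
    exact hpm (Nat.cast_injective (R := ℂ) (hm'.symm.trans hm) ▸ hne h)
  have hone : ∀ χ : {χ : IrrCharacter K // Inv φ (χ : K → ℂ)}, ∃ m : ℕ,
      classInner (fun c => (χ.1 : K → ℂ) (ι c)) ((f χ).1 : C → ℂ) = (m : ℂ) ∧ ¬ p ∣ m := by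
    intro χ
    obtain ⟨m, hm, h1, -⟩ := (hf χ).1 (f χ)
    refine ⟨m, hm, fun hd => ?_⟩
    rcases h1 rfl with h2 | h2 <;> rw [(ZMod.natCast_eq_zero_iff _ _).2 hd] at h2
    · exact zero_ne_one h2
    · exact one_ne_zero (neg_eq_zero.1 h2.symm)
  -- equivariance
  have hconjf : ∀ χ χ' : {χ : IrrCharacter K // Inv φ (χ : K → ℂ)}, χ'.1 = conjIrr χ.1 →
      (f χ').1 = conjIrr (f χ).1 := by
    intro χ χ' he
    have hi : InvC φ ι (conjIrr (f χ).1 : C → ℂ) := fun a c c' hc =>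
      congrArg conj ((f χ).2 a c c' hc)
    obtain ⟨m, hm, hpm⟩ := hone χ
    refine congrArg Subtype.val (hchar χ' ⟨_, hi⟩ m ?_ hpm).symm
    rw [he, ← Complex.conj_natCast m, ← hm]
    simp only [classInner_def, map_mul, map_inv₀, Complex.conj_natCast, map_sum]
    rfl
  have hcjf : ∀ (χ χ' : {χ : IrrCharacter K // Inv φ (χ : K → ℂ)}) (n : N),
      χ'.1 = cjIrr K (n : G) χ.1 → (f χ').1 = cjIrr C n (f χ).1 := by
    intro χ χ' n he
    have hi : InvC φ ι (cjIrr C n (f χ).1 : C → ℂ) := by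
      refine (hinvC _).2 fun x hx => ?_
      rw [mem_inertia, cjIrr_val, ← conjN_mul]
      have hx' : n * x * n⁻¹ ∈ (P : Subgroup G).subgroupOf N :=
        (Subgroup.mem_normalizer_iff.1 n.2 (x : G)).1 hx
      have h1 := mem_inertia.1 ((hinvC _).1 (f χ).2 hx')
      conv_rhs => rw [← h1]
      rw [← conjN_mul]
      congr 1
      group
    obtain ⟨m, hm, hpm⟩ := hone χ
    refine congrArg Subtype.val (hchar χ' ⟨_, hi⟩ m ?_ hpm).symm
    rw [← hm, he, classInner_def, classInner_def]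
    congr 1
    refine Fintype.sum_equiv (MulAut.conjNormal n).toEquiv _ _ fun c => ?_
    show (cjIrr K (n : G) χ.1 : K → ℂ) (ι c) * conj ((cjIrr C n (f χ).1 : C → ℂ) c) = _
    rw [cjIrr_val, cjIrr_val, conjN_eq_comp, conjN_eq_comp]
    have e : MulAut.conjNormal (n : G) (ι c) = ι (MulAut.conjNormal n c) := Subtype.ext (by
      rw [MulAut.conjNormal_apply]
      show _ = (((MulAut.conjNormal n c : C) : N) : G)
      rw [MulAut.conjNormal_apply]
      rfl)
    simp only [e]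
    rfl
  have hCodd : Odd C.index := Odd.of_dvd_nat hodd (Subgroup.relIndex_dvd_index_of_normal K N)
  -- the map
  have hstep : ∀ χ : {χ : IrrCharacter G // RealC (χ : G → ℂ)},
      ∃ θ : {θ : IrrCharacter K // Inv φ (θ : K → ℂ)},
        classInner (fun n : K => (χ.1 : G → ℂ) n) (θ.1 : K → ℂ) ≠ 0 ∧ RealC (θ.1 : K → ℂ) := by
    intro χ
    obtain ⟨θ, hθ, hc⟩ := exists_constituent K (isCharacter_of_irr χ.1.2)
      (IsIrrCharacter.apply_one_ne_zero χ.1.2)
    obtain ⟨g, hg⟩ := exists_fixed_conj_prime K θ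
      (fun h => hreal χ.1 χ.2 (h.trans (card_conjOrbit_dvd K χ.1.2 hθ hc))) P
    have hc' : classInner (fun n : K => (χ.1 : G → ℂ) n) (conjN K g θ) ≠ 0 := by
      rw [classInner_restrict_conjN K (isClassFunction_irr χ.1)]; exact hc
    exact ⟨⟨⟨_, IsIrrCharacter.conjN hθ g⟩, (hinv _).2 hg⟩, hc',
      real_of_constituent K hodd χ.1 χ.2 _ hc'⟩
  choose θ hθc hθr using hstep
  have hξr : ∀ χ, RealC ((f (θ χ)).1 : C → ℂ) := fun χ => by
    have h := hconjf (θ χ) (θ χ) ((conjIrr_eq_self_iff _).2 (hθr χ)).symm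
    exact (conjIrr_eq_self_iff _).1 h.symm
  choose η hηr hηc using fun χ => exists_real_over_real C hCodd (f (θ χ)).1 (hξr χ)
  have horb : ∀ χ, Nat.card {ξ : IrrCharacter C // ∃ n : N, cjIrr C n (f (θ χ)).1 = ξ} ≡
      (conjOrbit K ((θ χ).1 : K → ℂ)).card [MOD p] := by
    intro χ
    refine Nat.ModEq.trans (modEq_of_eq ?_) (card_fixed_orbit K P (θ χ).1)
    have hmem : ∀ ψ : {ψ : IrrCharacter K // Quotient.mk (charSetoid K) ψ = Quotient.mk _ (θ χ).1 ∧
        (P : Subgroup G) ≤ inertia K (ψ : K → ℂ)},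
        ∃ n : N, cjIrr C n (f (θ χ)).1 = (f ⟨ψ.1, (hinv _).2 ψ.2.2⟩).1 := by
      intro ψ
      obtain ⟨g, hg⟩ := Quotient.exact ψ.2.1.symm
      obtain ⟨n, hn, hne⟩ := fusion_prime K P χ.1 (θ χ).1 ψ.1 ((hinv _).1 (θ χ).2) ψ.2.2 (hθc χ) (by
        rw [← hg, cjIrr_val, classInner_restrict_conjN K (isClassFunction_irr χ.1)]; exact hθc χ)
      exact ⟨⟨n, hn⟩, (hcjf (θ χ) _ ⟨n, hn⟩ hne.symm).symm⟩
    refine (Nat.card_congr (Equiv.ofBijective (fun ψ =>
      ⟨(f ⟨ψ.1, (hinv _).2 ψ.2.2⟩).1, hmem ψ⟩) ⟨?_, ?_⟩)).symm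
    · intro a b hab
      exact Subtype.ext (Subtype.mk.inj (hfb.1 (Subtype.ext (Subtype.mk.inj hab))) :)
    · rintro ⟨ξ, n, rfl⟩
      have hi : (P : Subgroup G) ≤ inertia K (cjIrr K (n : G) (θ χ).1 : K → ℂ) := fun x hx => by
        rw [mem_inertia, cjIrr_val, ← conjN_mul]
        have hx' := (Subgroup.mem_normalizer_iff.1 n.2 x).1 hx
        conv_rhs => rw [← mem_inertia.1 ((hinv _).1 (θ χ).2 hx')]
        rw [← conjN_mul]
        congr 1
        group
      exact ⟨⟨_, (Quotient.sound (s := charSetoid K) ⟨(n : G), rfl⟩).symm, hi⟩,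
        Subtype.ext (hcjf (θ χ) _ n rfl)⟩
  have hdeg : ∀ χ, (deg (η χ : N → ℂ) : ZMod p) = deg (χ.1 : G → ℂ) ∨
      (deg (η χ : N → ℂ) : ZMod p) = -(deg (χ.1 : G → ℂ) : ZMod p) := by
    intro χ
    have hcard : (conjOrbit C ((f (θ χ)).1 : C → ℂ)).card =
        Nat.card {ξ : IrrCharacter C // ∃ n : N, cjIrr C n (f (θ χ)).1 = ξ} := by
      rw [Nat.card_eq_fintype_card, ← Finset.card_univ,
        ← Finset.card_image_of_injective (s := (Finset.univ :
            Finset {ξ : IrrCharacter C // ∃ n : N, cjIrr C n (f (θ χ)).1 = ξ}))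
          (f := fun ψ => (ψ.1 : C → ℂ)) fun a b h => Subtype.ext (Subtype.ext h)]
      congr 1
      ext φ'
      rw [Finset.mem_image, mem_conjOrbit]
      constructor
      · rintro ⟨g, rfl⟩
        exact ⟨⟨cjIrr C g (f (θ χ)).1, g, rfl⟩, Finset.mem_univ _, cjIrr_val C g _⟩
      · rintro ⟨⟨ψ, g, rfl⟩, -, rfl⟩
        exact ⟨g, (cjIrr_val C g _).symm⟩
    rw [deg_real_over C hCodd (f (θ χ)).1 (hξr χ) (η χ) (hηr χ) (hηc χ), hcard,
      deg_real_over K hodd (θ χ).1 (hθr χ) χ.1 χ.2 (hθc χ), Nat.cast_mul, Nat.cast_mul,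
      (ZMod.natCast_eq_natCast_iff _ _ _).2 (horb χ)]
    rcases (hf (θ χ)).2 with h | h
    · exact Or.inl (by rw [h])
    · exact Or.inr (by rw [h, mul_neg])
  refine ⟨fun χ => ⟨η χ, hηr χ, fun hd => hreal χ.1 χ.2 ?_⟩, ⟨?_, ?_⟩, hdeg⟩
  · rw [← ZMod.natCast_eq_zero_iff]
    rcases hdeg χ with h | h <;> rw [(ZMod.natCast_eq_zero_iff _ _).2 hd] at h
    · exact h.symm
    · exact neg_eq_zero.1 h.symm
  · intro χ χ' he
    have he' : η χ = η χ' := Subtype.mk.inj he
    obtain ⟨n, hn⟩ := exists_conjN_of_constituents C (η χ).2 (f (θ χ)).1.2 (f (θ χ')).1.2 (hηc χ)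
      (by rw [he']; exact hηc χ')
    have hi : Inv φ (cjIrr K (n : G) (θ χ).1 : K → ℂ) := (hinv _).2 fun x hx => by
      rw [mem_inertia, cjIrr_val, ← conjN_mul]
      have hx' := (Subgroup.mem_normalizer_iff.1 n.2 x).1 hx
      conv_rhs => rw [← mem_inertia.1 ((hinv _).1 (θ χ).2 hx')]
      rw [← conjN_mul]
      congr 1
      group
    have h1 : (⟨_, hi⟩ : {θ : IrrCharacter K // Inv φ (θ : K → ℂ)}) = θ χ' := by
      refine hfb.1 (Subtype.ext ?_)
      rw [hcjf (θ χ) ⟨_, hi⟩ n rfl]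
      exact Subtype.ext (by rw [cjIrr_val]; exact hn.symm)
    refine Subtype.ext (real_unique K hodd (θ χ').1 (hθr χ') χ.1 χ'.1 χ.2 χ'.2 ?_ (hθc χ'))
    rw [← congrArg Subtype.val h1]
    show classInner _ (cjIrr K (n : G) (θ χ).1 : K → ℂ) ≠ 0
    rw [cjIrr_val, classInner_restrict_conjN K (isClassFunction_irr χ.1)]
    exact hθc χ
  · rintro ⟨η₀, hη₀r, hη₀p⟩
    obtain ⟨ξ₁, hξ₁, hξ₁c⟩ := exists_constituent C (isCharacter_of_irr η₀.2)
      (IsIrrCharacter.apply_one_ne_zero η₀.2)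
    obtain ⟨g, hg⟩ := exists_fixed_conj_prime C ξ₁
      (fun h => hη₀p (h.trans (card_conjOrbit_dvd C η₀.2 hξ₁ hξ₁c))) (P.subtype hPN)
    have hc₀ : classInner (fun c : C => (η₀ : N → ℂ) c) (conjN C g ξ₁) ≠ 0 := by
      rw [classInner_restrict_conjN C (isClassFunction_irr η₀)]; exact hξ₁c
    let ξ₀ : {ξ : IrrCharacter C // InvC φ ι (ξ : C → ℂ)} :=
      ⟨⟨_, IsIrrCharacter.conjN hξ₁ g⟩, (hinvC _).2 hg⟩
    obtain ⟨θ₀, hθ₀⟩ := hfb.2 ξ₀
    have hξ₀r : RealC (ξ₀.1 : C → ℂ) := real_of_constituent C hCodd η₀ hη₀r ξ₀.1 hc₀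
    have hi : Inv φ (conjIrr θ₀.1 : K → ℂ) := fun a k => congrArg conj (θ₀.2 a k)
    have hθ₀r : RealC (θ₀.1 : K → ℂ) := by
      have h1 : (⟨_, hi⟩ : {θ : IrrCharacter K // Inv φ (θ : K → ℂ)}) = θ₀ := by
        refine hfb.1 (Subtype.ext ?_)
        rw [hconjf θ₀ ⟨_, hi⟩ rfl, hθ₀]
        exact (conjIrr_eq_self_iff _).2 hξ₀r
      exact (conjIrr_eq_self_iff _).1 (congrArg Subtype.val h1)
    obtain ⟨χ₀, hχ₀r, hχ₀c⟩ := exists_real_over_real K hodd θ₀.1 hθ₀r
    refine ⟨⟨χ₀, hχ₀r⟩, Subtype.ext ?_⟩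
    obtain ⟨n, hn, hne⟩ := fusion_prime K P χ₀ θ₀.1 (θ ⟨χ₀, hχ₀r⟩).1 ((hinv _).1 θ₀.2)
      ((hinv _).1 (θ ⟨χ₀, hχ₀r⟩).2) hχ₀c (hθc ⟨χ₀, hχ₀r⟩)
    refine real_unique C hCodd _ (hξr ⟨χ₀, hχ₀r⟩) _ η₀ (hηr _) hη₀r (hηc _) ?_
    rw [hcjf θ₀ _ ⟨n, hn⟩ hne.symm, hθ₀, cjIrr_val,
      classInner_restrict_conjN C (isClassFunction_irr η₀)]
    exact hc₀

end Cfsg.Lib.Chars.RealOdd
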