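import Mathlib
import Cfsg.Agent.Chars.DegreeTools
import Cfsg.Agent.Chars.ScalarVanish
import Cfsg.Agent.Components.Cores

/-!
# Characters with root-of-unity values on `p`-singular elements

If a faithful nonlinear irreducible character has values of absolute value one on the `p`-singular
elements and `P = O_p(G)` is nontrivial, then its restriction to `P` is the regular character minus
the trivial one.
-/

set_option autoImplicit false
set_option linter.unusedSectionVars false
set_option linter.style.haveILetI false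

namespace Cfsg.Lib.Chars

open scoped ComplexConjugate commutatorElement

universe u

variable {G : Type u} [Group G] [Fintype G]

/-- The standing hypothesis. -/
structure UnitOnSingular (p : ℕ) (P : Subgroup G) (χ : G → ℂ) : Prop where
  irr : Cfsg.IsIrrCharacter G χ
  faithful : ∀ g, χ g = χ 1 → g = 1
  nonlinear : χ 1 ≠ 1
  pgroup : IsPGroup p P
  ne_bot : P ≠ ⊥
  unit : ∀ g : G, p ∣ orderOf g → ‖χ g‖ = 1

namespace UnitOnSingular

variable {p : ℕ} [Fact p.Prime] {P : Subgroup G} [P.Normal] [Fintype P] {χ : G → ℂ}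

theorem dvd_orderOf (h : UnitOnSingular p P χ) {x : P} (hx : x ≠ 1) : p ∣ orderOf (x : G) := by
  obtain ⟨k, hk⟩ := h.pgroup x
  obtain ⟨j, -, hj⟩ := (Nat.dvd_prime_pow Fact.out).1
    (orderOf_dvd_of_pow_eq_one (x := (x : G)) (n := p ^ k) (congrArg Subtype.val hk))
  rw [hj]
  refine dvd_pow_self p fun h0 => hx (Subtype.ext ?_)
  rw [h0, pow_zero] at hj
  exact orderOf_eq_one_iff.1 hj

/-- The degree, the values and the irreducible constituents on `P`. -/
theorem degree (h : UnitOnSingular p P χ) :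
    deg χ + 1 = Nat.card P ∧ (∀ x : P, x ≠ 1 → χ x = -1) := by
  classical
  have hχc := isCharacter_of_irr h.irr
  set r : P → ℂ := fun x => χ x with hr
  set n := Nat.card P with hn
  have hn' : Fintype.card P = n := Nat.card_eq_fintype_card.symm
  set d := deg χ with hd
  have hr1 : r 1 = (d : ℂ) := by
    show χ ((1 : P) : G) = _
    rw [OneMemClass.coe_one]
    exact IsCharacter.apply_one_eq_deg hχc
  have hd0 : d ≠ 0 := fun h0 => IsIrrCharacter.apply_one_ne_zero h.irr (hr1.trans (by rw [h0, Nat.cast_zero]))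
  have htriv : Cfsg.IsIrrCharacter P (fun _ => (1 : ℂ)) := isIrrCharacter_one
  -- no trivial constituent
  have hzero : Cfsg.classInner r (fun _ : P => (1 : ℂ)) = 0 := by
    by_contra hne
    refine h.ne_bot (eq_bot_iff.2 fun x hx => Subgroup.mem_bot.2 (h.faithful x ?_))
    have hcl := clifford P h.irr htriv hne
    have hconst : ∀ y : P, r y = r 1 := fun y => by
      have e1 := congrFun hcl y
      have e2 := congrFun hcl 1
      simp only [Pi.smul_apply, Finset.sum_apply] at e1 e2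
      rw [show r y = χ y from rfl, show r 1 = χ (1 : P) from rfl, e1, e2]
      congr 1
      refine Finset.sum_congr rfl fun ψ hψ => ?_
      obtain ⟨g, rfl⟩ := (mem_conjOrbit P).1 hψ
      rfl
    exact (hconst ⟨x, hx⟩).trans hr1 |>.trans hr1.symm
  have hsum : ∑ x : P, r x = 0 := by
    rw [classInner_def, mul_eq_zero, inv_eq_zero, Nat.cast_eq_zero] at hzero
    have h0 := hzero.resolve_left Nat.card_pos.ne'
    simpa using h0
  have hunit : ∀ x : P, x ≠ 1 → ‖r x‖ = 1 := fun x hx => h.unit _ (h.dvd_orderOf hx)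
  rw [← Finset.add_sum_erase _ _ (Finset.mem_univ (1 : P)), hr1] at hsum
  have hrest : ∑ x ∈ Finset.univ.erase (1 : P), r x = -(d : ℂ) := eq_neg_of_add_eq_zero_right hsum
  have hcard : (Finset.univ.erase (1 : P)).card = n - 1 := by
    rw [Finset.card_erase_of_mem (Finset.mem_univ _), Finset.card_univ, hn']
  have hle : d ≤ n - 1 := by
    have h1 := norm_sum_le (Finset.univ.erase (1 : P)) r
    rw [hrest, norm_neg, Complex.norm_natCast,
      Finset.sum_congr rfl (fun x hx => hunit x (Finset.ne_of_mem_erase hx)), Finset.sum_const, hcard,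
      nsmul_eq_mul, mul_one] at h1
    exact_mod_cast h1
  -- the norm
  obtain ⟨θ, hθ, hθc⟩ := exists_constituent P hχc (IsIrrCharacter.apply_one_ne_zero h.irr)
  obtain ⟨e, he⟩ := IsCharacter.exists_mult (IsCharacter.restrict hχc P) hθ
  have he0 : e ≠ 0 := fun h0 => hθc (by rw [he, h0, Nat.cast_zero])
  have hcl := clifford P h.irr hθ hθc
  rw [he] at hcl
  set t := (conjOrbit P θ).card
  set a := deg θ
  have horb : ∀ ψ ∈ conjOrbit P θ, Cfsg.IsIrrCharacter P ψ := fun ψ hψ => by
    obtain ⟨g, rfl⟩ := (mem_conjOrbit P).1 hψ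
    exact IsIrrCharacter.conjN hθ g
  have hdeg : d = e * (t * a) := by
    have e1 := congrFun hcl 1
    simp only [Pi.smul_apply, Finset.sum_apply, OneMemClass.coe_one] at e1
    rw [show χ 1 = (d : ℂ) from hr1, Finset.sum_congr rfl (g := fun _ => (a : ℂ)) (fun ψ hψ => by
      obtain ⟨g, rfl⟩ := (mem_conjOrbit P).1 hψ
      rw [show conjN P g θ 1 = θ 1 by rw [conjN_eq_comp]; simp]
      exact IsCharacter.apply_one_eq_deg (isCharacter_of_irr hθ)), Finset.sum_const, nsmul_eq_mul,
      smul_eq_mul] at e1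
    exact_mod_cast e1
  have hnorm : d ^ 2 + (n - 1) = n * (e * e * t) := by
    have h1 : Cfsg.classInner r r = (e : ℂ) * e * t := by
      rw [show r = (e : ℂ) • ∑ ψ ∈ conjOrbit P θ, ψ from hcl, classInner_smul_left, classInner_smul_right,
        classInner_sum_left, Finset.sum_congr rfl (g := fun _ => (1 : ℂ)) (fun ψ hψ => by
          rw [classInner_sum_right, Finset.sum_eq_single ψ (fun φ hφ hne => by
            rw [classInner_irrChar (horb ψ hψ) (horb φ hφ), if_neg (Ne.symm hne)]) (fun hh => absurd hψ hh),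
            classInner_self_irr (horb ψ hψ)]), Finset.sum_const, nsmul_eq_mul, mul_one, map_natCast]
      ring
    rw [classInner_def, inv_mul_eq_iff_eq_mul₀ (Nat.cast_ne_zero.2 Nat.card_pos.ne'),
      ← Finset.add_sum_erase _ _ (Finset.mem_univ (1 : P)), hr1, map_natCast,
      Finset.sum_congr rfl (g := fun _ => (1 : ℂ)) (fun x hx => by
        rw [Complex.mul_conj, Complex.normSq_eq_norm_sq, hunit x (Finset.ne_of_mem_erase hx)]; simp),
      Finset.sum_const, hcard, nsmul_eq_mul, mul_one] at h1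
    rw [sq]
    exact_mod_cast h1
  have hd1 : 2 ≤ d := by
    rcases Nat.lt_or_ge d 2 with h2 | h2
    · exact absurd (hr1.trans (by rw [show d = 1 by omega, Nat.cast_one])) h.nonlinear
    · exact h2
  -- the degree of the constituent
  have ha : a = 1 := by
    obtain ⟨m, hm⟩ := IsPGroup.iff_card.1 h.pgroup
    have han : a ∣ p ^ m := hm ▸ IsIrrCharacter.deg_dvd hθ
    obtain ⟨j, -, hj⟩ := (Nat.dvd_prime_pow Fact.out).1 han
    rcases Nat.eq_zero_or_pos j with rfl | hj0
    · simpa using hj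
    exfalso
    have had : a ∣ d := Dvd.intro_left (e * t) (by rw [hdeg, mul_assoc])
    have hpd : p ∣ d ^ 2 := (hj ▸ dvd_pow_self p hj0.ne' : p ∣ a).trans (had.trans (dvd_pow_self d two_ne_zero))
    have hpn : p ∣ n := by
      have hm0 : m ≠ 0 := fun h0 => h.ne_bot (Subgroup.card_eq_one.1 (by rw [hm, h0, pow_zero]))
      rw [hn, hm]
      exact dvd_pow_self p hm0
    have h1 : p ∣ n - 1 := (Nat.dvd_add_right hpd).1 (hnorm ▸ hpn.mul_right _)
    have hpp := (Fact.out : p.Prime).two_le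
    have hn1 : 1 ≤ n := Nat.card_pos
    have h2 := Nat.dvd_sub hpn h1
    rw [show n - (n - 1) = 1 by omega, Nat.dvd_one] at h2
    omega
  -- now equality holds throughout
  have hfin : d = n - 1 := by
    have hn1 : 1 ≤ n := Nat.card_pos
    rw [ha, mul_one] at hdeg
    have hk : d * d + (n - 1) = n * e * d := by rw [← sq, hnorm, hdeg]; ring
    by_contra hne
    have he1 : 1 ≤ e := Nat.pos_of_ne_zero he0
    obtain ⟨m, hm⟩ : ∃ m, n = m + 1 := ⟨n - 1, by omega⟩
    have hlt : d + 1 ≤ m := by omega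
    rw [hm, Nat.add_sub_cancel] at hk
    have : (m + 1) * d ≤ (m + 1) * e * d := Nat.mul_le_mul_right d (by nlinarith)
    nlinarith
  have hn1 : 1 ≤ n := Nat.card_pos
  refine ⟨by omega, fun x hx => ?_⟩
  have h1 : ∀ z ∈ (Finset.univ.erase (1 : P)).val.map r, ‖z‖ = 1 := by
    intro z hz
    obtain ⟨y, hy, rfl⟩ := Multiset.mem_map.1 hz
    exact hunit y (Finset.ne_of_mem_erase hy)
  have hs : ((Finset.univ.erase (1 : P)).val.map r).sum = -(d : ℂ) := hrest
  have hc : Multiset.card ((Finset.univ.erase (1 : P)).val.map r) = d := by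
    rw [Multiset.card_map]; exact hcard.trans hfin.symm
  have h2 := all_eq_of_norm_sum_eq h1 (by rw [hs, norm_neg, Complex.norm_natCast, hc]) (r x)
    (Multiset.mem_map.2 ⟨x, Finset.mem_erase.2 ⟨hx, Finset.mem_univ x⟩, rfl⟩)
  rw [hs, hc, ← mul_neg_one] at h2
  exact mul_left_cancel₀ (Nat.cast_ne_zero.2 hd0) h2

/-- The multiplicity of an irreducible character of `P`. -/
theorem mult (h : UnitOnSingular p P χ) {φ : P → ℂ} (hφ : Cfsg.IsIrrCharacter P φ) :
    Cfsg.classInner (fun x : P => χ x) φ = (if φ = fun _ => (1 : ℂ) then 0 else φ 1) := by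
  classical
  obtain ⟨hdeg, hval⟩ := h.degree
  have h1 : (fun x : P => χ x) = (fun x : P => if x = 1 then (Nat.card P : ℂ) else 0) - fun _ => (1 : ℂ) := by
    funext x
    by_cases hx : x = 1
    · subst hx
      rw [Pi.sub_apply, if_pos rfl, OneMemClass.coe_one,
        IsCharacter.apply_one_eq_deg (isCharacter_of_irr h.irr), ← hdeg]
      push_cast; ring
    · rw [Pi.sub_apply, if_neg hx, hval x hx, zero_sub]
  rw [h1, classInner_sub_left, classInner_irrChar isIrrCharacter_one hφ]
  have h2 : Cfsg.classInner (fun x : P => if x = 1 then (Nat.card P : ℂ) else 0) φ = φ 1 := by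
    rw [classInner_def, Finset.sum_eq_single (1 : P) (fun x _ hx => by simp [hx]) (by simp), if_pos rfl,
      IsCharacter.apply_one_eq_deg (isCharacter_of_irr hφ), map_natCast, ← mul_assoc,
      inv_mul_cancel₀ (Nat.cast_ne_zero.2 Nat.card_pos.ne'), one_mul]
  rw [h2]
  by_cases he : φ = fun _ => (1 : ℂ)
  · subst he; simp
  · rw [if_neg (Ne.symm he), if_neg he, sub_zero]

/-- All nontrivial irreducible characters of `P` are conjugate. -/
theorem transitive (h : UnitOnSingular p P χ) {φ ψ : P → ℂ} (hφ : Cfsg.IsIrrCharacter P φ)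
    (hψ : Cfsg.IsIrrCharacter P ψ) (hφ1 : φ ≠ fun _ => (1 : ℂ)) (hψ1 : ψ ≠ fun _ => (1 : ℂ)) :
    ∃ g : G, ψ = conjN P g φ := by
  refine exists_conjN_of_constituents P h.irr hφ hψ ?_ ?_ <;> rw [h.mult (by assumption)]
  · rw [if_neg hφ1]; exact IsIrrCharacter.apply_one_ne_zero hφ
  · rw [if_neg hψ1]; exact IsIrrCharacter.apply_one_ne_zero hψ

/-- The normal subgroup is elementary abelian. -/
theorem elementary (h : UnitOnSingular p P χ) :
    (∀ φ : P → ℂ, Cfsg.IsIrrCharacter P φ → deg φ = 1) ∧ (∀ x y : P, x * y = y * x) ∧ ∀ x : P, x ^ p = 1 := by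
  classical
  have hdeg1 : ∀ φ : P → ℂ, Cfsg.IsIrrCharacter P φ → deg φ = 1 := by
    -- some nontrivial linear character exists
    haveI : Nontrivial P := (Subgroup.nontrivial_iff_ne_bot P).2 h.ne_bot
    haveI : Group.IsNilpotent P := h.pgroup.isNilpotent
    haveI : Group.IsSolvable P := inferInstance
    obtain ⟨m, hm⟩ : ∃ m : P, m ∉ commutator P := by
      by_contra hno
      push Not at hno
      exact (Group.IsSolvable.commutator_lt_top_of_nontrivial P).ne (eq_top_iff.2 fun x _ => hno x)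
    obtain ⟨l, hl, hl'⟩ := exists_irr_separating (commutator P) hm
    have hl1 : deg (l : P → ℂ) = 1 := by
      obtain ⟨l', hl'', hfac⟩ := exists_factor (QuotientGroup.mk' (commutator P))
        (QuotientGroup.mk'_surjective _) (isCharacter_of_irr l.2)
        (fun k hk => hl k (by rwa [QuotientGroup.ker_mk'] at hk))
      have hirr : Cfsg.IsIrrCharacter (P ⧸ commutator P) l' :=
        IsIrrCharacter.descend hl'' (QuotientGroup.mk' _) (QuotientGroup.mk'_surjective _) (hfac ▸ l.2)
      have := irr_deg_one_of_comm (fun a b => by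
        obtain ⟨a, rfl⟩ := QuotientGroup.mk_surjective a
        obtain ⟨b, rfl⟩ := QuotientGroup.mk_surjective b
        rw [← QuotientGroup.mk_mul, ← QuotientGroup.mk_mul, QuotientGroup.eq,
          show (a * b)⁻¹ * (b * a) = ⁅b⁻¹, a⁻¹⁆ by simp only [commutatorElement_def]; group]
        exact Subgroup.commutator_mem_commutator (Subgroup.mem_top _) (Subgroup.mem_top _)) hirr
      have e := congrFun hfac 1
      rw [map_one, this, IsCharacter.apply_one_eq_deg (isCharacter_of_irr l.2)] at e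
      exact_mod_cast e
    have hlne : (l : P → ℂ) ≠ fun _ => (1 : ℂ) := fun e => hl' (by rw [e])
    intro φ hφ
    by_cases he : φ = fun _ => (1 : ℂ)
    · subst he
      have := IsCharacter.apply_one_eq_deg (isCharacter_of_irr hφ)
      exact_mod_cast this.symm
    obtain ⟨g, rfl⟩ := h.transitive l.2 hφ hlne he
    have := IsCharacter.apply_one_eq_deg (isCharacter_of_irr hφ)
    rw [conjN_eq_comp] at this
    simp only [Function.comp_apply, map_one, IsCharacter.apply_one_eq_deg (isCharacter_of_irr l.2), hl1] at this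
    exact_mod_cast this.symm
  have hab : ∀ x y : P, x * y = y * x := by
    have hder := derived_one hdeg1
    rw [derivedSeries_one] at hder
    intro x y
    rw [← commutatorElement_eq_one_iff_mul_comm, ← Subgroup.mem_bot, ← hder]
    exact Subgroup.commutator_mem_commutator (Subgroup.mem_top x) (Subgroup.mem_top y)
  refine ⟨hdeg1, hab, fun x => ?_⟩
  -- the subgroup of `p`-th powers
  let f : P →* P := MonoidHom.mk' (fun x => x ^ p) fun a b => (show Commute a b from hab a b).mul_pow p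
  haveI : f.range.Normal := ⟨fun a ha g => by rwa [hab g a, mul_inv_cancel_right]⟩
  by_contra hx
  -- a character trivial on the range is nontrivial, and its conjugates are trivial there too
  have hproper : f.range ≠ ⊤ := by
    intro htop
    obtain ⟨y, hy⟩ := exists_prime_orderOf_dvd_card' (G := P) p (by
      obtain ⟨m, hm⟩ := IsPGroup.iff_card.1 h.pgroup
      have hm0 : m ≠ 0 := fun h0 => h.ne_bot (Subgroup.card_eq_one.1 (by rw [hm, h0, pow_zero]))
      rw [hm]; exact dvd_pow_self p hm0)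
    have hinj : Function.Injective f :=
      Finite.injective_iff_surjective.2 (MonoidHom.range_eq_top.1 htop)
    have : y = 1 := hinj (a₁ := y) (a₂ := 1) (by
      show y ^ p = (1 : P) ^ p
      rw [one_pow, ← hy, pow_orderOf_eq_one])
    rw [this, orderOf_one] at hy
    exact (Fact.out : p.Prime).one_lt.ne hy
  obtain ⟨m, hm⟩ : ∃ m : P, m ∉ f.range := by
    by_contra hno
    push Not at hno
    exact hproper (eq_top_iff.2 fun z _ => hno z)
  obtain ⟨l, hl, hl'⟩ := exists_irr_separating f.range hm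
  obtain ⟨k, hk, hk'⟩ := exists_irr_separating (⊥ : Subgroup P) (m := x ^ p) (by rwa [Subgroup.mem_bot])
  obtain ⟨g, hg⟩ := h.transitive l.2 k.2 (fun e => hl' (by rw [e])) (fun e => hk' (by rw [e]))
  refine hk' ?_
  rw [hg, conjN_eq_comp]
  simp only [Function.comp_apply, map_pow, map_one]
  exact hl _ ⟨_, rfl⟩

/-- A linear character of an inertia group inducing to `χ`. -/
theorem exists_linear (h : UnitOnSingular p P χ) :
    ∃ (lam : P → ℂ) (T : Subgroup G) (ψ : T →* ℂˣ) (hPT : P ≤ T), Cfsg.IsIrrCharacter P lam ∧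
      lam ≠ (fun _ => 1) ∧ T = inertia P lam ∧ T.index + 1 = Nat.card P ∧
      Cfsg.indFun T (fun x => (ψ x : ℂ)) = χ ∧ ∀ x : P, (ψ ⟨x, hPT x.2⟩ : ℂ) = lam x := by
  classical
  have hχc := isCharacter_of_irr h.irr
  obtain ⟨lam, hlam, hc⟩ := exists_constituent P hχc (IsIrrCharacter.apply_one_ne_zero h.irr)
  have hne : lam ≠ fun _ => (1 : ℂ) := fun e => hc (by rw [h.mult hlam, if_pos e])
  have hl1 : lam 1 = 1 := by
    rw [IsCharacter.apply_one_eq_deg (isCharacter_of_irr hlam), h.elementary.1 lam hlam, Nat.cast_one]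
  set T := inertia P lam with hT
  letI : Fintype T := Fintype.ofFinite T
  have hPT := le_inertia (isClassFunction_isChar (isCharacter_of_irr hlam))
  obtain ⟨ψ, hψ, h1, h2⟩ := exists_constituent_over T hPT hχc hc
  obtain ⟨hind, hmul, -⟩ := clifford_correspondence hlam T rfl hPT h.irr hψ h1 h2
  obtain ⟨e, -, he⟩ := restrict_of_le_inertia P hlam T hPT le_rfl hψ h2
  have hψ1 : ψ 1 = 1 := by
    rw [h.mult hlam, if_neg hne, he, classInner_smul_left, classInner_self_irr hlam, mul_one, hl1] at hmul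
    have e1 := congrFun he 1
    rw [hmul, one_smul, hl1] at e1
    exact e1
  obtain ⟨f, hf⟩ := exists_hom_of_deg_one (isCharacter_of_irr hψ) hψ1
  have hidx : T.index + 1 = Nat.card P := by
    have := congrFun hind 1
    rw [indFun_one, hψ1, mul_one, IsCharacter.apply_one_eq_deg hχc] at this
    have : T.index = deg χ := by exact_mod_cast this
    rw [this]
    exact h.degree.1
  refine ⟨lam, T, f, hPT, hlam, hne, rfl, hidx, ?_, fun x => ?_⟩
  · rw [← hind, hf]
  · have e1 := congrFun he x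
    rw [hf] at e1
    rw [h.mult hlam, if_neg hne, he, classInner_smul_left, classInner_self_irr hlam, mul_one, hl1] at hmul
    rw [hmul, one_smul] at e1
    exact e1

/-- Squared values on a coset of `P`. -/
theorem coset_norm (h : UnitOnSingular p P χ) {lam : P → ℂ} {T : Subgroup G} {ψ : T →* ℂˣ} (hPT : P ≤ T)
    (hlam : Cfsg.IsIrrCharacter P lam) (hT : T = inertia P lam)
    (hind : Cfsg.indFun T (fun x => (ψ x : ℂ)) = χ) (hres : ∀ x : P, (ψ ⟨x, hPT x.2⟩ : ℂ) = lam x) (g : G) :
    (Nat.card T : ℝ) * ∑ x : P, Complex.normSq (χ (g * x)) =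
      Nat.card P * (Nat.card {y : G // y⁻¹ * g * y ∈ T} : ℝ) := by
  classical
  letI : Fintype T := Fintype.ofFinite T
  set F := Finset.univ.filter fun y : G => y⁻¹ * g * y ∈ T
  set w : G → ℂ := fun y => Cfsg.extendByZero T (fun x => (ψ x : ℂ)) (y⁻¹ * g * y) with hw
  set L : G → P → ℂ := fun y x => conjN P y⁻¹ lam x with hL
  have hconjL : ∀ y : G, ∀ x : P, (y⁻¹ * x * y ∈ T) ∧
      L y x = lam ⟨y⁻¹ * x * y, by simpa using Subgroup.Normal.conj_mem (inferInstance : P.Normal) x x.2 y⁻¹⟩ := by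
    intro y x
    refine ⟨hPT (by simpa using Subgroup.Normal.conj_mem (inferInstance : P.Normal) x x.2 y⁻¹), ?_⟩
    rw [hL]
    show conjN P y⁻¹ lam x = _
    rw [conjN]
    congr 1
    exact Subtype.ext (by simp)
  have hval : ∀ x : P, (Nat.card T : ℂ) * χ (g * x) = ∑ y ∈ F, w y * L y x := by
    intro x
    rw [← hind, indFun_apply, ← mul_assoc, mul_inv_cancel₀ (Nat.cast_ne_zero.2 Nat.card_pos.ne'), one_mul,
      Finset.sum_filter]
    refine Finset.sum_congr rfl fun y _ => ?_
    obtain ⟨hxT, hLx⟩ := hconjL y x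
    rw [show y⁻¹ * (g * x) * y = y⁻¹ * g * y * (y⁻¹ * x * y) by group]
    by_cases hy : y⁻¹ * g * y ∈ T
    · rw [if_pos hy, hw]
      simp only
      rw [extendByZero_mem _ (T.mul_mem hy hxT), extendByZero_mem _ hy, hLx, ← hres]
      rw [show (⟨y⁻¹ * g * y * (y⁻¹ * x * y), T.mul_mem hy hxT⟩ : T) = ⟨_, hy⟩ * ⟨_, hxT⟩ from rfl, map_mul,
        Units.val_mul]
    · rw [if_neg hy, extendByZero_not_mem _ fun hh => hy ?_]
      have hh' := T.mul_mem hh (T.inv_mem hxT)
      rwa [mul_inv_cancel_right] at hh'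
  have hLirr : ∀ y, Cfsg.IsIrrCharacter P (L y) := fun y => IsIrrCharacter.conjN hlam _
  have horth : ∀ y z : G, ∑ x : P, L y x * conj (L z x) = if y⁻¹ * z ∈ T then (Nat.card P : ℂ) else 0 := by
    intro y z
    have h1 := classInner_irrChar (hLirr y) (hLirr z)
    rw [classInner_def, inv_mul_eq_iff_eq_mul₀ (Nat.cast_ne_zero.2 Nat.card_pos.ne')] at h1
    rw [h1, mul_ite, mul_one, mul_zero]
    refine if_congr ?_ rfl rfl
    have key : ∀ a b : G, conjN P a lam = conjN P b lam ↔ a * b⁻¹ ∈ T := fun a b => by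
      rw [hT, mem_inertia, conjN_mul]
      constructor
      · intro e; rw [e, ← conjN_mul, mul_inv_cancel, conjN_one]
      · intro e; conv_rhs => rw [← e, ← conjN_mul, inv_mul_cancel, conjN_one]
    show conjN P y⁻¹ lam = conjN P z⁻¹ lam ↔ _
    rw [key, inv_inv]
  have hwconst : ∀ y, y ∈ F → ∀ z, y⁻¹ * z ∈ T → z ∈ F ∧ w z = w y ∧ ‖w y‖ = 1 := by
    intro y hy z hz
    have hyT : y⁻¹ * g * y ∈ T := (Finset.mem_filter.1 hy).2
    have he : z⁻¹ * g * z = (y⁻¹ * z)⁻¹ * (y⁻¹ * g * y) * (y⁻¹ * z) := by group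
    have hzT : z⁻¹ * g * z ∈ T := he ▸ T.mul_mem (T.mul_mem (T.inv_mem hz) hyT) hz
    refine ⟨Finset.mem_filter.2 ⟨Finset.mem_univ z, hzT⟩, ?_, ?_⟩
    · rw [hw]
      simp only
      rw [extendByZero_mem _ hzT, extendByZero_mem _ hyT,
        show (⟨z⁻¹ * g * z, hzT⟩ : T) = ⟨_, hz⟩⁻¹ * ⟨_, hyT⟩ * ⟨_, hz⟩ from Subtype.ext he, map_mul, map_mul,
        mul_comm, ← mul_assoc, ← map_mul, mul_inv_cancel, map_one, one_mul]
    · rw [hw]
      simp only
      rw [extendByZero_mem _ hyT]
      refine Complex.norm_eq_one_of_pow_eq_one (n := Nat.card T) ?_ Nat.card_pos.ne'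
      rw [← Units.val_pow_eq_pow_val, ← map_pow, pow_card_eq_one', map_one, Units.val_one]
  have hmain : ((Nat.card T : ℂ) * Nat.card T) * ∑ x : P, χ (g * x) * conj (χ (g * x)) =
      (Nat.card T : ℂ) * ((Nat.card P : ℂ) * F.card) := by
    have hx : ∀ x : P, ((Nat.card T : ℂ) * Nat.card T) * (χ (g * x) * conj (χ (g * x))) =
        ∑ y ∈ F, ∑ z ∈ F, (w y * conj (w z)) * (L y x * conj (L z x)) := by
      intro x
      calc ((Nat.card T : ℂ) * Nat.card T) * (χ (g * x) * conj (χ (g * x)))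
          = ((Nat.card T : ℂ) * χ (g * x)) * conj ((Nat.card T : ℂ) * χ (g * x)) := by
            rw [map_mul, map_natCast]; ring
        _ = _ := by
            rw [hval, map_sum, Finset.sum_mul_sum]
            refine Finset.sum_congr rfl fun y _ => Finset.sum_congr rfl fun z _ => ?_
            rw [map_mul]; ring
    rw [Finset.mul_sum, Finset.sum_congr rfl fun x _ => hx x, Finset.sum_comm,
      Finset.sum_congr rfl (g := fun _ => (Nat.card T : ℂ) * Nat.card P), Finset.sum_const, nsmul_eq_mul]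
    · ring
    intro y hy
    rw [Finset.sum_comm]
    simp only [← Finset.mul_sum, horth, mul_ite, mul_zero]
    rw [← Finset.sum_filter, Finset.sum_congr rfl (g := fun _ => (Nat.card P : ℂ)) (fun z hz => by
      obtain ⟨hzF, hz⟩ := Finset.mem_filter.1 hz
      obtain ⟨-, he, hu⟩ := hwconst y hy z hz
      rw [he, Complex.mul_conj, Complex.normSq_eq_norm_sq, hu]; simp), Finset.sum_const, nsmul_eq_mul]
    congr 1
    norm_cast
    rw [Nat.card_eq_fintype_card, ← Finset.card_univ]
    refine Finset.card_bij' (fun z hz => (⟨y⁻¹ * z, (Finset.mem_filter.1 hz).2⟩ : T))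
      (fun t _ => y * (t : G)) (fun _ _ => Finset.mem_univ _) (fun t _ => ?_)
      (fun z _ => mul_inv_cancel_left y z) (fun t _ => Subtype.ext (inv_mul_cancel_left y (t : G)))
    have ht : y⁻¹ * (y * (t : G)) ∈ T := by rw [inv_mul_cancel_left]; exact t.2
    exact Finset.mem_filter.2 ⟨(hwconst y hy _ ht).1, ht⟩
  rw [Nat.card_eq_fintype_card (α := {y : G // y⁻¹ * g * y ∈ T}), Fintype.card_subtype]
  apply Complex.ofReal_injective
  push_cast
  simp only [Complex.mul_conj] at hmain
  refine mul_left_cancel₀ (a := (Nat.card T : ℂ)) (Nat.cast_ne_zero.2 Nat.card_pos.ne') ?_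
  rw [← mul_assoc]
  exact hmain

/-- Elements acting trivially on all cosets of `T`. -/
theorem norm_of_centralizing (h : UnitOnSingular p P χ) {g : G}
    (hg : g ∈ Subgroup.centralizer (P : Set G)) :
    ∑ x : P, Complex.normSq (χ (g * x)) = (Nat.card P : ℝ) * deg χ := by
  classical
  obtain ⟨lam, T, ψ, hPT, hlam, -, hT, hidx, hind, hres⟩ := h.exists_linear
  have hCT : ∀ y : G, y⁻¹ * g * y ∈ T := by
    intro y
    rw [hT, mem_inertia]
    funext x
    rw [conjN]
    congr 1
    apply Subtype.ext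
    have hc : y⁻¹ * g * y ∈ Subgroup.centralizer (P : Set G) := by
      simpa using Subgroup.Normal.conj_mem inferInstance g hg y⁻¹
    show y⁻¹ * g * y * (x : G) * (y⁻¹ * g * y)⁻¹ = x
    rw [← Subgroup.mem_centralizer_iff.1 hc x x.2, mul_inv_cancel_right]
  have h1 := h.coset_norm hPT hlam hT hind hres g
  rw [Nat.card_congr (Equiv.subtypeUnivEquiv hCT), ← T.card_mul_index] at h1
  have hd : (T.index : ℝ) = deg χ := by
    have := h.degree.1
    exact_mod_cast (show T.index = deg χ by omega)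
  push_cast at h1
  rw [hd] at h1
  refine mul_left_cancel₀ (a := (Nat.card T : ℝ)) (Nat.cast_ne_zero.2 Nat.card_pos.ne') (h1.trans ?_)
  ring

/-- The centralizer is the product with the centre. -/
theorem centralizer_eq (h : UnitOnSingular p P χ) (hcore : ∀ N : Subgroup G, N.Normal → IsPGroup p N → N ≤ P) :
    Subgroup.centralizer (P : Set G) = P ⊔ Subgroup.center G ∧ P ⊓ Subgroup.center G = ⊥ := by
  classical
  have hχc := isCharacter_of_irr h.irr
  obtain ⟨hdeg, hval⟩ := h.degree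
  have hd2 : 2 ≤ deg χ := by
    rcases Nat.lt_or_ge (deg χ) 2 with h2 | h2
    · refine absurd ?_ h.nonlinear
      rw [IsCharacter.apply_one_eq_deg hχc]
      have : deg χ ≠ 0 := fun h0 => IsIrrCharacter.apply_one_ne_zero h.irr
        (by rw [IsCharacter.apply_one_eq_deg hχc, h0, Nat.cast_zero])
      rw [show deg χ = 1 by omega, Nat.cast_one]
    · exact h2
  have hcentre : P ⊓ Subgroup.center G = ⊥ := by
    rw [eq_bot_iff]
    rintro x ⟨hxP, hxc⟩
    by_contra hx1
    rw [Subgroup.mem_bot] at hx1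
    have hx : (⟨x, hxP⟩ : P) ≠ 1 := fun e => hx1 (congrArg Subtype.val e)
    have h1 := center_mul_of_irr h.irr hxc x⁻¹
    rw [mul_inv_cancel, show χ x = -1 from hval _ hx,
      show χ x⁻¹ = -1 from hval ⟨x, hxP⟩⁻¹ (inv_ne_one.2 hx), IsCharacter.apply_one_eq_deg hχc, neg_mul_neg,
      one_mul] at h1
    have h2 : deg χ * deg χ = 1 := by exact_mod_cast h1
    nlinarith
  set C := Subgroup.centralizer (P : Set G) with hC
  have hPC : P ≤ C := fun x hx => Subgroup.mem_centralizer_iff.2 fun y hy =>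
    congrArg Subtype.val (h.elementary.2.1 ⟨y, hy⟩ ⟨x, hx⟩)
  have hprime : ∀ a ∈ C, ¬ p ∣ orderOf a → a ∈ Subgroup.center G := by
    intro a ha hpa
    have hs := h.norm_of_centralizing ha
    have hone : ∀ x : P, x ≠ 1 → Complex.normSq (χ (a * x)) = 1 := by
      intro x hx
      rw [Complex.normSq_eq_norm_sq, h.unit _ ?_, one_pow]
      have hcomm : Commute a (x : G) := (Subgroup.mem_centralizer_iff.1 ha x x.2).symm
      have hcop : (orderOf a).Coprime (orderOf (x : G)) := by
        obtain ⟨k, hk⟩ := h.pgroup x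
        exact Nat.Coprime.coprime_dvd_right (orderOf_dvd_of_pow_eq_one (x := (x : G)) (congrArg Subtype.val hk))
          (((Nat.Prime.coprime_iff_not_dvd Fact.out).2 hpa).symm.pow_right k)
      rw [hcomm.orderOf_mul_eq_mul_orderOf_of_coprime hcop]
      exact (h.dvd_orderOf hx).mul_left _
    rw [← Finset.add_sum_erase _ _ (Finset.mem_univ (1 : P)), OneMemClass.coe_one, mul_one,
      Finset.sum_congr rfl (fun x hx => hone x (Finset.ne_of_mem_erase hx)), Finset.sum_const,
      Finset.card_erase_of_mem (Finset.mem_univ _), Finset.card_univ, ← Nat.card_eq_fintype_card, ← hdeg,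
      Nat.add_sub_cancel, nsmul_eq_mul, mul_one] at hs
    have hn2 : Complex.normSq (χ a) = (deg χ : ℝ) * deg χ := by push_cast at hs; linarith
    have hnorm : ‖χ a‖ = (deg χ : ℝ) := by
      rw [Complex.normSq_eq_norm_sq, sq] at hn2
      exact (mul_self_inj (norm_nonneg _) (Nat.cast_nonneg _)).1 hn2
    obtain ⟨m, ρ, hρ, hρc⟩ := h.irr
    have hfin : Module.finrank ℂ (Fin m → ℂ) = deg χ := by
      have h1 := IsCharacter.apply_one_eq_deg hχc
      rw [← hρc, ρ.char_one] at h1
      rw [← hρc]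
      exact_mod_cast h1
    obtain ⟨ω, hω, -⟩ := scalar_of_norm_character_eq ρ a (by rw [hρc, hfin, hnorm])
    rw [Subgroup.mem_center_iff]
    intro y
    rw [← mul_inv_eq_iff_eq_mul]
    have he : ρ (y * a * y⁻¹ * a⁻¹) = LinearMap.id := by
      have hcom : ρ (y * a) = ρ (a * y) := by
        rw [map_mul, map_mul, hω]
        ext v
        simp
      rw [map_mul, map_mul, hcom, ← map_mul, ← map_mul, show a * y * y⁻¹ * a⁻¹ = 1 by group, map_one]
      rfl
    have h2 := h.faithful _ (show χ (y * a * y⁻¹ * a⁻¹) = χ 1 by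
      rw [← hρc, ρ.char_one]; exact (eq_id_of_character_eq_finrank ρ _).2 he)
    exact mul_inv_eq_one.1 h2
  have hpel : ∀ u ∈ C, (∃ k, orderOf u = p ^ k) → u ∈ P := by
    intro u hu ⟨k, hk⟩
    by_contra huP
    have hs := h.norm_of_centralizing hu
    have hone : ∀ x : P, Complex.normSq (χ (u * x)) = 1 := by
      intro x
      rw [Complex.normSq_eq_norm_sq, h.unit _ ?_, one_pow]
      have hcomm : Commute u (x : G) := (Subgroup.mem_centralizer_iff.1 hu x x.2).symm
      obtain ⟨j, hj⟩ := h.pgroup x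
      have hpow : (u * (x : G)) ^ p ^ (k + j) = 1 := by
        rw [hcomm.mul_pow, pow_add, pow_mul, ← hk, pow_orderOf_eq_one, one_pow, one_mul, mul_comm, pow_mul,
          show (x : G) ^ p ^ j = 1 from congrArg Subtype.val hj, one_pow]
      obtain ⟨i, -, hi⟩ := (Nat.dvd_prime_pow Fact.out).1 (orderOf_dvd_of_pow_eq_one hpow)
      rw [hi]
      refine dvd_pow_self p fun h0 => huP ?_
      rw [h0, pow_zero] at hi
      rw [eq_inv_of_mul_eq_one_left (orderOf_eq_one_iff.1 hi)]
      exact P.inv_mem x.2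
    rw [Finset.sum_congr rfl (fun x _ => hone x), Finset.sum_const, Finset.card_univ,
      ← Nat.card_eq_fintype_card, nsmul_eq_mul] at hs
    have h1 : (1 : ℝ) = deg χ := mul_left_cancel₀ (Nat.cast_ne_zero.2 Nat.card_pos.ne') hs
    have : 1 = deg χ := by exact_mod_cast h1
    omega
  refine ⟨le_antisymm ?_ (sup_le hPC fun z hz => Subgroup.mem_centralizer_iff.2 fun y _ =>
    Subgroup.mem_center_iff.1 hz y), hcentre⟩
  intro c hc
  obtain ⟨k, m, hpm, hcm⟩ := Nat.exists_eq_pow_mul_and_not_dvd (orderOf_pos c).ne' p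
    (Fact.out : p.Prime).ne_one
  have hm0 : m ≠ 0 := fun h0 => hpm (h0 ▸ dvd_zero p)
  have h1 : c ^ m ∈ P := hpel _ (C.pow_mem hc m) ⟨k, by
    rw [orderOf_pow' c hm0, hcm, Nat.gcd_mul_left_left, Nat.mul_div_cancel _ (Nat.pos_of_ne_zero hm0)]⟩
  have h2 : c ^ p ^ k ∈ Subgroup.center G := hprime _ (C.pow_mem hc _) (by
    rwa [orderOf_pow' c (pow_ne_zero k (Fact.out : p.Prime).ne_zero), hcm, Nat.gcd_mul_right_left,
      Nat.mul_div_cancel_left _ (pow_pos (Fact.out : p.Prime).pos k)])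
  have hcop : Nat.Coprime m (p ^ k) := (((Nat.Prime.coprime_iff_not_dvd Fact.out).2 hpm).symm).pow_right k
  have hgcd : (m.gcd (p ^ k) : ℤ) = m * m.gcdA (p ^ k) + (p ^ k : ℕ) * m.gcdB (p ^ k) := Nat.gcd_eq_gcd_ab _ _
  rw [hcop.gcd_eq_one] at hgcd
  rw [← zpow_one c, show (1 : ℤ) = _ by exact_mod_cast hgcd, zpow_add, zpow_mul, zpow_mul, zpow_natCast,
    zpow_natCast]
  exact Subgroup.mul_mem_sup (P.zpow_mem h1 _) (Subgroup.zpow_mem _ h2 _)

/-- A `p`-element outside `P` forces `p = 2` and `|P| = 4`. -/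
theorem of_pElement_outside (h : UnitOnSingular p P χ) {Q : Subgroup G} (hQ : IsPGroup p Q) (hPQ : P ≤ Q)
    {g : G} (hgQ : g ∈ Q) (hgP : g ∉ P) :
    p = 2 ∧ (g ^ 2 ∈ P → Nat.card P = 4) := by
  classical
  obtain ⟨lam, T, ψ, hPT, hlam, hne, hT, hidx, hind, hres⟩ := h.exists_linear
  have hone : ∀ x : P, Complex.normSq (χ (g * x)) = 1 := by
    intro x
    rw [Complex.normSq_eq_norm_sq, h.unit _ ?_, one_pow]
    obtain ⟨j, hj⟩ := hQ ⟨g * x, Q.mul_mem hgQ (hPQ x.2)⟩
    obtain ⟨i, -, hi⟩ := (Nat.dvd_prime_pow Fact.out).1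
      (orderOf_dvd_of_pow_eq_one (x := g * (x : G)) (congrArg Subtype.val hj))
    rw [hi]
    refine dvd_pow_self p fun h0 => hgP ?_
    rw [h0, pow_zero] at hi
    rw [eq_inv_of_mul_eq_one_left (orderOf_eq_one_iff.1 hi)]
    exact P.inv_mem x.2
  have hF : Nat.card {y : G // y⁻¹ * g * y ∈ T} = Nat.card T := by
    have h1 := h.coset_norm hPT hlam hT hind hres g
    rw [Finset.sum_congr rfl (fun x _ => hone x), Finset.sum_const, Finset.card_univ,
      ← Nat.card_eq_fintype_card, nsmul_eq_mul, mul_one, mul_comm] at h1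
    exact_mod_cast (mul_left_cancel₀ (Nat.cast_ne_zero.2 Nat.card_pos.ne') h1).symm
  -- fixed cosets of `T`
  set R := Subgroup.zpowers g
  have hR : IsPGroup p R := by
    refine fun ⟨r, hr⟩ => ?_
    obtain ⟨i, rfl⟩ := Subgroup.mem_zpowers_iff.1 hr
    obtain ⟨j, hj⟩ := hQ ⟨g ^ i, Q.zpow_mem hgQ i⟩
    exact ⟨j, Subtype.ext (congrArg Subtype.val hj : (g ^ i) ^ p ^ j = 1)⟩
  have hfix : ∀ y : G, (QuotientGroup.mk y : G ⧸ T) ∈ MulAction.fixedPoints R (G ⧸ T) ↔ y⁻¹ * g * y ∈ T := by
    intro y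
    rw [MulAction.mem_fixedPoints]
    constructor
    · intro hh
      have h1 := hh ⟨g, Subgroup.mem_zpowers g⟩
      change (QuotientGroup.mk (g * y) : G ⧸ T) = QuotientGroup.mk y at h1
      rw [eq_comm, QuotientGroup.eq, ← mul_assoc] at h1
      exact h1
    · rintro hy ⟨r, hr⟩
      obtain ⟨i, rfl⟩ := Subgroup.mem_zpowers_iff.1 hr
      show (QuotientGroup.mk (g ^ i * y) : G ⧸ T) = QuotientGroup.mk y
      rw [eq_comm, QuotientGroup.eq, ← mul_assoc]
      have hi := T.zpow_mem hy i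
      rwa [show (y⁻¹ * g * y) ^ i = y⁻¹ * g ^ i * y by simpa using conj_zpow (a := y⁻¹) (b := g) (i := i)] at hi
  have hcount : Nat.card (MulAction.fixedPoints R (G ⧸ T)) = 1 := by
    have h1 := Nat.card_congr (QuotientGroup.preimageMkEquivSubgroupProdSet T
      (MulAction.fixedPoints R (G ⧸ T)))
    have e : Nat.card ↥((QuotientGroup.mk : G → G ⧸ T) ⁻¹' MulAction.fixedPoints R (G ⧸ T)) =
        Nat.card {y : G // y⁻¹ * g * y ∈ T} := Nat.card_congr (Equiv.subtypeEquivRight fun y => hfix y)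
    rw [Nat.card_prod, e, hF] at h1
    exact (Nat.eq_of_mul_eq_mul_left Nat.card_pos (h1.symm.trans (mul_one _).symm))
  have hp2 : p = 2 := by
    have h1 := hR.card_modEq_card_fixedPoints (G ⧸ T)
    rw [hcount, ← Subgroup.index] at h1
    obtain ⟨m, hm⟩ := IsPGroup.iff_card.1 h.pgroup
    have hm0 : m ≠ 0 := fun h0 => h.ne_bot (Subgroup.card_eq_one.1 (by rw [hm, h0, pow_zero]))
    have h2 : T.index + 1 ≡ 0 [MOD p] :=
      Nat.modEq_zero_iff_dvd.2 (by rw [hidx, hm]; exact dvd_pow_self p hm0)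
    exact (Nat.prime_dvd_prime_iff_eq Fact.out Nat.prime_two).1
      (Nat.modEq_zero_iff_dvd.1 ((Nat.ModEq.add_right 1 h1).symm.trans h2))
  refine ⟨hp2, fun hg2 => ?_⟩
  subst hp2
  obtain ⟨hdeg1, hab, hexp⟩ := h.elementary
  -- the commutator map
  let τ : P →* P := MonoidHom.mk' (fun x => (⟨g * x * g⁻¹, Subgroup.Normal.conj_mem inferInstance _ x.2 g⟩ : P) * x⁻¹)
    (fun x y => by
      rw [show (⟨g * (↑(x * y)) * g⁻¹, Subgroup.Normal.conj_mem inferInstance _ (x * y).2 g⟩ : P) =
        ⟨g * x * g⁻¹, Subgroup.Normal.conj_mem inferInstance _ x.2 g⟩ *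
          ⟨g * y * g⁻¹, Subgroup.Normal.conj_mem inferInstance _ y.2 g⟩ from
        Subtype.ext (by simp only [Subgroup.coe_mul]; group), mul_inv_rev, hab y⁻¹ x⁻¹]
      letI : CommGroup P := { (inferInstance : Group P) with mul_comm := hab }
      exact mul_mul_mul_comm _ _ _ _)
  have hinv : ∀ x : P, x⁻¹ = x := fun x => inv_eq_of_mul_eq_one_left (by rw [← sq]; exact hexp x)
  have hrk : τ.range ≤ τ.ker := by
    rintro _ ⟨x, rfl⟩
    rw [MonoidHom.mem_ker]
    apply Subtype.ext
    have hc : (g ^ 2) * (x : G) = x * g ^ 2 := congrArg Subtype.val (hab ⟨_, hg2⟩ x)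
    show g * ((g * x * g⁻¹) * (x : G)⁻¹) * g⁻¹ * ((g * x * g⁻¹) * (x : G)⁻¹)⁻¹ = 1
    rw [show ((g * x * g⁻¹) * (x : G)⁻¹)⁻¹ = (g * x * g⁻¹) * (x : G)⁻¹ from congrArg Subtype.val (hinv (τ x)),
      show g * ((g * x * g⁻¹) * (x : G)⁻¹) * g⁻¹ * ((g * x * g⁻¹) * (x : G)⁻¹) =
        g ^ 2 * x * (g ^ 2)⁻¹ * (g * ((x : G)⁻¹ * x) * g⁻¹) * (x : G)⁻¹ by rw [sq]; group,
      inv_mul_cancel, mul_one, mul_inv_cancel, mul_one, hc, mul_inv_cancel_right, mul_inv_cancel]
  haveI : τ.range.Normal := ⟨fun a ha y => by rwa [hab y a, mul_inv_cancel_right]⟩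
  -- at most one nontrivial character is fixed by `g`
  have huniq : ∀ φ φ' : P → ℂ, Cfsg.IsIrrCharacter P φ → Cfsg.IsIrrCharacter P φ' → φ ≠ (fun _ => 1) →
      φ' ≠ (fun _ => 1) → conjN P g φ = φ → conjN P g φ' = φ' → φ = φ' := by
    intro φ φ' hφ hφ' h1 h1' hg1 hg1'
    have key : ∀ ξ : P → ℂ, Cfsg.IsIrrCharacter P ξ → ξ ≠ (fun _ => 1) → conjN P g ξ = ξ →
        ∃ y : G, y⁻¹ * g * y ∈ T ∧ ξ = conjN P y⁻¹ lam := by
      intro ξ hξ hξ1 hξg
      obtain ⟨z, hz⟩ := h.transitive hlam hξ hne hξ1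
      refine ⟨z⁻¹, ?_, by rw [inv_inv]; exact hz⟩
      rw [inv_inv, hT, mem_inertia, conjN_mul, conjN_mul, ← hz, hξg, hz, ← conjN_mul, mul_inv_cancel, conjN_one]
    obtain ⟨y, hy, rfl⟩ := key φ hφ h1 hg1
    obtain ⟨y', hy', rfl⟩ := key φ' hφ' h1' hg1'
    have hsub := (Nat.card_eq_one_iff_unique.1 hcount).1
    have he := congrArg Subtype.val (hsub.elim ⟨_, (hfix y).2 hy⟩ ⟨_, (hfix y').2 hy'⟩)
    rw [QuotientGroup.eq, hT, mem_inertia] at he
    conv_rhs => rw [← he, ← conjN_mul, mul_inv_cancel_right]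
  have hidx2 : τ.range.index ≤ 2 := by
    letI : CommGroup (P ⧸ τ.range) := { (inferInstance : Group (P ⧸ τ.range)) with
      mul_comm := fun a b => by
        obtain ⟨a, rfl⟩ := QuotientGroup.mk_surjective a
        obtain ⟨b, rfl⟩ := QuotientGroup.mk_surjective b
        rw [← QuotientGroup.mk_mul, ← QuotientGroup.mk_mul, hab] }
    letI : Fintype (P ⧸ τ.range) := Fintype.ofFinite _
    have hfixed : ∀ φ : Cfsg.IrrCharacter (P ⧸ τ.range),
        Cfsg.IsIrrCharacter P (fun x => (φ : P ⧸ τ.range → ℂ) (QuotientGroup.mk' _ x)) ∧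
        conjN P g (fun x => (φ : P ⧸ τ.range → ℂ) (QuotientGroup.mk' _ x)) =
          fun x => (φ : P ⧸ τ.range → ℂ) (QuotientGroup.mk' _ x) := by
      intro φ
      refine ⟨IsIrrCharacter.comp_surjective φ.2 _ (QuotientGroup.mk'_surjective _), funext fun x => ?_⟩
      rw [conjN]
      refine congrArg (φ : P ⧸ τ.range → ℂ) ?_
      rw [← div_eq_one, ← map_div, QuotientGroup.mk'_apply, QuotientGroup.eq_one_iff]
      exact ⟨x, (div_eq_mul_inv _ _).symm⟩
    have hcardI : Nat.card (Cfsg.IrrCharacter (P ⧸ τ.range)) = Nat.card (P ⧸ τ.range) := by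
      rw [← sum_deg_sq_nat (G := P ⧸ τ.range), Finset.sum_congr rfl (g := fun _ => 1) (fun φ _ => by
        have h1 := IsCharacter.apply_one_eq_deg (isCharacter_of_irr φ.2)
        rw [irr_deg_one_of_comm (fun a b => mul_comm a b) φ.2] at h1
        rw [show deg (φ : P ⧸ τ.range → ℂ) = 1 by exact_mod_cast h1.symm, one_pow]),
        Finset.sum_const, smul_eq_mul, mul_one, Finset.card_univ, Nat.card_eq_fintype_card]
    rw [Subgroup.index_eq_card, ← hcardI]
    let one' : Cfsg.IrrCharacter (P ⧸ τ.range) := ⟨fun _ => 1, isIrrCharacter_one⟩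
    by_cases hex : ∃ φ : Cfsg.IrrCharacter (P ⧸ τ.range), φ ≠ one'
    · obtain ⟨φ0, h0⟩ := hex
      refine (Nat.card_le_card_of_surjective (fun b : Bool => if b then φ0 else one') fun φ => ?_).trans
        (by simp)
      by_cases hφ : φ = one'
      · exact ⟨false, hφ.symm⟩
      · refine ⟨true, Subtype.ext ?_⟩
        have hne1 : ∀ φ : Cfsg.IrrCharacter (P ⧸ τ.range), φ ≠ one' →
            (fun x => (φ : P ⧸ τ.range → ℂ) (QuotientGroup.mk' _ x)) ≠ fun _ => (1 : ℂ) := fun φ hφ e =>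
          hφ (Subtype.ext (funext fun a => by
            obtain ⟨a, rfl⟩ := QuotientGroup.mk_surjective a
            exact congrFun e a))
        have he := huniq _ _ (hfixed φ0).1 (hfixed φ).1 (hne1 _ h0) (hne1 _ hφ) (hfixed φ0).2 (hfixed φ).2
        funext a
        obtain ⟨a, rfl⟩ := QuotientGroup.mk_surjective a
        exact congrFun he a
    · push Not at hex
      haveI : Subsingleton (Cfsg.IrrCharacter (P ⧸ τ.range)) := ⟨fun a b => (hex a).trans (hex b).symm⟩
      exact (Finite.card_le_one_iff_subsingleton.2 inferInstance).trans one_le_two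
  have hk : Nat.card τ.range ≤ Nat.card τ.ker := Subgroup.card_le_of_le hrk
  have e1 := τ.range.card_mul_index
  have e2 := τ.ker.card_mul_index
  rw [Subgroup.index_ker] at e2
  have e3 : Nat.card τ.ker = τ.range.index := Nat.eq_of_mul_eq_mul_left (Nat.card_pos : 0 < Nat.card τ.range)
    (by rw [e1, ← e2, mul_comm])
  have hd := h.degree.1
  have hd2 : deg χ ≠ 1 := fun h0 => h.nonlinear (by
    rw [IsCharacter.apply_one_eq_deg (isCharacter_of_irr h.irr), h0, Nat.cast_one])
  obtain ⟨m, hm⟩ := IsPGroup.iff_card.1 h.pgroup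
  have hle : Nat.card P ≤ 4 := by rw [← e1]; nlinarith
  have hd0 : deg χ ≠ 0 := fun h0 => IsIrrCharacter.apply_one_ne_zero h.irr
    (by rw [IsCharacter.apply_one_eq_deg (isCharacter_of_irr h.irr), h0, Nat.cast_zero])
  rw [hm] at hle hd ⊢
  match m, hle, hd with
  | 0, _, hd => simp at hd; omega
  | 1, _, hd => omega
  | 2, _, _ => rfl
  | k + 3, hle, _ => rw [pow_add] at hle; have := Nat.one_le_pow k 2 two_pos; omega

end UnitOnSingular

end Cfsg.Lib.Chars
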