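import Mathlib
import Cfsg.Agent.Chars.RootValuesSingular
import Cfsg.Agent.Chars.IsaacsItoPrimePower
import Cfsg.Agent.Chars.PrimitiveMetanilpotent

/-!
# The exceptional case with symmetric group of degree four

A normal four-group with centralizer the product with an odd centre, of index twenty-four over the
centre, yields a complement isomorphic to the symmetric group.
-/

set_option autoImplicit false
set_option linter.unusedSectionVars false
set_option linter.style.haveILetI false

namespace Cfsg.Lib.Chars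

open scoped commutatorElement Pointwise

universe u

variable {X : Type u} [Group X] [Finite X]

/-- The fixed points of an element on a normal subgroup, modulo a prime. -/
theorem card_fixed_mod {q : ℕ} [Fact q.Prime] (V : Subgroup X) [V.Normal] (R : Subgroup X) (hR : IsPGroup q R) :
    Nat.card V ≡ Nat.card (V ⊓ Subgroup.centralizer (R : Set X) : Subgroup X) [MOD q] := by
  classical
  letI : MulAction R V := MulAction.compHom V ((MulAut.conjNormal (H := V)).comp R.subtype)
  have hsm : ∀ (r : R) (v : V), ((r • v : V) : X) = (r : X) * v * (r : X)⁻¹ := fun r v =>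
    MulAut.conjNormal_apply (r : X) v
  refine (hR.card_modEq_card_fixedPoints V).trans (congrArg (· % q) ?_)
  refine Nat.card_congr
    { toFun := fun v => ⟨(v.1 : X), v.1.2, Subgroup.mem_centralizer_iff.2 fun r hr => by
        have e := congrArg Subtype.val (v.2 ⟨r, hr⟩)
        rw [hsm] at e
        exact mul_inv_eq_iff_eq_mul.1 e⟩
      invFun := fun v => ⟨⟨(v : X), v.2.1⟩, fun r => Subtype.ext (by
        rw [hsm]
        exact mul_inv_eq_iff_eq_mul.2 (Subgroup.mem_centralizer_iff.1 v.2.2 r r.2))⟩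
      left_inv := fun v => rfl
      right_inv := fun v => rfl }

/-- A group of order twenty-four with a self-centralizing normal subgroup of order four. -/
theorem s4_structure (hX : Nat.card X = 24) (V : Subgroup X) [V.Normal] (hV : Nat.card V = 4)
    (hC : Subgroup.centralizer (V : Set X) ≤ V) :
    Nonempty (X ≃* Equiv.Perm (Fin 4)) ∧ ∃ N : Subgroup X, Nat.card N = 6 ∧ N ⊓ V = ⊥ ∧
      ∃ r ∈ N, orderOf r = 3 ∧ ∀ t ∈ N, orderOf t = 2 → t * r * t⁻¹ = r⁻¹ := by
  classical
  haveI : Fact (Nat.Prime 3) := ⟨Nat.prime_three⟩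
  obtain ⟨R⟩ : Nonempty (Sylow 3 X) := inferInstance
  have hR : Nat.card (R : Subgroup X) = 3 := by
    rw [R.card_eq_multiplicity, hX, show (24 : ℕ) = 8 * 3 by norm_num,
      Nat.factorization_mul (by norm_num) (by norm_num), Finsupp.add_apply,
      Nat.factorization_eq_zero_of_not_dvd (by norm_num : ¬ (3 : ℕ) ∣ 8), Nat.prime_three.factorization_self]
    norm_num
  have hRV : (R : Subgroup X) ⊓ V = ⊥ := Subgroup.inf_eq_bot_of_coprime (by rw [hR, hV]; norm_num)
  set W := V ⊓ Subgroup.centralizer ((R : Subgroup X) : Set X) with hW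
  have hWbot : W = ⊥ := by
    have h1 := card_fixed_mod V (R : Subgroup X) R.isPGroup'
    rw [hV, ← hW] at h1
    have hdvd : Nat.card W ∣ 4 := hV ▸ Subgroup.card_dvd_of_le inf_le_left
    have hle : Nat.card W ≤ 4 := Nat.le_of_dvd (by norm_num) hdvd
    have : Nat.card W = 1 ∨ Nat.card W = 4 := by
      have hmod : 4 % 3 = Nat.card W % 3 := h1
      have := Nat.card_pos (α := W)
      omega
    rcases this with h | h
    · exact Subgroup.card_eq_one.1 h
    · exfalso
      have hWV : W = V := Subgroup.eq_of_le_of_card_ge inf_le_left (by omega)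
      have hRC : (R : Subgroup X) ≤ V := fun r hr => hC (Subgroup.mem_centralizer_iff.2 fun v hv => by
        have hvW : v ∈ W := hWV.symm ▸ hv
        exact (Subgroup.mem_centralizer_iff.1 hvW.2 r hr).symm)
      rw [inf_eq_left.2 hRC] at hRV
      rw [hRV, Subgroup.card_bot] at hR
      norm_num at hR
  set N := Subgroup.normalizer ((R : Subgroup X) : Set X) with hN
  have hNV : N ⊓ V = ⊥ := by
    rw [eq_bot_iff, ← hWbot]
    rintro v ⟨hvN, hvV⟩
    refine ⟨hvV, Subgroup.mem_centralizer_iff.2 fun r hr => ?_⟩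
    have h1 : ⁅v, r⁆ ∈ (R : Subgroup X) := by
      rw [commutatorElement_def]
      exact (R : Subgroup X).mul_mem ((Subgroup.mem_normalizer_iff.1 hvN r).1 hr) ((R : Subgroup X).inv_mem hr)
    have h2 : ⁅v, r⁆ ∈ V := by
      rw [commutatorElement_def, mul_assoc, mul_assoc]
      exact V.mul_mem hvV (by
        rw [← mul_assoc]; exact Subgroup.Normal.conj_mem inferInstance _ (V.inv_mem hvV) r)
    have h3 : ⁅v, r⁆ ∈ (R : Subgroup X) ⊓ V := ⟨h1, h2⟩
    rw [hRV, Subgroup.mem_bot, commutatorElement_eq_one_iff_mul_comm] at h3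
    exact h3.symm
  have hNle : Nat.card N ≤ 6 := by
    have : Nat.card N * 4 ≤ 24 := by
      rw [← hV, ← hX, ← Nat.card_prod]
      refine Nat.card_le_card_of_injective (fun a : N × V => (a.1 : X) * a.2) ?_
      rintro ⟨a, b⟩ ⟨a', b'⟩ e
      have e' : (a : X) * b = a' * b' := e
      have h1 : (a' : X)⁻¹ * a = b' * (b : X)⁻¹ := by
        calc (a' : X)⁻¹ * a = (a' : X)⁻¹ * ((a : X) * b) * (b : X)⁻¹ := by group
          _ = b' * (b : X)⁻¹ := by rw [e']; group
      have h2 : (a' : X)⁻¹ * a ∈ N ⊓ V := ⟨N.mul_mem (N.inv_mem a'.2) a.2, h1 ▸ V.mul_mem b'.2 (V.inv_mem b.2)⟩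
      rw [hNV, Subgroup.mem_bot] at h2
      have ea : a = a' := Subtype.ext (inv_mul_eq_one.1 h2).symm
      subst ea
      exact Prod.ext rfl (Subtype.ext (mul_left_cancel e'))
    omega
  have hNidx : N.index = 4 := by
    have h1 : Nat.card (Sylow 3 X) = N.index := R.card_eq_index_normalizer
    have h2 : Nat.card (Sylow 3 X) ≡ 1 [MOD 3] := card_sylow_modEq_one 3 X
    have h3 : N.index ∣ (R : Subgroup X).index := Subgroup.index_dvd_of_le Subgroup.le_normalizer
    have h4 := (R : Subgroup X).card_mul_index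
    rw [hR, hX] at h4
    rw [show (R : Subgroup X).index = 8 by omega] at h3
    have h5 := N.card_mul_index
    rw [hX] at h5
    have h6 : N.index ≤ 8 := Nat.le_of_dvd (by norm_num) h3
    rw [h1] at h2
    have h7 : N.index % 3 = 1 := h2
    have h8 : 4 ≤ N.index := by nlinarith
    interval_cases N.index <;> omega
  have hN6 : Nat.card N = 6 := by
    have := N.card_mul_index
    rw [hNidx, hX] at this
    omega
  refine ⟨?_, N, hN6, hNV, ?_⟩
  · set f := MulAction.toPermHom X (X ⧸ N)
    have hker : f.ker = ⊥ := by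
      have hk : f.ker = N.normalCore := (Subgroup.normalCore_eq_ker N).symm
      haveI : f.ker.Normal := inferInstance
      have hkN : f.ker ≤ N := hk.trans_le (Subgroup.normalCore_le N)
      rw [eq_bot_iff, ← hNV]
      refine le_inf hkN fun x hx => hC (Subgroup.mem_centralizer_iff.2 fun v hv => ?_)
      have h1 : ⁅x, v⁆ ∈ f.ker ⊓ V := by
        refine ⟨?_, ?_⟩
        · rw [commutatorElement_def, mul_assoc, mul_assoc]
          exact f.ker.mul_mem hx (by
            rw [← mul_assoc]; exact Subgroup.Normal.conj_mem inferInstance _ (f.ker.inv_mem hx) v)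
        · rw [commutatorElement_def]
          exact V.mul_mem (Subgroup.Normal.conj_mem inferInstance _ hv x) (V.inv_mem hv)
      have h2 : ⁅x, v⁆ ∈ N ⊓ V := ⟨hkN h1.1, h1.2⟩
      rw [hNV, Subgroup.mem_bot, commutatorElement_eq_one_iff_mul_comm] at h2
      exact h2.symm
    have hinj : Function.Injective f := (MonoidHom.ker_eq_bot_iff f).1 hker
    have e : X ⧸ N ≃ Fin 4 := (Finite.equivFinOfCardEq (by rw [← Subgroup.index_eq_card, hNidx]))
    have hbij : Function.Bijective ((Equiv.permCongrHom e).toMonoidHom.comp f) := by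
      refine (Nat.bijective_iff_injective_and_card _).2 ⟨(Equiv.permCongrHom e).injective.comp hinj, ?_⟩
      rw [hX, Nat.card_perm, Nat.card_eq_fintype_card, Fintype.card_fin]
      rfl
    exact ⟨MulEquiv.ofBijective _ hbij⟩
  obtain ⟨⟨r, hr⟩, hgen⟩ := (isCyclic_of_prime_card hR).exists_generator
  have hr3 : orderOf r = 3 := by
    rw [← Subgroup.orderOf_mk r hr, orderOf_eq_card_of_forall_mem_zpowers hgen, hR]
  refine ⟨r, Subgroup.le_normalizer hr, hr3, fun t ht ht2 => ?_⟩
  have hconj : t * r * t⁻¹ ∈ (R : Subgroup X) := (Subgroup.mem_normalizer_iff.1 ht r).1 hr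
  have hRz : (R : Subgroup X) = Subgroup.zpowers r :=
    (Subgroup.eq_of_le_of_card_ge (Subgroup.zpowers_le.2 hr) (by rw [Nat.card_zpowers, hr3, hR])).symm
  rw [hRz, ← mem_powers_iff_mem_zpowers, mem_powers_iff_mem_range_orderOf, hr3] at hconj
  obtain ⟨i, hi, hi'⟩ := Finset.mem_image.1 hconj
  have hi3 := Finset.mem_range.1 hi
  rcases (show i = 0 ∨ i = 1 ∨ i = 2 by omega) with rfl | rfl | rfl
  · exfalso
    rw [pow_zero, eq_comm, mul_inv_eq_one] at hi'
    have : r = 1 := mul_eq_left.1 hi'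
    rw [this, orderOf_one] at hr3
    norm_num at hr3
  · exfalso
    rw [pow_one, eq_comm, mul_inv_eq_iff_eq_mul] at hi'
    haveI : Fact (Nat.Prime 2) := ⟨Nat.prime_two⟩
    have ht' : IsPGroup 2 (Subgroup.zpowers t) :=
      IsPGroup.of_card (n := 1) (by rw [Nat.card_zpowers, ht2, pow_one])
    set U := V ⊓ Subgroup.centralizer ((Subgroup.zpowers t : Subgroup X) : Set X)
    have h1 := card_fixed_mod V _ ht'
    rw [hV] at h1
    have hU1 : U ≠ ⊥ := fun h0 => by
      rw [show (V ⊓ Subgroup.centralizer ((Subgroup.zpowers t : Subgroup X) : Set X)) = U from rfl, h0,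
        Subgroup.card_bot] at h1
      exact absurd h1 (by decide)
    have hU4 : U ≠ V := fun h0 => by
      have htC : t ∈ V := hC (Subgroup.mem_centralizer_iff.2 fun v hv => by
        have hvU : v ∈ U := h0.symm ▸ hv
        exact (Subgroup.mem_centralizer_iff.1 hvU.2 t (Subgroup.mem_zpowers t)).symm)
      have : t ∈ N ⊓ V := ⟨ht, htC⟩
      rw [hNV, Subgroup.mem_bot] at this
      rw [this, orderOf_one] at ht2
      norm_num at ht2
    have hUcard : Nat.card U = 2 := by
      have hdvd : Nat.card U ∣ 4 := hV ▸ Subgroup.card_dvd_of_le inf_le_left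
      have h0 : Nat.card U ≠ 1 := fun h => hU1 (Subgroup.card_eq_one.1 h)
      have h4 : Nat.card U ≠ 4 := fun h => hU4 (Subgroup.eq_of_le_of_card_ge inf_le_left (by omega))
      have hle : Nat.card U ≤ 4 := Nat.le_of_dvd (by norm_num) hdvd
      interval_cases h : Nat.card U <;> omega
    obtain ⟨u, hu, hu1⟩ := (Subgroup.bot_or_exists_ne_one U).resolve_left hU1
    have hru : r * u * r⁻¹ ∈ U := by
      refine ⟨Subgroup.Normal.conj_mem inferInstance _ hu.1 r, ?_⟩
      refine Subgroup.mem_centralizer_iff.2 ?_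
      intro y hy
      have hyr : Commute y r := by
        obtain ⟨j, rfl⟩ := Subgroup.mem_zpowers_iff.1 hy
        exact (show Commute t r from hi').zpow_left j
      exact ((hyr.mul_right (Subgroup.mem_centralizer_iff.1 hu.2 y hy)).mul_right hyr.inv_right).eq
    have heq : r * u * r⁻¹ = u := by
      obtain ⟨w, hw1, hw⟩ := (Nat.card_eq_two_iff' (1 : U)).1 hUcard
      have e1 := hw ⟨u, hu⟩ fun e => hu1 (congrArg Subtype.val e)
      have e2 := hw ⟨_, hru⟩ fun e => hu1 (by
        have e3 : r * u * r⁻¹ = 1 := congrArg Subtype.val e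
        exact conj_eq_one_iff.1 e3)
      exact congrArg Subtype.val (e2.trans e1.symm)
    have huW : u ∈ W := by
      refine ⟨hu.1, Subgroup.mem_centralizer_iff.2 fun y hy => ?_⟩
      rw [hRz] at hy
      obtain ⟨j, rfl⟩ := Subgroup.mem_zpowers_iff.1 hy
      exact ((show Commute r u from mul_inv_eq_iff_eq_mul.1 heq).zpow_left j).eq
    rw [hWbot, Subgroup.mem_bot] at huW
    exact hu1 huW
  · rw [← hi', eq_comm, inv_eq_iff_mul_eq_one, ← pow_succ']
    rw [show (2 + 1 : ℕ) = orderOf r by omega, pow_orderOf_eq_one]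

variable {G : Type u} [Group G] [Finite G]

/-- The complement of the centre. -/
theorem s4_complement (P : Subgroup G) [P.Normal] (hP : Nat.card P = 4)
    (hC : Subgroup.centralizer (P : Set G) = P ⊔ Subgroup.center G) (hPZ : P ⊓ Subgroup.center G = ⊥)
    (hodd : Odd (Nat.card (Subgroup.center G))) (hidx : (Subgroup.center G).index = 24) :
    ∃ H : Subgroup G, Nonempty (↥H ≃* Equiv.Perm (Fin 4)) ∧ H ⊓ Subgroup.center G = ⊥ ∧
      H ⊔ Subgroup.center G = ⊤ := by
  classical
  set π := QuotientGroup.mk' (Subgroup.center G) with hπ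
  have hπmem : ∀ x : G, π x = 1 ↔ x ∈ Subgroup.center G := QuotientGroup.eq_one_iff
  set V := P.map π with hVd
  haveI : V.Normal := Subgroup.Normal.map inferInstance π (QuotientGroup.mk'_surjective _)
  have hV : Nat.card V = 4 := by
    have := card_eq_map_mul_inf π P
    rw [hP, QuotientGroup.ker_mk', hPZ, Subgroup.card_bot, mul_one] at this
    exact this.symm
  have hCV : Subgroup.centralizer (V : Set (G ⧸ Subgroup.center G)) ≤ V := by
    intro c hc
    obtain ⟨x, rfl⟩ := QuotientGroup.mk'_surjective _ c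
    have hx : x ∈ Subgroup.centralizer (P : Set G) := by
      rw [Subgroup.mem_centralizer_iff]
      intro v hv
      have h1 : ⁅v, x⁆ ∈ P ⊓ Subgroup.center G := by
        refine ⟨?_, ?_⟩
        · rw [commutatorElement_def, mul_assoc, mul_assoc]
          exact P.mul_mem hv (by rw [← mul_assoc]; exact Subgroup.Normal.conj_mem inferInstance _ (P.inv_mem hv) x)
        · show ⁅v, x⁆ ∈ Subgroup.center G
          rw [← hπmem, map_commutatorElement, commutatorElement_eq_one_iff_mul_comm]
          exact Subgroup.mem_centralizer_iff.1 hc _ (Subgroup.mem_map_of_mem π hv)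
      rw [hPZ, Subgroup.mem_bot, commutatorElement_eq_one_iff_mul_comm] at h1
      exact h1
    rw [hC] at hx
    have h2 : π x ∈ (P ⊔ Subgroup.center G).map π := Subgroup.mem_map_of_mem π hx
    rwa [Subgroup.map_sup, show (Subgroup.center G).map π = ⊥ from
      (Subgroup.map_eq_bot_iff _).2 (QuotientGroup.ker_mk' _).ge, sup_bot_eq] at h2
  have hX : Nat.card (G ⧸ Subgroup.center G) = 24 := hidx ▸ (Subgroup.index_eq_card _).symm
  obtain ⟨⟨e⟩, N, hN6, hNV, r0, hr0N, hr03, hinv⟩ := s4_structure hX V hV hCV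
  haveI : Fact (Nat.Prime 2) := ⟨Nat.prime_two⟩
  obtain ⟨⟨t, htN⟩, ht⟩ := exists_prime_orderOf_dvd_card' (G := N.comap π) 2 (by
    refine (show 2 ∣ Nat.card N by rw [hN6]; norm_num).trans ?_
    conv_lhs => rw [← Subgroup.map_comap_eq_self_of_surjective (QuotientGroup.mk'_surjective _) N]
    exact (Subgroup.card_map_dvd _ π))
  rw [Subgroup.orderOf_mk] at ht
  have htt : orderOf (π t) = 2 := by
    refine orderOf_eq_prime (by rw [← map_pow, ← ht, pow_orderOf_eq_one, map_one]) fun h0 => ?_
    have h1 := Subgroup.orderOf_dvd_natCard (s := Subgroup.center G) ((hπmem t).1 h0)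
    rw [ht] at h1
    exact (Nat.not_even_iff_odd.2 hodd) (even_iff_two_dvd.2 h1)
  have htinv := hinv (π t) htN htt
  obtain ⟨r, hr⟩ := QuotientGroup.mk'_surjective _ r0
  set s := t * r * t⁻¹ * r⁻¹ with hs
  have ht2 : t * t = 1 := by rw [← sq, ← ht, pow_orderOf_eq_one]
  have htinv' : t⁻¹ = t := inv_eq_of_mul_eq_one_left ht2
  have hπs : π s = r0 := by
    rw [hs, map_mul, map_mul, map_mul, map_inv, map_inv, hr, htinv]
    have h3 : r0 * r0 * r0 = 1 := by rw [← pow_three', ← hr03, pow_orderOf_eq_one]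
    rw [← mul_inv_rev, inv_eq_iff_mul_eq_one]
    exact h3
  have hts : t * s * t⁻¹ = s⁻¹ := by
    rw [hs, mul_inv_rev, mul_inv_rev, mul_inv_rev, inv_inv, inv_inv]
    simp only [htinv', mul_assoc]
    rw [← mul_assoc t t, ht2, one_mul]
  have hs3 : s ^ 3 = 1 := by
    have hmem : s ^ 3 ∈ Subgroup.center G := by
      rw [← hπmem, map_pow, hπs, ← hr03, pow_orderOf_eq_one]
    have h1 : t * s ^ 3 * t⁻¹ = (s ^ 3)⁻¹ := by rw [← inv_pow, ← hts, conj_pow]
    rw [Subgroup.mem_center_iff.1 hmem t, mul_inv_cancel_right] at h1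
    have h2 : (s ^ 3) ^ 2 = 1 := by rw [sq]; exact mul_eq_one_iff_eq_inv.2 h1
    exact orderOf_eq_one_iff.1 (Nat.eq_one_of_dvd_coprimes (Nat.coprime_two_left.2 hodd)
      (orderOf_dvd_of_pow_eq_one h2) (Subgroup.orderOf_dvd_natCard _ hmem))
  set K3 := Subgroup.zpowers s
  set T2 := Subgroup.zpowers t
  have hT2N : T2 ≤ Subgroup.normalizer (K3 : Set G) := by
    rw [Subgroup.zpowers_le, Subgroup.mem_normalizer_iff]
    intro y
    have hc : ∀ y ∈ K3, t * y * t⁻¹ ∈ K3 := fun y hy => by
      obtain ⟨j, rfl⟩ := Subgroup.mem_zpowers_iff.1 hy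
      rw [← conj_zpow, hts, inv_zpow]
      exact K3.inv_mem hy
    refine ⟨hc y, fun hy => ?_⟩
    have := hc _ hy
    simp only [htinv', mul_assoc] at this
    rwa [ht2, mul_one, ← mul_assoc, ht2, one_mul] at this
  have hprod : ∀ A B : Subgroup G, (↑(A ⊔ B) : Set G) = (A : Set G) * B →
      Nat.card (A ⊔ B : Subgroup G) ≤ Nat.card A * Nat.card B := by
    intro A B hAB
    rw [← Nat.card_prod]
    refine Nat.card_le_card_of_surjective (fun a : A × B => (⟨(a.1 : G) * a.2,
      Subgroup.mul_mem_sup a.1.2 a.2.2⟩ : (A ⊔ B : Subgroup G))) ?_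
    rintro ⟨y, hy⟩
    obtain ⟨a, ha, b, hb, rfl⟩ := (Set.ext_iff.1 hAB y).1 hy
    exact ⟨(⟨a, ha⟩, ⟨b, hb⟩), rfl⟩
  set S := K3 ⊔ T2
  set H := P ⊔ S with hH
  have hS6 : Nat.card S ≤ 6 := by
    refine (hprod K3 T2 (Subgroup.coe_mul_of_right_le_normalizer_left K3 T2 hT2N)).trans ?_
    rw [Nat.card_zpowers, Nat.card_zpowers, ht]
    have := Nat.le_of_dvd (by norm_num) (orderOf_dvd_of_pow_eq_one hs3)
    omega
  have hH24 : Nat.card H ≤ 24 := by
    refine (hprod P S (Subgroup.normal_mul P S)).trans ?_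
    rw [hP]; omega
  have hsurj : H.map π = ⊤ := by
    apply Subgroup.eq_top_of_card_eq
    refine Nat.dvd_antisymm (Subgroup.card_subgroup_dvd_card _) ?_
    rw [hX, show (24 : ℕ) = 8 * 3 by norm_num]
    refine Nat.Coprime.mul_dvd_of_dvd_of_dvd (by norm_num) ?_ ?_
    · have hle : V ⊔ Subgroup.zpowers (π t) ≤ H.map π := sup_le (Subgroup.map_mono le_sup_left)
        (Subgroup.zpowers_le.2 (Subgroup.mem_map_of_mem π
          ((le_sup_right : S ≤ H) ((le_sup_right : T2 ≤ S) (Subgroup.mem_zpowers t)))))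
      refine dvd_trans ?_ (Subgroup.card_dvd_of_le hle)
      have hbot : Subgroup.zpowers (π t) ⊓ V = ⊥ := by
        rw [eq_bot_iff, ← hNV]
        exact inf_le_inf_right _ (Subgroup.zpowers_le.2 htN)
      have h1 := Subgroup.relIndex_mul_relIndex ⊥ (Subgroup.zpowers (π t)) (V ⊔ Subgroup.zpowers (π t)) bot_le
        le_sup_right
      rw [relIndex_sup_of_normal V, Subgroup.relIndex_bot_left, Subgroup.relIndex_bot_left,
        ← Subgroup.inf_relIndex_right, hbot, Subgroup.relIndex_bot_left, Nat.card_zpowers, htt, hV] at h1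
      rw [← h1]
    · rw [← hr03, ← Nat.card_zpowers]
      refine Subgroup.card_dvd_of_le (Subgroup.zpowers_le.2 ?_)
      rw [← hπs]
      exact Subgroup.mem_map_of_mem π ((le_sup_right : S ≤ H) ((le_sup_left : K3 ≤ S) (Subgroup.mem_zpowers s)))
  have hbij : Function.Bijective (π.comp H.subtype) := by
    have hs' : Function.Surjective (π.comp H.subtype) := fun y => by
      obtain ⟨x, hx, rfl⟩ := (hsurj.symm ▸ Subgroup.mem_top y : y ∈ H.map π)
      exact ⟨⟨x, hx⟩, rfl⟩
    refine (Nat.bijective_iff_surjective_and_card _).2 ⟨hs', ?_⟩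
    have := Nat.card_le_card_of_surjective _ hs'
    omega
  refine ⟨H, ⟨(MulEquiv.ofBijective _ hbij).trans e⟩, ?_, ?_⟩
  · rw [eq_bot_iff]
    rintro x ⟨hxH, hxZ⟩
    have h1 : (⟨x, hxH⟩ : H) = 1 := hbij.1 (by rw [map_one]; exact (hπmem x).2 hxZ)
    exact congrArg Subtype.val h1
  · rw [eq_top_iff]
    intro x _
    obtain ⟨⟨y, hy⟩, hxy⟩ := hbij.2 (π x)
    have hz : y⁻¹ * x ∈ Subgroup.center G := by
      rw [← hπmem, map_mul, map_inv, show π y = π x from hxy, inv_mul_cancel]
    have := Subgroup.mul_mem_sup hy hz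
    rwa [mul_inv_cancel_left] at this

end Cfsg.Lib.Chars

namespace Cfsg.Lib.Chars

open scoped commutatorElement

universe u

variable {G : Type u} [Group G] [Fintype G] {p : ℕ} [Fact p.Prime] {P : Subgroup G} [P.Normal] [Fintype P]
  {χ : G → ℂ}

/-- The exceptional case. -/
theorem UnitOnSingular.s4_case (h : UnitOnSingular p P χ)
    (hcore : ∀ N : Subgroup G, N.Normal → IsPGroup p N → N ≤ P)
    (hsyl : (Nat.card P).factorization p ≠ (Nat.card G).factorization p) :
    p = 2 ∧ Odd (Nat.card (Subgroup.center G)) ∧ ∃ H : Subgroup G, Nonempty (↥H ≃* Equiv.Perm (Fin 4)) ∧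
      H ⊓ Subgroup.center G = ⊥ ∧ H ⊔ Subgroup.center G = ⊤ := by
  classical
  obtain ⟨Q, hPQ⟩ := h.pgroup.exists_le_sylow
  have hne : P ≠ (Q : Subgroup G) := fun e => hsyl (by
    rw [e, Q.card_eq_multiplicity, (Fact.out : p.Prime).factorization_pow, Finsupp.single_eq_same])
  obtain ⟨g₀, hg₀Q, hg₀P⟩ := SetLike.exists_of_lt (lt_of_le_of_ne hPQ hne)
  obtain ⟨hp2, -⟩ := h.of_pElement_outside Q.isPGroup' hPQ hg₀Q hg₀P
  subst hp2
  -- an element of the Sylow subgroup with square in `P`
  obtain ⟨g, hgQ, hgP, hg2⟩ : ∃ g ∈ (Q : Subgroup G), g ∉ P ∧ g ^ 2 ∈ P := by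
    obtain ⟨k, hk⟩ := Q.isPGroup' ⟨g₀, hg₀Q⟩
    have hk' : g₀ ^ 2 ^ k ∈ P := by rw [show g₀ ^ 2 ^ k = 1 from congrArg Subtype.val hk]; exact P.one_mem
    clear hk
    induction k generalizing g₀ with
    | zero => rw [pow_zero, pow_one] at hk'; exact absurd hk' hg₀P
    | succ k ih =>
      by_cases hsq : g₀ ^ 2 ∈ P
      · exact ⟨g₀, hg₀Q, hg₀P, hsq⟩
      · rw [pow_succ', pow_mul] at hk'
        exact ih (g₀ ^ 2) hsq ((Q : Subgroup G).pow_mem hg₀Q 2) hk'
  have h4 : Nat.card P = 4 := (h.of_pElement_outside Q.isPGroup' hPQ hgQ hgP).2 hg2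
  obtain ⟨hC, hPZ⟩ := h.centralizer_eq hcore
  have hodd : Odd (Nat.card (Subgroup.center G)) := by
    by_contra hno
    rw [Nat.not_odd_iff_even, even_iff_two_dvd] at hno
    obtain ⟨z, hz⟩ := exists_prime_orderOf_dvd_card' (G := Subgroup.center G) 2 hno
    have hzn : (Subgroup.zpowers (z : G)).Normal := ⟨fun a ha y => by
      rw [Subgroup.mem_center_iff.1 (Subgroup.zpowers_le.2 z.2 ha) y, mul_inv_cancel_right]; exact ha⟩
    have hzP : (z : G) ∈ P := hcore _ hzn
      (IsPGroup.of_card (n := 1) (by rw [Nat.card_zpowers, Subgroup.orderOf_coe, hz, pow_one]))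
      (Subgroup.mem_zpowers _)
    have hz1 : (z : G) ∈ P ⊓ Subgroup.center G := ⟨hzP, z.2⟩
    rw [hPZ, Subgroup.mem_bot] at hz1
    rw [← Subgroup.orderOf_coe, hz1, orderOf_one] at hz
    norm_num at hz
  refine ⟨rfl, hodd, s4_complement P h4 hC hPZ hodd ?_⟩
  set C := Subgroup.centralizer (P : Set G) with hCd
  have hCidx : C.index = 6 := by
    let S := {x : P // x ≠ 1}
    let a : G →* Equiv.Perm S :=
      { toFun := fun y => (MulAut.conjNormal (H := P) y).toEquiv.subtypeEquiv fun x => by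
          show x ≠ 1 ↔ MulAut.conjNormal y x ≠ 1
          exact not_congr (EmbeddingLike.map_eq_one_iff).symm
        map_one' := by ext x; simp
        map_mul' := fun y y' => by ext x; simp }
    have hker : a.ker = C := by
      ext y
      rw [MonoidHom.mem_ker, hCd, Subgroup.mem_centralizer_iff]
      constructor
      · intro hy x hx
        by_cases hx1 : (⟨x, hx⟩ : P) = 1
        · rw [show x = 1 from congrArg Subtype.val hx1, one_mul, mul_one]
        · have e := congrArg (fun σ : Equiv.Perm S => ((σ ⟨⟨x, hx⟩, hx1⟩ : S) : G)) hy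
          have e' : y * x * y⁻¹ = x := e
          exact (mul_inv_eq_iff_eq_mul.1 e').symm
      · intro hy
        ext x
        show y * ((x : P) : G) * y⁻¹ = ((x : P) : G)
        rw [← hy _ (x : P).2, mul_inv_cancel_right]
    have hS : Nat.card S = 3 := by
      rw [Nat.card_eq_fintype_card, Fintype.card_subtype_compl, Fintype.card_subtype_eq,
        ← Nat.card_eq_fintype_card, h4]
    have h6 : C.index ∣ 6 := by
      have h1 := Subgroup.card_subgroup_dvd_card a.range
      rwa [← Subgroup.index_ker, hker, Nat.card_perm, hS] at h1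
    have h3 : 3 ∣ C.index := by
      obtain ⟨lam, T, ψ, hPT, hlam, -, hT, hidx, -, -⟩ := h.exists_linear
      have hCT : C ≤ T := by
        intro c hc
        rw [hT, mem_inertia]
        funext x
        rw [conjN]
        congr 1
        apply Subtype.ext
        show c * (x : G) * c⁻¹ = x
        rw [← Subgroup.mem_centralizer_iff.1 hc x x.2, mul_inv_cancel_right]
      rw [h4] at hidx
      rw [show 3 = T.index by omega]
      exact Subgroup.index_dvd_of_le hCT
    have h2 : 2 ∣ C.index := by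
      by_contra hno
      haveI : C.Normal := inferInstance
      have hgC : g ∈ C := by
        obtain ⟨k, hk⟩ := Q.isPGroup' ⟨g, hgQ⟩
        have hk' : (QuotientGroup.mk g : G ⧸ C) ^ 2 ^ k = 1 := by
          rw [← QuotientGroup.mk_pow, show g ^ 2 ^ k = 1 from congrArg Subtype.val hk]; rfl
        have h1 : orderOf (QuotientGroup.mk g : G ⧸ C) ∣ C.index := by
          rw [Subgroup.index_eq_card]; exact orderOf_dvd_natCard _
        have h2 := Nat.eq_one_of_dvd_coprimes
          (((Nat.prime_two.coprime_iff_not_dvd).2 hno).pow_left k) (orderOf_dvd_of_pow_eq_one hk') h1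
        exact (QuotientGroup.eq_one_iff g).1 (orderOf_eq_one_iff.1 h2)
      rw [hC] at hgC
      obtain ⟨x, hx, z, hz, rfl⟩ := (Set.ext_iff.1 (Subgroup.normal_mul P (Subgroup.center G)) g).1 hgC
      have hzQ : z ∈ (Q : Subgroup G) := by
        simpa using (Q : Subgroup G).mul_mem ((Q : Subgroup G).inv_mem (hPQ hx)) hgQ
      obtain ⟨k, hk⟩ := Q.isPGroup' ⟨z, hzQ⟩
      have hz1 : z = 1 := orderOf_eq_one_iff.1 (Nat.eq_one_of_dvd_coprimes
        ((Nat.coprime_two_left.2 hodd).pow_left k)
        (orderOf_dvd_of_pow_eq_one (congrArg Subtype.val hk)) (Subgroup.orderOf_dvd_natCard _ hz))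
      exact hgP (by simpa [hz1] using hx)
    exact Nat.dvd_antisymm h6 (Nat.Coprime.mul_dvd_of_dvd_of_dvd (by norm_num : Nat.Coprime 2 3) h2 h3)
  have hPC : Nat.card C = 4 * Nat.card (Subgroup.center G) := by
    have h1 := Subgroup.relIndex_mul_relIndex ⊥ (Subgroup.center G) (P ⊔ Subgroup.center G) bot_le le_sup_right
    rw [relIndex_sup_of_normal P, Subgroup.relIndex_bot_left, Subgroup.relIndex_bot_left,
      ← Subgroup.inf_relIndex_right, inf_comm, hPZ, Subgroup.relIndex_bot_left, h4, ← hC] at h1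
    rw [← h1, mul_comm]
  have e1 := C.card_mul_index
  rw [← (Subgroup.center G).card_mul_index, hPC, hCidx] at e1
  exact Nat.eq_of_mul_eq_mul_left (Nat.card_pos : 0 < Nat.card (Subgroup.center G)) (by rw [← e1]; ring)

end Cfsg.Lib.Chars
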