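import Mathlib
import Cfsg.Agent.Chars.Induced
import Cfsg.Agent.Chars.Construct
import Cfsg.Agent.Chars.NormTwo
import Cfsg.Agent.Chars.Extraspecial

/-!
# Differences of characters of the centraliser of a subgroup with trivial intersections

`P` is central in `C`, its nontrivial elements have centraliser in `N` equal to `C`, and `N`
controls their fusion.  Functions on `C` vanishing on the elements of order prime to `P` induce
isometrically up to the action of `N`.
-/

set_option autoImplicit false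
set_option linter.style.haveILetI false
set_option linter.unusedSectionVars false

namespace Cfsg.Lib.Chars.StarTI

open scoped ComplexConjugate

universe u

/-- The data. -/
structure Setting {G : Type u} [Group G] (P C N : Subgroup G) : Prop where
  le : P ≤ C
  cle : C ≤ N
  central : ∀ y ∈ P, ∀ c ∈ C, y * c = c * y
  cop : (Nat.card P).Coprime (P.subgroupOf C).index
  ti : ∀ g : G, ∀ y ∈ P, y ≠ 1 → g * y * g⁻¹ ∈ P → g ∈ N
  normC : ∀ n ∈ N, ∀ c ∈ C, n * c * n⁻¹ ∈ C
  normP : ∀ n ∈ N, ∀ y ∈ P, n * y * n⁻¹ ∈ P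
  fix : ∀ n ∈ N, ∀ y ∈ P, y ≠ 1 → n * y * n⁻¹ = y → n ∈ C

variable {G : Type u} [Group G] [Fintype G] {P C N : Subgroup G} [Fintype N]

/-- The action of `N` on the linear characters of `P`. -/
def act (h : Setting P C N) (n : N) (α : P →* ℂˣ) : P →* ℂˣ where
  toFun y := α ⟨n * y * (n : G)⁻¹, h.normP n n.2 y y.2⟩
  map_one' := by
    rw [← map_one α]; congr 1; exact Subtype.ext (by simp)
  map_mul' y z := by
    rw [← map_mul]; congr 1; exact Subtype.ext (by simp [mul_assoc])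

theorem act_apply (h : Setting P C N) (n : N) (α : P →* ℂˣ) (y : P) :
    act h n α y = α ⟨n * y * (n : G)⁻¹, h.normP n n.2 y y.2⟩ := rfl

theorem act_act (h : Setting P C N) (n k : N) (α : P →* ℂˣ) :
    act h k (act h n α) = act h (n * k) α := by
  refine MonoidHom.ext fun y => ?_
  simp only [act_apply]
  congr 1
  exact Subtype.ext (by simp [mul_assoc])

theorem act_one_elt (h : Setting P C N) (α : P →* ℂˣ) : act h 1 α = α :=
  MonoidHom.ext fun y => congrArg α (Subtype.ext (by simp))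

theorem act_trivial (h : Setting P C N) (n : N) : act h n (1 : P →* ℂˣ) = 1 := rfl

theorem act_injective (h : Setting P C N) (n : N) : Function.Injective (act h n) := by
  intro α β hαβ
  have := congrArg (act h n⁻¹) hαβ
  rwa [act_act, act_act, mul_inv_cancel, act_one_elt, act_one_elt] at this

theorem act_of_mem (h : Setting P C N) (n : N) (hn : (n : G) ∈ C) (α : P →* ℂˣ) :
    act h n α = α :=
  MonoidHom.ext fun y => congrArg α (Subtype.ext
    (by show (n : G) * y * (n : G)⁻¹ = y; rw [← h.central y y.2 n hn, mul_inv_cancel_right]))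

/-- A nontrivial character is fixed by the elements of `C` only. -/
theorem mem_of_act_eq (h : Setting P C N) (n : N) {α : P →* ℂˣ} (hα : α ≠ 1)
    (he : act h n α = α) : (n : G) ∈ C := by
  by_contra hn
  let f : P → P := fun y => ⟨n * y * (n : G)⁻¹ * (y : G)⁻¹,
    P.mul_mem (h.normP n n.2 y y.2) (P.inv_mem y.2)⟩
  have hcomm : ∀ a ∈ P, ∀ b ∈ P, a * b = b * a := fun a ha b hb => h.central a ha b (h.le hb)
  have hinj : Function.Injective f := by
    intro y z hyz
    have h1 : (n : G) * y * (n : G)⁻¹ * (y : G)⁻¹ = n * z * (n : G)⁻¹ * (z : G)⁻¹ :=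
      congrArg Subtype.val hyz
    by_contra hne
    have hne' : (z : G)⁻¹ * y ≠ 1 := fun e => hne (Subtype.ext (inv_mul_eq_one.1 e).symm)
    refine hn (h.fix n n.2 _ (P.mul_mem (P.inv_mem z.2) y.2) hne' ?_)
    have h2 := hcomm _ (h.normP n n.2 z z.2) _ (P.inv_mem z.2)
    calc (n : G) * ((z : G)⁻¹ * y) * (n : G)⁻¹
        = ((n : G) * z * (n : G)⁻¹)⁻¹ * ((n : G) * y * (n : G)⁻¹) := by group
      _ = ((n : G) * z * (n : G)⁻¹)⁻¹ * (((n : G) * z * (n : G)⁻¹ * (z : G)⁻¹) * y) := by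
          rw [← h1, inv_mul_cancel_right]
      _ = (z : G)⁻¹ * y := by group
  refine hα (MonoidHom.ext fun w => ?_)
  obtain ⟨y, rfl⟩ := Finite.surjective_of_injective hinj w
  rw [show f y = (⟨n * y * (n : G)⁻¹, h.normP n n.2 y y.2⟩ : P) * y⁻¹ from Subtype.ext rfl,
    map_mul, ← act_apply h n α y, he, ← map_mul, mul_inv_cancel, map_one, MonoidHom.one_apply]

/-- Distinct orbits. -/
def Apart (h : Setting P C N) (α β : P →* ℂˣ) : Prop := ∀ n : N, act h n β ≠ α

theorem Apart.symm {h : Setting P C N} {α β : P →* ℂˣ} (hab : Apart h α β) : Apart h β α := by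
  intro n hn
  refine hab n⁻¹ ?_
  rw [← hn, act_act, mul_inv_cancel, act_one_elt]

theorem Apart.ne {h : Setting P C N} {α β : P →* ℂˣ} (hab : Apart h α β) : α ≠ β :=
  fun e => hab 1 (by rw [act_one_elt, e])

theorem apart_one {h : Setting P C N} {α : P →* ℂˣ} (hα : α ≠ 1) : Apart h α 1 :=
  fun n hn => hα (by rw [← hn, act_trivial])

/-- `P` acts on `a` by the character `α`. -/
def Cent (h : Setting P C N) (a : C → ℂ) (α : P →* ℂˣ) : Prop :=
  ∀ (y : P) (c : C), a (⟨y, h.le y.2⟩ * c) = (α y : ℂ) * a c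

theorem conj_val (α : P →* ℂˣ) (y : P) : conj (α y : ℂ) = ((α y : ℂ))⁻¹ := by
  refine (Complex.inv_eq_conj (Complex.norm_eq_one_of_pow_eq_one (n := orderOf y) ?_
    (orderOf_pos y).ne')).symm
  rw [← Units.val_pow_eq_pow_val, ← map_pow, pow_orderOf_eq_one, map_one, Units.val_one]

theorem Cent.mul {h : Setting P C N} {a b : C → ℂ} {α β : P →* ℂˣ} (ha : Cent h a α)
    (hb : Cent h b β) : Cent h (a * b) (α * β) := fun y c => by
  simp only [Pi.mul_apply, ha y c, hb y c, MonoidHom.mul_apply, Units.val_mul]; ring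

theorem Cent.conj {h : Setting P C N} {a : C → ℂ} {α : P →* ℂˣ} (ha : Cent h a α) :
    Cent h (fun c => conj (a c)) α⁻¹ := fun y c => by
  simp only [ha y c, map_mul, conj_val, MonoidHom.inv_apply, Units.val_inv_eq_inv_val]

theorem inner_eq_zero {h : Setting P C N} [Fintype C] {a b : C → ℂ} {α β : P →* ℂˣ}
    (ha : Cent h a α) (hb : Cent h b β) (hne : α ≠ β) : Cfsg.classInner a b = 0 := by
  obtain ⟨y, hy⟩ : ∃ y, α y ≠ β y := by
    by_contra hall
    push Not at hall
    exact hne (MonoidHom.ext hall)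
  rw [classInner_def]
  refine mul_eq_zero_of_right _ ?_
  set S := ∑ c : C, a c * (starRingEnd ℂ) (b c) with hS
  have hsum : S = (α y : ℂ) * ((β y : ℂ))⁻¹ * S := by
    rw [hS, Finset.mul_sum]
    refine (Fintype.sum_equiv (Equiv.mulLeft (⟨y, h.le y.2⟩ : C)) _ _ fun c => ?_).symm
    rw [Equiv.coe_mulLeft, ha y c, hb y c, map_mul, conj_val]
    ring
  by_contra hne0
  have h1 : (α y : ℂ) * ((β y : ℂ))⁻¹ = 1 :=
    (mul_left_eq_self₀.1 hsum.symm).resolve_right hne0
  exact hy (Units.ext (by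
    rwa [mul_inv_eq_one₀ (Units.ne_zero _)] at h1))

/-- Every irreducible character of `C` has a character of `P` attached to it. -/
theorem exists_cent (h : Setting P C N) {ψ : C → ℂ} (hψ : Cfsg.IsIrrCharacter C ψ) :
    ∃ α : P →* ℂˣ, Cent h ψ α := by
  have h0 : ψ 1 ≠ 0 := IsIrrCharacter.apply_one_ne_zero hψ
  have hc : ∀ (y : P) (c : C), ψ (⟨y, h.le y.2⟩ * c) = ψ ⟨y, h.le y.2⟩ / ψ 1 * ψ c := by
    intro y c
    have h1 := center_mul_of_irr hψ (z := (⟨y, h.le y.2⟩ : C)) (Subgroup.mem_center_iff.2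
      fun g => Subtype.ext (h.central y y.2 g g.2).symm) c
    rw [div_mul_eq_mul_div, ← h1, mul_div_cancel_right₀ _ h0]
  let f : P →* ℂ :=
    { toFun := fun y => ψ ⟨y, h.le y.2⟩ / ψ 1
      map_one' := div_self h0
      map_mul' := fun y z => by
        show ψ ⟨(y : G) * z, _⟩ / ψ 1 = _
        rw [show (⟨(y : G) * z, h.le (P.mul_mem y.2 z.2)⟩ : C) = ⟨y, h.le y.2⟩ * ⟨z, h.le z.2⟩
          from Subtype.ext rfl, hc y _, mul_div_assoc] }
  exact ⟨f.toHomUnits, fun y c => hc y c⟩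

theorem cent_unique (h : Setting P C N) {a : C → ℂ} (ha : a 1 ≠ 0) {α β : P →* ℂˣ}
    (h1 : Cent h a α) (h2 : Cent h a β) : α = β :=
  MonoidHom.ext fun y => Units.ext (mul_right_cancel₀ ha ((h1 y 1).symm.trans (h2 y 1)))

/-- Conjugation of functions on `C` by elements of `N`. -/
def cnj (h : Setting P C N) (n : N) (a : C → ℂ) : C → ℂ :=
  fun c => a ⟨n * c * (n : G)⁻¹, h.normC n n.2 c c.2⟩

theorem cent_cnj (h : Setting P C N) (n : N) {a : C → ℂ} {α : P →* ℂˣ} (ha : Cent h a α) :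
    Cent h (cnj h n a) (act h n α) := fun y c => by
  show a _ = _
  rw [act_apply]
  show a _ = ((α _ : ℂˣ) : ℂ) * a _
  rw [← ha]
  congr 1
  exact Subtype.ext (by simp [mul_assoc])

theorem cnj_of_mem (h : Setting P C N) (n : N) (hn : (n : G) ∈ C) {a : C → ℂ}
    (ha : Cfsg.IsClassFunction C a) : cnj h n a = a :=
  funext fun c => ha c ⟨n, hn⟩

/-- Conjugation by an element of `N` as an automorphism of `C`. -/
def conjC (h : Setting P C N) (n : N) : C ≃* C where
  toFun c := ⟨n * c * (n : G)⁻¹, h.normC n n.2 c c.2⟩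
  invFun c := ⟨((n⁻¹ : N) : G) * c * ((n⁻¹ : N) : G)⁻¹, h.normC _ (n⁻¹ : N).2 c c.2⟩
  left_inv c := Subtype.ext (by simp [mul_assoc])
  right_inv c := Subtype.ext (by simp [mul_assoc])
  map_mul' c d := Subtype.ext (by simp [mul_assoc])

theorem isIrr_cnj (h : Setting P C N) (n : N) {ψ : C → ℂ} (hψ : Cfsg.IsIrrCharacter C ψ) :
    Cfsg.IsIrrCharacter C (cnj h n ψ) :=
  IsIrrCharacter.comp_mulEquiv hψ (conjC h n)

/-- Conjugation preserves the inner product with the restriction of a class function. -/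
theorem inner_res_cnj [Fintype C] (h : Setting P C N) (n : N) {f : G → ℂ}
    (hf : Cfsg.IsClassFunction G f) (a : C → ℂ) :
    Cfsg.classInner (fun c : C => f c) (cnj h n a) = Cfsg.classInner (fun c : C => f c) a := by
  rw [classInner_def, classInner_def]
  congr 1
  refine Fintype.sum_equiv (conjC h n).toEquiv _ _ fun c => ?_
  show f c * _ = f ((n : G) * c * (n : G)⁻¹) * _
  rw [hf (c : G) (n : G)]
  rfl

/-- `a` vanishes at the elements of order prime to `P`. -/
def Off (P C : Subgroup G) (a : C → ℂ) : Prop :=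
  ∀ c : C, c ^ (P.subgroupOf C).index = 1 → a c = 0

theorem indFun_apply_of_off [Fintype C] (h : Setting P C N) {a : C → ℂ} (ha : Off P C a)
    {c : C} (hc : c ^ (P.subgroupOf C).index ≠ 1) :
    Cfsg.indFun C a c = (Nat.card C : ℂ)⁻¹ * ∑ n : N, cnj h n a c := by
  classical
  rw [indFun_apply]
  congr 1
  haveI : (P.subgroupOf C).Normal := ⟨fun y hy g => by
    rw [Subgroup.mem_subgroupOf] at hy ⊢
    rw [Subgroup.coe_mul, Subgroup.coe_mul, InvMemClass.coe_inv, ← h.central _ hy g g.2,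
      mul_inv_cancel_right]
    exact hy⟩
  have hpow : ∀ d : C, d ^ (P.subgroupOf C).index ∈ P.subgroupOf C := fun d =>
    Subgroup.pow_index_mem _ d
  have hout : ∀ x : G, x ∉ N → Cfsg.extendByZero C a (x * c * x⁻¹) = 0 := by
    intro x hx
    by_cases hm : x * c * x⁻¹ ∈ C
    · rw [extendByZero_mem _ hm]
      refine ha _ ?_
      by_contra hne
      have h1 : x * ((c ^ (P.subgroupOf C).index : C) : G) * x⁻¹ =
          ((⟨_, hm⟩ : C) ^ (P.subgroupOf C).index : C) := by
        rw [SubmonoidClass.coe_pow, SubmonoidClass.coe_pow, conj_pow]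
      exact hx (h.ti x _ (hpow c) (fun e => hc (Subtype.ext e)) (h1 ▸ hpow ⟨_, hm⟩))
    · exact extendByZero_not_mem _ hm
  calc ∑ x : G, Cfsg.extendByZero C a (x⁻¹ * c * x)
      = ∑ x : G, Cfsg.extendByZero C a (x * c * x⁻¹) := by
        refine Fintype.sum_equiv (Equiv.inv G) _ _ fun x => ?_
        simp
    _ = ∑ x ∈ Finset.univ.filter (fun x => x ∈ N), Cfsg.extendByZero C a (x * c * x⁻¹) := by
        refine (Finset.sum_filter_of_ne fun x _ hne => ?_).symm
        by_contra hx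
        exact hne (hout x hx)
    _ = ∑ n : N, cnj h n a c := by
        rw [Finset.sum_subtype (p := (· ∈ N)) _ (fun x => by simp)]
        exact Finset.sum_congr rfl fun n _ => extendByZero_mem _ _

theorem inner_ind_ind [Fintype C] (h : Setting P C N) {a b : C → ℂ} (ha : Off P C a)
    (hb : Off P C b) :
    Cfsg.classInner (Cfsg.indFun C a) (Cfsg.indFun C b) =
      (Nat.card C : ℂ)⁻¹ * ∑ n : N, Cfsg.classInner a (cnj h n b) := by
  rw [frobenius_reciprocity _ _ (isClassFunction_indFun _ b)]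
  simp only [classInner_def, ← Finset.mul_sum]
  rw [Finset.sum_comm, mul_left_comm]
  congr 1
  rw [Finset.mul_sum]
  refine Finset.sum_congr rfl fun c _ => ?_
  by_cases hc : c ^ (P.subgroupOf C).index = 1
  · simp [ha c hc]
  · rw [indFun_apply_of_off h hb hc, ← Finset.mul_sum, map_mul, map_sum, map_inv₀, map_natCast]
    ring

/-- The extension of a character of `P` to `C`. -/
theorem exists_lift [Fintype C] (h : Setting P C N) :
    ∃ L : (P →* ℂˣ) → (C →* ℂˣ), ∀ δ, (∀ y : P, L δ ⟨y, h.le y.2⟩ = δ y) ∧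
      ∀ c : C, c ^ (P.subgroupOf C).index = 1 → L δ c = 1 := by
  haveI : IsMulCommutative (P.subgroupOf C) :=
    ⟨⟨fun a b => Subtype.ext (Subtype.ext (h.central _ a.2 _ b.1.2))⟩⟩
  set Q := P.subgroupOf C with hQ
  have hkey : ∀ (g : C) (k : ℕ) (g₀ : C), g₀⁻¹ * g ^ k * g₀ ∈ Q → g₀⁻¹ * g ^ k * g₀ = g ^ k := by
    intro g k g₀ hm
    have h1 : Commute (g₀⁻¹ * g ^ k * g₀) g₀ := Subtype.ext (h.central _ hm g₀ g₀.2)
    have h2 : g₀ * (g₀⁻¹ * g ^ k * g₀) = g₀⁻¹ * g ^ k * g₀ * g₀ := h1.eq.symm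
    rw [← mul_assoc, ← mul_assoc, mul_inv_cancel, one_mul] at h2
    exact (mul_right_cancel h2).symm
  have hcard : Nat.card Q = Nat.card P :=
    Nat.card_congr (Subgroup.subgroupOfEquivOfLe h.le).toEquiv
  obtain ⟨v, hv⟩ : ∃ v, ∀ y : Q, (y ^ Q.index) ^ v = y := by
    rcases Nat.lt_or_ge 1 (Nat.card Q) with h1 | h1
    · obtain ⟨v, -, hv⟩ := Nat.exists_mul_mod_eq_one_of_coprime (hcard ▸ h.cop).symm h1
      exact ⟨v, fun y => by rw [← pow_mul, ← pow_mod_natCard, hv, pow_one]⟩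
    · haveI : Subsingleton Q := Finite.card_le_one_iff_subsingleton.1 h1
      exact ⟨1, fun y => Subsingleton.elim _ _⟩
  refine ⟨fun δ => ((δ.comp (Subgroup.subgroupOfEquivOfLe h.le).toMonoidHom) ^ v).transfer,
    fun δ => ⟨fun y => ?_, fun c hc => ?_⟩⟩
  · rw [MonoidHom.transfer_eq_pow _ _ (hkey _), MonoidHom.pow_apply, ← map_pow]
    show δ _ = δ y
    congr 1
    have h1 := hv ⟨⟨y, h.le y.2⟩, y.2⟩
    exact Subtype.ext (congrArg (fun z : Q => ((z : C) : G)) h1)
  · rw [MonoidHom.transfer_eq_pow _ _ (hkey _)]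
    rw [show (⟨c ^ Q.index, MonoidHom.transfer_eq_pow_aux c (hkey c)⟩ : Q) = 1 from Subtype.ext hc,
      map_one]

variable [Fintype C] (h : Setting P C N)

/-- The partner of an irreducible character of `C` with another character of `P`. -/
theorem exists_partner {ψ : C → ℂ} {α : P →* ℂˣ} (hψ : Cfsg.IsIrrCharacter C ψ)
    (hα : Cent h ψ α) (β : P →* ℂˣ) :
    ∃ ψ' : C → ℂ, Cfsg.IsIrrCharacter C ψ' ∧ Cent h ψ' β ∧ Off P C (ψ - ψ') ∧ ψ' 1 = ψ 1 := by
  obtain ⟨L, hL⟩ := exists_lift h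
  refine ⟨fun c => (L (α⁻¹ * β) c : ℂ) * ψ c, IsIrrCharacter.mul_linear hψ _, fun y c => ?_,
    fun c hc => ?_, by simp⟩
  · simp only [map_mul, (hL _).1, Units.val_mul, hα y c, MonoidHom.mul_apply, MonoidHom.inv_apply,
      Units.val_inv_eq_inv_val]
    field_simp
  · simp [(hL _).2 c hc]

theorem inner_irr_cnj {ψ : C → ℂ} {α : P →* ℂˣ} (hψ : Cfsg.IsIrrCharacter C ψ) (hα : Cent h ψ α)
    (hα1 : α ≠ 1) (n : N) [Decidable ((n : G) ∈ C)] :
    Cfsg.classInner ψ (cnj h n ψ) = if (n : G) ∈ C then 1 else 0 := by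
  split_ifs with hn
  · rw [cnj_of_mem h n hn (isClassFunction_isChar (isCharacter_of_irr hψ)),
      classInner_self_irr hψ]
  · exact inner_eq_zero hα (cent_cnj h n hα) fun e => hn (mem_of_act_eq h n hα1 e.symm)

open scoped Classical in
theorem sum_indicator (h : Setting P C N) : ∑ n : N, (if (n : G) ∈ C then (1 : ℂ) else 0) = Nat.card C := by
  rw [Finset.sum_boole, ← Fintype.card_subtype, ← Nat.card_eq_fintype_card]
  congr 1
  exact Nat.card_congr
    { toFun := fun n => ⟨n.1.1, n.2⟩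
      invFun := fun c => ⟨⟨c.1, h.cle c.2⟩, c.2⟩
      left_inv := fun _ => rfl
      right_inv := fun _ => rfl }

theorem inner_cnj_sub {a b c d : C → ℂ} (n : N) :
    Cfsg.classInner (a - b) (cnj h n (c - d)) =
      Cfsg.classInner a (cnj h n c) - Cfsg.classInner a (cnj h n d) -
        (Cfsg.classInner b (cnj h n c) - Cfsg.classInner b (cnj h n d)) := by
  rw [show cnj h n (c - d) = cnj h n c - cnj h n d from rfl, classInner_sub_left,
    classInner_sub_right, classInner_sub_right]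

theorem norm_ind_pair {ψ ψ' : C → ℂ} {α β : P →* ℂˣ} (hψ : Cfsg.IsIrrCharacter C ψ)
    (hψ' : Cfsg.IsIrrCharacter C ψ') (hα : Cent h ψ α) (hβ : Cent h ψ' β) (hα1 : α ≠ 1)
    (hβ1 : β ≠ 1) (hab : Apart h α β) (hoff : Off P C (ψ - ψ')) :
    Cfsg.classInner (Cfsg.indFun C (ψ - ψ')) (Cfsg.indFun C (ψ - ψ')) = 2 := by
  classical
  rw [inner_ind_ind h hoff hoff]
  have hC : (Nat.card C : ℂ) ≠ 0 := by exact_mod_cast Nat.card_pos.ne'
  rw [Finset.sum_congr rfl fun n _ => show Cfsg.classInner (ψ - ψ') (cnj h n (ψ - ψ')) =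
    2 * (if (n : G) ∈ C then (1 : ℂ) else 0) by
      rw [inner_cnj_sub, inner_irr_cnj h hψ hα hα1, inner_irr_cnj h hψ' hβ hβ1,
        inner_eq_zero hα (cent_cnj h n hβ) (hab n).symm,
        inner_eq_zero hβ (cent_cnj h n hα) (hab.symm n).symm]
      ring, ← Finset.mul_sum, sum_indicator h]
  field_simp

/-- Pairs in four different orbits are orthogonal. -/
theorem inner_ind_disjoint {a b c d : C → ℂ} {α β γ δ : P →* ℂˣ} (ha : Cent h a α)
    (hb : Cent h b β) (hc : Cent h c γ) (hd : Cent h d δ) (h1 : Apart h α γ) (h2 : Apart h α δ)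
    (h3 : Apart h β γ) (h4 : Apart h β δ) (hab : Off P C (a - b)) (hcd : Off P C (c - d)) :
    Cfsg.classInner (Cfsg.indFun C (a - b)) (Cfsg.indFun C (c - d)) = 0 := by
  rw [inner_ind_ind h hab hcd, Finset.sum_eq_zero fun n _ => ?_, mul_zero]
  rw [inner_cnj_sub, inner_eq_zero ha (cent_cnj h n hc) (h1 n).symm,
    inner_eq_zero ha (cent_cnj h n hd) (h2 n).symm, inner_eq_zero hb (cent_cnj h n hc) (h3 n).symm,
    inner_eq_zero hb (cent_cnj h n hd) (h4 n).symm]
  ring

/-- The norm of the induced function of `1 - λ`. -/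
theorem norm_ind_one_sub {ψ : C → ℂ} {α : P →* ℂˣ} (hψ : Cfsg.IsIrrCharacter C ψ)
    (hα : Cent h ψ α) (hα1 : α ≠ 1) (hoff : Off P C ((fun _ => 1) - ψ)) :
    Cfsg.classInner (Cfsg.indFun C ((fun _ => 1) - ψ)) (Cfsg.indFun C ((fun _ => 1) - ψ)) =
      ((C.subgroupOf N).index : ℂ) + 1 := by
  classical
  rw [inner_ind_ind h hoff hoff]
  have hC : (Nat.card C : ℂ) ≠ 0 := by exact_mod_cast Nat.card_pos.ne'
  have h1 : Cent h (fun _ => (1 : ℂ)) 1 := fun y c => by simp
  rw [Finset.sum_congr rfl fun n _ => show Cfsg.classInner ((fun _ => 1) - ψ)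
      (cnj h n ((fun _ => 1) - ψ)) = 1 + (if (n : G) ∈ C then (1 : ℂ) else 0) by
      rw [inner_cnj_sub, inner_irr_cnj h hψ hα hα1,
        inner_eq_zero h1 (cent_cnj h n hα) ((apart_one hα1).symm n).symm,
        inner_eq_zero hα (cent_cnj h n h1) ((apart_one hα1) n).symm,
        show cnj h n (fun _ : C => (1 : ℂ)) = fun _ => 1 from rfl,
        classInner_self_irr isIrrCharacter_one]
      ring, Finset.sum_add_distrib, sum_indicator h, Finset.sum_const, Finset.card_univ,
    nsmul_one, ← Nat.card_eq_fintype_card, ← (C.subgroupOf N).card_mul_index,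
    Nat.card_congr (Subgroup.subgroupOfEquivOfLe h.cle).toEquiv]
  push_cast
  field_simp

end Cfsg.Lib.Chars.StarTI
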