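import Mathlib
import Cfsg.Agent.Chars.StarTI
import Cfsg.Agent.Chars.IrrTools

/-!
# Small characters when every nontrivial element of a Sylow subgroup has the same centraliser
-/

set_option autoImplicit false
set_option linter.style.haveILetI false
set_option linter.unusedSectionVars false

namespace Cfsg.Lib.Chars.StarSylow

open scoped ComplexConjugate
open Cfsg.Lib.Chars.StarTI

universe u

variable {G : Type u} [Group G] [Fintype G]

theorem setting {p : ℕ} [Fact p.Prime] (P : Sylow p G)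
    (hstar : ∀ x ∈ (P : Subgroup G), x ≠ 1 → Subgroup.centralizer ({x} : Set G) =
      Subgroup.centralizer ((P : Subgroup G) : Set G)) :
    Setting (P : Subgroup G) (Subgroup.centralizer ((P : Subgroup G) : Set G))
      (Subgroup.normalizer ((P : Subgroup G) : Set G)) := by
  have hle : (P : Subgroup G) ≤ Subgroup.centralizer ((P : Subgroup G) : Set G) := by
    intro y hy
    rcases eq_or_ne y 1 with rfl | hy1
    · exact one_mem _
    · rw [← hstar y hy hy1]
      exact Subgroup.mem_centralizer_singleton_iff.2 rfl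
  have hcentral : ∀ y ∈ (P : Subgroup G), ∀ c ∈ Subgroup.centralizer ((P : Subgroup G) : Set G),
      y * c = c * y := fun y hy c hc => Subgroup.mem_centralizer_iff.1 hc y hy
  have hnorm : ∀ n ∈ Subgroup.normalizer ((P : Subgroup G) : Set G), ∀ y ∈ (P : Subgroup G),
      n * y * n⁻¹ ∈ (P : Subgroup G) := fun n hn y hy => (Subgroup.mem_normalizer_iff.1 hn y).1 hy
  refine ⟨hle, fun c hc => ?_, hcentral, ?_, fun g y hy hy1 hgy => ?_, fun n hn c hc => ?_, hnorm,
    fun n _ y hy hy1 hfix => ?_⟩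
  · refine Subgroup.mem_normalizer_iff.2 fun z => ⟨fun hz => ?_, fun hz => ?_⟩
    · rwa [← hcentral z hz c hc, mul_inv_cancel_right]
    · have h1 := hcentral _ hz c hc
      rw [inv_mul_cancel_right] at h1
      rw [mul_left_cancel h1]
      exact hz
  · obtain ⟨i, hi⟩ := IsPGroup.iff_card.1 P.isPGroup'
    rw [hi]
    exact Nat.Coprime.pow_left _ ((Fact.out : p.Prime).coprime_iff_not_dvd.2 fun h =>
      P.not_dvd_index (h.trans (Subgroup.relIndex_dvd_index_of_le hle)))
  · have hz1 : g * y * g⁻¹ ≠ 1 := fun e => hy1 (conj_eq_one_iff.1 e)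
    have hmem : ∀ w ∈ (P : Subgroup G), g * w * g⁻¹ ∈ (P : Subgroup G) := by
      intro w hw
      have hc : g * w * g⁻¹ ∈ Subgroup.centralizer ((P : Subgroup G) : Set G) := by
        rw [← hstar _ hgy hz1, Subgroup.mem_centralizer_singleton_iff]
        have h1 := hcentral y hy w (hle hw)
        calc g * w * g⁻¹ * (g * y * g⁻¹) = g * (w * y) * g⁻¹ := by group
          _ = g * (y * w) * g⁻¹ := by rw [h1]
          _ = g * y * g⁻¹ * (g * w * g⁻¹) := by group
      have hp : IsPGroup p ↥(Subgroup.zpowers (g * w * g⁻¹) ⊔ (P : Subgroup G)) := by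
        obtain ⟨k, hk⟩ := P.isPGroup' ⟨w, hw⟩
        refine IsPGroup.to_sup_of_normal_right' ?_ P.isPGroup' (Subgroup.zpowers_le.2 ?_)
        · obtain ⟨j, -, hj⟩ := (Nat.dvd_prime_pow (Fact.out : p.Prime)).1
            (orderOf_dvd_of_pow_eq_one (x := g * w * g⁻¹) (n := p ^ k) (by
              rw [conj_pow, show w ^ p ^ k = 1 from congrArg Subtype.val hk]; group))
          exact IsPGroup.of_card (n := j) (by rw [Nat.card_zpowers, hj])
        · refine Subgroup.mem_normalizer_iff.2 fun z => ?_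
          constructor
          · intro hz
            rwa [← hcentral z hz _ hc, mul_inv_cancel_right]
          · intro hz
            have h1 := hcentral _ hz _ hc
            rw [inv_mul_cancel_right] at h1
            rw [mul_left_cancel h1]
            exact hz
      have heq := P.is_maximal' hp le_sup_right
      rw [← heq]
      exact Subgroup.mem_sup_left (Subgroup.mem_zpowers _)
    have hmap : (P : Subgroup G).map (MulAut.conj g).toMonoidHom = P :=
      Subgroup.eq_of_le_of_card_ge (by rintro _ ⟨w, hw, rfl⟩; exact hmem w hw)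
        (Nat.card_congr ((P : Subgroup G).equivMapOfInjective _ (MulAut.conj g).injective).toEquiv).le
    refine Subgroup.mem_normalizer_iff.2 fun z => ⟨hmem z, fun hz => ?_⟩
    rw [← hmap] at hz
    obtain ⟨w, hw, hwz⟩ := hz
    have h2 : g * w * g⁻¹ = g * z * g⁻¹ := hwz
    rwa [← mul_left_cancel (mul_right_cancel h2)]
  · refine Subgroup.mem_centralizer_iff.2 fun z hz => ?_
    have h1 : n⁻¹ * z * n ∈ (P : Subgroup G) := by
      simpa using hnorm n⁻¹ (Subgroup.inv_mem _ hn) z hz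
    have h2 := hcentral _ h1 c hc
    calc z * (n * c * n⁻¹) = n * ((n⁻¹ * z * n) * c) * n⁻¹ := by group
      _ = n * (c * (n⁻¹ * z * n)) * n⁻¹ := by rw [h2]
      _ = n * c * n⁻¹ * z := by group
  · rw [← hstar y hy hy1, Subgroup.mem_centralizer_singleton_iff]
    calc n * y = n * y * n⁻¹ * n := by group
      _ = y * n := by rw [hfix]

variable {P C N : Subgroup G} [Fintype N] [Fintype C] [Fintype (P →* ℂˣ)]

open scoped Classical in
/-- The characters of `P` below the restriction of `φ` to `C`. -/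
noncomputable def supp (h : Setting P C N) (φ : G → ℂ) : Finset (P →* ℂˣ) :=
  Finset.univ.filter fun α => ∃ ψ : Cfsg.IrrCharacter C,
    Cent h (ψ : C → ℂ) α ∧ Cfsg.classInner (fun c : C => φ c) (ψ : C → ℂ) ≠ 0

open scoped Classical in
/-- The orbit of a character of `P`. -/
noncomputable def orb (h : Setting P C N) (α : P →* ℂˣ) : Finset (P →* ℂˣ) :=
  Finset.univ.image fun n : N => act h n α

theorem mem_orb (h : Setting P C N) {α β : P →* ℂˣ} : β ∈ orb h α ↔ ∃ n, act h n α = β := by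
  classical
  simp [orb]

theorem self_mem_orb (h : Setting P C N) (α : P →* ℂˣ) : α ∈ orb h α :=
  (mem_orb h).2 ⟨1, act_one_elt h α⟩

theorem orb_act (h : Setting P C N) (n : N) (α : P →* ℂˣ) : orb h (act h n α) = orb h α := by
  ext β
  simp only [mem_orb, act_act]
  exact ⟨fun ⟨k, hk⟩ => ⟨n * k, hk⟩, fun ⟨k, hk⟩ => ⟨n⁻¹ * k, by rw [mul_inv_cancel_left, hk]⟩⟩

theorem apart_of_orb_ne (h : Setting P C N) {α β : P →* ℂˣ} (hne : orb h α ≠ orb h β) :
    Apart h α β := fun n hn => hne (by rw [← hn, orb_act])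

theorem card_orb (h : Setting P C N) {α : P →* ℂˣ} (hα : α ≠ 1) :
    (orb h α).card = (C.subgroupOf N).index := by
  classical
  let f : N ⧸ C.subgroupOf N → (P →* ℂˣ) := Quotient.lift (fun n : N => act h n⁻¹ α)
    fun n k hnk => by
      have hm : ((n⁻¹ * k : N) : G) ∈ C := (QuotientGroup.leftRel_apply.1 hnk : n⁻¹ * k ∈ C.subgroupOf N)
      show act h n⁻¹ α = act h k⁻¹ α
      conv_lhs => rw [show n⁻¹ = n⁻¹ * k * k⁻¹ by group, ← act_act, act_of_mem h _ hm]
  have hf : Function.Injective f := by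
    intro q r
    induction q using QuotientGroup.induction_on with
    | _ n =>
      induction r using QuotientGroup.induction_on with
      | _ k =>
        intro hqr
        have h1 : act h (n⁻¹ * k) α = α := by
          rw [← act_act, show act h n⁻¹ α = act h k⁻¹ α from hqr, act_act, inv_mul_cancel,
            act_one_elt]
        exact QuotientGroup.eq.2 (mem_of_act_eq h _ hα h1)
  have himg : Set.range f = ↑(orb h α) := by
    ext β
    simp only [Set.mem_range, Finset.mem_coe, mem_orb]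
    constructor
    · rintro ⟨q, rfl⟩
      induction q using QuotientGroup.induction_on with
      | _ n => exact ⟨n⁻¹, rfl⟩
    · rintro ⟨n, rfl⟩
      exact ⟨(n⁻¹ : N), by show act h n⁻¹⁻¹ α = _; rw [inv_inv]⟩
  rw [Subgroup.index, ← Set.ncard_coe_finset, ← himg, ← Nat.card_range_of_injective hf,
    Nat.card_coe_set_eq]

theorem act_mem_supp (h : Setting P C N) {φ : G → ℂ} (hφ : Cfsg.IsClassFunction G φ)
    {α : P →* ℂˣ} (hα : α ∈ supp h φ) (n : N) : act h n α ∈ supp h φ := by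
  classical
  simp only [supp, Finset.mem_filter, Finset.mem_univ, true_and] at hα ⊢
  obtain ⟨ψ, hψ, hne⟩ := hα
  exact ⟨⟨_, isIrr_cnj h n ψ.2⟩, cent_cnj h n hψ, by rwa [inner_res_cnj h n hφ]⟩

theorem orb_subset_supp (h : Setting P C N) {φ : G → ℂ} (hφ : Cfsg.IsClassFunction G φ)
    {α : P →* ℂˣ} (hα : α ∈ supp h φ) : orb h α ⊆ supp h φ := fun β hβ => by
  obtain ⟨n, rfl⟩ := (mem_orb h).1 hβ
  exact act_mem_supp h hφ hα n

theorem inner_res_eq_zero (h : Setting P C N) {φ : G → ℂ} {ψ : C → ℂ} {α : P →* ℂˣ}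
    (hψ : Cfsg.IsIrrCharacter C ψ) (hα : Cent h ψ α) (hnot : α ∉ supp h φ) :
    Cfsg.classInner ψ (fun c : C => φ c) = 0 := by
  classical
  by_contra hne
  refine hnot (Finset.mem_filter.2 ⟨Finset.mem_univ _, ⟨ψ, hψ⟩, hα, fun h0 => hne ?_⟩)
  rw [← classInner_conj_symm, h0, map_zero]

/-- Decomposition of the restriction. -/
theorem exists_res (h : Setting P C N) {φ : G → ℂ} (hφ : Cfsg.IsCharacter G φ) :
    ∃ (m : Cfsg.IrrCharacter C → ℕ) (w : Cfsg.IrrCharacter C → (P →* ℂˣ)),
      (∀ ψ : Cfsg.IrrCharacter C, Cent h (ψ : C → ℂ) (w ψ)) ∧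
      ((fun c : C => φ c) = ∑ ψ, m ψ • (ψ : C → ℂ)) ∧
      (∀ ψ : Cfsg.IrrCharacter C, Cfsg.classInner (fun c : C => φ c) (ψ : C → ℂ) = m ψ) ∧
      (∀ α, α ∈ supp h φ ↔ ∃ ψ, m ψ ≠ 0 ∧ w ψ = α) := by
  classical
  obtain ⟨m, hm⟩ := IsCharacter.exists_decomp (IsCharacter.restrict hφ C)
  choose w hw using fun ψ : Cfsg.IrrCharacter C => exists_cent h ψ.2
  have hmi : ∀ ψ : Cfsg.IrrCharacter C,
      Cfsg.classInner (fun c : C => φ c) (ψ : C → ℂ) = m ψ := fun ψ => by
    rw [hm]
    simp only [← Nat.cast_smul_eq_nsmul ℂ]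
    exact classInner_irrSum (fun ψ => (m ψ : ℂ)) ψ
  refine ⟨m, w, hw, hm, hmi, fun α => ?_⟩
  simp only [supp, Finset.mem_filter, Finset.mem_univ, true_and, hmi, Nat.cast_ne_zero]
  exact ⟨fun ⟨ψ, h1, h2⟩ => ⟨ψ, h2, cent_unique h (IsIrrCharacter.apply_one_ne_zero ψ.2) (hw ψ) h1⟩,
    fun ⟨ψ, h1, h2⟩ => ⟨ψ, h2 ▸ hw ψ, h1⟩⟩

/-- The values on `P` of a character below a single character of `P`. -/
theorem apply_of_supp_subset (h : Setting P C N) {φ : G → ℂ} (hφ : Cfsg.IsCharacter G φ)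
    {ν : P →* ℂˣ} (hs : ∀ α ∈ supp h φ, α = ν) (y : P) : φ y = (ν y : ℂ) * φ 1 := by
  obtain ⟨m, w, hw, hm, -, hsupp⟩ := exists_res h hφ
  have h1 : φ (y : G) = (∑ ψ, m ψ • (ψ : C → ℂ)) ⟨y, h.le y.2⟩ := congrFun hm ⟨y, h.le y.2⟩
  have h2 : φ 1 = (∑ ψ, m ψ • (ψ : C → ℂ)) 1 := congrFun hm 1
  rw [h1, h2, Finset.sum_apply, Finset.sum_apply, Finset.mul_sum]
  refine Finset.sum_congr rfl fun ψ _ => ?_
  simp only [Pi.smul_apply, nsmul_eq_mul]
  rcases eq_or_ne (m ψ) 0 with h0 | h0
  · simp [h0]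
  · have h3 := hw ψ y 1
    rw [mul_one, hs _ ((hsupp _).2 ⟨ψ, h0, rfl⟩)] at h3
    rw [h3]
    ring

theorem eq_one_of_const {φ : Cfsg.IrrCharacter G} (h : ∀ g, (φ : G → ℂ) g = (φ : G → ℂ) 1) :
    (φ : G → ℂ) = fun _ => 1 := by
  by_contra hne
  have h0 : Cfsg.classInner (φ : G → ℂ) (fun _ => 1) = 0 := by
    rw [classInner_irrChar φ.2 isIrrCharacter_one, if_neg hne]
  have h2 : Cfsg.classInner (φ : G → ℂ) (fun _ => 1) = (φ : G → ℂ) 1 := by
    rw [classInner_def, Finset.sum_congr rfl fun g _ => by rw [map_one, mul_one, h g],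
      Finset.sum_const, Finset.card_univ, nsmul_eq_mul, ← Nat.card_eq_fintype_card,
      inv_mul_cancel_left₀]
    exact_mod_cast Nat.card_pos.ne'
  exact IsIrrCharacter.apply_one_ne_zero φ.2 (h2.symm.trans h0)

theorem exists_supp_ne_one (h : Setting P C N) (htop : ∀ K : Subgroup G, K.Normal → P ≤ K → K = ⊤)
    {φ : Cfsg.IrrCharacter G} (hφ : (φ : G → ℂ) ≠ fun _ => 1) :
    ∃ α ∈ supp h (φ : G → ℂ), α ≠ 1 := by
  by_contra hno
  push Not at hno
  have hc := isCharacter_of_irr φ.2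
  have hK := htop (kerSubgroup (φ : G → ℂ) hc) (kerSubgroup_normal hc) fun y hy => by
    rw [mem_kerSubgroup]
    have := apply_of_supp_subset h hc hno ⟨y, hy⟩
    simpa using this
  exact hφ (eq_one_of_const fun g => (mem_kerSubgroup hc g).1 (hK ▸ Subgroup.mem_top g))

/-- A difference with a character in a free orbit. -/
theorem exists_family (h : Setting P C N) (φ : Cfsg.IrrCharacter G) {ψ : C → ℂ}
    {α μ : P →* ℂˣ} (hψ : Cfsg.IsIrrCharacter C ψ) (hα : Cent h ψ α) (hα1 : α ≠ 1)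
    (hne : Cfsg.classInner (fun c : C => (φ : G → ℂ) c) ψ ≠ 0)
    (hμ : μ ∉ supp h (φ : G → ℂ)) (hμ1 : μ ≠ 1) :
    ∃ (ψ' : C → ℂ) (φ' : Cfsg.IrrCharacter G), Cfsg.IsIrrCharacter C ψ' ∧ Cent h ψ' μ ∧
      Off P C (ψ - ψ') ∧ φ' ≠ φ ∧ Cfsg.indFun C (ψ - ψ') = (φ : G → ℂ) - (φ' : G → ℂ) := by
  classical
  have hφ := isClassFunction_irr φ
  have hmem : α ∈ supp h (φ : G → ℂ) :=
    Finset.mem_filter.2 ⟨Finset.mem_univ _, ⟨ψ, hψ⟩, hα, hne⟩
  have hab : Apart h α μ := fun n hn => by
    refine hμ ?_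
    have := act_mem_supp h hφ hmem n⁻¹
    rwa [← hn, act_act, mul_inv_cancel, act_one_elt] at this
  obtain ⟨ψ', hψ', hμ', hoff, h1⟩ := exists_partner h hψ hα μ
  have hgen : Cfsg.IsGeneralizedCharacter G (Cfsg.indFun C (ψ - ψ')) :=
    IsGeneralizedCharacter.indFun ⟨ψ, ψ', isCharacter_of_irr hψ, isCharacter_of_irr hψ', rfl⟩
  obtain ⟨a, b, hne', hf⟩ := exists_sub_of_norm_two hgen
    (norm_ind_pair h hψ hψ' hα hμ' hα1 hμ1 hab hoff)
    (by rw [indFun_one, Pi.sub_apply, h1, sub_self, mul_zero])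
  obtain ⟨m, hm⟩ := classInner_char_nat (isCharacter_of_irr hψ)
    (IsCharacter.restrict (isCharacter_of_irr φ.2) C)
  have hin : Cfsg.classInner (Cfsg.indFun C (ψ - ψ')) (φ : G → ℂ) = m := by
    rw [frobenius_reciprocity _ _ hφ, classInner_sub_left, inner_res_eq_zero h hψ' hμ' hμ, sub_zero,
      ← hm]
  have hm0 : m ≠ 0 := fun h0 => hne (by
    rw [← classInner_conj_symm, hm, h0, Nat.cast_zero, map_zero])
  have ha : a = φ := by
    by_contra ha
    rw [hf, classInner_sub_left, classInner_irr_ne ha] at hin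
    by_cases hb : b = φ
    · rw [hb, classInner_irr_self, zero_sub] at hin
      have : ((-1 : ℤ) : ℂ) = ((m : ℤ) : ℂ) := by push_cast; exact hin
      have := Int.cast_injective this
      omega
    · rw [classInner_irr_ne hb, sub_zero] at hin
      exact hm0 (by exact_mod_cast hin.symm)
  exact ⟨ψ', b, hψ', hμ', hoff, fun e => hne' (ha.trans e.symm), by rw [hf, ha]⟩

/-- With two free orbits the nontrivial characters below an irreducible form one orbit. -/
theorem supp_subset_orb (h : Setting P C N) (φ : Cfsg.IrrCharacter G) {α : P →* ℂˣ}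
    (hα : α ∈ supp h (φ : G → ℂ)) (hα1 : α ≠ 1) {μ ν : P →* ℂˣ}
    (hμ : μ ∉ supp h (φ : G → ℂ)) (hμ1 : μ ≠ 1) (hν : ν ∉ supp h (φ : G → ℂ)) (hν1 : ν ≠ 1)
    (hμν : orb h μ ≠ orb h ν) :
    ∀ β ∈ supp h (φ : G → ℂ), β ≠ 1 → β ∈ orb h α := by
  classical
  intro β hβ hβ1
  by_contra hnot
  have hφ := isClassFunction_irr φ
  have hsep : ∀ {γ δ}, γ ∈ supp h (φ : G → ℂ) → δ ∉ supp h (φ : G → ℂ) → Apart h γ δ :=
    fun {γ δ} hγ hδ n hn => hδ (by
      have := act_mem_supp h hφ hγ n⁻¹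
      rwa [← hn, act_act, mul_inv_cancel, act_one_elt] at this)
  obtain ⟨ψ, hψα, hψn⟩ := (Finset.mem_filter.1 hα).2
  obtain ⟨ξ, hξβ, hξn⟩ := (Finset.mem_filter.1 hβ).2
  obtain ⟨ψ', φ₁, -, hψ'μ, hoff1, hne1, hf1⟩ := exists_family h φ ψ.2 hψα hα1 hψn hμ hμ1
  obtain ⟨ξ', φ₂, -, hξ'ν, hoff2, hne2, hf2⟩ := exists_family h φ ξ.2 hξβ hβ1 hξn hν hν1
  have h0 := inner_ind_disjoint h hψα hψ'μ hξβ hξ'ν
    (fun n hn => hnot ((mem_orb h).2 ⟨n⁻¹, by rw [← hn, act_act, mul_inv_cancel, act_one_elt]⟩))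
    (hsep hα hν) (hsep hβ hμ).symm (apart_of_orb_ne h hμν) hoff1 hoff2
  rw [hf1, hf2, classInner_sub_left, classInner_sub_right, classInner_sub_right,
    classInner_irr_self, classInner_irr_ne hne1, classInner_irr_ne hne2.symm,
    classInner_irrCharacter] at h0
  split_ifs at h0 <;> norm_num at h0

/-- The counting contradiction. -/
theorem count_absurd (h : Setting P C N) (φ : Cfsg.IrrCharacter G)
    (hφ1 : (φ : G → ℂ) ≠ fun _ => 1)
    (htriv : Cfsg.classInner (fun c : C => (φ : G → ℂ) c) (fun _ => 1) ≠ 0) {α : P →* ℂˣ}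
    (hα : α ∈ supp h (φ : G → ℂ)) (hα1 : α ≠ 1)
    (hsingle : ∀ β ∈ supp h (φ : G → ℂ), β ≠ 1 → β ∈ orb h α)
    (hq : (C.subgroupOf N).index * (C.subgroupOf N).index + 1 < Fintype.card (P →* ℂˣ)) : False := by
  classical
  set e := (C.subgroupOf N).index with he
  have hepos : 0 < e := Nat.pos_of_ne_zero Subgroup.index_ne_zero_of_finite
  set Z : Finset (P →* ℂˣ) := Finset.univ \ insert 1 (orb h α) with hZ
  have hZcard : e * (e - 1) < Z.card := by
    have h1 : (insert 1 (orb h α)).card ≤ e + 1 :=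
      (Finset.card_insert_le _ _).trans (by rw [card_orb h hα1])
    have h2 : Z.card = Fintype.card (P →* ℂˣ) - (insert 1 (orb h α)).card := by
      rw [hZ, Finset.card_univ_sdiff]
    have : e * (e - 1) + e = e * e := by
      rw [← Nat.mul_succ, Nat.succ_eq_add_one, Nat.sub_add_cancel hepos]
    omega
  have hZprop : ∀ μ ∈ Z, μ ≠ 1 ∧ μ ∉ orb h α ∧ μ ∉ supp h (φ : G → ℂ) := by
    intro μ hμ
    simp only [hZ, Finset.mem_sdiff, Finset.mem_univ, Finset.mem_insert, true_and, not_or] at hμ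
    exact ⟨hμ.1, hμ.2, fun hs => hμ.2 (hsingle μ hs hμ.1)⟩
  set O := Z.image (orb h) with hO
  have hOcard : e ≤ O.card := by
    have h1 : Z.card ≤ e * O.card := by
      refine Finset.card_le_mul_card_image Z e fun o ho => ?_
      obtain ⟨μ, hμ, rfl⟩ := Finset.mem_image.1 ho
      refine (Finset.card_le_card fun ν hν => ?_).trans (card_orb h (hZprop μ hμ).1).le
      rw [Finset.mem_filter] at hν
      exact hν.2 ▸ self_mem_orb h ν
    by_contra hlt
    have := Nat.mul_le_mul_left e (show O.card ≤ e - 1 by omega)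
    omega
  choose r hr hro using fun o : O => Finset.mem_image.1 o.2
  have hrsep : ∀ o o' : O, o ≠ o' → Apart h (r o) (r o') := fun o o' hne =>
    apart_of_orb_ne h fun e' => hne (Subtype.ext (by rw [← hro o, ← hro o', e']))
  have hZa : ∀ μ ∈ Z, Apart h α μ := fun μ hμ n hn => (hZprop μ hμ).2.1
    ((mem_orb h).2 ⟨n⁻¹, by rw [← hn, act_act, mul_inv_cancel, act_one_elt]⟩)
  obtain ⟨ψ, hψα, hψn⟩ := (Finset.mem_filter.1 hα).2
  choose ψ' φ' hψ'i hψ'c hoff hne hf using fun o : O =>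
    exists_family h φ ψ.2 hψα hα1 hψn (hZprop _ (hr o)).2.2 (hZprop _ (hr o)).1
  obtain ⟨o₀⟩ : Nonempty O := by
    obtain ⟨o, ho⟩ := Finset.card_pos.1 (show 0 < O.card by omega)
    exact ⟨⟨o, ho⟩⟩
  have h1c : Cent h (fun _ : C => (1 : ℂ)) 1 := fun y c => by simp
  obtain ⟨L, hLi, hLc, hLoff, hL1⟩ := exists_partner h isIrrCharacter_one h1c (r o₀)
  set F := Cfsg.indFun C ((fun _ : C => (1 : ℂ)) - L) with hF
  have hFgen : Cfsg.IsGeneralizedCharacter G F :=
    IsGeneralizedCharacter.indFun ⟨_, L, isCharacter_one, isCharacter_of_irr hLi, rfl⟩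
  have hF1 : F 1 = 0 := by rw [hF, indFun_one, Pi.sub_apply, hL1, sub_self, mul_zero]
  have hFF : Cfsg.classInner F F = (e : ℂ) + 1 := norm_ind_one_sub h hLi hLc (hZprop _ (hr o₀)).1 hLoff
  let one : Cfsg.IrrCharacter G := ⟨fun _ => 1, isIrrCharacter_one⟩
  have hFone : Cfsg.classInner F (one : G → ℂ) = 1 := by
    rw [hF, frobenius_reciprocity _ _ (isClassFunction_irr one), classInner_sub_left]
    show Cfsg.classInner (fun _ : C => (1 : ℂ)) (fun _ => 1) - Cfsg.classInner L (fun _ => 1) = 1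
    rw [classInner_self_irr isIrrCharacter_one, inner_eq_zero hLc h1c (hZprop _ (hr o₀)).1, sub_zero]
  obtain ⟨a, ha⟩ := classInner_char_nat (isCharacter_one (G := C))
    (IsCharacter.restrict (isCharacter_of_irr φ.2) C)
  have ha0 : a ≠ 0 := fun h0 => htriv (by
    rw [← classInner_conj_symm, ha, h0, Nat.cast_zero, map_zero])
  have hFφ : Cfsg.classInner F (φ : G → ℂ) = a := by
    rw [hF, frobenius_reciprocity _ _ (isClassFunction_irr φ), classInner_sub_left,
      inner_res_eq_zero h hLi hLc (hZprop _ (hr o₀)).2.2, sub_zero, ← ha]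
  have hFφ' : ∀ o : O, o ≠ o₀ → Cfsg.classInner F (φ' o : G → ℂ) = a := by
    intro o ho
    have h0 := inner_ind_disjoint h h1c hLc hψα (hψ'c o) (apart_one hα1).symm
      (apart_one (hZprop _ (hr o)).1).symm (hZa _ (hr o₀)).symm (hrsep o₀ o ho.symm) hLoff (hoff o)
    rw [← hF, hf o, classInner_sub_right, hFφ, sub_eq_zero] at h0
    exact h0.symm
  have hinj : Function.Injective φ' := by
    intro o o' hoo
    by_contra hno
    have h1 : Cfsg.classInner (Cfsg.indFun C ((ψ : C → ℂ) - ψ' o))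
        (Cfsg.indFun C ((ψ : C → ℂ) - ψ' o')) = 1 := by
      rw [inner_ind_ind h (hoff o) (hoff o'), Finset.sum_congr rfl fun n _ =>
        show Cfsg.classInner ((ψ : C → ℂ) - ψ' o) (cnj h n ((ψ : C → ℂ) - ψ' o')) =
          if (n : G) ∈ C then (1 : ℂ) else 0 by
        rw [inner_cnj_sub, inner_irr_cnj h ψ.2 hψα hα1,
          inner_eq_zero hψα (cent_cnj h n (hψ'c o')) (hZa _ (hr o') n).symm,
          inner_eq_zero (hψ'c o) (cent_cnj h n hψα) ((hZa _ (hr o)).symm n).symm,
          inner_eq_zero (hψ'c o) (cent_cnj h n (hψ'c o')) (hrsep o o' hno n).symm]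
        ring, sum_indicator h, inv_mul_cancel₀]
      exact_mod_cast Nat.card_pos.ne'
    rw [hf o, hf o', ← hoo, classInner_sub_left, classInner_sub_right, classInner_sub_right,
      classInner_irr_self, classInner_irr_self, classInner_irr_ne (hne o),
      classInner_irr_ne (hne o).symm] at h1
    norm_num at h1
  have hne1 : ∀ o, φ' o ≠ one := by
    intro o ho
    have h1 : Cfsg.classInner (Cfsg.indFun C ((ψ : C → ℂ) - ψ' o)) (one : G → ℂ) = 0 := by
      rw [frobenius_reciprocity _ _ (isClassFunction_irr one), classInner_sub_left]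
      show Cfsg.classInner (ψ : C → ℂ) (fun _ => 1) - Cfsg.classInner (ψ' o) (fun _ => 1) = 0
      rw [inner_eq_zero hψα h1c hα1, inner_eq_zero (hψ'c o) h1c (hZprop _ (hr o)).1, sub_zero]
    rw [hf o, ho, classInner_sub_left, classInner_irr_self,
      classInner_irr_ne (fun e' => hφ1 (congrArg Subtype.val e'))] at h1
    norm_num at h1
  set T : Finset (Cfsg.IrrCharacter G) := insert one (insert φ ((Finset.univ.erase o₀).image φ'))
    with hT
  have hTcard : e + 1 ≤ T.card := by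
    rw [hT, Finset.card_insert_of_notMem, Finset.card_insert_of_notMem,
      Finset.card_image_of_injective _ hinj, Finset.card_erase_of_mem (Finset.mem_univ _),
      Finset.card_univ, Fintype.card_coe]
    · omega
    · simp only [Finset.mem_image, not_exists, not_and]
      exact fun o _ => hne o
    · simp only [Finset.mem_insert, Finset.mem_image, not_or, not_exists, not_and]
      exact ⟨fun e' => hφ1 (congrArg Subtype.val e').symm, fun o _ => hne1 o⟩
  obtain ⟨c, hc⟩ := exists_int_decomp hFgen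
  have hcF : ∀ η : Cfsg.IrrCharacter G, Cfsg.classInner F (η : G → ℂ) = c η := fun η => by
    rw [hc]; exact classInner_irrSum (fun η => (c η : ℂ)) η
  have hcT : ∀ η ∈ T, 1 ≤ c η := by
    intro η hη
    simp only [hT, Finset.mem_insert, Finset.mem_image, Finset.mem_erase] at hη
    rcases hη with rfl | rfl | ⟨o, ⟨ho, -⟩, rfl⟩
    · have : c one = 1 := Int.cast_injective (α := ℂ) (by rw [← hcF, hFone, Int.cast_one])
      omega
    · have : c η = a := Int.cast_injective (α := ℂ) (by rw [← hcF, hFφ, Int.cast_natCast])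
      omega
    · have : c (φ' o) = a :=
        Int.cast_injective (α := ℂ) (by rw [← hcF, hFφ' o ho, Int.cast_natCast])
      omega
  have hnorm : ∑ η, c η * c η = (e : ℤ) + 1 := Int.cast_injective (α := ℂ) (by
    push_cast
    rw [← hFF, hc, classInner_self_decomp]
    exact Finset.sum_congr rfl fun η _ => by rw [map_intCast])
  have hsplit := Finset.sum_add_sum_compl T fun η => c η * c η
  have hTge : (T.card : ℤ) ≤ ∑ η ∈ T, c η * c η := by
    rw [Finset.card_eq_sum_ones, Nat.cast_sum]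
    exact Finset.sum_le_sum fun η hη => by push_cast; nlinarith [hcT η hη]
  have hge0 : 0 ≤ ∑ η ∈ Tᶜ, c η * c η := Finset.sum_nonneg fun η _ => mul_self_nonneg _
  rw [hnorm] at hsplit
  have hrest : ∀ η, η ∉ T → c η = 0 := by
    intro η hη
    have h0 : ∑ η ∈ Tᶜ, c η * c η = 0 := by omega
    simpa using (Finset.sum_eq_zero_iff_of_nonneg fun x _ => mul_self_nonneg (c x)).1 h0 η
      (Finset.mem_compl.2 hη)
  have hdeg : ∑ η, c η * (deg (η : G → ℂ) : ℤ) = 0 := Int.cast_injective (α := ℂ) (by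
    rw [hc, Finset.sum_apply] at hF1
    simpa [irr_apply_one_eq_deg] using hF1)
  rw [← Finset.sum_add_sum_compl T, Finset.sum_eq_zero (s := Tᶜ) fun η hη => by
    rw [hrest η (Finset.mem_compl.1 hη), zero_mul], add_zero] at hdeg
  refine absurd hdeg (ne_of_gt (Finset.sum_pos (fun η hη => ?_) (Finset.card_pos.1 (by omega))))
  exact mul_pos (by have := hcT η hη; omega) (by exact_mod_cast deg_irr_pos η)

/-- A small irreducible character is linear when `P` generates `G` as a normal subgroup. -/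
theorem deg_eq_one (h : Setting P C N) (htop : ∀ K : Subgroup G, K.Normal → P ≤ K → K = ⊤)
    (χ : Cfsg.IrrCharacter G) (hχ1 : (χ : G → ℂ) ≠ fun _ => 1)
    (hdeg : deg (χ : G → ℂ) * deg (χ : G → ℂ) + 1 < Fintype.card (P →* ℂˣ)) :
    (χ : G → ℂ) 1 = 1 := by
  classical
  by_contra hx1
  set x := deg (χ : G → ℂ) with hx
  have hχc := isCharacter_of_irr χ.2
  have hχ1' : (χ : G → ℂ) 1 = x := irr_apply_one_eq_deg χ
  obtain ⟨m, w, hw, hm, hmi, hsupp⟩ := exists_res h hχc
  set A := supp h (χ : G → ℂ) with hA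
  -- the number of characters below `χ`
  have hAcard : A.card ≤ x := by
    set S := Finset.univ.filter fun ψ => m ψ ≠ 0 with hS
    have h1 : A.card ≤ S.card := (Finset.card_le_card fun α hα => by
      obtain ⟨ψ, h0, rfl⟩ := (hsupp α).1 hα
      exact Finset.mem_image_of_mem w (Finset.mem_filter.2 ⟨Finset.mem_univ _, h0⟩)).trans
      (Finset.card_image_le (f := w) (s := S))
    refine h1.trans ?_
    have h2 : (χ : G → ℂ) 1 = ((∑ ψ, m ψ * deg (ψ : C → ℂ) : ℕ) : ℂ) := by
      have := congrFun hm 1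
      simp only [OneMemClass.coe_one] at this
      rw [this, Finset.sum_apply]
      push_cast
      exact Finset.sum_congr rfl fun ψ _ => by rw [Pi.smul_apply, nsmul_eq_mul, irr_apply_one_eq_deg]
    rw [hχ1'] at h2
    rw [Nat.cast_injective h2, Finset.card_eq_sum_ones]
    exact (Finset.sum_le_sum fun ψ hψ => Nat.mul_pos (Nat.pos_of_ne_zero (Finset.mem_filter.1 hψ).2)
      (deg_irr_pos ψ)).trans (Finset.sum_le_sum_of_subset (Finset.subset_univ _))
  obtain ⟨ν, hν, hν1⟩ := exists_supp_ne_one h htop hχ1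
  have heA : (C.subgroupOf N).index ≤ A.card := by
    rw [← card_orb h hν1]
    exact Finset.card_le_card (orb_subset_supp h (isClassFunction_irr χ) hν)
  have hA2 : 2 ≤ A.card := by
    by_contra hlt
    have hall : ∀ α ∈ A, α = ν := fun α hα => Finset.card_le_one.1 (by omega) α hα ν hν
    have hscal : ∀ y ∈ P, ‖(χ : G → ℂ) y‖ = x := fun y hy => by
      rw [apply_of_supp_subset h hχc hall ⟨y, hy⟩, norm_mul, hχ1',
        Complex.norm_eq_one_of_pow_eq_one (n := orderOf (⟨y, hy⟩ : P)) (by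
          rw [← Units.val_pow_eq_pow_val, ← map_pow, pow_orderOf_eq_one, map_one, Units.val_one])
          (orderOf_pos _).ne', one_mul, Complex.norm_natCast]
    obtain ⟨d, ρ, hρ, hρχ⟩ := χ.2
    have hd : ρ.character 1 = (d : ℂ) := by rw [ρ.char_one]; simp
    have hdx : d = x := by
      rw [hρχ, hχ1'] at hd
      exact_mod_cast hd.symm
    have hsc : ∀ g : G, ∃ ω : ℂ, ρ g = ω • (LinearMap.id : (Fin d → ℂ) →ₗ[ℂ] (Fin d → ℂ)) := by
      let K : Subgroup G :=
        { carrier := {g | ∃ ω : ℂ, ρ g = ω • (LinearMap.id : (Fin d → ℂ) →ₗ[ℂ] (Fin d → ℂ))}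
          mul_mem' := by
            rintro a b ⟨u, hu⟩ ⟨v, hv⟩
            exact ⟨u * v, by rw [map_mul, hu, hv]; ext i j; simp [mul_assoc, mul_left_comm]⟩
          one_mem' := ⟨1, by rw [map_one, one_smul]; rfl⟩
          inv_mem' := by
            rintro a ⟨u, hu⟩
            refine ⟨u⁻¹, ?_⟩
            have h1 : ρ a⁻¹ * ρ a = 1 := by rw [← map_mul, inv_mul_cancel, map_one]
            rcases eq_or_ne u 0 with rfl | hu0
            · rw [hu, zero_smul, mul_zero] at h1
              rw [inv_zero, zero_smul, ← mul_one (ρ a⁻¹), ← h1, mul_zero]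
            · rw [hu] at h1
              calc ρ a⁻¹ = ρ a⁻¹ * (u⁻¹ • (u • LinearMap.id)) := by
                    rw [smul_smul, inv_mul_cancel₀ hu0, one_smul]; exact (mul_one _).symm
                _ = u⁻¹ • LinearMap.id := by rw [mul_smul_comm, h1]; rfl }
      have hK : K = ⊤ := by
        refine htop K ⟨fun a ⟨u, hu⟩ g => ⟨u, ?_⟩⟩ fun y hy => ?_
        · rw [map_mul, map_mul, hu, mul_smul_comm, smul_mul_assoc]
          congr 1
          show ρ g * 1 * ρ g⁻¹ = 1
          rw [mul_one, ← map_mul, mul_inv_cancel, map_one]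
        · obtain ⟨ω, hω, -⟩ := scalar_of_norm_character_eq ρ y (by
            rw [hρχ, hscal y hy]; simp [hdx])
          exact ⟨ω, hω⟩
      intro g
      exact (hK ▸ Subgroup.mem_top g : g ∈ K)
    have hsq : ∀ g : G, (χ : G → ℂ) g * conj ((χ : G → ℂ) g) = (x : ℂ) * x := by
      intro g
      obtain ⟨u, hu⟩ := hsc g
      obtain ⟨v, hv⟩ := hsc g⁻¹
      have h1 : ∀ k, ∀ w : ℂ, ρ k = w • LinearMap.id → (χ : G → ℂ) k = w * x := fun k w hk => by
        rw [← hρχ, Representation.character, hk, map_smul, LinearMap.trace_id, smul_eq_mul]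
        simp [hdx]
      have huv : u * v * x = x := by
        rw [← h1 (g * g⁻¹) (u * v) (by rw [map_mul, hu, hv]; ext i j; simp [mul_assoc, mul_left_comm]),
          mul_inv_cancel, hχ1']
      rw [← IsCharacter.conj_inv hχc, h1 g u hu, h1 g⁻¹ v hv,
        show u * (x : ℂ) * (v * x) = u * v * x * x by ring, huv]
    have h1 := classInner_self_irr χ.2
    rw [classInner_def, Finset.sum_congr rfl fun g _ => hsq g, Finset.sum_const, Finset.card_univ,
      nsmul_eq_mul, ← Nat.card_eq_fintype_card, inv_mul_cancel_left₀] at h1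
    · exact hx1 (by
        rw [hχ1']
        have h2 : x * x = 1 := by exact_mod_cast h1
        rw [Nat.eq_one_of_mul_eq_one_left h2, Nat.cast_one])
    · exact_mod_cast Nat.card_pos.ne'
  -- a constituent of `|χ|²` with trivial constituent on `C`
  have hsqc : Cfsg.IsCharacter G (fun g => (χ : G → ℂ) g * conj ((χ : G → ℂ) g)) :=
    IsCharacter.mul hχc (IsCharacter.conjugate hχc)
  obtain ⟨M, hM⟩ := IsCharacter.exists_decomp hsqc
  have hone_sum : Cfsg.classInner (fun c : C => (χ : G → ℂ) c * conj ((χ : G → ℂ) c)) (fun _ => 1) =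
      ((∑ ψ, m ψ * m ψ : ℕ) : ℂ) := by
    have h1 : Cfsg.classInner (fun c : C => (χ : G → ℂ) c * conj ((χ : G → ℂ) c)) (fun _ => 1) =
        Cfsg.classInner (fun c : C => (χ : G → ℂ) c) (fun c : C => (χ : G → ℂ) c) := by
      simp [classInner_def]
    rw [h1, hm]
    simp only [← Nat.cast_smul_eq_nsmul ℂ]
    rw [classInner_self_decomp]
    simp
  have hres : ∀ f : C → ℂ, Cfsg.classInner (fun c : C => (χ : G → ℂ) c * conj ((χ : G → ℂ) c)) f =
      ∑ η : Cfsg.IrrCharacter G, (M η : ℂ) * Cfsg.classInner (fun c : C => (η : G → ℂ) c) f := by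
    intro f
    have : (fun c : C => (χ : G → ℂ) c * conj ((χ : G → ℂ) c)) =
        ∑ η : Cfsg.IrrCharacter G, (M η : ℂ) • fun c : C => (η : G → ℂ) c := by
      funext c
      have := congrFun hM c
      rw [this, Finset.sum_apply, Finset.sum_apply]
      exact Finset.sum_congr rfl fun η _ => by simp [nsmul_eq_mul]
    rw [this, classInner_sum_left]
    exact Finset.sum_congr rfl fun η _ => classInner_smul_left _ _ _
  let one : Cfsg.IrrCharacter G := ⟨fun _ => 1, isIrrCharacter_one⟩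
  have hMone : M one = 1 := by
    have h1 : Cfsg.classInner (fun g => (χ : G → ℂ) g * conj ((χ : G → ℂ) g)) (one : G → ℂ) =
        Cfsg.classInner (χ : G → ℂ) χ := by simp [classInner_def, one]
    rw [hM, classInner_irr_self] at h1
    simp only [← Nat.cast_smul_eq_nsmul ℂ] at h1
    rw [classInner_irrSum (fun η => (M η : ℂ)) one] at h1
    exact_mod_cast h1
  obtain ⟨φ, hφ1, hMφ, htriv⟩ : ∃ φ : Cfsg.IrrCharacter G, (φ : G → ℂ) ≠ (fun _ => 1) ∧ M φ ≠ 0 ∧
      Cfsg.classInner (fun c : C => (φ : G → ℂ) c) (fun _ => 1) ≠ 0 := by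
    by_contra! hno
    have h1 := hres fun _ => 1
    rw [hone_sum, Finset.sum_eq_single one (fun η _ hη => by
      rcases eq_or_ne (M η) 0 with h0 | h0
      · simp [h0]
      · rw [hno η (fun e' => hη (Subtype.ext e')) h0, mul_zero]) (by simp), hMone, Nat.cast_one,
      one_mul, classInner_self_irr isIrrCharacter_one] at h1
    have h2 : ∑ ψ, m ψ * m ψ = 1 := by exact_mod_cast h1
    have h3 : A.card ≤ ∑ ψ, m ψ * m ψ := by
      refine ((Finset.card_le_card fun α hα => ?_).trans (Finset.card_image_le (f := w)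
        (s := Finset.univ.filter fun ψ => m ψ ≠ 0))).trans ?_
      · obtain ⟨ψ, h0, rfl⟩ := (hsupp α).1 hα
        exact Finset.mem_image_of_mem w (Finset.mem_filter.2 ⟨Finset.mem_univ _, h0⟩)
      · rw [Finset.card_eq_sum_ones]
        exact (Finset.sum_le_sum fun ψ hψ => Nat.mul_pos
          (Nat.pos_of_ne_zero (Finset.mem_filter.1 hψ).2)
          (Nat.pos_of_ne_zero (Finset.mem_filter.1 hψ).2)).trans
          (Finset.sum_le_sum_of_subset (Finset.subset_univ _))
    omega
  -- the characters below `φ` are quotients of those below `χ`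
  have hquot : ∀ τ ∈ supp h (φ : G → ℂ), τ ≠ 1 → τ ∈ A.offDiag.image fun ab => ab.1 * ab.2⁻¹ := by
    intro τ hτ hτ1
    obtain ⟨ξ, hξc, hξn⟩ := (Finset.mem_filter.1 hτ).2
    obtain ⟨k, hk⟩ : ∃ k : Cfsg.IrrCharacter G → ℕ, ∀ η : Cfsg.IrrCharacter G,
        Cfsg.classInner (fun c : C => (η : G → ℂ) c) (ξ : C → ℂ) = k η := by
      choose k hk using fun η : Cfsg.IrrCharacter G =>
        IsCharacter.exists_mult (IsCharacter.restrict (isCharacter_of_irr η.2) C) ξ.2
      exact ⟨k, hk⟩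
    have hne : Cfsg.classInner (fun c : C => (χ : G → ℂ) c * conj ((χ : G → ℂ) c)) (ξ : C → ℂ) ≠ 0 := by
      rw [hres]
      simp only [hk, ← Nat.cast_mul, ← Nat.cast_sum, Nat.cast_ne_zero]
      intro h0
      have h1 := Finset.sum_eq_zero_iff.1 h0 φ (Finset.mem_univ _)
      rcases mul_eq_zero.1 h1 with h2 | h2
      · exact hMφ h2
      · exact hξn (by rw [hk, h2, Nat.cast_zero])
    have hexp : (fun c : C => (χ : G → ℂ) c * conj ((χ : G → ℂ) c)) = ∑ i, ∑ j,
        ((m i : ℂ) * m j) • ((i : C → ℂ) * fun c => conj ((j : C → ℂ) c)) := by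
      funext c
      have := congrFun hm c
      rw [this]
      simp only [Finset.sum_apply, map_sum, Finset.sum_mul_sum, Pi.smul_apply, Pi.mul_apply,
        nsmul_eq_mul, smul_eq_mul, Pi.natCast_apply, map_mul, map_natCast]
      exact Finset.sum_congr rfl fun i _ => Finset.sum_congr rfl fun j _ => by ring
    rw [hexp, classInner_sum_left] at hne
    obtain ⟨i, -, hi⟩ := Finset.exists_ne_zero_of_sum_ne_zero hne
    rw [classInner_sum_left] at hi
    obtain ⟨j, -, hj⟩ := Finset.exists_ne_zero_of_sum_ne_zero hi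
    rw [classInner_smul_left, mul_ne_zero_iff, mul_ne_zero_iff, Nat.cast_ne_zero,
      Nat.cast_ne_zero] at hj
    have hτ' : τ = w i * (w j)⁻¹ := by
      by_contra hne'
      exact hj.2 (inner_eq_zero (Cent.mul (hw i) (Cent.conj (hw j))) hξc (Ne.symm hne'))
    refine Finset.mem_image.2 ⟨(w i, w j), Finset.mem_offDiag.2
      ⟨(hsupp _).2 ⟨i, hj.1.1, rfl⟩, (hsupp _).2 ⟨j, hj.1.2, rfl⟩, fun e' => hτ1 ?_⟩, hτ'.symm⟩
    simp only at e'
    rw [hτ', e']; exact mul_inv_cancel (w j)
  obtain ⟨α, hα, hα1⟩ := exists_supp_ne_one h htop hφ1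
  set e := (C.subgroupOf N).index with he
  set B := insert 1 (supp h (φ : G → ℂ)) with hB
  have hBcard : B.card ≤ 1 + (x * x - e) := by
    have h1 : B ⊆ insert 1 (A.offDiag.image fun ab => ab.1 * ab.2⁻¹) := by
      intro τ hτ
      rcases eq_or_ne τ 1 with rfl | hτ1
      · exact Finset.mem_insert_self _ _
      · exact Finset.mem_insert_of_mem (hquot τ ((Finset.mem_insert.1 hτ).resolve_left hτ1) hτ1)
    have h2 := (Finset.card_le_card h1).trans (Finset.card_insert_le _ _)
    have h3 := (Finset.card_image_le (f := fun ab : (P →* ℂˣ) × (P →* ℂˣ) => ab.1 * ab.2⁻¹)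
      (s := A.offDiag))
    rw [Finset.offDiag_card] at h3
    have h4 : A.card * A.card - A.card ≤ x * x - x := by
      have e1 : ∀ a : ℕ, a * a - a = a * (a - 1) := fun a => by rw [Nat.mul_sub, mul_one]
      rw [e1, e1]
      exact Nat.mul_le_mul hAcard (Nat.sub_le_sub_right hAcard 1)
    have : x ≤ x * x := Nat.le_mul_self x
    omega
  have hZ : e + 1 ≤ (Finset.univ \ B).card := by
    rw [Finset.card_univ_sdiff]
    have : x ≤ x * x := Nat.le_mul_self x
    omega
  obtain ⟨μ, hμ⟩ := Finset.card_pos.1 (show 0 < (Finset.univ \ B).card by omega)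
  simp only [hB, Finset.mem_sdiff, Finset.mem_univ, Finset.mem_insert, true_and, not_or] at hμ
  obtain ⟨ν', hν', hν'o⟩ : ∃ ν' ∈ Finset.univ \ B, ν' ∉ orb h μ := by
    by_contra! hall
    have := Finset.card_le_card (show Finset.univ \ B ⊆ orb h μ from hall)
    rw [card_orb h hμ.1] at this
    omega
  simp only [hB, Finset.mem_sdiff, Finset.mem_univ, Finset.mem_insert, true_and, not_or] at hν'
  have hsingle := supp_subset_orb h φ hα hα1 hμ.2 hμ.1 hν'.2 hν'.1
    (fun e' => hν'o (e' ▸ self_mem_orb h ν'))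
  refine count_absurd h φ hφ1 htriv hα hα1 hsingle ?_
  have : (C.subgroupOf N).index * (C.subgroupOf N).index ≤ x * x :=
    Nat.mul_le_mul (heA.trans hAcard) (heA.trans hAcard)
  omega

/-- The main theorem for a Sylow subgroup. -/
theorem linear_of_closure_top {p : ℕ} [Fact p.Prime] (Q : Sylow p G)
    (hstar : ∀ x ∈ (Q : Subgroup G), x ≠ 1 → Subgroup.centralizer ({x} : Set G) =
      Subgroup.centralizer ((Q : Subgroup G) : Set G))
    (htop : ∀ K : Subgroup G, K.Normal → (Q : Subgroup G) ≤ K → K = ⊤)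
    (χ : Cfsg.IrrCharacter G) (hχ1 : (χ : G → ℂ) ≠ fun _ => 1)
    (hdeg : deg (χ : G → ℂ) ^ 2 + 1 < Nat.card Q) : (χ : G → ℂ) 1 = 1 := by
  classical
  have h := setting Q hstar
  haveI : IsMulCommutative (Q : Subgroup G) :=
    ⟨⟨fun a b => Subtype.ext (h.central a a.2 b (h.le b.2))⟩⟩
  letI : CommGroup (Q : Subgroup G) :=
    { (inferInstance : Group (Q : Subgroup G)) with
      mul_comm := fun a b => Subtype.ext (h.central a a.2 b (h.le b.2)) }
  obtain ⟨eq⟩ := CommGroup.monoidHom_mulEquiv_of_hasEnoughRootsOfUnity (Q : Subgroup G) ℂ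
  haveI : Finite ((Q : Subgroup G) →* ℂˣ) := Finite.of_equiv _ eq.symm.toEquiv
  haveI := Fintype.ofFinite ((Q : Subgroup G) →* ℂˣ)
  refine deg_eq_one h htop χ hχ1 ?_
  rw [← Nat.card_eq_fintype_card, Nat.card_congr eq.toEquiv, ← pow_two]
  exact hdeg

end Cfsg.Lib.Chars.StarSylow
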