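import Mathlib
import Cfsg.Agent.Chars.RealOddDegree
import Cfsg.Agent.Chars.OrthMean
import Cfsg.Agent.Chars.DefectZero
import Cfsg.Agent.Transfer.Basic

/-!
# Strongly real characters over a character of 2-defect zero
-/

set_option autoImplicit false
set_option linter.unusedSectionVars false
set_option linter.style.haveILetI false

namespace Cfsg.Lib.Chars.StronglyRealAbove

open Cfsg Cfsg.Lib.Chars Cfsg.Lib.Chars.RealOdd
open scoped ComplexConjugate Matrix

universe u

variable {G : Type u} [Group G] [Fintype G]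

/-- A real irreducible character whose fixed space of some subgroup has odd dimension is
orthogonal. -/
theorem indicator_one_of_fixed_odd {χ : G → ℂ} (hχ : Cfsg.IsIrrCharacter G χ)
    (hreal : ∀ g, (χ g).im = 0) (H : Subgroup G) [Fintype H] {c : ℕ} (hc : Odd c)
    (hsum : ∑ h : H, χ h = (c : ℂ) * Nat.card H) :
    (Nat.card G : ℂ)⁻¹ * ∑ s, χ (s * s) = 1 := by
  classical
  rcases indicator_irr hχ with ⟨⟨s, hs⟩, -⟩ | ⟨-, h | ⟨h, -⟩⟩
  · exact absurd (hreal s) hs
  · exact h
  exfalso
  obtain ⟨d, ρ, hρ, rfl⟩ := hχ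
  haveI := hρ
  obtain ⟨M, hM, hMu, -⟩ := Cfsg.Lib.Blocks.exists_form_of_real ρ hreal
  have hT : Mᵀ = -M := by rw [Cfsg.Lib.Blocks.transpose_eq_indicator ρ hM, h, neg_one_smul]
  set Q : Matrix (Fin d) (Fin d) ℂ := (Nat.card H : ℂ)⁻¹ • ∑ k : H, matRep ρ k with hQ
  have hH0 : (Nat.card H : ℂ) ≠ 0 := Nat.cast_ne_zero.2 Nat.card_pos.ne'
  have htr : Q.trace = c := by
    rw [hQ, Matrix.trace_smul, Matrix.trace_sum, smul_eq_mul,
      Finset.sum_congr rfl (g := fun k : H => ρ.character k) (fun k _ => (character_matRep ρ _).symm),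
      hsum, mul_comm (c : ℂ), inv_mul_cancel_left₀ hH0]
  have habs : ∀ k : H, matRep ρ k * Q = Q := fun k => by
    rw [hQ, Matrix.mul_smul, Finset.mul_sum]
    congr 1
    refine Fintype.sum_equiv (Equiv.mulLeft k) _ _ fun l => ?_
    rw [← map_mul, Equiv.coe_mulLeft, Subgroup.coe_mul]
  have hidem : Q * Q = Q := by
    conv_lhs => arg 1; rw [hQ]
    rw [Matrix.smul_mul, Finset.sum_mul, Finset.sum_congr rfl fun k _ => habs k, Finset.sum_const,
      Finset.card_univ, ← Nat.card_eq_fintype_card, ← Nat.cast_smul_eq_nsmul ℂ, smul_smul,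
      inv_mul_cancel₀ hH0, one_smul]
  have hMQ : Q * M = M * Qᵀ := by
    rw [hQ, Matrix.smul_mul, Finset.sum_mul, Matrix.transpose_smul, Matrix.mul_smul,
      Matrix.transpose_sum, Finset.mul_sum]
    congr 1
    refine Fintype.sum_equiv (Equiv.inv H) _ _ fun k => ?_
    rw [Equiv.inv_apply, Subgroup.coe_inv]
    conv_lhs => rw [← hM (k : G)⁻¹]
    rw [← mul_assoc, ← mul_assoc, ← map_mul, mul_inv_cancel, map_one, one_mul]
  set R := LinearMap.range (Matrix.toLin' Qᵀ) with hR
  have hp : LinearMap.IsProj R (Matrix.toLin' Qᵀ) := by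
    refine ⟨fun v => LinearMap.mem_range_self _ v, ?_⟩
    rintro _ ⟨v, rfl⟩
    rw [← Matrix.toLin'_mul_apply, ← Matrix.transpose_mul, hidem]
  have hrk : Module.finrank ℂ R = c := by
    have h1 := hp.trace
    rw [Matrix.trace_toLin'_eq, Matrix.trace_transpose, htr] at h1
    exact_mod_cast h1.symm
  let e : R ≃ₗ[ℂ] (Fin c → ℂ) := ((Module.finBasis ℂ R).reindex (finCongr hrk)).equivFun
  set W : Matrix (Fin d) (Fin c) ℂ := LinearMap.toMatrix' (R.subtype.comp e.symm.toLinearMap) with hW
  set V : Matrix (Fin c) (Fin d) ℂ := LinearMap.toMatrix'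
    (e.toLinearMap.comp ((Matrix.toLin' Qᵀ).codRestrict R fun v => hp.map_mem v)) with hV
  have hWV : W * V = Qᵀ := by
    rw [hW, hV, ← LinearMap.toMatrix'_comp]
    refine Matrix.toLin'.injective ?_
    rw [Matrix.toLin'_toMatrix']
    refine LinearMap.ext fun v => ?_
    show ((e.symm (e ⟨Matrix.toLin' Qᵀ v, hp.map_mem v⟩) : R) : Fin d → ℂ) = _
    rw [e.symm_apply_apply]
  have hVW : V * W = 1 := by
    rw [hW, hV, ← LinearMap.toMatrix'_comp]
    refine Matrix.toLin'.injective ?_
    rw [Matrix.toLin'_toMatrix', Matrix.toLin'_one]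
    refine LinearMap.ext fun v => ?_
    simp only [LinearMap.coe_comp, LinearEquiv.coe_coe, Function.comp_apply, LinearMap.id_coe,
      id_eq, Submodule.coe_subtype]
    conv_rhs => rw [← e.apply_symm_apply v]
    congr 1
    exact Subtype.ext (hp.map_id _ (e.symm v).2)
  have hQW : Qᵀ * W = W := by rw [← hWV, Matrix.mul_assoc, hVW, Matrix.mul_one]
  set S : Matrix (Fin c) (Fin c) ℂ := Wᵀ * M * W with hS
  have hSR : S * (V * M⁻¹ * Vᵀ) = 1 := by
    calc S * (V * M⁻¹ * Vᵀ) = Wᵀ * M * (W * V) * M⁻¹ * Vᵀ := by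
          simp only [hS, Matrix.mul_assoc]
      _ = Wᵀ * (Q * M) * M⁻¹ * Vᵀ := by rw [hWV, hMQ]; simp only [Matrix.mul_assoc]
      _ = Wᵀ * Q * (M * M⁻¹) * Vᵀ := by simp only [Matrix.mul_assoc]
      _ = (V * (Qᵀ * W))ᵀ := by
          rw [Matrix.mul_nonsing_inv _ hMu, Matrix.mul_one, Matrix.transpose_mul,
            Matrix.transpose_mul, Matrix.transpose_transpose]
      _ = 1 := by rw [hQW, hVW, Matrix.transpose_one]
  have hskew : Sᵀ = -S := by
    rw [hS, Matrix.transpose_mul, Matrix.transpose_mul, Matrix.transpose_transpose, hT]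
    simp [Matrix.mul_assoc]
  have hdet0 : S.det = 0 := by
    have h2 := congrArg Matrix.det hskew
    rw [Matrix.det_transpose, Matrix.det_neg, Fintype.card_fin, hc.neg_one_pow, neg_one_mul] at h2
    exact CharZero.eq_neg_self_iff.1 h2
  have h3 := congrArg Matrix.det hSR
  rw [Matrix.det_mul, hdet0, zero_mul, Matrix.det_one] at h3
  exact zero_ne_one h3

/-- Clifford's degree formula. -/
theorem deg_eq_mult_mul (N : Subgroup G) [N.Normal] [Fintype N] {χ : G → ℂ}
    (hχ : IsIrrCharacter G χ) {θ : N → ℂ} (hθ : IsIrrCharacter N θ)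
    (hc : classInner (fun n : N => χ n) θ ≠ 0) {e : ℕ}
    (he : classInner (fun n : N => χ n) θ = (e : ℂ)) :
    deg χ = (conjOrbit N θ).card * e * deg θ := by
  have h := congrFun (clifford N hχ hθ hc) 1
  simp only [OneMemClass.coe_one, Pi.smul_apply, Finset.sum_apply, smul_eq_mul] at h
  rw [he, Finset.sum_congr rfl (g := fun _ => (deg θ : ℂ)) (fun ψ hψ => by
    obtain ⟨g, rfl⟩ := (mem_conjOrbit N).1 hψ
    simp only [conjN_eq_comp, map_one]
    exact IsCharacter.apply_one_eq_deg (isCharacter_of_irr hθ)),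
    Finset.sum_const, nsmul_eq_mul, IsCharacter.apply_one_eq_deg (isCharacter_of_irr hχ)] at h
  exact Nat.cast_injective (R := ℂ) (by rw [h]; push_cast; ring)

theorem deg_dvd_of_constituent' (N : Subgroup G) [N.Normal] [Fintype N] {χ : G → ℂ}
    (hχ : IsIrrCharacter G χ) {θ : N → ℂ} (hθ : IsIrrCharacter N θ)
    (hc : classInner (fun n : N => χ n) θ ≠ 0) : deg θ ∣ deg χ := by
  obtain ⟨e, he⟩ := IsCharacter.exists_mult (IsCharacter.restrict (isCharacter_of_irr hχ) N) hθ
  exact ⟨(conjOrbit N θ).card * e, by rw [deg_eq_mult_mul N hχ hθ hc he]; ring⟩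

theorem deg_le_index_mul (N : Subgroup G) [N.Normal] [Fintype N] {χ : G → ℂ}
    (hχ : IsIrrCharacter G χ) {θ : N → ℂ} (hθ : IsIrrCharacter N θ)
    (hc : classInner (fun n : N => χ n) θ ≠ 0) : deg χ ≤ N.index * deg θ := by
  obtain ⟨m, hm⟩ := IsCharacter.exists_decomp (IsCharacter.indFun (isCharacter_of_irr hθ) (H := N))
  have hin : classInner (indFun N θ) χ = m ⟨χ, hχ⟩ := by
    rw [hm]
    simp only [← Nat.cast_smul_eq_nsmul ℂ]
    exact classInner_irrSum (fun ψ => (m ψ : ℂ)) ⟨χ, hχ⟩
  have hm0 : m ⟨χ, hχ⟩ ≠ 0 := fun h => hc (by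
    rw [h, Nat.cast_zero, frobenius_reciprocity _ _ (isClassFunction_irr ⟨χ, hχ⟩)] at hin
    rw [← classInner_conj_symm, hin, map_zero])
  have h1 : N.index * deg θ = ∑ ψ : IrrCharacter G, m ψ * deg (ψ : G → ℂ) := by
    apply Nat.cast_injective (R := ℂ)
    rw [Nat.cast_mul, ← IsCharacter.apply_one_eq_deg (isCharacter_of_irr hθ), ← indFun_one,
      congrFun hm 1]
    simp [Finset.sum_apply, irr_apply_one_eq_deg]
  rw [h1]
  refine le_trans ?_ (Finset.single_le_sum (f := fun ψ : IrrCharacter G => m ψ * deg (ψ : G → ℂ))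
    (fun _ _ => Nat.zero_le _) (Finset.mem_univ ⟨χ, hχ⟩))
  exact Nat.le_mul_of_pos_left _ (Nat.pos_of_ne_zero hm0)

/-- Over a normal subgroup with `2`-group quotient the degrees grow by powers of two. -/
theorem deg_eq_two_pow : ∀ (n : ℕ) (G : Type u) [Group G] [Fintype G], Nat.card G = n →
    ∀ (N : Subgroup G) [N.Normal] [Fintype N], IsPGroup 2 (G ⧸ N) → ∀ (χ : IrrCharacter G)
      (φ : IrrCharacter N), classInner (fun x : N => (χ : G → ℂ) x) (φ : N → ℂ) ≠ 0 →
      ∃ k : ℕ, deg (χ : G → ℂ) = 2 ^ k * deg (φ : N → ℂ) := by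
  intro n
  induction n using Nat.strong_induction_on with
  | _ n ih =>
  intro G _ _ hn N _ _ h2 χ φ hc
  classical
  haveI := Fact.mk Nat.prime_two
  obtain ⟨a, ha⟩ := IsPGroup.iff_card.1 h2
  rcases Nat.eq_zero_or_pos a with rfl | hpos
  · have htop : N = ⊤ := by
      rw [← Subgroup.index_eq_one, Subgroup.index_eq_card, ha, pow_zero]
    obtain ⟨e, he⟩ : ∃ e : ℕ, ∀ x : N, (χ : G → ℂ) x = (e : ℂ) * (φ : N → ℂ) x := by
      subst htop
      obtain ⟨e, -, he⟩ := restrict_eq_mult_of_invariant (⊤ : Subgroup G) χ.2 φ.2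
        (fun g => mem_inertia.1 (le_inertia (isClassFunction_irr φ) (Subgroup.mem_top g))) hc
      exact ⟨e, fun x => congrFun he x⟩
    refine ⟨0, ?_⟩
    have hi : IsIrrCharacter N (fun x : N => (χ : G → ℂ) x) := by
      subst htop
      exact IsIrrCharacter.comp_mulEquiv χ.2 Subgroup.topEquiv
    have hφ : (fun x : N => (χ : G → ℂ) x) = (φ : N → ℂ) := by
      by_contra hne
      refine hc ?_
      rw [classInner_irrChar hi φ.2, if_neg hne]
    rw [pow_zero, one_mul]
    apply Nat.cast_injective (R := ℂ)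
    rw [← irr_apply_one_eq_deg, ← irr_apply_one_eq_deg, ← congrFun hφ 1]
    rfl
  · obtain ⟨H, hH⟩ : ∃ H : Subgroup (G ⧸ N), Nat.card H = 2 ^ (a - 1) :=
      Sylow.exists_subgroup_card_pow_prime 2 (by rw [ha]; exact pow_dvd_pow 2 (Nat.sub_le a 1))
    have hidx : H.index = 2 := by
      have h1 := H.card_mul_index
      rw [hH, ha, show 2 ^ a = 2 ^ (a - 1) * 2 by rw [← pow_succ, Nat.sub_add_cancel hpos]] at h1
      exact Nat.eq_of_mul_eq_mul_left (pow_pos two_pos _) h1
    set M := H.comap (QuotientGroup.mk' N) with hM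
    have hMidx : M.index = 2 := by
      rw [hM, Subgroup.index_comap_of_surjective _ (QuotientGroup.mk'_surjective N), hidx]
    haveI hMn : M.Normal := Subgroup.normal_of_index_eq_two hMidx
    have hNM : N ≤ M := fun x hx => by
      rw [hM, Subgroup.mem_comap, show QuotientGroup.mk' N x = 1 from (QuotientGroup.eq_one_iff x).2 hx]
      exact one_mem _
    letI : Fintype M := Fintype.ofFinite _
    haveI : (N.subgroupOf M).Normal := Subgroup.normal_subgroupOf
    letI : Fintype (N.subgroupOf M) := Fintype.ofFinite _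
    obtain ⟨ψ, hψ, hψc⟩ := exists_constituent M (isCharacter_of_irr χ.2)
      (IsIrrCharacter.apply_one_ne_zero χ.2)
    obtain ⟨θ, hθ, hθc⟩ := exists_constituent (N.subgroupOf M) (isCharacter_of_irr hψ)
      (IsIrrCharacter.apply_one_ne_zero hψ)
    have hlt : Nat.card M < n := by
      have h1 := M.card_mul_index
      rw [hMidx, hn] at h1
      have : 0 < Nat.card M := Nat.card_pos
      omega
    have h2M : IsPGroup 2 (↥M ⧸ N.subgroupOf M) := by
      obtain ⟨b, -, hb⟩ := (Nat.dvd_prime_pow Nat.prime_two).1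
        (show N.relIndex M ∣ 2 ^ a by
          rw [← ha, ← Subgroup.index_eq_card]; exact Subgroup.relIndex_dvd_index_of_normal N M)
      exact IsPGroup.of_card (n := b) (by rw [← Subgroup.index_eq_card]; exact hb)
    obtain ⟨k, hk⟩ := ih _ hlt M rfl (N.subgroupOf M) h2M ⟨ψ, hψ⟩ ⟨θ, hθ⟩ hθc
    have e := Subgroup.subgroupOfEquivOfLe hNM
    have hdθ : deg θ = deg (φ : N → ℂ) := by
      let e := Subgroup.subgroupOfEquivOfLe hNM
      have hi : IsIrrCharacter N (fun x => θ (e.symm x)) := IsIrrCharacter.comp_mulEquiv hθ e.symm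
      have hc' : classInner (fun x : N => (χ : G → ℂ) x) (fun x => θ (e.symm x)) ≠ 0 := by
        refine over_trans (Subgroup.inclusion hNM) (IsCharacter.restrict (isCharacter_of_irr χ.2) M)
          hψ hψc hi ?_
        have e1 : classInner (fun x : N => ψ (Subgroup.inclusion hNM x)) (fun x => θ (e.symm x)) =
            classInner (fun x : N.subgroupOf M => ψ x) θ := by
          rw [classInner_def, classInner_def, Nat.card_congr e.toEquiv]
          congr 1
          refine Fintype.sum_equiv e.symm.toEquiv _ _ fun x => ?_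
          rfl
        rw [e1]
        exact hθc
      obtain ⟨g, hg⟩ := exists_conjN_of_constituents N χ.2 φ.2 hi hc hc'
      apply Nat.cast_injective (R := ℂ)
      have := congrFun hg 1
      rw [conjN_eq_comp] at this
      simp only [map_one] at this
      rw [← IsCharacter.apply_one_eq_deg (isCharacter_of_irr hθ), ← irr_apply_one_eq_deg, ← this]
    obtain ⟨j, hj⟩ := deg_dvd_of_constituent' M χ.2 hψ hψc
    have hle : deg (χ : G → ℂ) ≤ 2 * deg ψ := by
      have := deg_le_index_mul M χ.2 hψ hψc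
      rwa [hMidx] at this
    have hpos' : 0 < deg (χ : G → ℂ) := Nat.pos_of_ne_zero fun h =>
      IsIrrCharacter.apply_one_ne_zero χ.2 (by rw [irr_apply_one_eq_deg, h, Nat.cast_zero])
    simp only at hk
    rw [hdθ] at hk
    have hj1 : 0 < j := Nat.pos_of_ne_zero fun h => by
      subst h
      omega
    have hψpos : 0 < deg ψ := Nat.pos_of_ne_zero fun h => by
      rw [h] at hle
      omega
    have hj2 : j ≤ 2 := Nat.le_of_mul_le_mul_left (by rw [← hj]; linarith) hψpos
    rcases (by omega : j = 1 ∨ j = 2) with rfl | rfl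
    · exact ⟨k, by rw [hj, hk, mul_one]⟩
    · exact ⟨k + 1, by rw [hj, hk, pow_succ]; ring⟩

/-- A self-conjugate orbit of 2-defect zero lies under an orthogonal character with multiplicity
one. -/
theorem exists_strongly_real (N : Subgroup G) [N.Normal] [Fintype N] (h2 : IsPGroup 2 (G ⧸ N))
    (φ : IrrCharacter N) (hdef : 2 ^ (Nat.card N).factorization 2 ∣ deg (φ : N → ℂ)) (g₀ : G)
    (hconj : ∀ n : N, (φ : N → ℂ) (MulAut.conjNormal g₀ n) = conj ((φ : N → ℂ) n)) :
    ∃ χ : IrrCharacter G, (Nat.card G : ℂ)⁻¹ * ∑ s, (χ : G → ℂ) (s * s) = 1 ∧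
      classInner (fun n : N => (χ : G → ℂ) n) (φ : N → ℂ) = 1 := by
  classical
  haveI := Fact.mk Nat.prime_two
  obtain ⟨S⟩ : Nonempty (Sylow 2 G) := inferInstance
  letI : Fintype (S : Subgroup G) := Fintype.ofFinite _
  obtain ⟨a, ha⟩ := IsPGroup.iff_card.1 h2
  set b := (Nat.card N).factorization 2 with hb
  obtain ⟨q, hq⟩ := hdef
  obtain ⟨r, hr⟩ := IsIrrCharacter.deg_dvd φ.2
  have hN0 : Nat.card N = 2 ^ b * (q * r) := by rw [hr, hq, mul_assoc]
  have hqr : ¬ 2 ∣ q * r := fun ⟨w, hw⟩ =>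
    Nat.pow_succ_factorization_not_dvd (n := Nat.card N) Nat.card_pos.ne' Nat.prime_two
      ⟨w, by rw [← hb, hN0, hw, pow_succ, mul_assoc]⟩
  have hqodd : Odd q := Nat.odd_iff.2 (by
    have : ¬ 2 ∣ q := fun h => hqr (h.mul_right r)
    omega)
  have hG : Nat.card G = 2 ^ (a + b) * (q * r) := by
    rw [Subgroup.card_eq_card_quotient_mul_card_subgroup N, ha, hN0, pow_add, mul_assoc]
  have hS : Nat.card (S : Subgroup G) = 2 ^ (a + b) := by
    rw [S.card_eq_multiplicity, hG, Nat.factorization_mul (pow_ne_zero _ two_ne_zero)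
      (fun h => hqr (by rw [h]; exact dvd_zero 2)), Finsupp.add_apply, Nat.prime_two.factorization_pow,
      Finsupp.single_eq_same, Nat.factorization_eq_zero_of_not_dvd hqr, add_zero]
  set f := indFun (S : Subgroup G) (fun _ => (1 : ℂ)) with hf
  have hfc : IsCharacter G f := IsCharacter.indFun (isCharacter_of_irr isIrrCharacter_one)
  have hfr : RealC f := realC_indFun _ fun _ => Complex.one_im
  have hinner : classInner (fun n : N => f n) (φ : N → ℂ) = (q : ℂ) := by
    have hterm : ∀ n : N, f n * conj ((φ : N → ℂ) n) =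
        if n = 1 then ((S : Subgroup G).index : ℂ) * (deg (φ : N → ℂ) : ℂ) else 0 := by
      intro n
      split_ifs with hn
      · subst hn
        rw [OneMemClass.coe_one, hf, indFun_one, mul_one, irr_apply_one_eq_deg,
          Complex.conj_natCast]
      · by_cases hz : f n = 0
        · rw [hz, zero_mul]
        · have hx : ∃ x : G, x⁻¹ * (n : G) * x ∈ (S : Subgroup G) := by
            by_contra hno
            push Not at hno
            refine hz ?_
            rw [hf, indFun_apply, Finset.sum_eq_zero fun x _ => extendByZero_not_mem _ (hno x),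
              mul_zero]
          obtain ⟨x, hx⟩ := hx
          have ho : 2 ∣ orderOf n := by
            obtain ⟨i, hi⟩ := IsPGroup.iff_orderOf.1 S.2 ⟨_, hx⟩
            rw [Subgroup.orderOf_mk, show x⁻¹ * (n : G) * x = MulAut.conj x⁻¹ (n : G) by simp,
              show orderOf (MulAut.conj x⁻¹ (n : G)) = orderOf (n : G) from
                orderOf_injective (MulAut.conj x⁻¹).toMonoidHom (MulAut.conj x⁻¹).injective _,
              Subgroup.orderOf_coe] at hi
            rw [hi]
            refine dvd_pow_self 2 fun h0 => hn ?_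
            rw [h0, pow_zero] at hi
            exact orderOf_eq_one_iff.1 hi
          rw [eq_zero_of_defect_zero φ.2 Nat.prime_two (n := b) ⟨q * r, hN0⟩
            (fun ⟨w, hw⟩ => Nat.pow_succ_factorization_not_dvd (n := Nat.card N) Nat.card_pos.ne'
              Nat.prime_two ⟨w, hw⟩) ⟨q, hq⟩ ho, map_zero, mul_zero]
    rw [classInner_def, Finset.sum_congr rfl fun n _ => hterm n, Finset.sum_ite_eq' Finset.univ,
      if_pos (Finset.mem_univ _)]
    have hidx : (S : Subgroup G).index = q * r := by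
      have h1 := (S : Subgroup G).card_mul_index
      rw [hS, hG] at h1
      exact Nat.eq_of_mul_eq_mul_left (pow_pos two_pos _) h1
    have hne : (Nat.card N : ℂ) ≠ 0 := by exact_mod_cast Nat.card_pos.ne'
    rw [inv_mul_eq_iff_eq_mul₀ hne, hidx, hq, hN0]
    push_cast
    ring
  obtain ⟨c, hc⟩ := IsCharacter.exists_decomp hfc
  have hcin : ∀ χ : IrrCharacter G, classInner f (χ : G → ℂ) = c χ := fun χ => by
    rw [hc]
    simp only [← Nat.cast_smul_eq_nsmul ℂ]
    rw [classInner_irrSum (fun ψ => (c ψ : ℂ)) χ]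
  choose m hm using fun χ : IrrCharacter G =>
    IsCharacter.exists_mult (IsCharacter.restrict (isCharacter_of_irr χ.2) N) φ.2
  have hq' : q = ∑ χ : IrrCharacter G, c χ * m χ := by
    apply Nat.cast_injective (R := ℂ)
    rw [← hinner, show (fun n : N => f n) = ∑ χ : IrrCharacter G, c χ • (fun n : N => (χ : G → ℂ) n)
      from funext fun n => by rw [congrFun hc n]; simp [Finset.sum_apply], classInner_sum_left]
    simp only [classInner_nsmul_left, hm, Nat.cast_sum, Nat.cast_mul]
  have hcs : ∀ χ : IrrCharacter G, c (conjIrr χ) = c χ := fun χ => by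
    apply Nat.cast_injective (R := ℂ)
    rw [← hcin, ← hcin]
    have e : classInner f (conjIrr χ : G → ℂ) = conj (classInner f (χ : G → ℂ)) := by
      simp only [classInner_def, map_mul, map_inv₀, Complex.conj_natCast, map_sum]
      congr 1
      refine Finset.sum_congr rfl fun g _ => ?_
      rw [realC_iff.1 hfr g]
      rfl
    rw [e, hcin, Complex.conj_natCast]
  have hms : ∀ χ : IrrCharacter G, m (conjIrr χ) = m χ := fun χ => by
    apply Nat.cast_injective (R := ℂ)
    rw [← hm, ← hm]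
    have e1 : classInner (fun n : N => (χ : G → ℂ) n) (fun n => conj ((φ : N → ℂ) n)) =
        classInner (fun n : N => (χ : G → ℂ) n) (φ : N → ℂ) := by
      rw [show (fun n => conj ((φ : N → ℂ) n)) = conjN N g₀ (φ : N → ℂ) from funext fun n => by
        rw [conjN_eq_comp]; exact (hconj n).symm,
        classInner_restrict_conjN N (isClassFunction_irr χ)]
    have e2 : classInner (fun n : N => (conjIrr χ : G → ℂ) n) (φ : N → ℂ) =
        conj (classInner (fun n : N => (χ : G → ℂ) n) (fun n => conj ((φ : N → ℂ) n))) := by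
      simp only [classInner_def, map_mul, map_inv₀, Complex.conj_natCast, map_sum, Complex.conj_conj]
      rfl
    rw [e2, e1, hm, Complex.conj_natCast]
  have hz : ∑ χ : IrrCharacter G, ((c χ * m χ : ℕ) : ZMod 2) ≠ 0 := by
    rw [← Nat.cast_sum, ← hq', ne_eq, ZMod.natCast_eq_zero_iff_even]
    exact Nat.not_even_iff_odd.2 hqodd
  rw [← Finset.sum_filter_add_sum_filter_not Finset.univ (fun χ : IrrCharacter G => conjIrr χ = χ)]
    at hz
  have h0 : ∑ χ ∈ Finset.univ.filter (fun χ : IrrCharacter G => ¬ conjIrr χ = χ),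
      ((c χ * m χ : ℕ) : ZMod 2) = 0 := by
    refine Finset.sum_involution (fun χ _ => conjIrr χ) (fun χ _ => ?_)
      (fun χ hχ _ => (Finset.mem_filter.1 hχ).2) (fun χ hχ => ?_) (fun χ _ => conjIrr_conjIrr χ)
    · rw [hcs, hms]
      exact CharTwo.add_self_eq_zero _
    · refine Finset.mem_filter.2 ⟨Finset.mem_univ _, fun h => (Finset.mem_filter.1 hχ).2 ?_⟩
      rwa [conjIrr_conjIrr, eq_comm] at h
  rw [h0, add_zero] at hz
  obtain ⟨χ, hχ, hne⟩ := Finset.exists_ne_zero_of_sum_ne_zero hz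
  rw [ne_eq, ZMod.natCast_eq_zero_iff_even, Nat.not_even_iff_odd, Nat.odd_mul] at hne
  have hreal := (conjIrr_eq_self_iff χ).1 (Finset.mem_filter.1 hχ).2
  refine ⟨χ, indicator_one_of_fixed_odd χ.2 hreal (S : Subgroup G) hne.1 ?_, ?_⟩
  · have h1 := hcin χ
    rw [hf, frobenius_reciprocity _ _ (isClassFunction_irr χ), classInner_def,
      inv_mul_eq_iff_eq_mul₀ (by exact_mod_cast Nat.card_pos.ne')] at h1
    have h2 := congrArg conj h1
    rw [map_sum, map_mul, Complex.conj_natCast, Complex.conj_natCast] at h2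
    simp only [one_mul, Complex.conj_conj] at h2
    rw [h2, mul_comm]
  · have hc0 : classInner (fun n : N => (χ : G → ℂ) n) (φ : N → ℂ) ≠ 0 := by
      rw [hm]; exact Nat.cast_ne_zero.2 fun h => by simp [h] at hne
    obtain ⟨k, hk⟩ := deg_eq_two_pow _ G rfl N h2 χ φ hc0
    have hd := deg_eq_mult_mul N χ.2 φ.2 hc0 (hm χ)
    rw [hk] at hd
    have hφ : 0 < deg (φ : N → ℂ) := Nat.pos_of_ne_zero fun h =>
      IsIrrCharacter.apply_one_ne_zero φ.2 (by rw [irr_apply_one_eq_deg, h, Nat.cast_zero])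
    have hd' : 2 ^ k = (conjOrbit N (φ : N → ℂ)).card * m χ :=
      Nat.eq_of_mul_eq_mul_right hφ hd
    obtain ⟨j, -, hj⟩ := (Nat.dvd_prime_pow Nat.prime_two).1 (Dvd.intro_left _ hd'.symm)
    rw [hm, hj]
    rcases Nat.eq_zero_or_pos j with rfl | hj0
    · simp
    · exfalso
      refine Nat.not_even_iff_odd.2 hne.2 ?_
      rw [hj]
      exact Nat.even_pow.2 ⟨even_two, hj0.ne'⟩

end Cfsg.Lib.Chars.StronglyRealAbove
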