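import Cfsg.Agent.PGroups.CommutatorIndexFour
import Cfsg.Agent.PGroups.CyclicMaximal
import Cfsg.Agent.PGroups.AutCyclicIndexTwo

/-!
# Two-groups with derived subgroup of index four and rational classes
-/

set_option autoImplicit false
set_option linter.style.haveILetI false
set_option linter.unusedSectionVars false

namespace Cfsg.Lib.Chars.SylowTwoField

open Subgroup

variable {G : Type*} [Group G]

theorem conj_pow_iter {g x : G} {d : ℕ} (h : x * g * x⁻¹ = g ^ d) (j : ℕ) :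
    x ^ j * g * (x ^ j)⁻¹ = g ^ d ^ j := by
  induction j with
  | zero => simp
  | succ j ih =>
    rw [pow_succ' x, mul_inv_rev, pow_succ' d, pow_mul]
    calc x * x ^ j * g * ((x ^ j)⁻¹ * x⁻¹) = x * (x ^ j * g * (x ^ j)⁻¹) * x⁻¹ := by group
      _ = x * g ^ d ^ j * x⁻¹ := by rw [ih]
      _ = (g ^ d) ^ d ^ j := by rw [← conj_pow, h]

theorem mem_normalizer_zpowers [Finite G] {g h : G} {u : ℕ} (hu : u.Coprime (orderOf g))
    (hh : h * g * h⁻¹ = g ^ u) : h ∈ normalizer (zpowers g : Set G) := by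
  have hsub : ∀ y ∈ zpowers g, h * y * h⁻¹ ∈ zpowers g := fun y hy => by
    obtain ⟨i, rfl⟩ := mem_zpowers_iff.1 hy
    rw [← conj_zpow, hh]
    exact zpow_mem (pow_mem (mem_zpowers g) u) i
  rw [mem_normalizer_iff]
  refine fun y => ⟨hsub y, fun hy => ?_⟩
  obtain ⟨v, hv⟩ := exists_pow_eq_self_of_coprime hu
  obtain ⟨i, hi⟩ := mem_zpowers_iff.1 hy
  refine mem_zpowers_iff.2 ⟨(v : ℤ) * i, ?_⟩
  refine (mul_left_inj h⁻¹).1 ((mul_right_inj h).1 ?_)
  rw [← mul_assoc, ← mul_assoc, ← hi, ← conj_zpow, hh]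
  rw [zpow_mul, zpow_natCast, hv]

theorem dvd_cases {m d u : ℕ} {g : G} (hg : orderOf g = m) :
    (g ^ u = g ∨ g ^ u = g ^ d) ↔ (u ≡ 1 [MOD m] ∨ u ≡ d [MOD m]) := by
  rw [← hg, ← pow_eq_pow_iff_modEq, ← pow_eq_pow_iff_modEq, pow_one]

/-- A nonabelian group of order `8` has derived subgroup of index `4`. -/
theorem index_commutator_eight {X : Type*} [Group X] [Finite X] (hX : Nat.card X = 2 ^ 3)
    (hna : ∃ a b : X, a * b ≠ b * a) : (commutator X).index = 4 := by
  haveI := Fact.mk Nat.prime_two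
  have hP : IsPGroup 2 X := IsPGroup.of_card hX
  haveI : Nontrivial X := Finite.one_lt_card_iff_nontrivial.1 (hX ▸ by norm_num)
  haveI := hP.center_nontrivial
  obtain ⟨z, hz⟩ := IsPGroup.iff_card.1 (hP.to_subgroup (center X))
  have hz1 : 1 ≤ z := by
    by_contra h
    rw [show z = 0 by omega, pow_zero] at hz
    exact absurd hz (ne_of_gt (Finite.one_lt_card_iff_nontrivial.2 ‹_›))
  have hmul := (center X).card_mul_index
  rw [hX, hz] at hmul
  have hz2 : z = 1 := by
    by_contra h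
    have hle : (center X).index ≤ 2 := by
      have : 2 ^ 2 ≤ 2 ^ z := Nat.pow_le_pow_right two_pos (by omega)
      nlinarith
    have hcyc : IsCyclic (X ⧸ center X) := by
      rcases Nat.lt_or_ge (center X).index 2 with h1 | h1
      · haveI : Subsingleton (X ⧸ center X) := Finite.card_le_one_iff_subsingleton.1
          (by rw [← index_eq_card]; omega)
        infer_instance
      · exact isCyclic_of_prime_card (p := 2) (by rw [← index_eq_card]; omega)
    obtain ⟨a, b, hab⟩ := hna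
    exact hab (commutative_of_cyclic_center_quotient (QuotientGroup.mk' (center X))
      (by rw [QuotientGroup.ker_mk']) a b)
  rw [hz2] at hz hmul
  have hidx : (center X).index = 4 := by omega
  have hle : commutator X ≤ center X := by
    rw [Normal.quotient_commutative_iff_commutator_le.symm]
    exact IsPGroup.isMulCommutative_of_card_eq_prime_sq (p := 2) (by rw [← index_eq_card, hidx]; norm_num)
  have hne : commutator X ≠ ⊥ := fun hb => by
    obtain ⟨a, b, hab⟩ := hna
    rw [_root_.commutator_def, commutator_eq_bot_iff_le_centralizer] at hb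
    exact hab ((mem_centralizer_iff.1 (hb (mem_top a)) b (mem_top b)).symm)
  have heq : commutator X = center X := eq_of_le_of_card_ge hle (by
    rw [hz, pow_one]
    exact (Finite.one_lt_card_iff_nontrivial.2 ((nontrivial_iff_ne_bot _).2 hne)))
  rw [heq, hidx]

/-- A group of order `2 ^ n` generated by an element of order `2 ^ (n-1)` and an element inducing
the power `d ≡ 3 (mod 4)` on it has derived subgroup of index `4`. -/
theorem index_commutator_of_action {X : Type*} [Group X] [Finite X] {n d e : ℕ} (hn : 3 ≤ n)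
    (hX : Nat.card X = 2 ^ n) {a b : X} (ha : orderOf a = 2 ^ (n - 1)) (hb : b ∉ zpowers a)
    (hd : d = 1 + 2 * e) (he : Odd e) (hab : b * a * b⁻¹ = a ^ d) :
    (commutator X).index = 4 := by
  haveI := Fact.mk Nat.prime_two
  have hcop : (2 ^ (n - 1)).Coprime e :=
    Nat.Coprime.pow_left _ ((Nat.coprime_two_left).2 he)
  -- the square of `a` is a commutator
  have hmem : a ^ 2 ∈ commutator X := by
    have h1 : a ^ (2 * e) ∈ commutator X := by
      rw [_root_.commutator_def]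
      have h := commutator_mem_commutator (mem_top b) (mem_top a)
      rw [commutatorElement_def, hab, hd, pow_add, pow_one,
        (Commute.self_pow a (2 * e)).mul_inv_cancel] at h
      exact h
    have ho : (orderOf (a ^ 2)).Coprime e :=
      hcop.coprime_dvd_left (ha ▸ orderOf_pow_dvd 2)
    obtain ⟨v, hv⟩ := exists_pow_eq_self_of_coprime ho.symm
    rw [← hv, ← pow_mul a 2 e]
    exact pow_mem h1 v
  set K : Subgroup X := zpowers (a ^ 2)
  have hK : Nat.card K = 2 ^ (n - 2) := by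
    rw [Nat.card_zpowers, orderOf_pow' _ two_ne_zero, ha,
      show 2 ^ (n - 1) = 2 * 2 ^ (n - 2) by rw [← pow_succ']; congr 1; omega, Nat.gcd_mul_right_left,
      Nat.mul_div_cancel_left _ two_pos]
  have hKi : K.index = 4 := by
    have h1 := K.card_mul_index
    rw [hK, hX, show 2 ^ n = 2 ^ (n - 2) * 4 by
      rw [show (4 : ℕ) = 2 ^ 2 by norm_num, ← pow_add]; congr 1; omega] at h1
    exact Nat.eq_of_mul_eq_mul_left (by positivity) h1
  have hgen : closure ({a, b} : Set X) = ⊤ := by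
    refine eq_top_of_card_eq _ ?_
    obtain ⟨k, hk, hk'⟩ := (Nat.dvd_prime_pow Nat.prime_two).1
      (hX ▸ card_subgroup_dvd_card (closure ({a, b} : Set X)))
    have hlt : zpowers a < closure ({a, b} : Set X) :=
      lt_of_le_of_ne (zpowers_le.2 (subset_closure (Set.mem_insert _ _)))
        (fun h => hb (h ▸ subset_closure (Set.mem_insert_of_mem _ rfl)))
    have h1 : Nat.card (zpowers a) < Nat.card (closure ({a, b} : Set X)) :=
      lt_of_not_ge fun h => hlt.ne (eq_of_le_of_card_ge hlt.le h)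
    rw [Nat.card_zpowers, ha, hk'] at h1
    have := (Nat.pow_lt_pow_iff_right one_lt_two).1 h1
    rw [hk', hX]
    congr 1; omega
  haveI : K.Normal := by
    rw [← normalizer_eq_top_iff, eq_top_iff, ← hgen, closure_le]
    rintro y (rfl | rfl)
    · exact mem_normalizer_zpowers (u := 1) (Nat.coprime_one_left _) (by group)
    · refine mem_normalizer_zpowers (u := d) ?_ (by rw [← conj_pow, hab, ← pow_mul, ← pow_mul, mul_comm])
      refine (Nat.Coprime.coprime_dvd_right (ha ▸ orderOf_pow_dvd 2) ?_)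
      exact Nat.Coprime.pow_right _ ((Nat.coprime_two_right).2 ⟨e, by omega⟩)
  have hle : commutator X ≤ K := by
    rw [Normal.quotient_commutative_iff_commutator_le.symm]
    exact IsPGroup.isMulCommutative_of_card_eq_prime_sq (p := 2) (by rw [← index_eq_card, hKi]; norm_num)
  rw [le_antisymm hle (zpowers_le.2 hmem), hKi]

/-- The `2`-part of an element inducing an involutory power map. -/
theorem exists_two_element [Finite G] {g x : G} {m d : ℕ} (hm : orderOf g = m)
    (hd2 : d * d ≡ 1 [MOD m]) (hx : x * g * x⁻¹ = g ^ d) :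
    ∃ y : G, y * g * y⁻¹ = g ^ d ∧ ∃ k, orderOf y = 2 ^ k := by
  set o := orderOf x with ho
  have ho0 : o ≠ 0 := (orderOf_pos x).ne'
  refine ⟨x ^ (o / 2 ^ o.factorization 2), ?_, o.factorization 2, ?_⟩
  · rw [conj_pow_iter hx, pow_eq_pow_iff_modEq, hm]
    obtain ⟨t, ht⟩ : Odd (o / 2 ^ o.factorization 2) := by
      rw [← Nat.not_even_iff_odd, even_iff_two_dvd]
      exact Nat.not_dvd_ordCompl Nat.prime_two ho0
    rw [ht, pow_succ, pow_mul, pow_two]
    calc (d * d) ^ t * d ≡ 1 ^ t * d [MOD m] := (hd2.pow t).mul_right d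
      _ = d := by rw [one_pow, one_mul]
  · rw [orderOf_pow' _ (Nat.pos_iff_ne_zero.1 (Nat.ordCompl_pos 2 ho0)), ← ho,
      Nat.gcd_eq_right (Nat.ordCompl_dvd o 2)]
    exact Nat.div_div_self (Nat.ordProj_dvd o 2) ho0

theorem modEq_four {a b k : ℕ} (hk : 2 ≤ k) (h : a ≡ b [MOD 2 ^ k]) : a % 4 = b % 4 :=
  h.of_dvd (show 4 ∣ 2 ^ k from (show (4 : ℕ) = 2 ^ 2 by norm_num) ▸ pow_dvd_pow 2 hk)

variable [Finite G] (P : Sylow 2 G) {n d : ℕ}

/-- From a rational class with exponents `{1, d}` to the index of the derived subgroup. -/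
theorem index_eq_four (hn : 3 ≤ n) (hP : Nat.card P = 2 ^ n)
    (hd : d = 2 ^ (n - 1) - 1 ∨ d = 2 ^ (n - 2) - 1) {g : G} (hgP : g ∈ (P : Subgroup G))
    (heven : 2 ∣ (centralizer ({g} : Set G)).index)
    (h : ∀ u : ℕ, Odd u →
      (IsConj (g ^ u) g ↔ (u ≡ 1 [MOD 2 ^ (n - 1)] ∨ u ≡ d [MOD 2 ^ (n - 1)]))) :
    (commutator ↥(P : Subgroup G)).index = 4 := by
  haveI := Fact.mk Nat.prime_two
  have hna : ∃ a b : ↥(P : Subgroup G), a * b ≠ b * a := by
    by_contra hc
    push Not at hc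
    refine P.not_dvd_index (heven.trans (index_dvd_of_le fun p hp => ?_))
    exact mem_centralizer_singleton_iff.2 (congrArg Subtype.val (hc ⟨p, hp⟩ ⟨g, hgP⟩))
  rcases Nat.lt_or_ge n 4 with hn4 | hn4
  · obtain rfl : n = 3 := by omega
    exact index_commutator_eight hP hna
  obtain ⟨k, hkn, hk⟩ := (Nat.dvd_prime_pow Nat.prime_two).1
    (hP ▸ ((P : Subgroup G).orderOf_dvd_natCard hgP) : orderOf g ∣ 2 ^ n)
  have hk0 : k ≠ 0 := fun h0 => by
    rw [h0, pow_zero, orderOf_eq_one_iff] at hk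
    rw [hk, show centralizer ({1} : Set G) = ⊤ from
      eq_top_iff.2 fun y _ => mem_centralizer_singleton_iff.2 (by simp), index_top] at heven
    norm_num at heven
  have hkn' : k ≠ n := fun h0 => by
    have hPg : (P : Subgroup G) = zpowers g :=
      (eq_of_le_of_card_ge (zpowers_le.2 hgP) (by rw [Nat.card_zpowers, hk, h0, hP])).symm
    obtain ⟨a, b, hab⟩ := hna
    obtain ⟨i, hi⟩ := mem_zpowers_iff.1 (hPg ▸ a.2 : (a : G) ∈ zpowers g)
    obtain ⟨j, hj⟩ := mem_zpowers_iff.1 (hPg ▸ b.2 : (b : G) ∈ zpowers g)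
    exact hab (Subtype.ext (by simp only [Subgroup.coe_mul, ← hi, ← hj]; exact zpow_mul_comm g i j))
  have hd4 : d % 4 = 3 := by
    obtain ⟨t, rfl⟩ : ∃ t, n = t + 4 := ⟨n - 4, by omega⟩
    have h1 : 0 < 2 ^ t := Nat.two_pow_pos t
    rcases hd with rfl | rfl
    · rw [show t + 4 - 1 = t + 3 by omega, pow_add]; omega
    · rw [show t + 4 - 2 = t + 2 by omega, pow_add]; omega
  have hk1 : k = n - 1 := by
    by_contra hne
    set K := max k 2 with hK
    have hKn : K < n - 1 := by omega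
    have hKodd : Odd (1 + 2 ^ K) := by
      obtain ⟨t, ht⟩ : ∃ t, K = t + 1 := ⟨K - 1, by omega⟩
      exact ⟨2 ^ t, by rw [ht, pow_succ]; ring⟩
    have hfix : g ^ (1 + 2 ^ K) = g := by
      rw [pow_add, pow_one, orderOf_dvd_iff_pow_eq_one.1 (hk ▸ pow_dvd_pow 2 (le_max_left k 2)), mul_one]
    rcases (h _ hKodd).1 (by rw [hfix]) with h1 | h1
    · have h2 := (Nat.modEq_iff_dvd' (show 1 ≤ 1 + 2 ^ K from Nat.le_add_right _ _)).1 h1.symm
      rw [Nat.add_sub_cancel_left] at h2
      have := (Nat.pow_dvd_pow_iff_le_right one_lt_two).1 h2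
      omega
    · have h2 := modEq_four (by omega) h1
      obtain ⟨t, ht⟩ : ∃ t, K = t + 2 := ⟨K - 2, by omega⟩
      rw [hd4, ht, pow_add] at h2
      omega
  rw [hk1] at hk
  have hm4 : 2 ≤ n - 1 := by omega
  have hd2 : d * d ≡ 1 [MOD 2 ^ (n - 1)] := by
    obtain ⟨t, rfl⟩ : ∃ t, n = t + 4 := ⟨n - 4, by omega⟩
    rw [show t + 4 - 1 = t + 3 by omega, Nat.modEq_iff_dvd]
    have hpos : 1 ≤ 2 ^ (t + 2) ∧ 1 ≤ 2 ^ (t + 3) := ⟨Nat.one_le_two_pow, Nat.one_le_two_pow⟩
    rcases hd with rfl | rfl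
    · rw [show t + 4 - 1 = t + 3 by omega]
      exact ⟨2 - 2 ^ (t + 3), by push_cast [hpos.2]; ring⟩
    · rw [show t + 4 - 2 = t + 2 by omega]
      exact ⟨1 - 2 ^ (t + 1), by push_cast [hpos.1]; ring⟩
  obtain ⟨c, hc⟩ := isConj_iff.1 (((h d (Nat.odd_iff.2 (by omega))).2 (Or.inr rfl)).symm)
  obtain ⟨x, hx, j, hj⟩ := exists_two_element hk hd2 hc
  have hxg : x ∉ zpowers g := fun hm => by
    obtain ⟨i, hi⟩ := mem_zpowers_iff.1 hm
    have : g ^ d = g ^ 1 := by rw [← hx, ← hi]; group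
    rw [pow_eq_pow_iff_modEq, hk] at this
    have := modEq_four hm4 this
    omega
  have hxN : zpowers x ≤ normalizer (zpowers g : Set G) := zpowers_le.2
    (mem_normalizer_zpowers (hk ▸ Nat.Coprime.pow_right _ ((Nat.coprime_two_right).2
      (Nat.odd_iff.2 (by omega)))) hx)
  have hQ : IsPGroup 2 ↥(zpowers g ⊔ zpowers x) :=
    IsPGroup.to_sup_of_normal_left' (IsPGroup.of_card (n := n - 1) (by rw [Nat.card_zpowers, hk]))
      (IsPGroup.of_card (n := j) (by rw [Nat.card_zpowers, hj])) hxN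
  obtain ⟨R, hR⟩ := hQ.exists_le_sylow
  have hgR : g ∈ (R : Subgroup G) := hR (le_sup_left (a := zpowers g) (mem_zpowers g))
  have hxR : x ∈ (R : Subgroup G) := hR (le_sup_right (b := zpowers x) (mem_zpowers x))
  have hRcard : Nat.card R = 2 ^ n := by rw [← hP, R.card_eq_multiplicity, P.card_eq_multiplicity]
  have h4 : (commutator ↥(R : Subgroup G)).index = 4 := by
    refine index_commutator_of_action (n := n) (a := ⟨g, hgR⟩) (b := ⟨x, hxR⟩) (d := d)
      (e := d / 2) hn hRcard (by rw [Subgroup.orderOf_mk, hk]) (fun hm => hxg ?_) (by omega)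
      (Nat.odd_iff.2 (by omega)) (Subtype.ext (by simpa using hx))
    obtain ⟨i, hi⟩ := mem_zpowers_iff.1 hm
    exact mem_zpowers_iff.2 ⟨i, by simpa using congrArg Subtype.val hi⟩
  rw [← h4, _root_.commutator_def, _root_.commutator_def,
    ← map_top_of_surjective (R.equiv P).toMonoidHom (R.equiv P).surjective, ← map_commutator]
  exact index_map_equiv _ (R.equiv P)

/-- From the index of the derived subgroup to a rational class with exponents `{1, d}`. -/
theorem exists_class (hn : 3 ≤ n) (hP : Nat.card P = 2 ^ n)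
    (h4 : (commutator ↥(P : Subgroup G)).index = 4) :
    ∃ (g : G) (d : ℕ), g ∈ (P : Subgroup G) ∧ orderOf g = 2 ^ (n - 1) ∧
      (d = 2 ^ (n - 1) - 1 ∨ d = 2 ^ (n - 2) - 1) ∧
      2 ∣ (centralizer ({g} : Set G)).index ∧
      ∀ u : ℕ, Odd u →
        (IsConj (g ^ u) g ↔ (u ≡ 1 [MOD 2 ^ (n - 1)] ∨ u ≡ d [MOD 2 ^ (n - 1)])) := by
  haveI := Fact.mk Nat.prime_two
  haveI := P.isPGroup'.isNilpotent
  have hc := Cfsg.Lib.IndexFour.class_eq n ↥(P : Subgroup G) hP hn h4
  obtain ⟨C, hC, hCi⟩ := Cfsg.Lib.MaxClass.exists_cyclic_index_two n ↥(P : Subgroup G) hP hn hc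
  have hna : ∃ x y : ↥(P : Subgroup G), x * y ≠ y * x := by
    by_contra h
    push Not at h
    have h1 := Cfsg.Lib.MaxClass.class_le_one_of_comm h
    omega
  obtain ⟨a, b, -, hT⟩ := Cfsg.Lib.CyclicMax.classify n hn hP C hC hCi hna
  obtain ⟨r, s, hr, T⟩ : ∃ r s : ℤ, (r = -1 ∨ (4 ≤ n ∧ r = 2 ^ (n - 2) - 1)) ∧
      Cfsg.Lib.CyclicMax.TwoGen a b (n - 1) r s := by
    rcases hT with T | T | ⟨hn4, T⟩ | ⟨hn4, T⟩
    · exact ⟨_, _, Or.inl rfl, T⟩
    · exact ⟨_, _, Or.inl rfl, T⟩
    · exfalso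
      obtain ⟨k, rfl⟩ : ∃ k, n = k + 4 := ⟨n - 4, by omega⟩
      simp only [show k + 4 - 1 = k + 3 by omega, show k + 4 - 2 = k + 2 by omega] at T
      obtain ⟨h1, h2⟩ := Cfsg.Lib.CyclicMax.sq_mem_center_of_modular T
      rw [show (2 : ℤ) = ((2 : ℕ) : ℤ) by norm_num, zpow_natCast] at h1
      have h3 := (center ↥(P : Subgroup G)).orderOf_dvd_natCard h1
      rw [h2, (Cfsg.Lib.MaxClass.center_facts (p := 2) _ _ hP hn hc).1] at h3
      have := (Nat.pow_dvd_pow_iff_le_right one_lt_two).1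
        (h3.trans (pow_one 2).symm.dvd)
      omega
    · exact ⟨_, _, Or.inr ⟨by assumption, rfl⟩, T⟩
  obtain ⟨d, hd, hrd⟩ : ∃ d : ℕ, (d = 2 ^ (n - 1) - 1 ∨ (4 ≤ n ∧ d = 2 ^ (n - 2) - 1)) ∧
      a ^ r = a ^ d := by
    rcases hr with rfl | ⟨hn4, rfl⟩
    · refine ⟨_, Or.inl rfl, ?_⟩
      rw [zpow_neg, zpow_one, eq_comm, eq_inv_iff_mul_eq_one, ← pow_succ,
        Nat.sub_add_cancel Nat.one_le_two_pow, ← T.ord, pow_orderOf_eq_one]
    · refine ⟨_, Or.inr ⟨hn4, rfl⟩, ?_⟩
      rw [← zpow_natCast, Nat.cast_sub Nat.one_le_two_pow]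
      norm_num
  have hgo : orderOf (a : G) = 2 ^ (n - 1) := (Subgroup.orderOf_coe a).trans T.ord
  have hbg : (b : G) * a * (b : G)⁻¹ = (a : G) ^ d := by
    have := congrArg Subtype.val (T.conj.trans hrd)
    simpa using this
  have hdodd : Odd d := by
    obtain ⟨t, rfl⟩ : ∃ t, n = t + 3 := ⟨n - 3, by omega⟩
    refine Nat.odd_iff.2 ?_
    have h1 : 0 < 2 ^ t := Nat.two_pow_pos t
    rcases hd with rfl | ⟨-, rfl⟩
    · rw [show t + 3 - 1 = t + 2 by omega, pow_add]; omega
    · rw [show t + 3 - 2 = t + 1 by omega, pow_add]; omega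
  have hPN : (P : Subgroup G) ≤ normalizer (zpowers (a : G) : Set G) := by
    intro p hp
    rcases Cfsg.Lib.CyclicMax.cases T ⟨p, hp⟩ with ⟨i, hi⟩ | ⟨i, hi⟩
    · rw [show p = (a : G) ^ i by simpa using congrArg Subtype.val hi]
      exact le_normalizer (zpow_mem (mem_zpowers _) i)
    · rw [show p = (a : G) ^ i * b by simpa using congrArg Subtype.val hi]
      refine mul_mem (le_normalizer (zpow_mem (mem_zpowers _) i)) (mem_normalizer_zpowers ?_ hbg)
      rw [hgo]
      exact Nat.Coprime.pow_right _ ((Nat.coprime_two_right).2 hdodd)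
  have hPact : ∀ p : G, p ∈ (P : Subgroup G) → p * a * p⁻¹ = a ∨ p * a * p⁻¹ = (a : G) ^ d := by
    intro p hp
    rcases Cfsg.Lib.CyclicMax.cases T ⟨p, hp⟩ with ⟨i, hi⟩ | ⟨i, hi⟩
    · left
      rw [show p = (a : G) ^ i by simpa using congrArg Subtype.val hi]
      group
    · right
      rw [show p = (a : G) ^ i * b by simpa using congrArg Subtype.val hi, mul_inv_rev]
      calc (a : G) ^ i * b * a * ((b : G)⁻¹ * ((a : G) ^ i)⁻¹)
          = (a : G) ^ i * ((b : G) * a * (b : G)⁻¹) * ((a : G) ^ i)⁻¹ := by group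
        _ = (a : G) ^ d := by rw [hbg]; group
  refine ⟨a, d, a.2, hgo, hd.imp_right And.right, ?_, fun u hu => ⟨fun hcj => ?_, fun hu' => ?_⟩⟩
  · -- `b` acts nontrivially, so `P` is not in the centralizer
    by_contra hodd
    set C₀ := centralizer ({(a : G)} : Set G) with hC₀
    set N₀ := normalizer (zpowers (a : G) : Set G) with hN₀
    have hCN : C₀ ≤ N₀ := fun y hy => mem_normalizer_zpowers (u := 1) (Nat.coprime_one_left _) (by
      rw [pow_one, mem_centralizer_singleton_iff.1 hy, mul_inv_cancel_right])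
    haveI : (C₀.subgroupOf N₀).Normal := by
      have : C₀ = centralizer (zpowers (a : G) : Set G) := by
        rw [zpowers_eq_closure, centralizer_closure]
      rw [hC₀, ← hC₀, this, ← normalizerMonoidHom_ker]
      infer_instance
    have hidx : ¬ 2 ∣ (C₀.subgroupOf N₀).index := fun h2 =>
      hodd (h2.trans (relIndex_dvd_index_of_le hCN))
    have hb : (QuotientGroup.mk' (C₀.subgroupOf N₀)) ⟨b, hPN b.2⟩ = 1 := by
      rw [← orderOf_eq_one_iff]
      obtain ⟨i, hi⟩ := P.isPGroup' b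
      refine Nat.Coprime.eq_one_of_dvd (m := 2 ^ i) ?_ (orderOf_dvd_of_pow_eq_one ?_)
      · refine Nat.Coprime.pow_right _ (Nat.Coprime.coprime_dvd_left (orderOf_dvd_natCard _) ?_)
        rw [← index_eq_card]
        exact ((Nat.prime_two.coprime_iff_not_dvd).2 hidx).symm
      · rw [← map_pow, show (⟨(b : G), hPN b.2⟩ : N₀) ^ 2 ^ i = 1 from
          Subtype.ext (by simpa using congrArg Subtype.val hi), map_one]
    rw [QuotientGroup.mk'_apply, QuotientGroup.eq_one_iff, mem_subgroupOf] at hb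
    have hba : (b : G) * a * (b : G)⁻¹ = a := by
      rw [mem_centralizer_singleton_iff.1 hb, mul_inv_cancel_right]
    rw [hba] at hbg
    have h1 : (a : G) ^ d = (a : G) ^ 1 := by rw [pow_one]; exact hbg.symm
    rw [pow_eq_pow_iff_modEq, hgo] at h1
    obtain ⟨t, rfl⟩ : ∃ t, n = t + 3 := ⟨n - 3, by omega⟩
    have h2 : 0 < 2 ^ t := Nat.two_pow_pos t
    have h5 : 1 < 2 ^ (t + 3 - 1) := Nat.one_lt_two_pow (by omega)
    rcases hd with rfl | ⟨hn4, rfl⟩
    · simp only [Nat.ModEq, show t + 3 - 1 = t + 2 by omega, pow_add] at h1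
      rw [Nat.mod_eq_of_lt (by omega), Nat.mod_eq_of_lt (by omega)] at h1
      omega
    · obtain ⟨t, rfl⟩ : ∃ t', t = t' + 1 := ⟨t - 1, by omega⟩
      have h3 : 0 < 2 ^ t := Nat.two_pow_pos t
      simp only [Nat.ModEq, show t + 1 + 3 - 1 = t + 3 by omega,
        show t + 1 + 3 - 2 = t + 2 by omega, pow_add] at h1
      rw [Nat.mod_eq_of_lt (by omega), Nat.mod_eq_of_lt (by omega)] at h1
      omega
  · obtain ⟨c, hc⟩ := isConj_iff.1 hcj.symm
    set H := zpowers (a : G) with hH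
    have hcN : c ∈ normalizer (H : Set G) := mem_normalizer_zpowers
      (by rw [hgo]; exact Nat.Coprime.pow_right _ ((Nat.coprime_two_right).2 hu)) hc
    let φ := H.normalizerMonoidHom.rangeRestrict
    have hHp : IsPGroup 2 H := IsPGroup.of_card (n := n - 1) (by rw [hH, Nat.card_zpowers, hgo])
    have hRp : IsPGroup 2 ↥H.normalizerMonoidHom.range :=
      (Cfsg.Lib.AutCyclicIndexTwo.aut_two_group_of_cyclic hHp).to_subgroup _
    set S := ((P : Subgroup G).subgroupOf (normalizer (H : Set G))).map φ with hS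
    have hS1 : ¬ 2 ∣ S.index := fun h2 => P.not_dvd_index
      ((h2.trans ((index_map_dvd _ (MonoidHom.rangeRestrict_surjective _)))).trans
        (relIndex_dvd_index_of_le hPN))
    obtain ⟨i, hi⟩ := IsPGroup.iff_card.1 hRp
    have hStop : S = ⊤ := by
      rw [← index_eq_one]
      obtain ⟨l, -, hl⟩ := (Nat.dvd_prime_pow Nat.prime_two).1 (hi ▸ S.index_dvd_card)
      rcases Nat.eq_zero_or_pos l with rfl | hl0
      · simpa using hl
      · exact absurd (hl ▸ dvd_pow_self 2 hl0.ne') hS1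
    obtain ⟨p, hp, hpc⟩ := mem_map.1 (show φ ⟨c, hcN⟩ ∈ S from hStop ▸ mem_top _)
    have hval : (p : G) * a * (p : G)⁻¹ = c * a * c⁻¹ := by
      have h1 := congrArg (fun f : H.normalizerMonoidHom.range =>
        ((f : MulAut H) ⟨(a : G), mem_zpowers _⟩ : G)) hpc
      simpa [φ] using h1
    refine (dvd_cases hgo).1 ?_
    rw [← hc, ← hval]
    exact hPact p (mem_subgroupOf.1 hp)
  · rcases (dvd_cases hgo).2 hu' with h | h
    · rw [h]
    · rw [h]
      exact (isConj_iff.2 ⟨(b : G), hbg⟩).symm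

end Cfsg.Lib.Chars.SylowTwoField
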