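import Mathlib
import Cfsg.Agent.Frobenius.FpfGroups
import Cfsg.Agent.Coprime.Fitting
import Cfsg.Agent.PGroups.AutCyclicIndexTwo
import Cfsg.Agent.Chars.RootValuesS4

/-!
# Transitive solvable groups whose point stabilisers are Sylow subgroups

A solvable group transitive on the nonidentity elements of an elementary abelian `p`-group with
`p`-groups as point stabilisers has a derived subgroup of order prime to `p`.
-/

set_option autoImplicit false
set_option linter.unusedSectionVars false
set_option linter.style.haveILetI false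

namespace Cfsg.Lib.Chars.TwoClass

open scoped commutatorElement

universe u

section Span

variable {M : Type u} [AddCommGroup M] [Finite M] (A B : M →+ M)

theorem zsmul_eq_zero_iff (h3 : ∀ m : M, m + m + m = 0) {v : M} (hv : v ≠ 0) (k : ℤ) :
    k • v = 0 ↔ (3 : ℤ) ∣ k := by
  have ho : addOrderOf v = 3 := by
    haveI : Fact (Nat.Prime 3) := ⟨Nat.prime_three⟩
    exact addOrderOf_eq_prime (by rw [succ_nsmul, two_nsmul, h3]) hv
  rw [← addOrderOf_dvd_iff_zsmul_eq_zero, ho]
  norm_num

/-- The subgroup spanned by a vector and its image. -/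
def span (v : M) : AddSubgroup M := AddSubgroup.zmultiples v ⊔ AddSubgroup.zmultiples (A v)

theorem mem_span {v x : M} : x ∈ span A v ↔ ∃ a b : ℤ, x = a • v + b • A v := by
  rw [span, AddSubgroup.mem_sup]
  constructor
  · rintro ⟨_, ⟨a, rfl⟩, _, ⟨b, rfl⟩, rfl⟩; exact ⟨a, b, rfl⟩
  · rintro ⟨a, b, rfl⟩; exact ⟨_, ⟨a, rfl⟩, _, ⟨b, rfl⟩, rfl⟩

theorem card_span (hA : ∀ m, A (A m) = -m) (h3 : ∀ m : M, m + m + m = 0) {v : M} (hv : v ≠ 0) :
    Nat.card (span A v) = 9 := by
  have hbij : Function.Bijective (fun ab : Fin 3 × Fin 3 =>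
      (⟨((ab.1.1 : ℕ) : ℤ) • v + ((ab.2.1 : ℕ) : ℤ) • A v, (mem_span A).2 ⟨_, _, rfl⟩⟩ : span A v)) := by
    refine ⟨?_, ?_⟩
    · rintro ⟨a, b⟩ ⟨a', b'⟩ e
      have e' := congrArg Subtype.val e
      simp only at e'
      set c := ((a.1 : ℕ) : ℤ) - a'.1 with hc
      set d := ((b.1 : ℕ) : ℤ) - b'.1 with hd
      have h0 : c • v + d • A v = 0 := by rw [hc, hd, sub_smul, sub_smul, sub_add_sub_comm, e', sub_self]
      have h1 : c • A v - d • v = 0 := by
        have := congrArg A h0
        rw [map_add, map_zsmul, map_zsmul, hA, map_zero, smul_neg, ← sub_eq_add_neg] at this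
        exact this
      have h2 : (c * c + d * d) • v = 0 := by
        have e1 : (c * c + d * d) • v = c • (c • v + d • A v) - d • (c • A v - d • v) := by
          rw [add_smul, smul_add, smul_sub, smul_smul, smul_smul, smul_smul, smul_smul, mul_comm c d]; abel
        rw [e1, h0, h1, smul_zero, smul_zero, sub_zero]
      have h3d := (zsmul_eq_zero_iff h3 hv _).1 h2
      have ha := a.isLt; have ha' := a'.isLt; have hb := b.isLt; have hb' := b'.isLt
      have hcc : c = 0 ∧ d = 0 := by
        obtain ⟨e, he⟩ := h3d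
        have hcb : c = -2 ∨ c = -1 ∨ c = 0 ∨ c = 1 ∨ c = 2 := by omega
        have hdb : d = -2 ∨ d = -1 ∨ d = 0 ∨ d = 1 ∨ d = 2 := by omega
        rcases hcb with h | h | h | h | h <;> rcases hdb with h' | h' | h' | h' | h' <;>
          first
          | exact ⟨h, h'⟩
          | (exfalso; rw [h, h'] at he; norm_num at he; omega)
      refine Prod.ext (Fin.ext ?_) (Fin.ext ?_) <;> simp only <;> omega
    · rintro ⟨x, hx⟩
      obtain ⟨a, b, rfl⟩ := (mem_span A).1 hx
      refine ⟨(⟨(a % 3).toNat, by omega⟩, ⟨(b % 3).toNat, by omega⟩), Subtype.ext ?_⟩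
      have key : ∀ (m : M) (k : ℤ), (((k % 3).toNat : ℕ) : ℤ) • m = k • m := by
        intro m k
        rw [Int.toNat_of_nonneg (Int.emod_nonneg k (by norm_num)), Int.emod_def, sub_smul, mul_comm, ← smul_smul,
          show (3 : ℤ) • m = m + m + m by rw [show (3 : ℤ) = 1 + 1 + 1 by norm_num, add_smul, add_smul, one_smul],
          h3, smul_zero, sub_zero]
      show _ + _ = _
      rw [key, key]
  rw [← Nat.card_eq_of_bijective _ hbij, Nat.card_prod, Nat.card_eq_fintype_card, Fintype.card_fin]

variable (hA : ∀ m, A (A m) = -m) (hB : ∀ m, B (B m) = -m) (hAB : ∀ m, A (B m) = -(B (A m)))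
  (h3 : ∀ m : M, m + m + m = 0)

include hA hB hAB h3 in
/-- Every vector splits along the positive eigenspace. -/
theorem decomp (m : M) : ∃ x y : M, B x = x - A x ∧ B y = y - A y ∧ m = x + A y := by
  have hBA : ∀ m, B (A m) = -(A (B m)) := fun m => by rw [hAB, neg_neg]
  obtain ⟨u, hu⟩ : ∃ u, u = m + A m + B m := ⟨_, rfl⟩
  obtain ⟨w, hw⟩ : ∃ w, w = m - A m - B m := ⟨_, rfl⟩
  have hzero : ∀ z : M, (3 : ℤ) • z = 0 := fun z => by
    rw [show (3 : ℤ) = 1 + 1 + 1 by norm_num, add_smul, add_smul, one_smul, h3]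
  have hu' : B u = u - A u := by
    rw [hu, ← sub_eq_zero]
    simp only [map_add, hA, hB, hBA]
    calc _ = (-1 : ℤ) • ((3 : ℤ) • m) := by simp only [smul_smul]; abel
      _ = 0 := by rw [hzero, smul_zero]
  have hw' : B w = -w - A w := by
    rw [hw, ← sub_eq_zero]
    simp only [map_sub, hA, hB, hBA]
    calc _ = (3 : ℤ) • m := by abel
      _ = 0 := hzero m
  obtain ⟨y, hy⟩ : ∃ y, y = A w - w := ⟨_, rfl⟩
  have hy' : B y = y - A y := by
    rw [hy]
    simp only [map_sub, map_neg, hA, hBA, hw']
    abel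
  refine ⟨-u - y, -y, ?_, ?_, ?_⟩
  · simp only [map_sub, map_neg, hu', hy']; abel
  · simp only [map_neg, hy']; abel
  · rw [← sub_eq_zero, hy]
    simp only [map_neg, map_sub, hA]
    rw [hu, hw]
    simp only [map_sub, map_add, hA]
    calc _ = (3 : ℤ) • (A m + B m) := by abel
      _ = 0 := hzero _

include hA hB hAB h3 in
/-- If every vector spans an invariant plane, the group has at most nine elements. -/
theorem card_le_nine (hspan : ∀ m : M, m ≠ 0 → B m ∈ span A m) : Nat.card M ≤ 9 := by
  classical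
  have hBA : ∀ m, B (A m) = -(A (B m)) := fun m => by rw [hAB, neg_neg]
  rcases subsingleton_or_nontrivial M with hM | hM
  · exact (Finite.card_le_one_iff_subsingleton.2 hM).trans (by norm_num)
  -- a nonzero positive vector
  obtain ⟨v, hv0, hv⟩ : ∃ v : M, v ≠ 0 ∧ B v = v - A v := by
    obtain ⟨m, hm⟩ := exists_ne (0 : M)
    obtain ⟨x, y, hx, hy, rfl⟩ := decomp A B hA hB hAB h3 m
    by_cases h : x = 0
    · exact ⟨y, fun h' => hm (by rw [h, h', map_zero, zero_add]), hy⟩
    · exact ⟨x, h, hx⟩
  -- directness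
  have hdir : ∀ x y : M, B x = x - A x → B y = y - A y → x + A y = 0 → x = 0 ∧ y = 0 := by
    intro x y hx hy h
    have hy2 : y = A x := by
      have h1 := congrArg A h
      rw [map_add, hA, map_zero, ← sub_eq_add_neg, sub_eq_zero] at h1
      exact h1.symm
    rw [hy2, hBA, hx, map_sub, hA] at hy
    have h2 : A x + x = 0 := by
      have e : (-1 : ℤ) • ((3 : ℤ) • (A x + x)) = 0 := by
        rw [show (3 : ℤ) = 1 + 1 + 1 by norm_num, add_smul, add_smul, one_smul, h3, smul_zero]
      rw [← sub_eq_zero] at hy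
      calc A x + x = (-A x - x - (A x - -x)) - (-1 : ℤ) • ((3 : ℤ) • (A x + x)) := by
            simp only [smul_smul, smul_add]; abel
        _ = 0 := by
          rw [e, sub_zero, ← hy]
          abel
    have hx0 : x = 0 := by
      have hAx : A x = -x := eq_neg_of_add_eq_zero_left h2
      rw [hy2, hA, ← sub_eq_add_neg, sub_self] at h
      have h4 := congrArg A hAx
      rw [hA, map_neg, hAx, neg_neg] at h4
      calc x = (x + x + x) + (-x - x) := by abel
        _ = 0 := by rw [h3, h4]; abel
    exact ⟨hx0, by rw [hy2, hx0, map_zero]⟩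
  by_cases hw : ∀ w : M, B w = w - A w → ∃ k : ℤ, w = k • v
  · have hall : span A v = ⊤ := by
      rw [eq_top_iff]
      intro m _
      obtain ⟨x, y, hx, hy, rfl⟩ := decomp A B hA hB hAB h3 m
      obtain ⟨k, rfl⟩ := hw x hx
      obtain ⟨l, rfl⟩ := hw y hy
      exact (mem_span A).2 ⟨k, l, by rw [map_zsmul]⟩
    have := card_span A hA h3 hv0
    rw [hall, AddSubgroup.card_top] at this
    omega
  push Not at hw
  obtain ⟨w, hw, hwne⟩ := hw
  exfalso
  have hzero : ∀ z : M, (3 : ℤ) • z = 0 := fun z => by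
    rw [show (3 : ℤ) = 1 + 1 + 1 by norm_num, add_smul, add_smul, one_smul, h3]
  have hind : ∀ k l : ℤ, k • v + l • w = 0 → (3 : ℤ) ∣ k ∧ (3 : ℤ) ∣ l := by
    intro k l h
    have hl : (3 : ℤ) ∣ l := by
      by_contra hl
      have hcop : IsCoprime l (3 : ℤ) :=
        ((Int.prime_three).coprime_iff_not_dvd.2 hl).symm
      obtain ⟨a, b, hab⟩ := hcop
      refine hwne (-(a * k)) ?_
      calc w = (a * l + b * 3) • w := by rw [hab, one_smul]
        _ = a • (k • v + l • w) + b • ((3 : ℤ) • w) - (a * k) • v := by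
            simp only [add_smul, mul_smul, smul_add]; abel
        _ = _ := by rw [h, hzero, smul_zero, smul_zero, zero_add, zero_sub, neg_smul]
    obtain ⟨j, rfl⟩ := hl
    rw [mul_smul, hzero, add_zero] at h
    exact ⟨(zsmul_eq_zero_iff h3 hv0 k).1 h, dvd_mul_right 3 j⟩
  have hz : v + A w ≠ 0 := fun h => hv0 (hdir v w hv hw h).1
  obtain ⟨a, b, hab⟩ := (mem_span A).1 (hspan _ hz)
  have e1 : B ((1 - a) • v + (b - 1) • w) = ((1 - a) • v + (b - 1) • w) - A ((1 - a) • v + (b - 1) • w) := by
    simp only [map_add, map_zsmul, hv, hw, smul_sub]; abel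
  have e2 : B ((-1 - b) • v + (-1 - a) • w) =
      ((-1 - b) • v + (-1 - a) • w) - A ((-1 - b) • v + (-1 - a) • w) := by
    simp only [map_add, map_zsmul, hv, hw, smul_sub]; abel
  have e3 : ((1 - a) • v + (b - 1) • w) + A ((-1 - b) • v + (-1 - a) • w) = 0 := by
    rw [map_add, hBA, hv, hw, map_sub, hA, ← sub_eq_zero] at hab
    rw [← hab]
    simp only [map_add, map_sub, map_neg, map_zsmul, smul_add, sub_smul, one_smul, neg_smul, hA, smul_neg]
    abel
  obtain ⟨f1, f2⟩ := hdir _ _ e1 e2 e3
  obtain ⟨-, g1⟩ := hind _ _ f1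
  obtain ⟨g2, -⟩ := hind _ _ f2
  omega

end Span

section Action

variable {H V : Type u} [Group H] [Finite H] [CommGroup V] [Finite V] (φ : H →* MulAut V)

/-- Stabilisers are `p`-groups and the action is transitive and faithful. -/
structure Transitive (p : ℕ) : Prop where
  faithful : Function.Injective φ
  nontriv : Nontrivial V
  exp : ∀ v : V, v ^ p = 1
  trans : ∀ v w : V, v ≠ 1 → w ≠ 1 → ∃ h : H, φ h v = w
  stab : ∀ v : V, v ≠ 1 → ∀ h : H, φ h v = v → ∃ k, orderOf h = p ^ k

variable {φ} {p : ℕ} [Fact p.Prime]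

theorem Transitive.pgroup (h : Transitive φ p) : IsPGroup p V := fun v => ⟨1, by rw [pow_one]; exact h.exp v⟩

theorem Transitive.eq_one (h : Transitive φ p) {x : H} (hx : ¬ p ∣ orderOf x) {v : V} (hv : v ≠ 1)
    (he : φ x v = v) : x = 1 := by
  obtain ⟨k, hk⟩ := h.stab v hv x he
  rcases k with _ | k
  · rw [pow_zero] at hk; exact orderOf_eq_one_iff.1 hk
  · exact absurd (hk ▸ dvd_pow_self p k.succ_ne_zero) hx

theorem Transitive.core (h : Transitive φ p) : pCore p H = ⊥ := by
  haveI := h.nontriv
  set P := pCore p H with hP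
  have hPp : IsPGroup p P := Cfsg.Lib.Components.isPGroup_pCore p
  letI : MulAction P V := MulAction.compHom V ((φ.comp P.subtype))
  have hsm : ∀ (r : P) (v : V), r • v = φ r v := fun r v => rfl
  have h1 : p ∣ Nat.card (MulAction.fixedPoints P V) := by
    obtain ⟨n, hn⟩ := IsPGroup.iff_card.1 h.pgroup
    have hn0 : n ≠ 0 := fun h0 => (Finite.one_lt_card_iff_nontrivial.2 h.nontriv).ne'
      (by rw [hn, h0, pow_zero])
    have hdvd : p ∣ Nat.card V := hn ▸ dvd_pow_self p hn0
    exact Nat.modEq_zero_iff_dvd.1 ((hPp.card_modEq_card_fixedPoints V).symm.trans (Nat.modEq_zero_iff_dvd.2 hdvd))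
  have h2 : 1 < Nat.card (MulAction.fixedPoints P V) :=
    lt_of_lt_of_le (Fact.out : p.Prime).one_lt (Nat.le_of_dvd
      (by haveI : Nonempty (MulAction.fixedPoints P V) := ⟨⟨1, fun r => map_one (φ r)⟩⟩; exact Nat.card_pos) h1)
  haveI := Finite.one_lt_card_iff_nontrivial.1 h2
  obtain ⟨⟨v, hv⟩, hne⟩ := exists_ne (⟨1, fun r => map_one (φ r)⟩ : MulAction.fixedPoints P V)
  have hv1 : v ≠ 1 := fun e => hne (Subtype.ext e)
  rw [eq_bot_iff]
  intro x hx
  refine Subgroup.mem_bot.2 (h.faithful (MulEquiv.ext fun w => ?_))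
  rw [map_one, MulAut.one_apply]
  by_cases hw : w = 1
  · rw [hw, map_one]
  obtain ⟨y, rfl⟩ := h.trans v w hv1 hw
  have hmem : y⁻¹ * x * y ∈ P := by
    have := Subgroup.Normal.conj_mem (inferInstance : P.Normal) x hx y⁻¹
    rwa [inv_inv] at this
  have h3 : φ (y⁻¹ * x * y) v = v := hv ⟨_, hmem⟩
  calc φ x (φ y v) = φ y (φ (y⁻¹ * x * y) v) := by
        rw [← MulAut.mul_apply, ← MulAut.mul_apply, ← map_mul, ← map_mul]; group
    _ = φ y v := by rw [h3]

/-- An automorphism group of the quaternion group has no elements of large prime order. -/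
theorem mem_centralizer_of_quaternion {Q : Subgroup H} [Q.Normal] (e : Q ≃* QuaternionGroup 2) {x : H}
    (hx : orderOf x = p) (hp : 5 ≤ p) : x ∈ Subgroup.centralizer (Q : Set H) := by
  classical
  set C := Q ⊓ Subgroup.centralizer ((Subgroup.zpowers x : Subgroup H) : Set H) with hC
  have hQ : Nat.card Q = 8 := by rw [Nat.card_congr e.toEquiv, Nat.card_eq_fintype_card]; rfl
  have h1 := Cfsg.Lib.Chars.card_fixed_mod (q := p) Q (Subgroup.zpowers x)
    (IsPGroup.of_card (n := 1) (by rw [Nat.card_zpowers, hx, pow_one]))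
  rw [hQ, ← hC] at h1
  have huniq : ∀ u : QuaternionGroup 2, orderOf u = 2 → u = QuaternionGroup.a 2 := by
    intro u hu
    have : ∀ u : QuaternionGroup 2, u * u = 1 → u = 1 ∨ u = QuaternionGroup.a 2 := by decide
    rcases this u (by rw [← sq]; exact orderOf_dvd_iff_pow_eq_one.1 hu.dvd) with h | h
    · rw [h, orderOf_one] at hu; norm_num at hu
    · exact h
  set z : Q := e.symm (QuaternionGroup.a 2) with hz
  have hzo : orderOf z = 2 := by
    rw [hz, MulEquiv.orderOf_eq]
    exact orderOf_eq_prime (by decide) (by decide)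
  have hzC : (z : H) ∈ C := by
    refine ⟨z.2, Subgroup.mem_centralizer_iff.2 fun y _ => ?_⟩
    have h2 : (⟨y * z * y⁻¹, Subgroup.Normal.conj_mem inferInstance _ z.2 y⟩ : Q) = z := by
      apply e.injective
      rw [hz, MulEquiv.apply_symm_apply]
      refine huniq _ ?_
      rw [MulEquiv.orderOf_eq, ← Subgroup.orderOf_coe]
      show orderOf (y * (z : H) * y⁻¹) = 2
      rw [show y * (z : H) * y⁻¹ = MulAut.conj y (z : H) from rfl, MulEquiv.orderOf_eq, Subgroup.orderOf_coe, hzo]
    exact mul_inv_eq_iff_eq_mul.1 (congrArg Subtype.val h2)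
  have h2 : 2 ∣ Nat.card C := hzo ▸ (Subgroup.orderOf_coe z ▸ Subgroup.orderOf_dvd_natCard C hzC)
  have h8 : Nat.card C ∣ 8 := hQ ▸ Subgroup.card_dvd_of_le inf_le_left
  have hle : Nat.card C ≤ 8 := Nat.le_of_dvd (by norm_num) h8
  have hpos : 0 < Nat.card C := Nat.card_pos
  have hd : (p : ℤ) ∣ (Nat.card C : ℤ) - 8 := Nat.modEq_iff_dvd.1 h1
  have h8' : Nat.card C = 8 := by
    have hpp : p.Prime := Fact.out
    have hcases : Nat.card C = 2 ∨ Nat.card C = 4 ∨ Nat.card C = 8 := by
      interval_cases hc : Nat.card C <;> omega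
    rcases hcases with h | h | h
    · rw [h] at hd
      have : p ∣ 2 * 3 := by
        have h6 : (p : ℤ) ∣ 6 := by simpa using hd
        exact_mod_cast h6
      rcases hpp.dvd_mul.1 this with h' | h' <;> have := Nat.le_of_dvd (by norm_num) h' <;> omega
    · rw [h] at hd
      have h4 : (p : ℤ) ∣ 4 := by simpa using hd
      have : p ∣ 2 * 2 := by exact_mod_cast h4
      rcases hpp.dvd_mul.1 this with h' | h' <;> have := Nat.le_of_dvd (by norm_num) h' <;> omega
    · exact h
  have hCQ : C = Q := Subgroup.eq_of_le_of_card_ge inf_le_left (by omega)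
  refine Subgroup.mem_centralizer_iff.2 fun y hy => ?_
  have hy' : y ∈ C := hCQ.symm ▸ hy
  exact (Subgroup.mem_centralizer_iff.1 hy'.2 x (Subgroup.mem_zpowers x)).symm

/-- With a normal quaternion group of order eight and `p = 3` the space has nine elements. -/
theorem Transitive.card_eq_nine (h : Transitive φ 3) {Q : Subgroup H} [Q.Normal] (e : Q ≃* QuaternionGroup 2) :
    Nat.card V = 9 := by
  haveI : Fact (Nat.Prime 3) := ⟨Nat.prime_three⟩
  haveI := h.nontriv
  set i : H := (e.symm (QuaternionGroup.a 1) : H) with hi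
  set j : H := (e.symm (QuaternionGroup.xa 0) : H) with hj
  set z : H := (e.symm (QuaternionGroup.a 2) : H) with hz
  have hc : ∀ u v : QuaternionGroup 2, ((e.symm u : Q) : H) * (e.symm v : Q) = (e.symm (u * v) : Q) :=
    fun u v => by rw [map_mul]; rfl
  have hii : i * i = z := by rw [hi, hz, hc]; congr 3
  have hjj : j * j = z := by rw [hj, hz, hc]; congr 3
  have hij : i * j = z * (j * i) := by rw [hi, hj, hz, hc, hc, hc]; congr 3
  have hzz : z * z = 1 := by
    rw [hz, hc, show (QuaternionGroup.a 2 : QuaternionGroup 2) * QuaternionGroup.a 2 = 1 by decide, map_one]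
    rfl
  have hz1 : z ≠ 1 := fun e' => by
    have := congrArg e (Subtype.ext (e'.trans Q.coe_one.symm) : e.symm (QuaternionGroup.a 2) = (1 : Q))
    rw [MulEquiv.apply_symm_apply, map_one] at this
    exact absurd this (by decide)
  have hzo : ¬ 3 ∣ orderOf z := by
    rw [orderOf_eq_prime (p := 2) (by rw [sq, hzz]) hz1]; norm_num
  have hzinv : ∀ v : V, φ z v = v⁻¹ := by
    intro v
    have hfix : φ z (v * φ z v) = v * φ z v := by
      rw [map_mul, ← MulAut.mul_apply, ← map_mul, hzz, map_one, MulAut.one_apply, mul_comm]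
    by_contra hne
    exact hz1 (h.eq_one hzo (fun e' => hne (eq_inv_of_mul_eq_one_right e')) hfix)
  let A : Additive V →+ Additive V := MonoidHom.toAdditive (φ i).toMonoidHom
  let B : Additive V →+ Additive V := MonoidHom.toAdditive (φ j).toMonoidHom
  have hAv : ∀ v : V, A (Additive.ofMul v) = Additive.ofMul (φ i v) := fun v => rfl
  have hBv : ∀ v : V, B (Additive.ofMul v) = Additive.ofMul (φ j v) := fun v => rfl
  have hA : ∀ m, A (A m) = -m := fun m => by
    show Additive.ofMul (φ i (φ i m.toMul)) = Additive.ofMul (m.toMul)⁻¹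
    rw [← MulAut.mul_apply, ← map_mul, hii, hzinv]
  have hB : ∀ m, B (B m) = -m := fun m => by
    show Additive.ofMul (φ j (φ j m.toMul)) = Additive.ofMul (m.toMul)⁻¹
    rw [← MulAut.mul_apply, ← map_mul, hjj, hzinv]
  have hAB : ∀ m, A (B m) = -(B (A m)) := fun m => by
    show Additive.ofMul (φ i (φ j m.toMul)) = Additive.ofMul (φ j (φ i m.toMul))⁻¹
    rw [← MulAut.mul_apply, ← map_mul, hij, map_mul, MulAut.mul_apply, hzinv, map_mul, MulAut.mul_apply]
  have h3 : ∀ m : Additive V, m + m + m = 0 := fun m => by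
    show Additive.ofMul (m.toMul * m.toMul * m.toMul) = Additive.ofMul 1
    rw [← pow_three', h.exp]
  -- a vector with an invariant plane
  obtain ⟨m₀, hm₀⟩ := exists_ne (0 : Additive V)
  obtain ⟨v₀, hv0, hv⟩ : ∃ v : Additive V, v ≠ 0 ∧ B v = v - A v := by
    obtain ⟨x, y, hx, hy, rfl⟩ := decomp A B hA hB hAB h3 m₀
    by_cases h0 : x = 0
    · exact ⟨y, fun h' => hm₀ (by rw [h0, h', map_zero, zero_add]), hy⟩
    · exact ⟨x, h0, hx⟩
  have hW : ∀ q : H, q ∈ Q → ∀ m ∈ span A v₀, Additive.ofMul (φ q m.toMul) ∈ span A v₀ := by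
    have hAW : ∀ m ∈ span A v₀, A m ∈ span A v₀ := fun m hm => by
      obtain ⟨a, b, rfl⟩ := (mem_span A).1 hm
      exact (mem_span A).2 ⟨-b, a, by rw [map_add, map_zsmul, map_zsmul, hA, smul_neg, neg_smul]; abel⟩
    have hBW : ∀ m ∈ span A v₀, B m ∈ span A v₀ := fun m hm => by
      obtain ⟨a, b, rfl⟩ := (mem_span A).1 hm
      refine (mem_span A).2 ⟨a - b, -a - b, ?_⟩
      rw [map_add, map_zsmul, map_zsmul, hv, show B (A v₀) = -(A (B v₀)) by rw [hAB, neg_neg], hv, map_sub, hA]
      simp only [smul_sub, smul_neg, sub_smul, neg_smul, smul_add]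
      abel
    have hpow : ∀ (k : ℕ) (m : Additive V), m ∈ span A v₀ → Additive.ofMul (φ (i ^ k) m.toMul) ∈ span A v₀ := by
      intro k
      induction k with
      | zero => intro m hm; simpa using hm
      | succ k ih =>
        intro m hm
        rw [pow_succ, map_mul, MulAut.mul_apply]
        exact ih (A m) (hAW m hm)
    intro q hq m hm
    have hform : ∀ u : QuaternionGroup 2, ∃ k : Fin 4, u = QuaternionGroup.a 1 ^ k.1 ∨
        u = QuaternionGroup.xa 0 * QuaternionGroup.a 1 ^ k.1 := by decide
    have hek : ∀ k : ℕ, ((e.symm (QuaternionGroup.a 1 ^ k) : Q) : H) = i ^ k := fun k => by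
      rw [map_pow, SubmonoidClass.coe_pow, hi]
    obtain ⟨k, hk | hk⟩ := hform (e ⟨q, hq⟩)
    · have : q = i ^ k.1 := by rw [← hek, ← hk, MulEquiv.symm_apply_apply]
      rw [this]; exact hpow _ m hm
    · have : q = j * i ^ k.1 := by rw [← hek, hj, hc, ← hk, MulEquiv.symm_apply_apply]
      rw [this, map_mul, MulAut.mul_apply]
      exact hBW _ (hpow _ m hm)
  have hspan : ∀ m : Additive V, m ≠ 0 → B m ∈ span A m := by
    intro m hm
    obtain ⟨y, hy⟩ := h.trans v₀.toMul m.toMul hv0 hm
    let T : Additive V →+ Additive V := MonoidHom.toAdditive (φ y).toMonoidHom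
    have hTv : T v₀ = m := by show Additive.ofMul (φ y v₀.toMul) = m; rw [hy]; rfl
    set U := (span A v₀).map T with hU
    have hinvU : ∀ q ∈ Q, ∀ u ∈ U, Additive.ofMul (φ q u.toMul) ∈ U := by
      rintro q hq _ ⟨w, hw, rfl⟩
      have hmem : y⁻¹ * q * y ∈ Q := by
        have := Subgroup.Normal.conj_mem (inferInstance : Q.Normal) q hq y⁻¹
        rwa [inv_inv] at this
      refine ⟨_, hW (y⁻¹ * q * y) hmem w hw, ?_⟩
      show Additive.ofMul (φ y (φ (y⁻¹ * q * y) w.toMul)) = Additive.ofMul (φ q (φ y w.toMul))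
      rw [← MulAut.mul_apply, ← MulAut.mul_apply, ← map_mul, ← map_mul]; group
    have hmU : m ∈ U := hTv ▸ AddSubgroup.mem_map_of_mem T ((mem_span A).2 ⟨1, 0, by simp⟩)
    have hAU : A m ∈ U := hinvU i (e.symm (QuaternionGroup.a 1)).2 m hmU
    have hBU : B m ∈ U := hinvU j (e.symm (QuaternionGroup.xa 0)).2 m hmU
    have hle : span A m ≤ U := fun u hu => by
      obtain ⟨a, b, rfl⟩ := (mem_span A).1 hu
      exact U.add_mem (U.zsmul_mem hmU a) (U.zsmul_mem hAU b)
    have heq : span A m = U := AddSubgroup.eq_of_le_of_card_ge hle (by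
      rw [card_span A hA h3 hm, ← card_span A hA h3 hv0]
      refine Nat.card_le_card_of_surjective (fun w : span A v₀ => (⟨T w, AddSubgroup.mem_map_of_mem T w.2⟩ : U)) ?_
      rintro ⟨_, w, hw, rfl⟩
      exact ⟨⟨w, hw⟩, rfl⟩)
    rw [heq]; exact hBU
  have hle' : Nat.card (Additive V) ≤ 9 := card_le_nine A B hA hB hAB h3 hspan
  have hle : Nat.card V ≤ 9 := (Nat.card_congr (Additive.ofMul (α := V))).trans_le hle'
  have hge : 9 ≤ Nat.card V := by
    rw [← card_span A hA h3 hm₀]
    exact Nat.card_le_card_of_injective (fun w => (w : Additive V).toMul) (fun a b e' => Subtype.ext e')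
  omega

/-- The derived subgroup has order prime to `p`. -/
theorem Transitive.not_dvd_commutator [Group.IsSolvable H] (h : Transitive φ p) :
    ¬ p ∣ Nat.card (commutator H) := by
  classical
  intro hd
  haveI := h.nontriv
  obtain ⟨⟨x, hxD⟩, hx⟩ := exists_prime_orderOf_dvd_card' (G := commutator H) p hd
  rw [Subgroup.orderOf_mk] at hx
  have hF := Cfsg.Lib.Components.fitting_eq_iSup_pCore (G := H)
  -- `x` centralises every core
  have hcore : ∀ q : {q : ℕ // q.Prime}, x ∈ Subgroup.centralizer (pCore q.1 H : Set H) := by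
    rintro ⟨q, hq⟩
    haveI : Fact q.Prime := ⟨hq⟩
    by_cases hqp : q = p
    · subst hqp
      rw [h.core, Subgroup.mem_centralizer_iff]
      intro y hy
      rw [SetLike.mem_coe, Subgroup.mem_bot] at hy
      rw [hy, one_mul, mul_one]
    set Q := pCore q H with hQ
    have hQq : IsPGroup q Q := Cfsg.Lib.Components.isPGroup_pCore q
    have hQp : ∀ y ∈ Q, ¬ p ∣ orderOf y := fun y hy hd' => by
      obtain ⟨k, hk⟩ := hQq ⟨y, hy⟩
      have := hd'.trans (orderOf_dvd_of_pow_eq_one (congrArg Subtype.val hk))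
      exact hqp ((Nat.prime_dvd_prime_iff_eq Fact.out hq).1 ((Fact.out : p.Prime).dvd_of_dvd_pow this)).symm
    let X := V ⋊[φ] H
    let W : Subgroup X := (SemidirectProduct.inl : V →* X).range
    let A : Subgroup X := Q.map (SemidirectProduct.inr : H →* X)
    haveI : W.Normal := by
      show (SemidirectProduct.inl : V →* X).range.Normal
      rw [SemidirectProduct.range_inl_eq_ker_rightHom]; infer_instance
    have hfpf : Cfsg.Lib.Frobenius.Fpf A W := by
      rintro _ ⟨y, hy, rfl⟩ hy1
      rw [eq_bot_iff]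
      rintro _ ⟨⟨v, rfl⟩, hc⟩
      rw [Subgroup.mem_bot]
      by_contra hv1
      have hy1' : y ≠ 1 := fun e => hy1 (by rw [e, map_one])
      refine hy1' (h.eq_one (v := v) (hQp y hy) (fun e => hv1 (by rw [e, map_one])) ?_)
      have he := Subgroup.mem_centralizer_singleton_iff.1 hc
      apply SemidirectProduct.inl_injective (φ := φ)
      rw [SemidirectProduct.inl_aut, ← he, map_inv, mul_inv_cancel_right]
    have hWne : W ≠ ⊥ := fun e => by
      obtain ⟨v, hv⟩ := exists_ne (1 : V)
      have : (SemidirectProduct.inl v : X) ∈ W := ⟨v, rfl⟩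
      rw [e, Subgroup.mem_bot] at this
      exact hv (SemidirectProduct.inl_injective (by rw [this, map_one]))
    haveI : Finite X := Finite.of_equiv (V × H) SemidirectProduct.equivProd.symm
    have hAeq : Q ≃* A := Q.equivMapOfInjective _ SemidirectProduct.inr_injective
    have hcq := Cfsg.Lib.Frobenius.Fpf.isCyclic_or_quaternion
      (Subgroup.le_normalizer_of_normal (H := W)) hfpf hWne (hQq.map _)
    let ψ : H →* MulAut Q := MulAut.conjNormal
    have hker : x ∈ ψ.ker → x ∈ Subgroup.centralizer (Q : Set H) := fun hk => by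
      rw [Subgroup.mem_centralizer_iff]
      intro y hy
      have := congrArg Subtype.val (DFunLike.congr_fun (MonoidHom.mem_ker.1 hk) (⟨y, hy⟩ : Q))
      rw [MulAut.conjNormal_apply, MulAut.one_apply] at this
      exact (mul_inv_eq_iff_eq_mul.1 this).symm
    rcases hcq with hcyc | ⟨hq2, n, ⟨e₀⟩⟩
    · haveI := hcyc
      haveI : IsCyclic Q := isCyclic_of_surjective hAeq.symm hAeq.symm.surjective
      refine hker ?_
      have hcomm : commutator H ≤ ψ.ker := by
        rw [commutator_def, Subgroup.commutator_le]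
        intro a _ b _
        rw [MonoidHom.mem_ker, map_commutatorElement, commutatorElement_eq_one_iff_mul_comm]
        refine MulEquiv.ext fun y => ?_
        obtain ⟨c, hc⟩ := IsCyclic.exists_generator (α := Q)
        obtain ⟨ka, hka⟩ := Subgroup.mem_zpowers_iff.1 (hc (ψ a c))
        obtain ⟨kb, hkb⟩ := Subgroup.mem_zpowers_iff.1 (hc (ψ b c))
        obtain ⟨m, rfl⟩ := Subgroup.mem_zpowers_iff.1 (hc y)
        rw [map_zpow, map_zpow, MulAut.mul_apply, MulAut.mul_apply, ← hkb, map_zpow, ← hka, map_zpow, ← hkb,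
          ← zpow_mul, ← zpow_mul, ← zpow_mul, ← zpow_mul, mul_left_comm ka kb]
      exact hcomm hxD
    subst hq2
    have e := hAeq.trans e₀
    have hp2 : p ≠ 2 := fun e' => hqp e'.symm
    match n, e with
    | 0, e =>
      haveI : IsCyclic (QuaternionGroup (2 ^ 0)) := QuaternionGroup.quaternionGroup_one_isCyclic
      haveI : IsCyclic Q := isCyclic_of_surjective e.symm e.symm.surjective
      refine hker (orderOf_eq_one_iff.1 ?_ : ψ x = 1)
      obtain ⟨k, hk⟩ := Cfsg.Lib.AutCyclicIndexTwo.aut_two_group_of_cyclic hQq (ψ x)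
      refine Nat.eq_one_of_dvd_coprimes (((Nat.coprime_primes Nat.prime_two Fact.out).2 hp2.symm).pow_left k)
        (orderOf_dvd_of_pow_eq_one hk) (hx ▸ orderOf_map_dvd ψ x)
    | 1, e =>
      rcases Nat.lt_or_ge p 5 with hlt | hge
      · have hp3 : p = 3 := by
          have := (Fact.out : p.Prime).two_le
          rcases (show p = 3 ∨ p = 4 by omega) with h' | h'
          · exact h'
          · exact absurd (h' ▸ (Fact.out : p.Prime)) (by norm_num)
        subst hp3
        exfalso
        have h9 := h.card_eq_nine e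
        obtain ⟨v, hv⟩ := exists_ne (1 : V)
        letI : MulAction H V := MulAction.compHom V φ
        have horb : MulAction.orbit H v = {w : V | w ≠ 1} := by
          ext w
          simp only [MulAction.mem_orbit_iff, Set.mem_setOf_eq]
          constructor
          · rintro ⟨y, rfl⟩ e'
            exact hv ((φ y).injective (e'.trans (map_one (φ y)).symm))
          · intro hw; obtain ⟨y, hy⟩ := h.trans v w hv hw; exact ⟨y, hy⟩
        set S := MulAction.stabilizer H v with hS
        have hSidx : S.index = 8 := by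
          rw [hS, MulAction.index_stabilizer, horb, show {w : V | w ≠ 1} = ({1} : Set V)ᶜ from rfl,
            Set.ncard_compl, Set.ncard_singleton, h9]
        -- the stabiliser has order at most six
        obtain ⟨w, hw⟩ : ∃ w : V, w ∉ Subgroup.zpowers v := by
          by_contra hno
          push Not at hno
          have : Nat.card V ≤ Nat.card (Subgroup.zpowers v) :=
            Nat.card_le_card_of_injective (fun u => ⟨u, hno u⟩) fun a b e' => congrArg Subtype.val e'
          rw [Nat.card_zpowers, orderOf_eq_prime (h.exp v) hv, h9] at this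
          omega
        have hgen : Subgroup.zpowers v ⊔ Subgroup.zpowers w = ⊤ := by
          refine Subgroup.eq_top_of_card_eq _ ?_
          set K := Subgroup.zpowers v ⊔ Subgroup.zpowers w
          have h1 : 3 < Nat.card K := by
            by_contra hno
            have hle : Subgroup.zpowers v = K := Subgroup.eq_of_le_of_card_ge le_sup_left
              (by rw [Nat.card_zpowers, orderOf_eq_prime (h.exp v) hv]; omega)
            exact hw (hle ▸ (le_sup_right : _ ≤ K) (Subgroup.mem_zpowers w))
          have h2 : Nat.card K ∣ 9 := h9 ▸ K.card_subgroup_dvd_card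
          have h3 : Nat.card K ≤ 9 := Nat.le_of_dvd (by norm_num) h2
          rw [h9]
          interval_cases hK : Nat.card K <;> omega
        have hS6 : Nat.card S ≤ 6 := by
          have hinj : Function.Injective (fun s : S => (⟨φ s w, fun hmem => hw (by
              obtain ⟨k, hk⟩ := Subgroup.mem_zpowers_iff.1 hmem
              have hfix : φ (s : H) v = v := s.2
              exact Subgroup.mem_zpowers_iff.2 ⟨k, (φ (s : H)).injective (by rw [map_zpow, hfix, hk])⟩)⟩ :
              {u : V // u ∉ Subgroup.zpowers v})) := by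
            intro s s' e'
            have e'' : φ (s : H) w = φ (s' : H) w := congrArg Subtype.val e'
            refine Subtype.ext (h.faithful (MulEquiv.ext fun u => ?_))
            have hmem : u ∈ Subgroup.zpowers v ⊔ Subgroup.zpowers w := hgen ▸ Subgroup.mem_top u
            have hs : φ (s : H) v = v := s.2
            have hs' : φ (s' : H) v = v := s'.2
            obtain ⟨a, ha, b, hb, rfl⟩ := Subgroup.mem_sup.1 hmem
            obtain ⟨ka, rfl⟩ := Subgroup.mem_zpowers_iff.1 ha
            obtain ⟨kb, rfl⟩ := Subgroup.mem_zpowers_iff.1 hb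
            rw [map_mul, map_mul, map_zpow, map_zpow, map_zpow, map_zpow, hs, hs', e'']
          refine (Nat.card_le_card_of_injective _ hinj).trans (le_of_eq ?_)
          letI := Fintype.ofFinite V
          rw [Nat.card_eq_fintype_card, Fintype.card_subtype_compl, ← Nat.card_eq_fintype_card,
            ← Nat.card_eq_fintype_card, h9, Nat.card_zpowers, orderOf_eq_prime (h.exp v) hv]
        have hHcard : Nat.card H = 8 * Nat.card S := by rw [← hSidx, mul_comm, Subgroup.card_mul_index]
        have hQ8 : Nat.card Q = 8 := by rw [Nat.card_congr e.toEquiv, Nat.card_eq_fintype_card]; rfl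
        have hQidx : Q.index = Nat.card S := by
          have := Q.card_mul_index
          rw [hQ8, hHcard] at this
          omega
        have hSle : Nat.card S ≤ 3 := by
          obtain ⟨k, hk⟩ : ∃ k, Nat.card S = 3 ^ k := IsPGroup.iff_card.1 fun s => by
            obtain ⟨k, hk⟩ := h.stab v hv s s.2
            exact ⟨k, Subtype.ext (by rw [SubmonoidClass.coe_pow, ← hk, pow_orderOf_eq_one]; rfl)⟩
          rw [hk] at hS6 ⊢
          rcases k with _ | _ | k
          · norm_num
          · norm_num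
          · rw [pow_add] at hS6; have := Nat.one_le_pow k 3 (by norm_num); omega
        have hcommQ : commutator H ≤ Q := by
          rw [commutator_def, Subgroup.commutator_le]
          intro a _ b _
          rw [← QuotientGroup.eq_one_iff, ← QuotientGroup.mk'_apply, map_commutatorElement,
            commutatorElement_eq_one_iff_mul_comm]
          have hcard : Nat.card (H ⧸ Q) ≤ 3 := by rw [← Subgroup.index_eq_card, hQidx]; exact hSle
          haveI : IsCyclic (H ⧸ Q) := by
            rcases (show Nat.card (H ⧸ Q) = 1 ∨ Nat.card (H ⧸ Q) = 2 ∨ Nat.card (H ⧸ Q) = 3 by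
              have := Nat.card_pos (α := H ⧸ Q); omega) with h1 | h2 | h3
            · haveI := (Finite.card_le_one_iff_subsingleton (α := H ⧸ Q)).1 h1.le; exact isCyclic_of_subsingleton
            · haveI : Fact (Nat.Prime 2) := ⟨Nat.prime_two⟩; exact isCyclic_of_prime_card h2
            · exact isCyclic_of_prime_card h3
          letI : CommGroup (H ⧸ Q) := IsCyclic.commGroup
          exact mul_comm _ _
        have := Subgroup.orderOf_dvd_natCard Q (hcommQ hxD)
        rw [hx, hQ8] at this
        norm_num at this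
      · exact mem_centralizer_of_quaternion e hx hge
    | n + 2, e =>
      refine hker (orderOf_eq_one_iff.1 ?_ : ψ x = 1)
      have hr : orderOf (e.symm (QuaternionGroup.a 1)) = 2 ^ (n + 3) := by
        rw [MulEquiv.orderOf_eq, QuaternionGroup.orderOf_a_one]; ring
      have hidx : (Subgroup.zpowers (e.symm (QuaternionGroup.a 1))).index = 2 := by
        have h1 := (Subgroup.zpowers (e.symm (QuaternionGroup.a 1))).card_mul_index
        rw [Nat.card_zpowers, hr, Nat.card_congr e.toEquiv, Nat.card_eq_fintype_card, QuaternionGroup.card] at h1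
        refine Nat.eq_of_mul_eq_mul_left (pow_pos two_pos (n + 3)) (h1.trans ?_)
        ring
      have hgen : ∀ g : Q, orderOf g = orderOf (e.symm (QuaternionGroup.a 1)) →
          g ∈ Subgroup.zpowers (e.symm (QuaternionGroup.a 1)) := by
        intro g hg
        rw [hr, ← MulEquiv.orderOf_eq e] at hg
        rcases hge : e g with k | k
        · refine Subgroup.mem_zpowers_iff.2 ⟨(k.val : ℤ), e.injective ?_⟩
          rw [zpow_natCast, map_pow, MulEquiv.apply_symm_apply, QuaternionGroup.a_one_pow, hge,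
            ZMod.natCast_zmod_val]
        · exfalso
          rw [hge, QuaternionGroup.orderOf_xa] at hg
          have : 2 ^ 3 ≤ 2 ^ (n + 3) := Nat.pow_le_pow_right two_pos (by omega)
          omega
      obtain ⟨k, hk⟩ := Cfsg.Lib.AutCyclicIndexTwo.aut_two_group hr hidx hgen (ψ x)
      exact Nat.eq_one_of_dvd_coprimes (((Nat.coprime_primes Nat.prime_two Fact.out).2 hp2.symm).pow_left k)
        (orderOf_dvd_of_pow_eq_one hk) (hx ▸ orderOf_map_dvd ψ x)
  have hxF : x ∈ fittingSubgroup H := by
    refine Cfsg.Lib.Coprime.centralizer_fitting_le ?_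
    rw [Subgroup.mem_centralizer_iff, hF]
    intro y hy
    have hle : (⨆ q : {q : ℕ // q.Prime}, pCore q.1 H) ≤ Subgroup.centralizer ({x} : Set H) :=
      iSup_le fun q y hy => Subgroup.mem_centralizer_singleton_iff.2
        (Subgroup.mem_centralizer_iff.1 (hcore q) y hy)
    exact Subgroup.mem_centralizer_singleton_iff.1 (hle hy)
  -- but the Fitting subgroup has no elements of order `p`
  haveI := Cfsg.Lib.Components.isNilpotent_fitting (G := H)
  obtain ⟨P⟩ : Nonempty (Sylow p (fittingSubgroup H)) := inferInstance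
  haveI : ((P : Subgroup (fittingSubgroup H))).Normal := inferInstance
  haveI := Sylow.characteristic_of_normal P inferInstance
  have hnorm : ((P : Subgroup (fittingSubgroup H)).map (fittingSubgroup H).subtype).Normal :=
    ConjAct.normal_of_characteristic_of_normal
  have hle := Cfsg.Lib.Components.le_pCore (hn := hnorm) (P.isPGroup'.map (fittingSubgroup H).subtype)
  rw [h.core, le_bot_iff, Subgroup.map_eq_bot_iff, Subgroup.ker_subtype, le_bot_iff] at hle
  have h1 := P.card_eq_multiplicity
  rw [hle, Subgroup.card_bot] at h1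
  have h2 : p ∣ Nat.card (fittingSubgroup H) := hx ▸ Subgroup.orderOf_dvd_natCard _ hxF
  have h3 := (Fact.out : p.Prime).factorization_pos_of_dvd Nat.card_pos.ne' h2
  have h4 := Nat.le_self_pow (Nat.pos_iff_ne_zero.1 h3) p
  have h5 := (Fact.out : p.Prime).two_le
  omega

/-- A normal `p`-complement and abelian Sylow subgroups. -/
theorem structure_of_not_dvd_commutator {K : Type u} [Group K] [Finite K]
    (hd : ¬ p ∣ Nat.card (commutator K)) :
    Cfsg.HasNormalPComplement p K ∧ ∀ Q : Sylow p K, IsMulCommutative (Q : Subgroup K) := by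
  have hdisj : ∀ Q : Sylow p K, Disjoint (commutator K) (Q : Subgroup K) := fun Q =>
    Subgroup.disjoint_of_coprime_natCard (by
      rw [Q.card_eq_multiplicity]
      exact ((Nat.Prime.coprime_iff_not_dvd Fact.out).2 hd).symm.pow_right _)
  refine ⟨?_, fun Q => ⟨⟨fun a b => Subtype.ext (commutatorElement_eq_one_iff_mul_comm.1
    ((Subgroup.disjoint_def.1 (hdisj Q)) (Subgroup.commutator_mem_commutator (Subgroup.mem_top _)
      (Subgroup.mem_top _)) ?_))⟩⟩⟩
  swap
  · rw [commutatorElement_def]
    exact mul_mem (mul_mem (mul_mem a.2 b.2) (inv_mem a.2)) (inv_mem b.2)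
  obtain ⟨P⟩ : Nonempty (Sylow p K) := inferInstance
  set m := ordCompl[p] (Nat.card K) with hm
  have hmp : m.Coprime p := ((Nat.Prime.coprime_iff_not_dvd Fact.out).2
    (Nat.not_dvd_ordCompl Fact.out Nat.card_pos.ne')).symm
  let f : K →* Abelianization K := (powMonoidHom m).comp Abelianization.of
  have hrange : IsPGroup p f.range := by
    rintro ⟨_, y, rfl⟩
    refine ⟨(Nat.card K).factorization p, Subtype.ext ?_⟩
    rw [SubmonoidClass.coe_pow]
    show ((Abelianization.of y) ^ m) ^ _ = 1
    rw [← pow_mul, ← map_pow, hm, mul_comm, Nat.ordProj_mul_ordCompl_eq_self, pow_card_eq_one', map_one]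
  refine ⟨P, f.ker, inferInstance, ?_⟩
  have hidx : ∃ k, f.ker.index = p ^ k := by
    rw [Subgroup.index_ker]; exact IsPGroup.iff_card.1 hrange
  have hker : (Nat.card f.ker).Coprime p := by
    refine ((Nat.Prime.coprime_iff_not_dvd Fact.out).2 fun hdv => ?_).symm
    obtain ⟨⟨y, hy⟩, hy'⟩ := exists_prime_orderOf_dvd_card' (G := f.ker) p hdv
    rw [Subgroup.orderOf_mk] at hy'
    have h1 : Abelianization.of y ^ m = 1 := hy
    have h2 : Abelianization.of y = 1 := orderOf_eq_one_iff.1 (Nat.eq_one_of_dvd_coprimes hmp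
      (orderOf_dvd_of_pow_eq_one h1) (hy' ▸ orderOf_map_dvd Abelianization.of y))
    exact hd (hy' ▸ Subgroup.orderOf_dvd_natCard _
      (show y ∈ commutator K from (QuotientGroup.eq_one_iff y).1 h2))
  obtain ⟨k, hk⟩ := hidx
  have hcop : (Nat.card f.ker).Coprime (Nat.card (P : Subgroup K)) := by
    rw [P.card_eq_multiplicity]; exact hker.pow_right _
  refine Subgroup.isComplement'_of_coprime ?_ hcop
  have hsplit : Nat.card f.ker * p ^ k = Nat.card K := by rw [← hk, Subgroup.card_mul_index]
  rw [← hsplit]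
  congr 1
  rw [P.card_eq_multiplicity, ← hsplit, Nat.factorization_mul Nat.card_pos.ne'
    (pow_ne_zero k (Fact.out : p.Prime).ne_zero), Finsupp.add_apply,
    Nat.factorization_eq_zero_of_not_dvd ((Nat.Prime.coprime_iff_not_dvd Fact.out).1 hker.symm), zero_add,
    (Fact.out : p.Prime).factorization_pow, Finsupp.single_eq_same]

end Action

end Cfsg.Lib.Chars.TwoClass

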