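import Mathlib
import Cfsg.Agent.Chars.TwoClassQuotient
import Cfsg.Agent.Coprime.Hall

/-!
# An irreducible character nonzero on exactly two classes of a solvable group

The minimal normal subgroup is the support, the centralisers of its nonidentity elements are Sylow
subgroups, and the quotient by the `p`-core has a normal `p`-complement and abelian Sylow subgroups.
-/

set_option autoImplicit false
set_option linter.unusedSectionVars false
set_option linter.style.haveILetI false

namespace Cfsg.Lib.Chars.TwoClass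

open scoped ComplexConjugate commutatorElement

universe u

variable {G : Type u} [Group G] [Fintype G]

/-- The data attached to a character with a two-class support. -/
theorem support_data [Group.IsSolvable G] (hG : 2 < Nat.card G) {χ : G → ℂ} (hχ : Cfsg.IsIrrCharacter G χ)
    (h2 : Nat.card {C : ConjClasses G // ∃ g ∈ C.carrier, χ g ≠ 0} = 2) :
    ∃ (p : ℕ) (N : Subgroup G), p.Prime ∧ N.Normal ∧ N ≠ ⊥ ∧ (∀ x ∈ N, x ^ p = 1) ∧
      (∀ x ∈ N, ∀ y ∈ N, x * y = y * x) ∧ (∀ M : Subgroup G, M.Normal → M ≤ N → M = ⊥ ∨ M = N) ∧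
      (∀ x ∈ N, ∀ y ∈ N, x ≠ 1 → y ≠ 1 → ∃ g : G, g * x * g⁻¹ = y) ∧
      ∀ x ∈ N, x ≠ 1 → IsPGroup p (Subgroup.centralizer ({x} : Set G)) := by
  classical
  haveI : Nontrivial G := Finite.one_lt_card_iff_nontrivial.1 (by omega)
  have hχc := isCharacter_of_irr hχ
  set d := deg χ with hd
  have hχ1 : χ 1 = (d : ℂ) := IsCharacter.apply_one_eq_deg hχc
  have hd0 : d ≠ 0 := fun h0 => IsIrrCharacter.apply_one_ne_zero hχ (by rw [hχ1, h0, Nat.cast_zero])
  -- the two classes
  obtain ⟨C, hC1, hCu⟩ := (Nat.card_eq_two_iff'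
    (⟨ConjClasses.mk 1, 1, ConjClasses.mem_carrier_mk, IsIrrCharacter.apply_one_ne_zero hχ⟩ :
      {C : ConjClasses G // ∃ g ∈ C.carrier, χ g ≠ 0})).1 h2
  obtain ⟨c, hcC, hc0⟩ := C.2
  have hcC' : ConjClasses.mk c = C.1 := ConjClasses.mem_carrier_iff_mk_eq.1 hcC
  have hc1 : c ≠ 1 := fun e => hC1 (Subtype.ext (by rw [← hcC', e]))
  have hsupp : ∀ x, χ x ≠ 0 → x = 1 ∨ IsConj c x := by
    intro x hx
    by_cases h1 : (⟨ConjClasses.mk x, x, ConjClasses.mem_carrier_mk, hx⟩ :
        {C : ConjClasses G // ∃ g ∈ C.carrier, χ g ≠ 0}) = ⟨ConjClasses.mk 1, 1, ConjClasses.mem_carrier_mk,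
          IsIrrCharacter.apply_one_ne_zero hχ⟩
    · exact Or.inl (isConj_one_left.1 (ConjClasses.mk_eq_mk_iff_isConj.1 (congrArg Subtype.val h1)))
    · refine Or.inr (ConjClasses.mk_eq_mk_iff_isConj.1 ?_)
      rw [hcC', ← congrArg Subtype.val (hCu _ h1)]
  have hcl : ∀ x, IsConj c x → χ x = χ c := fun x hx => by
    obtain ⟨g, rfl⟩ := isConj_iff.1 hx
    exact isClassFunction_isChar hχc c g
  -- the character is not trivial
  have hne : χ ≠ fun _ => (1 : ℂ) := by
    intro he
    have hall : ∀ x : G, x = 1 ∨ IsConj c x := fun x => hsupp x (by rw [he]; exact one_ne_zero)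
    have hlt := Group.IsSolvable.commutator_lt_top_of_nontrivial G
    obtain ⟨w, -, hw⟩ := SetLike.exists_of_lt hlt
    have hw1 : w ≠ 1 := fun e => hw (e ▸ one_mem _)
    have hbot : commutator G = ⊥ := by
      rw [eq_bot_iff]
      intro y hy
      rw [Subgroup.mem_bot]
      by_contra hy1
      have hcy := (hall y).resolve_left hy1
      have hcw := (hall w).resolve_left hw1
      obtain ⟨g, hg⟩ := isConj_iff.1 (hcy.symm.trans hcw)
      exact hw (hg ▸ Subgroup.Normal.conj_mem inferInstance y hy g)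
    have hle : Nat.card G ≤ 2 := by
      refine (Nat.card_le_card_of_surjective (fun b : Bool => if b then c else 1) fun x => ?_).trans (by simp)
      rcases hall x with rfl | hx
      · exact ⟨false, rfl⟩
      · obtain ⟨g, rfl⟩ := isConj_iff.1 hx
        refine ⟨true, ?_⟩
        have : ⁅g, c⁆ = 1 := by
          rw [← Subgroup.mem_bot, ← hbot]
          exact Subgroup.commutator_mem_commutator (Subgroup.mem_top _) (Subgroup.mem_top _)
        rw [commutatorElement_eq_one_iff_mul_comm] at this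
        simp [this]
    omega
  have hsumG : ∑ x : G, χ x = 0 := by
    have h := classInner_irrChar hχ isIrrCharacter_one
    rw [if_neg hne, classInner_def, mul_eq_zero, inv_eq_zero, Nat.cast_eq_zero] at h
    simpa using h.resolve_left Nat.card_pos.ne'
  have hc : χ c ≠ (d : ℂ) := by
    intro he
    rw [← Finset.sum_filter_add_sum_filter_not Finset.univ (fun x => χ x ≠ 0) χ,
      Finset.sum_eq_zero (s := Finset.univ.filter fun x => ¬ χ x ≠ 0) (fun x hx => by simpa using hx), add_zero,
      Finset.sum_congr rfl (g := fun _ => (d : ℂ)) (fun x hx => by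
        rcases hsupp x (Finset.mem_filter.1 hx).2 with rfl | h
        · exact hχ1
        · rw [hcl x h, he]), Finset.sum_const, nsmul_eq_mul, mul_eq_zero, Nat.cast_eq_zero,
      Nat.cast_eq_zero] at hsumG
    rcases hsumG with h | h
    · exact Finset.card_ne_zero_of_mem (Finset.mem_filter.2 ⟨Finset.mem_univ (1 : G),
        IsIrrCharacter.apply_one_ne_zero hχ⟩) h
    · exact hd0 h
  -- a minimal normal subgroup
  obtain ⟨N, -, hNn, hNne, hmin⟩ := Cfsg.Lib.Coprime.exists_minimal_normal (K := (⊤ : Subgroup G))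
    inferInstance top_ne_bot
  haveI := hNn
  obtain ⟨hcomm, p, hp, hNp, hexp⟩ := Cfsg.Lib.Coprime.minimal_normal_solvable (N := N) inferInstance hNne hmin
  haveI : Fact p.Prime := ⟨hp⟩
  letI : Fintype N := Fintype.ofFinite N
  set n := Nat.card N with hn
  have habN : ∀ a b : N, a * b = b * a := fun a b => hcomm.is_comm.comm a b
  have hone : ∀ μ : N → ℂ, Cfsg.IsIrrCharacter N μ → μ 1 = 1 := fun μ hμ => irr_deg_one_of_comm habN hμ
  -- no trivial constituent
  have hzero : Cfsg.classInner (fun x : N => χ x) (fun _ => (1 : ℂ)) = 0 := by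
    by_contra hne'
    obtain ⟨y, hy, hy1⟩ := (Subgroup.bot_or_exists_ne_one N).resolve_left hNne
    have hcl' := clifford N hχ isIrrCharacter_one hne'
    have hk : χ y = (d : ℂ) := by
      have e1 := congrFun hcl' ⟨y, hy⟩
      have e2 := congrFun hcl' 1
      simp only [Pi.smul_apply, Finset.sum_apply, OneMemClass.coe_one] at e1 e2
      rw [e1, ← hχ1, e2]
      congr 1
      refine Finset.sum_congr rfl fun ψ hψ => ?_
      obtain ⟨g, rfl⟩ := (mem_conjOrbit N).1 hψ
      rfl
    have hyc : IsConj c y := (hsupp y (by rw [hk]; exact Nat.cast_ne_zero.2 hd0)).resolve_left hy1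
    exact hc ((hcl y hyc).symm.trans hk)
  set S := Finset.univ.filter fun x : N => IsConj c (x : G) with hS
  have hsum : ∀ μ : N → ℂ, Cfsg.IsIrrCharacter N μ →
      (n : ℂ) * Cfsg.classInner (fun x : N => χ x) μ = (d : ℂ) + χ c * ∑ x ∈ S, conj (μ x) := by
    intro μ hμ
    rw [classInner_def, ← mul_assoc, mul_inv_cancel₀ (Nat.cast_ne_zero.2 Nat.card_pos.ne'), one_mul,
      ← Finset.add_sum_erase _ _ (Finset.mem_univ (1 : N)), OneMemClass.coe_one, hχ1, hone μ hμ, map_one,
      mul_one, Finset.mul_sum]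
    congr 1
    rw [← Finset.sum_subset (s₁ := S) (s₂ := Finset.univ.erase (1 : N))]
    · exact Finset.sum_congr rfl fun x hx => by rw [hcl _ (Finset.mem_filter.1 hx).2]
    · intro x hx
      refine Finset.mem_erase.2 ⟨fun e => hc1 ?_, Finset.mem_univ x⟩
      have h := (Finset.mem_filter.1 hx).2
      rw [e, OneMemClass.coe_one] at h
      exact isConj_one_left.1 h
    · intro x hx hxS
      have h0 : χ (x : G) = 0 := by
        by_contra h0
        rcases hsupp _ h0 with h | h
        · exact (Finset.mem_erase.1 hx).1 (Subtype.ext h)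
        · exact hxS (Finset.mem_filter.2 ⟨Finset.mem_univ x, h⟩)
      rw [h0, zero_mul]
  have hm : (d : ℂ) + χ c * S.card = 0 := by
    have := hsum _ isIrrCharacter_one
    rw [hzero, mul_zero] at this
    simp only [map_one, Finset.sum_const, nsmul_eq_mul, mul_one] at this
    exact this.symm
  obtain ⟨s, hs⟩ : S.Nonempty := Finset.card_pos.1 (Nat.pos_of_ne_zero fun h0 => by
    rw [h0, Nat.cast_zero, mul_zero, add_zero, Nat.cast_eq_zero] at hm
    exact hd0 hm)
  have hcN : ∀ y, IsConj c y → y ∈ N := by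
    intro y hy
    obtain ⟨g, rfl⟩ := isConj_iff.1 ((Finset.mem_filter.1 hs).2.symm.trans hy)
    exact hNn.conj_mem _ s.2 g
  -- every nontrivial character is a constituent
  have hall : ∀ μ : N → ℂ, Cfsg.IsIrrCharacter N μ → μ ≠ (fun _ => 1) →
      Cfsg.classInner (fun x : N => χ x) μ ≠ 0 := by
    intro μ hμ hμ1 h0
    have e1 := hsum μ hμ
    rw [h0, mul_zero] at e1
    have e2 : ∑ x ∈ S, conj (μ x) = (S.card : ℂ) := by
      have e3 : χ c * (∑ x ∈ S, conj (μ x) - S.card) = 0 := by linear_combination -e1 - hm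
      exact sub_eq_zero.1 ((mul_eq_zero.1 e3).resolve_left hc0)
    obtain ⟨f, hf⟩ := exists_hom_of_deg_one (isCharacter_of_irr hμ) (hone μ hμ)
    have hnorm : ∀ z ∈ S.val.map (fun x => conj (μ x)), ‖z‖ = 1 := by
      intro z hz
      obtain ⟨x, -, rfl⟩ := Multiset.mem_map.1 hz
      rw [Complex.norm_conj, hf]
      refine Complex.norm_eq_one_of_pow_eq_one (n := Nat.card N) ?_ Nat.card_pos.ne'
      rw [← Units.val_pow_eq_pow_val, ← map_pow, pow_card_eq_one', map_one, Units.val_one]
    have hcard : Multiset.card (S.val.map fun x => conj (μ x)) = S.card := by rw [Multiset.card_map]; rfl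
    have e2' : (S.val.map fun x => conj (μ x)).sum = (S.card : ℂ) := e2
    have h4 := all_eq_of_norm_sum_eq hnorm (by rw [e2', hcard, Complex.norm_natCast])
    have hfix : ∀ x ∈ S, f x = 1 := by
      intro x hx
      have h5 := h4 (conj (μ x)) (Multiset.mem_map.2 ⟨x, hx, rfl⟩)
      rw [e2', hcard] at h5
      have h6 : conj (μ x) = 1 := mul_left_cancel₀
        (Nat.cast_ne_zero.2 (Finset.card_ne_zero_of_mem hx)) (h5.trans (mul_one _).symm)
      have h7 : μ x = 1 := by simpa using congrArg conj h6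
      rw [hf] at h7
      exact Units.ext h7
    set M := Subgroup.normalClosure ({c} : Set G) with hM
    have hMN : M ≤ f.ker.map N.subtype := by
      refine (Subgroup.closure_le _).2 fun y hy => ?_
      rw [Group.mem_conjugatesOfSet_iff] at hy
      obtain ⟨a, rfl, hay⟩ := hy
      exact ⟨⟨y, hcN y hay⟩, hfix _ (Finset.mem_filter.2 ⟨Finset.mem_univ _, hay⟩), rfl⟩
    have hMne : M ≠ ⊥ := fun e => hc1 (Subgroup.mem_bot.1 (e ▸ Subgroup.subset_normalClosure rfl))
    have hMeq := (hmin M inferInstance (hMN.trans (Subgroup.map_subtype_le _))).resolve_left hMne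
    apply hμ1
    rw [hf]
    funext x
    have hx : (x : G) ∈ M := hMeq.symm ▸ x.2
    obtain ⟨z, hz, hzx⟩ := hMN hx
    have hzx' : z = x := Subtype.ext hzx
    have hfx : f x = 1 := MonoidHom.mem_ker.1 (hzx' ▸ hz)
    simp [hfx]
  -- the restriction
  obtain ⟨θ, hθ, hθc⟩ := exists_constituent N hχc (IsIrrCharacter.apply_one_ne_zero hχ)
  have hθ1 : θ ≠ fun _ => (1 : ℂ) := fun e => hθc (e ▸ hzero)
  obtain ⟨e, he⟩ := IsCharacter.exists_mult (IsCharacter.restrict hχc N) hθ
  have he0 : e ≠ 0 := fun h0 => hθc (by rw [he, h0, Nat.cast_zero])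
  have hres : ∀ x : N, χ x = (e : ℂ) * ((if x = 1 then (n : ℂ) else 0) - 1) := by
    intro x
    have hcl' := congrFun (clifford N hχ hθ hθc) x
    simp only [Pi.smul_apply, Finset.sum_apply, smul_eq_mul] at hcl'
    rw [hcl', he]
    congr 1
    let one' : Cfsg.IrrCharacter N := ⟨fun _ => 1, isIrrCharacter_one⟩
    have h1 := sum_deg_mul (G := N) x
    rw [← hn, Finset.sum_congr rfl (g := fun μ : Cfsg.IrrCharacter N => (μ : N → ℂ) x) (fun μ _ => by
      rw [hone μ μ.2, one_mul]), ← Finset.add_sum_erase _ _ (Finset.mem_univ one')] at h1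
    rw [← h1]
    show _ = (1 : ℂ) + _ - 1
    rw [add_sub_cancel_left]
    refine Finset.sum_bij' (fun ψ hψ => (⟨ψ, ?_⟩ : Cfsg.IrrCharacter N)) (fun μ _ => (μ : N → ℂ)) ?_ ?_ ?_ ?_ ?_
    · obtain ⟨g, rfl⟩ := (mem_conjOrbit N).1 hψ
      exact IsIrrCharacter.conjN hθ g
    · intro ψ hψ
      refine Finset.mem_erase.2 ⟨fun he' => hθ1 ?_, Finset.mem_univ _⟩
      obtain ⟨g, rfl⟩ := (mem_conjOrbit N).1 hψ
      have he'' : conjN N g θ = fun _ => (1 : ℂ) := congrArg Subtype.val he'
      have := congrArg (conjN N g⁻¹) he''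
      rw [← conjN_mul, mul_inv_cancel, conjN_one] at this
      exact this
    · intro μ hμ
      rw [mem_conjOrbit]
      have hμ1 : (μ : N → ℂ) ≠ fun _ => (1 : ℂ) := fun e' => (Finset.mem_erase.1 hμ).1 (Subtype.ext e')
      obtain ⟨g, hg⟩ := exists_conjN_of_constituents N hχ hθ μ.2 hθc (hall μ μ.2 hμ1)
      exact ⟨g, hg.symm⟩
    · intro ψ _; rfl
    · intro μ _; rfl
    · intro ψ _; rfl
  have hclass : ∀ x ∈ N, x ≠ 1 → IsConj c x := by
    intro x hx hx1
    refine (hsupp x ?_).resolve_left hx1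
    rw [show χ x = χ ((⟨x, hx⟩ : N) : G) from rfl, hres, if_neg (fun h => hx1 (congrArg Subtype.val h))]
    simp [he0]
  have hvan : ∀ x, x ∉ N → χ x = 0 := by
    intro x hx
    by_contra h0
    rcases hsupp x h0 with rfl | h
    · exact hx N.one_mem
    · exact hx (hcN x h)
  have hdn : d = e * (n - 1) := by
    have h1 := hres 1
    rw [OneMemClass.coe_one, hχ1, if_pos rfl] at h1
    have hn1 : 1 ≤ n := Nat.card_pos
    apply Nat.cast_injective (R := ℂ)
    rw [h1]; push_cast [hn1]; ring
  -- the order of the group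
  have hcardG : Nat.card G = e * e * n * (n - 1) := by
    have h := classInner_self_irr hχ
    rw [classInner_def, inv_mul_eq_one₀ (Nat.cast_ne_zero.2 Nat.card_pos.ne')] at h
    have hN1 : (Finset.univ.filter fun x : G => x ∈ N).card = n := by
      rw [hn, Nat.card_eq_fintype_card, Fintype.card_subtype]
    rw [← Finset.sum_subset (Finset.subset_univ (Finset.univ.filter fun x : G => x ∈ N))
      (fun x _ hx => by rw [hvan x (fun hh => hx (Finset.mem_filter.2 ⟨Finset.mem_univ x, hh⟩)), zero_mul]),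
      ← Finset.add_sum_erase _ _ (Finset.mem_filter.2 ⟨Finset.mem_univ (1 : G), N.one_mem⟩),
      Finset.sum_congr rfl (g := fun _ => (e : ℂ) * e) (fun x hx => by
        obtain ⟨hx1, hx'⟩ := Finset.mem_erase.1 hx
        have hxN := (Finset.mem_filter.1 hx').2
        rw [show χ x = χ ((⟨x, hxN⟩ : N) : G) from rfl, hres, if_neg (fun hh => hx1 (congrArg Subtype.val hh))]
        simp), Finset.sum_const, Finset.card_erase_of_mem
        (Finset.mem_filter.2 ⟨Finset.mem_univ (1 : G), N.one_mem⟩), hN1, hχ1, map_natCast, hdn, nsmul_eq_mul] at h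
    have hn1 : 1 ≤ n := Nat.card_pos
    obtain ⟨m, hm⟩ : ∃ m, n = m + 1 := ⟨n - 1, by omega⟩
    rw [hm, Nat.add_sub_cancel] at h ⊢
    have : Nat.card G = e * m * (e * m) + m * (e * e) := by exact_mod_cast h
    rw [this]; ring
  obtain ⟨k, hk⟩ := IsPGroup.iff_card.1 hNp
  have hn2 : 2 ≤ n := Finite.one_lt_card_iff_nontrivial.2 ((Subgroup.nontrivial_iff_ne_bot N).2 hNne)
  -- the multiplicity is a power of `p`
  have hepow : ∀ r, r.Prime → r ∣ e → r = p := by
    intro r hr hre
    by_contra hrp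
    haveI : Fact r.Prime := ⟨hr⟩
    obtain ⟨R⟩ : Nonempty (Sylow r G) := inferInstance
    have hdisj : ∀ x ∈ (R : Subgroup G), x ∈ N → x = 1 := fun x hxR hxN => by
      have hdis := IsPGroup.disjoint_of_ne r p hrp _ _ R.isPGroup' hNp
      exact Subgroup.disjoint_def.1 hdis hxR hxN
    letI : Fintype (R : Subgroup G) := Fintype.ofFinite _
    obtain ⟨a, ha⟩ := IsCharacter.exists_mult (IsCharacter.restrict hχc (R : Subgroup G))
      (isIrrCharacter_one (G := (R : Subgroup G)))
    rw [classInner_def, inv_mul_eq_iff_eq_mul₀ (Nat.cast_ne_zero.2 Nat.card_pos.ne'),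
      Finset.sum_eq_single (1 : (R : Subgroup G)) (fun x _ hx => by
        rw [hvan x (fun hxN => hx (Subtype.ext (hdisj x x.2 hxN))), zero_mul]) (by simp),
      OneMemClass.coe_one, hχ1, map_one, mul_one] at ha
    have hdvd : Nat.card (R : Subgroup G) ∣ d := ⟨a, by exact_mod_cast ha⟩
    rw [R.card_eq_multiplicity, hcardG, hdn,
      hr.pow_dvd_iff_le_factorization (Nat.mul_ne_zero he0 (by omega))] at hdvd
    have hn0 : n ≠ 0 := by omega
    rw [Nat.factorization_mul (Nat.mul_ne_zero (Nat.mul_ne_zero he0 he0) hn0) (by omega),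
      Nat.factorization_mul (Nat.mul_ne_zero he0 he0) hn0, Nat.factorization_mul he0 he0,
      Nat.factorization_mul he0 (by omega : n - 1 ≠ 0)] at hdvd
    simp only [Finsupp.add_apply] at hdvd
    have := hr.factorization_pos_of_dvd he0 hre
    omega
  have hep : e = p ^ e.factorization p :=
    (Nat.eq_prime_pow_of_unique_prime_dvd he0 fun hr hd' => hepow _ hr hd').trans (by
      conv_rhs => rw [Nat.eq_prime_pow_of_unique_prime_dvd he0 fun hr hd' => hepow _ hr hd',
        hp.factorization_pow, Finsupp.single_eq_same])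
  refine ⟨p, N, hp, hNn, hNne, hexp, fun x hx y hy => congrArg Subtype.val (habN ⟨x, hx⟩ ⟨y, hy⟩), hmin,
    fun x hx y hy hx1 hy1 => isConj_iff.1 ((hclass x hx hx1).symm.trans (hclass y hy hy1)), fun x hx hx1 => ?_⟩
  have hidx : (Subgroup.centralizer ({x} : Set G)).index = n - 1 := by
    have hstab : Nat.card (Subgroup.centralizer ({x} : Set G)) =
        Nat.card (MulAction.stabilizer (ConjAct G) x) :=
      Nat.card_congr (ConjAct.toConjAct.toEquiv.subtypeEquiv fun g => by
        rw [Subgroup.mem_centralizer_singleton_iff, MulAction.mem_stabilizer_iff]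
        show g * x = x * g ↔ ConjAct.toConjAct g • x = x
        rw [ConjAct.toConjAct_smul, mul_inv_eq_iff_eq_mul])
    have hindex : (MulAction.stabilizer (ConjAct G) x).index = Nat.card (ConjClasses.mk x).carrier := by
      rw [MulAction.index_stabilizer, ConjAct.orbit_eq_carrier_conjClasses, Nat.card_coe_set_eq]
    have e1 := (Subgroup.centralizer ({x} : Set G)).card_mul_index
    rw [hstab, ← Nat.card_congr (ConjAct.toConjAct (G := G)).toEquiv.symm,
      ← (MulAction.stabilizer (ConjAct G) x).card_mul_index, hindex] at e1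
    rw [Nat.eq_of_mul_eq_mul_left Nat.card_pos e1]
    have hset : (ConjClasses.mk x).carrier = (N : Set G) \ {1} := by
      ext y
      rw [ConjClasses.mem_carrier_iff_mk_eq, ConjClasses.mk_eq_mk_iff_isConj, Set.mem_diff, Set.mem_singleton_iff]
      constructor
      · intro hy
        refine ⟨hcN y ((hclass x hx hx1).trans hy.symm), fun e1 => hx1 ?_⟩
        rw [e1] at hy
        exact isConj_one_right.1 hy
      · exact fun hy => ((hclass x hx hx1).symm.trans (hclass y hy.1 hy.2)).symm
    rw [Nat.card_coe_set_eq, hset, Set.ncard_diff_singleton_of_mem N.one_mem, ← Nat.card_coe_set_eq]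
    rfl
  have hcent : Nat.card (Subgroup.centralizer ({x} : Set G)) = e * e * n := by
    have := (Subgroup.centralizer ({x} : Set G)).card_mul_index
    rw [hidx, hcardG] at this
    exact Nat.eq_of_mul_eq_mul_right (by omega) this
  refine IsPGroup.of_card (n := e.factorization p + e.factorization p + k) ?_
  rw [hcent, pow_add, pow_add, ← hep, hn, hk]

/-- The theorem. -/
theorem main [Group.IsSolvable G] (hG : 2 < Nat.card G) {χ : G → ℂ} (hχ : Cfsg.IsIrrCharacter G χ)
    (h2 : Nat.card {C : ConjClasses G // ∃ g ∈ C.carrier, χ g ≠ 0} = 2) :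
    ∃ p : ℕ, p.Prime ∧ (∀ q : ℕ, q.Prime → (Cfsg.pCore q G ≠ ⊥ ↔ q = p)) ∧
      Cfsg.HasNormalPComplement p (G ⧸ Cfsg.pCore p G) ∧
        ∀ Q : Sylow p (G ⧸ Cfsg.pCore p G), IsMulCommutative (Q : Subgroup (G ⧸ Cfsg.pCore p G)) := by
  classical
  obtain ⟨p, N, hp, hNn, hNne, hexp, hab, hmin, htrans, hcent⟩ := support_data hG hχ h2
  haveI := hNn
  haveI : Fact p.Prime := ⟨hp⟩
  have hNp : IsPGroup p N := fun x => ⟨1, Subtype.ext (by rw [pow_one]; exact hexp x x.2)⟩
  set O := Cfsg.pCore p G with hO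
  have hNO : N ≤ O := Cfsg.Lib.Components.le_pCore hNp
  obtain ⟨x₀, hx₀, hx₀1⟩ := (Subgroup.bot_or_exists_ne_one N).resolve_left hNne
  have hCp : IsPGroup p (Subgroup.centralizer (N : Set G)) :=
    (hcent x₀ hx₀ hx₀1).to_le (Subgroup.centralizer_le (Set.singleton_subset_iff.2 hx₀))
  have hCO : Subgroup.centralizer (N : Set G) = O := by
    refine le_antisymm (Cfsg.Lib.Components.le_pCore hCp) ?_
    haveI : Group.IsNilpotent O := (Cfsg.Lib.Components.isPGroup_pCore p).isNilpotent
    have hne : N.subgroupOf O ≠ ⊥ := fun h => hx₀1 (by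
      have : (⟨x₀, hNO hx₀⟩ : O) ∈ N.subgroupOf O := Subgroup.mem_subgroupOf.2 hx₀
      rw [h, Subgroup.mem_bot] at this
      exact congrArg Subtype.val this)
    set M := N ⊓ (Subgroup.center O).map O.subtype with hM
    haveI : ((Subgroup.center O).map O.subtype).Normal := ConjAct.normal_of_characteristic_of_normal
    have hMne : M ≠ ⊥ := fun h => Cfsg.Lib.Coprime.inf_center_ne_bot (N.subgroupOf O) hne (by
      rw [eq_bot_iff]
      intro y hy
      have hyM : (y : G) ∈ M := ⟨Subgroup.mem_subgroupOf.1 hy.1, Subgroup.mem_map_of_mem _ hy.2⟩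
      rw [h, Subgroup.mem_bot] at hyM
      exact Subgroup.mem_bot.2 (Subtype.ext hyM))
    have hMN := (hmin M inferInstance inf_le_left).resolve_left hMne
    intro y hy
    rw [Subgroup.mem_centralizer_iff]
    intro v hv
    obtain ⟨-, w, hw, rfl⟩ := (hMN.symm ▸ hv : v ∈ M)
    exact (congrArg Subtype.val (Subgroup.mem_center_iff.1 hw ⟨y, hy⟩)).symm
  refine ⟨p, hp, fun q hq => ⟨fun hne => ?_, fun e => ?_⟩, ?_⟩
  · by_contra hqp
    haveI : Fact q.Prime := ⟨hq⟩
    apply hne
    have hle : Cfsg.pCore q G ≤ O := by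
      rw [← hCO]
      intro y hy
      rw [Subgroup.mem_centralizer_iff]
      exact fun v hv => (Cfsg.Lib.Components.pCore_commute hqp y v hy (hNO hv)).eq.symm
    exact (IsPGroup.disjoint_of_ne q p hqp _ _ (Cfsg.Lib.Components.isPGroup_pCore q)
      (Cfsg.Lib.Components.isPGroup_pCore p)).eq_bot_of_le hle
  · subst e
    exact fun h => hNne (le_bot_iff.1 (hNO.trans h.le))
  -- the action of the quotient
  let ψ : G →* MulAut N := MulAut.conjNormal
  have hψ : ∀ (g : G) (v : N), ((ψ g v : N) : G) = g * v * g⁻¹ := fun g v => MulAut.conjNormal_apply g v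
  have hker : ψ.ker = O := by
    rw [← hCO]
    ext g
    rw [MonoidHom.mem_ker, Subgroup.mem_centralizer_iff]
    constructor
    · intro h v hv
      have := congrArg Subtype.val (DFunLike.congr_fun h (⟨v, hv⟩ : N))
      rw [hψ, MulAut.one_apply] at this
      exact (mul_inv_eq_iff_eq_mul.1 this).symm
    · intro h
      ext v
      rw [hψ, MulAut.one_apply, ← h v v.2, mul_inv_cancel_right]
  let φ : G ⧸ O →* MulAut N := QuotientGroup.lift O ψ hker.ge
  letI : CommGroup N := { (inferInstance : Group N) with mul_comm := fun a b => Subtype.ext (hab a a.2 b b.2) }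
  have ht : Transitive φ p :=
    { faithful := (injective_iff_map_eq_one φ).2 fun a ha => by
        obtain ⟨g, rfl⟩ := QuotientGroup.mk_surjective a
        exact (QuotientGroup.eq_one_iff g).2 (hker ▸ MonoidHom.mem_ker.2 ha)
      nontriv := (Subgroup.nontrivial_iff_ne_bot N).2 hNne
      exp := fun v => Subtype.ext (hexp v v.2)
      trans := fun v w hv hw => by
        obtain ⟨g, hg⟩ := htrans v v.2 w w.2 (fun e => hv (Subtype.ext e)) (fun e => hw (Subtype.ext e))
        exact ⟨QuotientGroup.mk g, Subtype.ext ((hψ g v).trans hg)⟩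
      stab := fun v hv a ha => by
        obtain ⟨g, rfl⟩ := QuotientGroup.mk_surjective a
        have hgc : g ∈ Subgroup.centralizer ({(v : G)} : Set G) := by
          rw [Subgroup.mem_centralizer_singleton_iff]
          exact mul_inv_eq_iff_eq_mul.1 ((hψ g v).symm.trans (congrArg Subtype.val ha))
        obtain ⟨j, hj⟩ := hcent v v.2 (fun e => hv (Subtype.ext e)) ⟨g, hgc⟩
        obtain ⟨i, -, hi⟩ := (Nat.dvd_prime_pow hp).1 (orderOf_dvd_of_pow_eq_one
          (x := (QuotientGroup.mk g : G ⧸ O)) (n := p ^ j) (by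
            rw [← QuotientGroup.mk_pow, show g ^ p ^ j = 1 from congrArg Subtype.val hj]; rfl))
        exact ⟨i, hi⟩ }
  exact structure_of_not_dvd_commutator ht.not_dvd_commutator

end Cfsg.Lib.Chars.TwoClass
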