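import Mathlib
import Cfsg.Agent.Chars.Broline
import Cfsg.Agent.Chars.Gallagher
import Cfsg.Agent.Chars.IrrTools
import Cfsg.Agent.Chars.Count
import Cfsg.Agent.Blocks.Monomial

/-!
# Regular wreath products of monomial groups by groups of prime order are monomial
-/

set_option autoImplicit false
set_option linter.unusedSectionVars false
set_option linter.style.haveILetI false

namespace Cfsg.Lib.MGroup

open scoped ComplexConjugate
open Cfsg.Lib.Chars

universe u v

/-- Every irreducible character is induced from a linear one. -/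
def IsMGroup (M : Type u) [Group M] [Fintype M] : Prop :=
  ∀ χ : M → ℂ, Cfsg.IsIrrCharacter M χ →
    ∃ (H : Subgroup M) (lam : H →* ℂˣ), χ = Cfsg.indFun H (fun h => (lam h : ℂ))

section Power

variable {D : Type u} [Group D] [Fintype D] {Q : Type v} [Fintype Q] [DecidableEq Q]

/-- Outer products separate class functions of a power. -/
theorem eq_zero_of_orth (f : (Q → D) → ℂ) (hf : Cfsg.IsClassFunction (Q → D) f)
    (h : ∀ θ : Q → Cfsg.IrrCharacter D,
      ∑ x : Q → D, f x * ∏ q, conj ((θ q : D → ℂ) (x q)) = 0) : f = 0 := by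
  classical
  funext x0
  set P : (Q → D) → ℂ := fun y => ∏ q, ∑ ψ : Cfsg.IrrCharacter D,
    (ψ : D → ℂ) (x0 q) * conj ((ψ : D → ℂ) (y q)) with hP
  have h0 : ∑ y : Q → D, f y * P y = 0 := by
    have e : ∀ y : Q → D, f y * P y = ∑ θ : Q → Cfsg.IrrCharacter D,
        (∏ q, (θ q : D → ℂ) (x0 q)) * (f y * ∏ q, conj ((θ q : D → ℂ) (y q))) := fun y => by
      rw [hP]
      simp only [Fintype.prod_sum, Finset.mul_sum, Finset.prod_mul_distrib]
      exact Finset.sum_congr rfl fun θ _ => by ring
    simp only [e]
    rw [Finset.sum_comm]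
    refine Finset.sum_eq_zero fun θ _ => ?_
    rw [← Finset.mul_sum, h θ, mul_zero]
  have hPv : ∀ y : Q → D, P y =
      if ∀ q, IsConj (x0 q) (y q) then
        ((∏ q, Nat.card (Subgroup.centralizer ({x0 q} : Set D)) : ℕ) : ℂ) else 0 := by
    intro y
    rw [hP]
    simp only [second_orthogonality]
    split_ifs with hc
    · rw [Nat.cast_prod]
      exact Finset.prod_congr rfl fun q _ => if_pos (hc q)
    · push Not at hc
      obtain ⟨q, hq⟩ := hc
      exact Finset.prod_eq_zero (Finset.mem_univ q) (if_neg hq)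
  have hval : ∀ y : Q → D, (∀ q, IsConj (x0 q) (y q)) → f y = f x0 := by
    intro y hy
    choose c hc using fun q => isConj_iff.1 (hy q)
    rw [← hf x0 c]
    exact congrArg f (funext fun q => (hc q).symm)
  have h1 : ∑ y : Q → D, f y * P y = f x0 * ∑ y : Q → D, P y := by
    rw [Finset.mul_sum]
    refine Finset.sum_congr rfl fun y _ => ?_
    rw [hPv]
    split_ifs with hc
    · rw [hval y hc]
    · simp
  rw [h1, mul_eq_zero] at h0
  refine h0.resolve_right ?_
  simp only [hPv, Finset.sum_ite, Finset.sum_const_zero, add_zero, Finset.sum_const, nsmul_eq_mul]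
  refine mul_ne_zero (Nat.cast_ne_zero.2 ?_) (Nat.cast_ne_zero.2 ?_)
  · exact Finset.card_ne_zero.2 ⟨x0, Finset.mem_filter.2 ⟨Finset.mem_univ _, fun q => IsConj.refl _⟩⟩
  · exact Finset.prod_ne_zero_iff.2 fun q _ => Nat.card_pos.ne'

/-- The power of a monomial group is monomial. -/
theorem power_structure (hD : IsMGroup D) {χ : (Q → D) → ℂ} (hχ : Cfsg.IsIrrCharacter (Q → D) χ) :
    ∃ (K : Q → Subgroup D) (lam : ∀ q, K q →* ℂˣ),
      (∀ q, Cfsg.IsIrrCharacter D (Cfsg.indFun (K q) fun k => (lam q k : ℂ))) ∧
      (χ = fun x => ∏ q, Cfsg.indFun (K q) (fun k => (lam q k : ℂ)) (x q)) ∧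
      ∃ (H : Subgroup (Q → D)) (μ : H →* ℂˣ), χ = Cfsg.indFun H (fun h => (μ h : ℂ)) := by
  classical
  obtain ⟨θ, hθ⟩ : ∃ θ : Q → Cfsg.IrrCharacter D,
      ∑ x : Q → D, χ x * ∏ q, conj ((θ q : D → ℂ) (x q)) ≠ 0 := by
    by_contra hcon
    push Not at hcon
    exact IsIrrCharacter.apply_one_ne_zero hχ
      (congrFun (eq_zero_of_orth χ (isClassFunction_isChar (isCharacter_of_irr hχ)) hcon) 1)
  choose K lam hK using fun q => hD _ (θ q).2
  set H : Subgroup (Q → D) := Subgroup.pi Set.univ K with hH
  let μ : H →* ℂˣ :=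
    { toFun := fun h => ∏ q, lam q ⟨(h : Q → D) q, h.2 q (Set.mem_univ q)⟩
      map_one' := Finset.prod_eq_one fun q _ => map_one (lam q)
      map_mul' := fun a b => by
        rw [← Finset.prod_mul_distrib]
        refine Finset.prod_congr rfl fun q _ => ?_
        rw [← map_mul]
        rfl }
  have hcardH : Nat.card H = ∏ q, Nat.card (K q) := by
    rw [← Nat.card_pi]
    exact Nat.card_congr
      { toFun := fun h q => ⟨(h : Q → D) q, h.2 q (Set.mem_univ q)⟩
        invFun := fun k => ⟨fun q => (k q : D), fun q _ => (k q).2⟩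
        left_inv := fun _ => rfl
        right_inv := fun _ => rfl }
  have hind : Cfsg.indFun H (fun h => (μ h : ℂ)) =
      fun x => ∏ q, (θ q : D → ℂ) (x q) := by
    funext x
    have hext : ∀ y : Q → D, Cfsg.extendByZero H (fun h => (μ h : ℂ)) y =
        ∏ q, Cfsg.extendByZero (K q) (fun k => (lam q k : ℂ)) (y q) := by
      intro y
      by_cases hy : y ∈ H
      · rw [extendByZero_mem _ hy, Finset.prod_congr rfl fun q _ =>
          extendByZero_mem (fun k => (lam q k : ℂ)) (hy q (Set.mem_univ q))]
        show ((∏ q, lam q ⟨y q, _⟩ : ℂˣ) : ℂ) = _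
        rw [Units.coe_prod]
      · rw [extendByZero_not_mem _ hy]
        obtain ⟨q, hq⟩ : ∃ q, y q ∉ K q := by
          by_contra hc
          push Not at hc
          exact hy fun q _ => hc q
        exact (Finset.prod_eq_zero (Finset.mem_univ q) (show Cfsg.extendByZero (K q)
          (fun k => (lam q k : ℂ)) (y q) = 0 from extendByZero_not_mem _ hq)).symm
    rw [indFun_apply]
    simp only [hext, Pi.mul_apply, Pi.inv_apply]
    rw [Finset.prod_congr rfl fun q _ => congrFun (hK q) (x q)]
    simp only [indFun_apply]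
    rw [Finset.prod_mul_distrib, Fintype.prod_sum, hcardH, Nat.cast_prod, Finset.prod_inv_distrib]
  letI : Fintype H := Fintype.ofFinite H
  set η : (Q → D) → ℂ := fun x => ∏ q, (θ q : D → ℂ) (x q) with hη
  have hηirr : Cfsg.IsIrrCharacter (Q → D) η := by
    refine isIrrCharacter_of_norm_one (hind ▸ IsCharacter.indFun
      (isCharacter_linear μ)) ?_
    have h1 : ∀ q, Cfsg.classInner (θ q : D → ℂ) (θ q : D → ℂ) = 1 := fun q =>
      classInner_self_irr (θ q).2
    simp only [classInner_def] at h1
    rw [classInner_def]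
    simp only [hη, map_prod, ← Finset.prod_mul_distrib]
    rw [← Fintype.prod_sum (f := fun q d => (θ q : D → ℂ) d * conj ((θ q : D → ℂ) d)),
      Nat.card_pi, Nat.cast_prod, ← Finset.prod_inv_distrib, ← Finset.prod_mul_distrib]
    exact Finset.prod_eq_one fun q _ => h1 q
  have hne : Cfsg.classInner χ η ≠ 0 := by
    rw [classInner_def]
    simp only [hη, map_prod]
    exact mul_ne_zero (inv_ne_zero (Nat.cast_ne_zero.2 Nat.card_pos.ne')) hθ
  rw [classInner_irrChar hχ hηirr] at hne
  have he : χ = η := by
    by_contra he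
    exact hne (if_neg he)
  refine ⟨K, lam, fun q => hK q ▸ (θ q).2, ?_, H, μ, he.trans hind.symm⟩
  rw [he]
  funext x
  exact Finset.prod_congr rfl fun q _ => congrFun (hK q) (x q)

end Power

theorem indFun_restrict_eq {G : Type u} [Group G] [Fintype G] {A : Type v} [Group A] [Fintype A]
    (H : Subgroup G) [Fintype H] (e : A ≃* H) (S : Subgroup A) (θ : S → ℂ) :
    (fun h : H => Cfsg.indFun S θ (e.symm h)) =
      Cfsg.indFun (S.map e.toMonoidHom) (fun x => θ ⟨e.symm x, by
        obtain ⟨a, ha, hae⟩ := x.2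
        rw [← hae]
        simpa using ha⟩) := by
  classical
  funext h
  rw [indFun_apply, indFun_apply, Subgroup.card_map_of_injective e.injective]
  congr 1
  refine Fintype.sum_equiv e.toEquiv _ _ fun a => ?_
  have hmem : ∀ b : A, e b ∈ S.map e.toMonoidHom ↔ b ∈ S := fun b =>
    Subgroup.mem_map_iff_mem e.injective
  have he : e (a⁻¹ * e.symm h * a) = (e a)⁻¹ * h * e a := by simp
  show _ = Cfsg.extendByZero _ _ ((e a)⁻¹ * h * e a)
  rw [← he]
  by_cases hb : a⁻¹ * e.symm h * a ∈ S
  · rw [extendByZero_mem _ hb, extendByZero_mem _ ((hmem _).2 hb)]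
    simp
  · rw [extendByZero_not_mem _ hb, extendByZero_not_mem _ (mt (hmem _).1 hb)]

/-- A subgroup isomorphic to a monomial group: induced characters are monomial in the whole group. -/
theorem monomial_of_indFun {G : Type u} [Group G] [Fintype G] (H : Subgroup G) [Fintype H]
    {ψ : H → ℂ} (hψ : ∃ (S : Subgroup H) (lam : S →* ℂˣ), ψ = Cfsg.indFun S (fun h => (lam h : ℂ))) :
    ∃ (S : Subgroup G) (lam : S →* ℂˣ), Cfsg.indFun H ψ = Cfsg.indFun S (fun h => (lam h : ℂ)) := by
  classical
  obtain ⟨S, lam, rfl⟩ := hψ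
  set S' := S.map H.subtype with hS'
  have hle : S' ≤ H := Subgroup.map_subtype_le _
  have he : S'.subgroupOf H = S := by
    rw [hS', Subgroup.subgroupOf, Subgroup.comap_map_eq_self_of_injective H.subtype_injective]
  let f : S' →* S :=
    { toFun := fun x => ⟨⟨x, hle x.2⟩, he.le (show (⟨x, hle x.2⟩ : H) ∈ S'.subgroupOf H from x.2)⟩
      map_one' := rfl
      map_mul' := fun _ _ => rfl }
  refine ⟨S', lam.comp f, ?_⟩
  rw [← indFun_trans S' H hle]
  congr 1
  have key : ∀ T : Subgroup H, T = S → ∀ hT : ∀ x : T, (x : H) ∈ S,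
      Cfsg.indFun T (fun x => (lam ⟨x, hT x⟩ : ℂ)) = Cfsg.indFun S (fun h => (lam h : ℂ)) := by
    rintro T rfl hT
    rfl
  exact (key _ he fun x => he.le x.2).symm

section Wreath

variable {D Q : Type u} [Group D] [Group Q] [Fintype D] [Fintype Q]

noncomputable instance : Fintype (RegularWreathProduct D Q) := Fintype.ofFinite _

/-- The base group is the power. -/
def baseEquiv : (Q → D) ≃* (RegularWreathProduct.rightHom (D := D) (Q := Q)).ker where
  toFun x := ⟨⟨x, 1⟩, rfl⟩
  invFun w := w.1.left
  left_inv _ := rfl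
  right_inv w := Subtype.ext (RegularWreathProduct.ext rfl w.2.symm)
  map_mul' x y := Subtype.ext (RegularWreathProduct.ext (funext fun q => by simp) (one_mul 1).symm)

theorem isMGroup_wreath (hQ : (Nat.card Q).Prime) (hD : IsMGroup D) :
    IsMGroup (RegularWreathProduct D Q) := by
  classical
  intro χ hχ
  set π : RegularWreathProduct D Q →* Q := RegularWreathProduct.rightHom with hπ
  set B := π.ker with hB
  letI := Fintype.ofFinite B
  set e : (Q → D) ≃* B := baseEquiv with he
  obtain ⟨θ, hθ, hc⟩ := exists_constituent B (isCharacter_of_irr hχ)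
    (IsIrrCharacter.apply_one_ne_zero hχ)
  have hBmono : ∀ ψ : B → ℂ, Cfsg.IsIrrCharacter B ψ →
      ∃ (S : Subgroup B) (lam : S →* ℂˣ), ψ = Cfsg.indFun S (fun h => (lam h : ℂ)) := by
    intro ψ hψ
    obtain ⟨-, -, -, -, H, μ, hμ⟩ := power_structure hD
      (IsIrrCharacter.comp_surjective hψ e.toMonoidHom e.surjective)
    refine ⟨H.map e.toMonoidHom, μ.comp (H.equivMapOfInjective e.toMonoidHom e.injective).symm.toMonoidHom, ?_⟩
    rw [show ψ = fun b : B => Cfsg.indFun H (fun h => (μ h : ℂ)) (e.symm b) from funext fun b => by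
      rw [← hμ]; simp, indFun_restrict_eq B e H]
    congr 1
    funext x
    show (μ _ : ℂ) = (μ _ : ℂ)
    congr 2
    apply Subtype.ext
    apply e.injective
    simp only [MulEquiv.apply_symm_apply]
    exact (congrArg Subtype.val
      ((H.equivMapOfInjective e.toMonoidHom e.injective).apply_symm_apply x)).symm
  have hidx : B.index = Nat.card Q := by
    rw [hB, Subgroup.index_ker, MonoidHom.range_eq_top.2 fun q =>
      ⟨RegularWreathProduct.inl q, rfl⟩, Subgroup.card_top]
  by_cases hinv : ∀ g : RegularWreathProduct D Q, conjN B g θ = θ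
  swap
  · push Not at hinv
    obtain ⟨T, ψ, hT, hBT, hψ, hind⟩ :=
      Cfsg.Lib.Blocks.exists_induced_of_not_invariant B hχ hθ hc hinv
    have hTB : T = B := by
      have h1 : T.index ∣ Nat.card Q := hidx ▸ Subgroup.index_dvd_of_le hBT
      rcases (Nat.dvd_prime hQ).1 h1 with h2 | h2
      · exact absurd (Subgroup.index_eq_one.1 h2) hT
      · refine (Subgroup.eq_of_le_of_card_ge hBT (le_of_eq ?_)).symm
        have e1 := T.card_mul_index
        rw [h2, ← hidx, ← B.card_mul_index] at e1
        exact Nat.eq_of_mul_eq_mul_right (hidx ▸ hQ.pos) e1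
    subst hTB
    rw [← hind]
    exact monomial_of_indFun B (hBmono ψ hψ)
  obtain ⟨K, lam, hK, hθ', -⟩ := power_structure hD
    (IsIrrCharacter.comp_surjective hθ e.toMonoidHom e.surjective)
  set φ : Q → D → ℂ := fun q => Cfsg.indFun (K q) (fun k => (lam q k : ℂ)) with hφ
  have hθv : ∀ x : Q → D, θ (e x) = ∏ q, φ q (x q) := fun x => congrFun hθ' x
  -- all components agree
  have hone : ∀ q, φ q 1 ≠ 0 := fun q => IsIrrCharacter.apply_one_ne_zero (hK q)
  have hshift : ∀ q a, φ q a * φ 1 1 = φ 1 a * φ q 1 := by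
    intro q a
    have hsingle : ∀ (r : Q), θ (e (Function.update 1 r a)) * φ r 1 = φ r a * ∏ s, φ s 1 := by
      intro r
      rw [hθv, ← Finset.mul_prod_erase Finset.univ _ (Finset.mem_univ r),
        ← Finset.mul_prod_erase Finset.univ (fun s => φ s 1) (Finset.mem_univ r),
        Function.update_self, Finset.prod_congr rfl (g := fun s => φ s 1) fun s hs => by
          rw [Function.update_of_ne (Finset.ne_of_mem_erase hs), Pi.one_apply]]
      ring
    have h1 : θ (e (Function.update 1 q a)) = θ (e (Function.update 1 1 a)) := by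
      have h2 := congrFun (hinv (RegularWreathProduct.inl q⁻¹)) (e (Function.update 1 q a))
      rw [← h2]
      unfold conjN
      congr 1
      apply Subtype.ext
      show _ = ((e (Function.update 1 1 a) : B) : RegularWreathProduct D Q)
      refine RegularWreathProduct.ext (funext fun s => ?_) ?_
      · simp only [e, baseEquiv]
        by_cases hs : s = 1
        · subst hs; simp [Function.update_apply]
        · simp [Function.update_apply, hs]
      · simp [e, baseEquiv]
    have a1 := hsingle q
    have a2 := hsingle 1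
    rw [h1] at a1
    have hprod : ∏ s, φ s 1 ≠ 0 := Finset.prod_ne_zero_iff.2 fun s _ => hone s
    apply mul_left_cancel₀ hprod
    linear_combination φ q 1 * a2 - φ 1 1 * a1
  have hsame : ∀ q, φ q = φ 1 := by
    intro q
    by_contra hne
    have h1 : Cfsg.classInner (φ q) (φ 1) = 0 := by
      rw [classInner_irrChar (hK q) (hK 1), if_neg hne]
    have h2 : φ 1 1 • φ q = φ q 1 • φ 1 := funext fun a => by
      simp only [Pi.smul_apply, smul_eq_mul]
      linear_combination hshift q a
    have h3 := congrArg (fun f => Cfsg.classInner f (φ 1)) h2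
    simp only [classInner_smul_left, h1, mul_zero] at h3
    have h4 : Cfsg.classInner (φ 1) (φ 1) = 1 := classInner_self_irr (hK 1)
    rw [h4, mul_one] at h3
    exact hone q h3.symm
  -- the linear character of the extended subgroup
  set K1 := K 1 with hK1
  let S : Subgroup (RegularWreathProduct D Q) :=
    { carrier := {w | ∀ q, w.left q ∈ K1}
      one_mem' := fun q => K1.one_mem
      mul_mem' := fun {a b} ha hb q => by simpa using K1.mul_mem (ha q) (hb _)
      inv_mem' := fun {a} ha q => by simpa using K1.inv_mem (ha _) }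
  let μ : S →* ℂˣ :=
    { toFun := fun w => ∏ q, lam 1 ⟨(w : RegularWreathProduct D Q).left q, w.2 q⟩
      map_one' := Finset.prod_eq_one fun q _ => map_one (lam 1)
      map_mul' := fun a b => by
        have h1 : ∏ q, lam 1 ⟨(b : RegularWreathProduct D Q).left q, b.2 q⟩ =
            ∏ q, lam 1 ⟨(b : RegularWreathProduct D Q).left
              ((a : RegularWreathProduct D Q).right⁻¹ * q), b.2 _⟩ :=
          (Fintype.prod_equiv (Equiv.mulLeft (a : RegularWreathProduct D Q).right⁻¹) _ _
            fun q => rfl).symm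
        rw [h1, ← Finset.prod_mul_distrib]
        refine Finset.prod_congr rfl fun q _ => ?_
        rw [← map_mul]
        rfl }
  set η := Cfsg.indFun S (fun w => (μ w : ℂ)) with hη
  have hcardS : Nat.card S = Nat.card K1 ^ Nat.card Q * Nat.card Q := by
    rw [← Nat.card_fun, ← Nat.card_prod]
    exact Nat.card_congr
      { toFun := fun w => (fun q => ⟨(w : RegularWreathProduct D Q).left q, w.2 q⟩,
          (w : RegularWreathProduct D Q).right)
        invFun := fun k => ⟨⟨fun q => (k.1 q : D), k.2⟩, fun q => (k.1 q).2⟩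
        left_inv := fun _ => rfl
        right_inv := fun _ => rfl }
  set f1 : D → ℂ := Cfsg.extendByZero K1 (fun k => (lam 1 k : ℂ)) with hf1
  have hres : ∀ x : Q → D, η (e x : RegularWreathProduct D Q) = θ (e x) := by
    intro x
    rw [hθv, Finset.prod_congr rfl fun q _ => congrFun (hsame q) (x q)]
    have hext : ∀ y : Q → D, Cfsg.extendByZero S (fun w => (μ w : ℂ))
        (⟨y, 1⟩ : RegularWreathProduct D Q) = ∏ q, f1 (y q) := by
      intro y
      by_cases hy : (⟨y, 1⟩ : RegularWreathProduct D Q) ∈ S
      · rw [extendByZero_mem _ hy, Finset.prod_congr rfl fun q _ =>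
          extendByZero_mem (fun k => (lam 1 k : ℂ)) (hy q)]
        show ((∏ q, lam 1 ⟨y q, _⟩ : ℂˣ) : ℂ) = _
        rw [Units.coe_prod]
      · rw [extendByZero_not_mem _ hy]
        obtain ⟨q, hq⟩ : ∃ q, y q ∉ K1 := by
          by_contra hc
          push Not at hc
          exact hy hc
        exact (Finset.prod_eq_zero (Finset.mem_univ q) (show f1 (y q) = 0 from
          extendByZero_not_mem _ hq)).symm
    rw [hη, indFun_apply, hcardS,
      ← (RegularWreathProduct.equivProd D Q).symm.sum_comp, Fintype.sum_prod_type, Finset.sum_comm]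
    have hterm : ∀ (s : Q) (u : Q → D),
        Cfsg.extendByZero S (fun w => (μ w : ℂ)) (((RegularWreathProduct.equivProd D Q).symm (u, s))⁻¹ *
          (e x : RegularWreathProduct D Q) * (RegularWreathProduct.equivProd D Q).symm (u, s)) =
        ∏ q, f1 ((u q)⁻¹ * x q * u q) := by
      intro s u
      rw [show ((RegularWreathProduct.equivProd D Q).symm (u, s))⁻¹ *
          (e x : RegularWreathProduct D Q) * (RegularWreathProduct.equivProd D Q).symm (u, s) =
          (⟨fun q => (u (s * q))⁻¹ * x (s * q) * u (s * q), 1⟩ : RegularWreathProduct D Q) from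
        RegularWreathProduct.ext
          (funext fun q => by simp [e, baseEquiv, RegularWreathProduct.equivProd, mul_assoc])
          (by simp [e, baseEquiv, RegularWreathProduct.equivProd]), hext]
      exact Fintype.prod_equiv (Equiv.mulLeft s) _ _ fun q => rfl
    simp only [hterm, Finset.sum_const, Finset.card_univ, nsmul_eq_mul, ← Finset.mul_sum,
      ← Nat.card_eq_fintype_card]
    simp only [hφ, indFun_apply, ← hK1, ← hf1]
    rw [Finset.prod_mul_distrib, Fintype.prod_sum, Finset.prod_const, Finset.card_univ,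
      ← Nat.card_eq_fintype_card, inv_pow]
    push_cast
    have hQ0 : (Nat.card Q : ℂ) ≠ 0 := Nat.cast_ne_zero.2 hQ.ne_zero
    have hK0 : (Nat.card K1 : ℂ) ≠ 0 := Nat.cast_ne_zero.2 Nat.card_pos.ne'
    field_simp
    rfl
  have hηres : (fun b : B => η b) = θ := funext fun b => by
    have := hres (e.symm b)
    rwa [e.apply_symm_apply] at this
  have hηc : Cfsg.IsCharacter _ η := IsCharacter.indFun (isCharacter_linear μ)
  have hη1 : η 1 = θ 1 := congrFun hηres 1
  have hηirr : Cfsg.IsIrrCharacter _ η := by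
    have hne : η 1 ≠ 0 := hη1 ▸ IsIrrCharacter.apply_one_ne_zero hθ
    obtain ⟨m, hm⟩ := IsCharacter.exists_decomp hηc
    obtain ⟨ψ, hψ⟩ : ∃ ψ : Cfsg.IrrCharacter (RegularWreathProduct D Q), m ψ ≠ 0 := by
      by_contra hcon
      push Not at hcon
      exact hne (by rw [hm]; simp [hcon])
    have h1 : Cfsg.classInner η (ψ : RegularWreathProduct D Q → ℂ) ≠ 0 := by
      rw [hm]
      simp only [← Nat.cast_smul_eq_nsmul ℂ]
      rw [classInner_irrSum (fun φ => (m φ : ℂ)) ψ]
      exact Nat.cast_ne_zero.2 hψ
    obtain ⟨τ, hτ, hτc⟩ := exists_constituent B (isCharacter_of_irr ψ.2)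
      (IsIrrCharacter.apply_one_ne_zero ψ.2)
    have h2 := classInner_pullback_ne_zero B.subtype hηc ψ.2 h1 hτ hτc
    rw [show (fun w : B => η (B.subtype w)) = θ from hηres, classInner_irrChar hθ hτ] at h2
    have h3 : θ = τ := by
      by_contra h3
      exact h2 (if_neg h3)
    have h4 := (constituent_le (IsCharacter.restrict (isCharacter_of_irr ψ.2) B) hτ hτc).1
    have h5 : deg η ≤ deg (ψ : RegularWreathProduct D Q → ℂ) := by
      rw [show deg η = deg θ by simp [deg, hη1], h3]
      exact h4.trans (le_of_eq (by simp [deg]))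
    rw [(constituent_le hηc ψ.2 h1).2 h5]
    exact ψ.2
  obtain ⟨k, -, hk⟩ := restrict_eq_mult_of_invariant B hχ hθ hinv hc
  obtain ⟨b, hb, hbe, hbB⟩ := exists_factor_extension B hηirr (hηres ▸ hθ) hχ (e := k)
    fun n => by rw [congrFun hηres n]; exact congrFun hk n
  have hb1 : b 1 = 1 := by
    haveI : Fact (Nat.card Q).Prime := ⟨hQ⟩
    haveI hcyc : IsCyclic Q := isCyclic_of_prime_card rfl
    set C : Subgroup (RegularWreathProduct D Q) := (RegularWreathProduct.inl (D := D) (Q := Q)).range
    letI := Fintype.ofFinite C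
    have hBC : B ⊔ C = ⊤ := by
      rw [eq_top_iff]
      intro w _
      rw [← mul_inv_cancel_right w (RegularWreathProduct.inl w.right)⁻¹, inv_inv]
      refine Subgroup.mul_mem_sup ?_ ⟨_, rfl⟩
      show π (w * (RegularWreathProduct.inl w.right)⁻¹) = 1
      simp [hπ]
    have h1 := Cfsg.Lib.Broline.restrict_irr hb B C (fun k hk => hbB ⟨k, hk⟩) hBC
    have h2 := irr_deg_one_of_comm (fun x y => by
      obtain ⟨a, ha⟩ := x.2
      obtain ⟨c, hc'⟩ := y.2
      apply Subtype.ext
      show (x : RegularWreathProduct D Q) * y = y * x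
      rw [← ha, ← hc', ← map_mul, ← map_mul]
      letI := hcyc.commGroup
      rw [mul_comm]) h1
    simpa using h2
  obtain ⟨f, hf⟩ := exists_hom_of_deg_one (isCharacter_of_irr hb) hb1
  refine ⟨S, μ * f.comp S.subtype, ?_⟩
  rw [hbe, mul_comm, hη, ← indFun_mul_restrict S _ (isClassFunction_isChar (isCharacter_of_irr hb))]
  congr 1
  funext w
  simp [hf]

end Wreath

/-- The embedding of an extension into the wreath product. -/
theorem exists_embedding {G : Type u} [Group G] (N : Subgroup G) [N.Normal] :
    ∃ F : G →* RegularWreathProduct N (G ⧸ N), Function.Injective F := by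
  let T : G ⧸ N → G := fun q => Quotient.out q
  have hT : ∀ q : G ⧸ N, ((T q : G) : G ⧸ N) = q := fun q => QuotientGroup.out_eq' q
  let c : G → G ⧸ N → N := fun g q => ⟨(T q)⁻¹ * g * T ((g : G ⧸ N)⁻¹ * q), by
    rw [← QuotientGroup.eq_one_iff]
    simp [hT]⟩
  refine ⟨{ toFun := fun g => ⟨c g, (g : G ⧸ N)⟩
            map_one' := RegularWreathProduct.ext (funext fun q => Subtype.ext (by simp [c])) rfl
            map_mul' := fun g h => RegularWreathProduct.ext (funext fun q => Subtype.ext ?_) rfl },
    fun g h hgh => ?_⟩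
  · simp [c, mul_assoc]
  · have h1 : c g = c h := congrArg RegularWreathProduct.left hgh
    have h2 : (g : G ⧸ N) = (h : G ⧸ N) := congrArg RegularWreathProduct.right hgh
    have h3 := congrArg Subtype.val (congrFun h1 1)
    simp only [c, h2] at h3
    exact mul_left_cancel (mul_right_cancel h3)

/-- Composition of the embeddings. -/
theorem exists_map {A B Q : Type u} [Group A] [Group B] [Group Q] (g : A →* B)
    (hg : Function.Injective g) :
    ∃ F : RegularWreathProduct A Q →* RegularWreathProduct B Q, Function.Injective F :=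
  ⟨{ toFun := fun w => ⟨g ∘ w.left, w.right⟩
     map_one' := RegularWreathProduct.ext (funext fun _ => map_one g) rfl
     map_mul' := fun a b => RegularWreathProduct.ext (funext fun _ => map_mul g _ _) rfl },
    fun a b h => RegularWreathProduct.ext
      (funext fun q => hg (congrFun (congrArg RegularWreathProduct.left h) q))
      (congrArg RegularWreathProduct.right h :)⟩

end Cfsg.Lib.MGroup
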